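/-
PF (13.11), (13.14): the numerical lemmas of section 13.
-/
import Mathlib

set_option autoImplicit false

namespace Cfsg.Agent.FT

namespace PF13b

theorem geom_eq {p : ℕ} (hp : 2 ≤ p) (q : ℕ) :
    (p ^ q - 1) / (p - 1) = ∑ i ∈ Finset.range q, p ^ i := (Nat.geomSum_eq hp q).symm

theorem geom_mul {p : ℕ} (hp : 2 ≤ p) (q : ℕ) :
    (p ^ q - 1) / (p - 1) * (p - 1) + 1 = p ^ q := by
  rw [Nat.div_mul_cancel (Nat.sub_one_dvd_pow_sub_one p q),
    Nat.sub_add_cancel (Nat.one_le_pow _ _ (by omega))]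

theorem geom_mul_real {p : ℕ} (hp : 2 ≤ p) (q : ℕ) :
    (((p ^ q - 1) / (p - 1) : ℕ) : ℝ) * (p - 1) = p ^ q - 1 := by
  have := congrArg (Nat.cast : ℕ → ℝ) (geom_mul hp q)
  push_cast [Nat.cast_sub (show 1 ≤ p by omega)] at this
  linarith

theorem geom_modEq {p d : ℕ} (hp : 2 ≤ p) (q : ℕ) (h : p ≡ 1 [MOD d]) :
    (p ^ q - 1) / (p - 1) ≡ q [MOD d] := by
  rw [geom_eq hp]
  induction q with
  | zero => rfl
  | succ n ih =>
    rw [Finset.sum_range_succ]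
    exact ih.add (by simpa using h.pow n)

theorem geom_three {p : ℕ} (hp : 2 ≤ p) : (p ^ 3 - 1) / (p - 1) = p ^ 2 + p + 1 := by
  rw [geom_eq hp]; simp [Finset.sum_range_succ]; ring

theorem five_le {p : ℕ} (hp : p.Prime) (h2 : p ≠ 2) (h3 : p ≠ 3) : 5 ≤ p := by
  have := hp.two_le
  have h4 : p ≠ 4 := by rintro rfl; norm_num at hp
  omega

theorem seven_le {p : ℕ} (hp : p.Prime) (h : 5 ≤ p) (h5 : p ≠ 5) : 7 ≤ p := by
  have h6 : p ≠ 6 := by rintro rfl; norm_num at hp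
  omega

/-- The conclusion of PF (13.10); `m = M / q ^ p`. -/
def Ineq (p q u c : ℕ) : Prop :=
  ((q : ℝ) ^ p - ((q ^ p - 1) / (q - 1) : ℕ) - q + 1) * p ^ (q - 1) * c ≤ u * q * q ^ p

/-- PF (13.11)(a),(b). -/
theorem m_bounds {p q : ℕ} (hp : 3 ≤ p) (hq : 5 ≤ q) :
    7 * (q : ℝ) ^ p < 10 * ((q : ℝ) ^ p - ((q ^ p - 1) / (q - 1) : ℕ) - q + 1) ∧
      (7 ≤ q → 8 * (q : ℝ) ^ p < 10 * ((q : ℝ) ^ p - ((q ^ p - 1) / (q - 1) : ℕ) - q + 1)) := by
  have hv := geom_mul_real (show 2 ≤ q by omega) p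
  have hv0 : (0 : ℝ) ≤ ((q ^ p - 1) / (q - 1) : ℕ) := Nat.cast_nonneg _
  generalize (((q ^ p - 1) / (q - 1) : ℕ) : ℝ) = v at hv hv0
  have hq' : (5 : ℝ) ≤ q := by exact_mod_cast hq
  have h3 : (q : ℝ) ^ 3 ≤ q ^ p := pow_le_pow_right₀ (by linarith) hp
  generalize (q : ℝ) ^ p = Q at hv h3
  refine ⟨by nlinarith [mul_nonneg hv0 (sub_nonneg.2 hq'), sq_nonneg ((q : ℝ) - 5)], fun h7 => ?_⟩
  have hq7 : (7 : ℝ) ≤ q := by exact_mod_cast h7
  nlinarith [mul_nonneg hv0 (sub_nonneg.2 hq7), sq_nonneg ((q : ℝ) - 7)]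

theorem three_mul_sq_lt {p : ℕ} (hp : 5 ≤ p) : 3 * p ^ 2 < 3 ^ p := by
  induction p, hp using Nat.le_induction with
  | base => norm_num
  | succ n hn ih => rw [pow_succ 3]; nlinarith

/-- PF (13.11)(c). -/
theorem Ineq.three {p u c : ℕ} (hp : 5 ≤ p) (hc : 0 < c) (h : Ineq p 3 u c) :
    (p ^ 2 - 1) * c < 6 * u := by
  have hv := geom_mul_real (show 2 ≤ 3 by omega) p
  unfold Ineq at h
  generalize (((3 ^ p - 1) / (3 - 1) : ℕ) : ℝ) = v at hv h
  have h1 : (3 : ℝ) * p ^ 2 < 3 ^ p := by exact_mod_cast three_mul_sq_lt hp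
  have hQ : (0 : ℝ) < 3 ^ p := by positivity
  push_cast at hv h
  generalize (3 : ℝ) ^ p = Q at hv h h1 hQ
  have hc' : (0 : ℝ) < c := by exact_mod_cast hc
  have h2 : (((p : ℝ) ^ 2 - 1) * c) * Q < (6 * u) * Q := by
    obtain rfl : v = (Q - 1) / 2 := by linarith
    nlinarith [mul_pos hc' (sub_pos.2 h1)]
  have h3 := lt_of_mul_lt_mul_right h2 hQ.le
  have h4 : 1 ≤ p ^ 2 := Nat.one_le_pow _ _ (by omega)
  exact_mod_cast (show (((p ^ 2 - 1 : ℕ) : ℝ)) * c < 6 * u by push_cast [h4]; exact h3)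

/-- The argument shared by PF (13.12) and (13.15). -/
theorem Ineq.eq_three {p q x : ℕ} (hp : p.Prime) (hq : q.Prime) (hp2 : p ≠ 2) (hq2 : q ≠ 2)
    (hx : 2 * q + 1 ≤ x) (h : Ineq p q ((p ^ q - 1) / (p - 1)) x) : q = 3 := by
  by_contra h3
  have hq5 := five_le hq hq2 h3
  have hp3 : 3 ≤ p := by have := hp.two_le; omega
  obtain ⟨b1, b2⟩ := m_bounds hp3 hq5
  have hN := geom_mul_real hp.two_le q
  unfold Ineq at h
  have hQ : (0 : ℝ) < (q : ℝ) ^ p := by positivity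
  have hP : (0 : ℝ) < (p : ℝ) ^ (q - 1) := by positivity
  have e : (p : ℝ) ^ q = p * p ^ (q - 1) := by
    rw [← pow_succ']; congr 1; omega
  rw [e] at hN
  generalize ((q : ℝ) ^ p - ((q ^ p - 1) / (q - 1) : ℕ) - q + 1) = M at h b1 b2
  generalize (((p ^ q - 1) / (p - 1) : ℕ) : ℝ) = N at h hN
  generalize (q : ℝ) ^ p = Q at h b1 b2 hQ
  generalize (p : ℝ) ^ (q - 1) = P at h hN hP
  have hx' : 2 * (q : ℝ) + 1 ≤ x := by exact_mod_cast hx
  have hq' : (5 : ℝ) ≤ q := by exact_mod_cast hq5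
  have hp' : (3 : ℝ) ≤ p := by exact_mod_cast hp3
  have hM : 0 < M := by linarith
  have h1 : (M * x * (p - 1)) * P < (p * q * Q) * P := by
    have := mul_le_mul_of_nonneg_right h (show (0 : ℝ) ≤ p - 1 by linarith)
    have h2 : 0 < q * Q := by positivity
    nlinarith
  have h2 := lt_of_mul_lt_mul_right h1 hP.le
  have h4 : M * (2 * q + 1) * (p - 1) < p * q * Q :=
    lt_of_le_of_lt (by gcongr; linarith) h2
  by_cases hp3' : p = 3
  · subst hp3'
    push_cast at h4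
    by_cases h5 : q = 5
    · subst h5
      push_cast at h4
      linarith
    · have := b2 (seven_le hq hq5 h5)
      nlinarith
  · have hp5 : (5 : ℝ) ≤ p := by exact_mod_cast five_le hp hp2 hp3'
    have h5 : 7 * Q * ((2 * q + 1) * (p - 1)) ≤ 10 * M * ((2 * q + 1) * (p - 1)) :=
      mul_le_mul_of_nonneg_right b1.le (mul_nonneg (by linarith) (by linarith))
    have h6 : 0 ≤ Q * q * (p - 5) := by positivity
    have h7 : 0 < Q * q := by positivity
    have h8 : 0 < Q * (p - 1) := mul_pos hQ (by linarith)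
    nlinarith

theorem Ineq.mono {p q u u' c : ℕ} (h : Ineq p q u c) (hu : u ≤ u') : Ineq p q u' c := by
  unfold Ineq at h ⊢
  refine h.trans ?_
  gcongr

theorem Ineq.mul {p q u : ℕ} (h : Ineq p q u 1) (x : ℕ) : Ineq p q (u * x) x := by
  unfold Ineq at h ⊢
  have := mul_le_mul_of_nonneg_right h (Nat.cast_nonneg x : (0 : ℝ) ≤ x)
  push_cast at this ⊢
  linarith

theorem two_mul_le_two_pow {q : ℕ} (hq : 5 ≤ q) : 2 * q ≤ 2 ^ (q - 1) := by
  induction q, hq using Nat.le_induction with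
  | base => norm_num
  | succ n hn ih =>
    obtain ⟨m, rfl⟩ : ∃ m, n = m + 1 := ⟨n - 1, by omega⟩
    simp only [Nat.add_sub_cancel] at ih ⊢
    rw [pow_succ]; omega

/-- The numerical part of PF (13.13). -/
theorem Ineq.nonGalois {p q u a : ℕ} (hp : p.Prime) (hq : q.Prime) (hp2 : p ≠ 2) (hq2 : q ≠ 2)
    (hpq : p ≠ q) (ha : a ∣ p - 1) (hao : Odd a) (hu : u ∣ a ^ (q - 1)) (h : Ineq p q u 1) :
    q = 3 ∧ u = ((p - 1) / 2) ^ 2 := by
  have hp3 : 3 ≤ p := by have := hp.two_le; omega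
  obtain ⟨k, hk⟩ := hp.odd_of_ne_two hp2
  have hak : a ∣ k := by
    rw [show p - 1 = 2 * k by omega] at ha
    exact (Nat.coprime_two_right.2 hao).dvd_of_dvd_mul_left ha
  have hk0 : 0 < k := by omega
  have huk : u ∣ k ^ (q - 1) := hu.trans (pow_dvd_pow_of_dvd hak _)
  have h3 : q = 3 := by
    by_contra h3
    have hq5 := five_le hq hq2 h3
    have b1 := (m_bounds hp3 hq5).1
    have h1 : u * (2 * q) ≤ p ^ (q - 1) :=
      calc u * (2 * q) ≤ k ^ (q - 1) * 2 ^ (q - 1) :=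
            Nat.mul_le_mul (Nat.le_of_dvd (by positivity) huk) (two_mul_le_two_pow hq5)
        _ = (k * 2) ^ (q - 1) := (mul_pow _ _ _).symm
        _ ≤ p ^ (q - 1) := Nat.pow_le_pow_left (by omega) _
    have h2 : (u : ℝ) * (2 * q) ≤ p ^ (q - 1) := by exact_mod_cast h1
    unfold Ineq at h
    have hQ : (0 : ℝ) < (q : ℝ) ^ p := by positivity
    have hP : (0 : ℝ) < (p : ℝ) ^ (q - 1) := by positivity
    generalize ((q : ℝ) ^ p - ((q ^ p - 1) / (q - 1) : ℕ) - q + 1) = M at h b1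
    generalize (q : ℝ) ^ p = Q at h b1 hQ
    generalize (p : ℝ) ^ (q - 1) = P at h h2 hP
    push_cast at h
    nlinarith [mul_pos hQ hP, mul_le_mul_of_nonneg_right h2 hQ.le,
      mul_lt_mul_of_pos_right b1 hP]
  subst h3
  have h4 := h.three (five_le hp hp2 hpq) one_pos
  refine ⟨rfl, ?_⟩
  rw [show (p - 1) / 2 = k by omega]
  obtain ⟨b, hb⟩ := huk
  change k ^ 2 = u * b at hb
  have h5 : p ^ 2 - 1 = 4 * k ^ 2 + 4 * k := by
    rw [hk, show (2 * k + 1) ^ 2 = 4 * k ^ 2 + 4 * k + 1 by ring, Nat.add_sub_cancel]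
  rw [h5] at h4
  rcases b with _ | _ | b
  · simp at hb; omega
  · simpa using hb.symm
  · nlinarith

end PF13b

open PF13b

/-- PF (13.14). -/
theorem primes_mod_cases {p q : ℕ} (hp : p.Prime) (hq : q.Prime) (hp2 : p ≠ 2) (hq2 : q ≠ 2) :
    Odd ((p ^ q - 1) / (p - 1)) ∧ (p ≡ 1 [MOD q] → q ∣ (p ^ q - 1) / (p - 1)) ∧
      (¬ p ≡ 1 [MOD q] → p ≠ q → ((p ^ q - 1) / (p - 1)).Coprime (p - 1) ∧
        ∀ b, b ∣ (p ^ q - 1) / (p - 1) → b ≡ 1 [MOD q]) := by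
  have h2 := hp.two_le
  refine ⟨?_, fun h => ?_, fun h _ => ?_⟩
  · have := geom_modEq (d := 2) h2 q (Nat.odd_iff.1 (hp.odd_of_ne_two hp2))
    rw [Nat.odd_iff, this]
    exact Nat.odd_iff.1 (hq.odd_of_ne_two hq2)
  · exact (Nat.modEq_zero_iff_dvd).1 ((geom_modEq h2 q h).trans (Nat.modEq_zero_iff_dvd.2 dvd_rfl))
  have hc : ((p ^ q - 1) / (p - 1)).Coprime (p - 1) := by
    have h1 := geom_modEq (d := p - 1) h2 q ((Nat.modEq_iff_dvd' (by omega)).2 dvd_rfl).symm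
    rw [Nat.Coprime, h1.gcd_eq]
    exact (Nat.Prime.coprime_iff_not_dvd hq).2 fun hd =>
      h ((Nat.modEq_iff_dvd' (by omega)).2 hd).symm
  refine ⟨hc, fun b => ?_⟩
  have hN := geom_mul h2 q
  induction b using Nat.recOnMul with
  | zero =>
    intro hb
    rw [zero_dvd_iff.1 hb] at hN
    exact absurd hN.symm (by simpa using ⟨hp.one_lt.ne', hq.ne_zero⟩)
  | one => intro; rfl
  | prime r hr =>
    intro hb
    haveI := Fact.mk hr
    haveI := Fact.mk hq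
    have h1 : (p : ZMod r) ^ q = 1 := by
      have := congrArg (Nat.cast : ℕ → ZMod r) hN
      rw [Nat.cast_add, Nat.cast_mul, (ZMod.natCast_eq_zero_iff _ _).2 hb] at this
      simpa using this.symm
    have h3 : (p : ZMod r) ≠ 1 := fun e => by
      rw [← Nat.cast_one, ZMod.natCast_eq_natCast_iff] at e
      exact hr.one_lt.ne' (Nat.eq_one_of_dvd_coprimes hc hb
        ((Nat.modEq_iff_dvd' (by omega)).1 e.symm))
    have h4 := ZMod.orderOf_dvd_card_sub_one (a := (p : ZMod r)) fun e => by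
      rw [e, zero_pow hq.ne_zero] at h1
      exact zero_ne_one h1
    rw [orderOf_eq_prime h1 h3] at h4
    exact ((Nat.modEq_iff_dvd' hr.one_le).2 h4).symm
  | mul a b iha ihb =>
    intro hb
    simpa using (iha (dvd_of_mul_right_dvd hb)).mul (ihb (dvd_of_mul_left_dvd hb))

namespace PF13b

theorem two_mul_add_one_le {q c : ℕ} (hq : Odd q) (hc : Odd c) (h1 : c ≠ 1) (hd : q ∣ c - 1) :
    2 * q + 1 ≤ c := by
  obtain ⟨k, rfl⟩ := hc
  have := Nat.le_of_dvd (by omega) ((Nat.coprime_two_right.2 hq).dvd_of_dvd_mul_left hd)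
  omega

/-- The numerical part of PF (13.12). -/
theorem Ineq.reg {p q u c : ℕ} (hp : p.Prime) (hq : q.Prime) (hp2 : p ≠ 2) (hq2 : q ≠ 2)
    (hpq : p ≠ q) (hc : Odd c) (h1 : c ≠ 1) (hd : q ∣ c - 1) (hpc : ¬ p ∣ c)
    (hu : u ≤ (p ^ q - 1) / (p - 1)) (hu' : u ≤ (p - 1) ^ (q - 1) ∨ u ∣ (p ^ q - 1) / (p - 1))
    (h : Ineq p q u c) : p = 5 ∧ q = 3 ∧ u = 31 ∧ c = 7 := by
  have h2 := two_mul_add_one_le (hq.odd_of_ne_two hq2) hc h1 hd
  obtain rfl := (h.mono hu).eq_three hp hq hp2 hq2 h2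
  have h5 := five_le hp hp2 hpq
  have h3 := h.three h5 (by omega)
  rw [geom_three hp.two_le] at hu hu'
  obtain ⟨r, rfl⟩ : ∃ r, p = r + 1 := ⟨p - 1, by omega⟩
  rw [show (r + 1) ^ 2 - 1 = r ^ 2 + 2 * r by rw [add_sq]; simp] at h3
  have h7 : c = 7 := by
    by_contra h7
    have : 13 ≤ c := by obtain ⟨k, rfl⟩ := hc; omega
    nlinarith
  subst h7
  rcases hu' with hu' | hu'
  · change u ≤ r ^ 2 at hu'
    omega
  have h4 : r = 4 := by
    by_contra h4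
    have := seven_le hp h5 (by omega)
    have : r ≠ 6 := by rintro rfl; exact hpc dvd_rfl
    have : 7 ≤ r := by omega
    nlinarith
  subst h4
  refine ⟨rfl, rfl, ?_, rfl⟩
  have := (Nat.dvd_prime (show Nat.Prime 31 by norm_num)).1 hu'
  omega

/-- The numerical part of PF (13.15). -/
theorem Ineq.galois {p q u : ℕ} (hp : p.Prime) (hq : q.Prime) (hp2 : p ≠ 2) (hq2 : q ≠ 2)
    (hpq : p ≠ q) (hc : u.Coprime q) (hu : u ∣ (p ^ q - 1) / (p - 1)) (h : Ineq p q u 1) :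
    u = if p ≡ 1 [MOD q] then (p ^ q - 1) / (p - 1) / q else (p ^ q - 1) / (p - 1) := by
  obtain ⟨h1, h2, h3⟩ := primes_mod_cases hp hq hp2 hq2
  obtain ⟨x, hx⟩ := hu
  have hxo : Odd x := h1.of_dvd_nat (Dvd.intro_left _ hx.symm)
  have h4 : ¬ 2 * q + 1 ≤ x := fun h4 => by
    obtain rfl := (hx ▸ h.mul x).eq_three hp hq hp2 hq2 h4
    have h5 := five_le hp hp2 hpq
    have h6 := h.three h5 one_pos
    rw [geom_three hp.two_le] at hx
    have h7 : 7 * u ≤ u * x := by nlinarith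
    have h8 : 1 ≤ p ^ 2 := Nat.one_le_pow _ _ hp.pos
    have h9 : p ≤ 7 := by
      by_contra h9
      have : p * 8 ≤ p ^ 2 := by nlinarith
      omega
    by_cases h10 : p = 5
    · subst h10; omega
    · obtain rfl : p = 7 := le_antisymm h9 (seven_le hp h5 h10)
      omega
  split_ifs with h5
  · obtain ⟨y, rfl⟩ := hc.symm.dvd_of_dvd_mul_left (hx ▸ h2 h5)
    obtain ⟨k, rfl⟩ := hxo.of_dvd_nat (dvd_mul_left y q)
    obtain rfl : k = 0 := by
      by_contra hk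
      have := hq.pos
      have : 1 ≤ k := by omega
      exact h4 (by nlinarith)
    rw [hx]; simp [hq.pos]
  · have h6 := ((h3 h5 hpq).2 x (Dvd.intro_left _ hx.symm)).symm
    rw [Nat.modEq_iff_dvd' hxo.pos] at h6
    obtain rfl : x = 1 := by
      by_contra h7
      exact h4 (two_mul_add_one_le (hq.odd_of_ne_two hq2) hxo h7 h6)
    rw [hx, mul_one]

end PF13b

end Cfsg.Agent.FT
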