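/-
PF (3.5): the combinatorial part, in an abstract integral lattice.
-/
import Mathlib

set_option autoImplicit false

namespace Cfsg.Agent.FT.PF03

variable {Λ : Type*} [AddCommGroup Λ] {B : Λ →+ Λ →+ ℤ}

/-- `v` is the sum of the three orthogonal unit vectors `x`, `y`, `z`. -/
structure Tri (B : Λ →+ Λ →+ ℤ) (v x y z : Λ) : Prop where
  eq : v = x + y + z
  x1 : B x x = 1
  y1 : B y y = 1
  z1 : B z z = 1
  xy : B x y = 0
  xz : B x z = 0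
  yz : B y z = 0

/-- The properties of the lattice of virtual characters that are used. -/
structure Lat (B : Λ →+ Λ →+ ℤ) : Prop where
  symm : ∀ x y, B x y = B y x
  nonneg : ∀ x, 0 ≤ B x x
  tri : ∀ x y, B x x = 1 → B y y = 1 → x = y ∨ x = -y ∨ B x y = 0
  three : ∀ v, B v v = 3 → ∃ x y z, Tri B v x y z

/-- Two vectors of norm three with exactly one common constituent. -/
structure Adj (B : Λ →+ Λ →+ ℤ) (b c : Λ) : Prop where
  b3 : B b b = 3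
  c3 : B c c = 3
  bc : B b c = 1
  opp : ∀ x, B x x = 1 → B b x = 1 → B c x ≠ -1

theorem Tri.swap12 (h : Lat B) {v x y z : Λ} (t : Tri B v x y z) : Tri B v y x z :=
  ⟨by rw [t.eq, add_comm x y], t.y1, t.x1, t.z1, by rw [h.symm, t.xy], t.yz, t.xz⟩

theorem Tri.swap23 (h : Lat B) {v x y z : Λ} (t : Tri B v x y z) : Tri B v x z y :=
  ⟨by rw [t.eq, add_right_comm], t.x1, t.z1, t.y1, t.xz, t.xy, by rw [h.symm, t.yz]⟩

theorem Tri.apply {v x y z : Λ} (t : Tri B v x y z) (c : Λ) :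
    B c v = B c x + B c y + B c z := by rw [t.eq, map_add, map_add]

theorem Tri.fst (h : Lat B) {v x y z : Λ} (t : Tri B v x y z) : B v x = 1 := by
  rw [h.symm, t.apply, t.x1, t.xy, t.xz]; rfl

theorem Tri.snd (h : Lat B) {v x y z : Λ} (t : Tri B v x y z) : B v y = 1 := (t.swap12 h).fst h

theorem Tri.thd (h : Lat B) {v x y z : Λ} (t : Tri B v x y z) : B v z = 1 := (t.swap23 h).snd h

theorem Adj.symm (h : Lat B) {b c : Λ} (a : Adj B b c) : Adj B c b :=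
  ⟨a.c3, a.b3, by rw [h.symm, a.bc], fun x hx h1 h2 => a.opp (-x) (by simpa using hx)
    (by rw [map_neg, h2]; rfl) (by rw [map_neg, h1])⟩

namespace Lat

theorem bessel (h : Lat B) (l : List Λ) (h1 : ∀ e ∈ l, B e e = 1)
    (h2 : l.Pairwise fun a b => B a b = 0) (c : Λ) :
    (l.map fun e => ((B c e).natAbs : ℤ)).sum ≤ B c c := by
  induction l generalizing c with
  | nil => simpa using h.nonneg c
  | cons e l ih =>
    rw [List.pairwise_cons] at h2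
    have := ih (fun x hx => h1 x (List.mem_cons_of_mem _ hx)) h2.2 (c - B c e • e)
    rw [List.map_congr_left (g := fun x => ((B c x).natAbs : ℤ)) fun x hx => by
      simp [h2.1 x hx]] at this
    have he := h1 e List.mem_cons_self
    simp only [map_sub, map_zsmul, AddMonoidHom.sub_apply, AddMonoidHom.smul_apply, smul_eq_mul, he,
      h.symm e c] at this
    have h3 : ((B c e).natAbs : ℤ) ≤ B c e * B c e := by
      rw [← Int.natAbs_mul_self']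
      exact_mod_cast Nat.le_mul_self _
    rw [List.map_cons, List.sum_cons]
    linarith

theorem bound (h : Lat B) {c e : Λ} (hc : B c c = 3) (he : B e e = 1) :
    -1 ≤ B c e ∧ B c e ≤ 1 := by
  have := h.nonneg (c - B c e • e)
  simp only [map_sub, map_zsmul, AddMonoidHom.sub_apply, AddMonoidHom.smul_apply, smul_eq_mul, he,
    h.symm e c, hc] at this
  constructor <;> nlinarith

theorem eq_of_one (h : Lat B) {x y : Λ} (hx : B x x = 1) (hy : B y y = 1) (hxy : B x y = 1) :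
    x = y := by
  rcases h.tri x y hx hy with h1 | h1 | h1
  · exact h1
  · rw [h1, map_neg, AddMonoidHom.neg_apply, hy] at hxy; omega
  · omega

theorem complete2 (h : Lat B) {b x y : Λ} (hb : B b b = 3) (hx : B x x = 1) (hy : B y y = 1)
    (h1 : B b x = 1) (h2 : B b y = 1) (hne : x ≠ y) : Tri B b x y (b - x - y) := by
  have hxy : B x y = 0 := by
    rcases h.tri x y hx hy with h3 | h3 | h3
    · exact absurd h3 hne
    · rw [h3, map_neg, h2] at h1; omega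
    · exact h3
  refine ⟨by abel, hx, hy, ?_, hxy, ?_, ?_⟩ <;>
    simp [hb, hx, hy, h1, h2, hxy, h.symm x b, h.symm y b, h.symm y x]

theorem complete3 (h : Lat B) {b x y z : Λ} (hb : B b b = 3) (hx : B x x = 1) (hy : B y y = 1)
    (hz : B z z = 1) (h1 : B b x = 1) (h2 : B b y = 1) (h3 : B b z = 1) (hxy : B x y = 0)
    (hxz : B x z = 0) (hyz : B y z = 0) : Tri B b x y z := by
  have t := h.complete2 hb hx hy h1 h2 (by rintro rfl; omega)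
  rwa [h.eq_of_one t.z1 hz (by simp [h3, hxz, hyz])] at t

theorem mem_tri (h : Lat B) {b x y z w : Λ} (t : Tri B b x y z) (hw : B w w = 1) (h1 : B b w = 1) :
    w = x ∨ w = y ∨ w = z := by
  rw [h.symm, t.apply] at h1
  have key : ∀ e, B e e = 1 → w = e ∨ B w e ≤ 0 := fun e he => by
    rcases h.tri w e hw he with h3 | h3 | h3
    · exact Or.inl h3
    · right; rw [h3, map_neg, AddMonoidHom.neg_apply, he]; omega
    · exact Or.inr h3.le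
  rcases key x t.x1 with h2 | h2
  · exact Or.inl h2
  rcases key y t.y1 with h3 | h3
  · exact Or.inr (Or.inl h3)
  rcases key z t.z1 with h4 | h4
  · exact Or.inr (Or.inr h4)
  omega

theorem complete1 (h : Lat B) {b x : Λ} (hb : B b b = 3) (hx : B x x = 1) (h1 : B b x = 1) :
    ∃ y z, Tri B b x y z := by
  obtain ⟨u, v, w, t⟩ := h.three b hb
  rcases h.mem_tri t hx h1 with rfl | rfl | rfl
  · exact ⟨_, _, t⟩
  · exact ⟨_, _, t.swap12 h⟩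
  · exact ⟨_, _, ((t.swap23 h).swap12 h)⟩

theorem nonneg_of_adj (h : Lat B) {b c x : Λ} (a : Adj B b c) (hx : B x x = 1) (h1 : B b x = 1) :
    0 ≤ B c x := by
  have := h.bound a.c3 hx
  have := a.opp x hx h1
  omega

theorem meet (h : Lat B) {b c : Λ} (a : Adj B b c) : ∃ x, B x x = 1 ∧ B b x = 1 ∧ B c x = 1 := by
  obtain ⟨u, v, w, t⟩ := h.three b a.b3
  have h1 := t.apply c
  rw [h.symm, a.bc] at h1
  have hu := h.nonneg_of_adj a t.x1 (t.fst h)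
  have hv := h.nonneg_of_adj a t.y1 (t.snd h)
  have hw := h.nonneg_of_adj a t.z1 (t.thd h)
  by_cases h2 : B c u = 1
  · exact ⟨u, t.x1, t.fst h, h2⟩
  by_cases h3 : B c v = 1
  · exact ⟨v, t.y1, t.snd h, h3⟩
  exact ⟨w, t.z1, t.thd h, by omega⟩

theorem orth4 (h : Lat B) {b c x y z y' z' : Λ} (a : Adj B b c) (t : Tri B b x y z)
    (t' : Tri B c x y' z') : B y y' = 0 ∧ B y z' = 0 ∧ B z y' = 0 ∧ B z z' = 0 := by
  have h1 := t.apply c
  rw [h.symm, a.bc, t'.fst h] at h1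
  have hy := h.nonneg_of_adj a t.y1 (t.snd h)
  have hz := h.nonneg_of_adj a t.z1 (t.thd h)
  have key : ∀ e, B e e = 1 → B b e = 1 → B x e = 0 → B c e = 0 → B e y' = 0 ∧ B e z' = 0 := by
    intro e he hb hx hc
    have h2 := t'.apply e
    rw [h.symm, hc, h.symm e x, hx] at h2
    have k : ∀ w, B w w = 1 → B c w = 1 → B e w = 0 := fun w hw hcw => by
      rcases h.tri e w he hw with h3 | h3 | h3
      · rw [h3] at hc; omega
      · rw [h3, map_neg] at hc; omega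
      · exact h3
    exact ⟨k _ t'.y1 (t'.snd h), k _ t'.z1 (t'.thd h)⟩
  obtain ⟨h2, h3⟩ := key y t.y1 (t.snd h) t.xy (by omega)
  obtain ⟨h4, h5⟩ := key z t.z1 (t.thd h) t.xz (by omega)
  exact ⟨h2, h3, h4, h5⟩

theorem meet_unique (h : Lat B) {b c x y : Λ} (a : Adj B b c) (hx : B x x = 1) (hy : B y y = 1)
    (h1 : B b x = 1) (h2 : B c x = 1) (h3 : B b y = 1) (h4 : B c y = 1) : x = y := by
  by_contra hne
  have := (h.orth4 a (h.complete2 a.b3 hx hy h1 h3 hne) (h.complete2 a.c3 hx hy h2 h4 hne)).1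
  omega

/-- Three concurrent lines with a transversal do not occur. -/
theorem pencil_aux (h : Lat B) {L₁ L₂ L₃ T c₁ c₂ c₃ d p a₁ a₂ a₃ b₁ b₂ b₃ : Λ}
    (t₁ : Tri B L₁ p a₁ b₁) (t₂ : Tri B L₂ p a₂ b₂) (t₃ : Tri B L₃ p a₃ b₃) (t : Tri B T a₁ a₂ a₃)
    (l12 : Adj B L₁ L₂) (l13 : Adj B L₁ L₃) (l23 : Adj B L₂ L₃)
    (e1 : Adj B L₁ c₁) (e2 : Adj B L₂ c₂) (e3 : Adj B L₃ c₃) (e : Adj B T d)
    (c12 : Adj B c₁ c₂) (c13 : Adj B c₁ c₃) (d1 : Adj B c₁ d)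
    (z12 : B c₁ L₂ = 0) (z13 : B c₁ L₃ = 0) (z21 : B c₂ L₁ = 0) (z23 : B c₂ L₃ = 0)
    (z31 : B c₃ L₁ = 0) (z32 : B c₃ L₂ = 0) (z1 : B c₁ T = 0) (z2 : B c₂ T = 0) (z3 : B c₃ T = 0)
    (y1 : B d L₁ = 0) (y2 : B d L₂ = 0) (y3 : B d L₃ = 0) (hd : B d a₁ = 1) : False := by
  obtain ⟨o1, o2, o3, o4⟩ := h.orth4 l12 t₁ t₂
  obtain ⟨o5, o6, o7, o8⟩ := h.orth4 l13 t₁ t₃
  obtain ⟨o9, o10, o11, o12⟩ := h.orth4 l23 t₂ t₃
  have bes : ∀ c, ((B c p).natAbs : ℤ) + ((B c a₁).natAbs + ((B c b₁).natAbs + ((B c a₂).natAbs +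
      ((B c b₂).natAbs + ((B c a₃).natAbs + (B c b₃).natAbs))))) ≤ B c c := fun c => by
    simpa using h.bessel [p, a₁, b₁, a₂, b₂, a₃, b₃]
      (by simp [t₁.x1, t₁.y1, t₁.z1, t₂.y1, t₂.z1, t₃.y1, t₃.z1])
      (by simp [t₁.xy, t₁.xz, t₁.yz, t₂.xy, t₂.xz, t₂.yz, t₃.xy, t₃.xz, t₃.yz, *]) c
  have nn : ∀ {L c x y z : Λ}, Adj B L c → Tri B L x y z →
      0 ≤ B c x ∧ 0 ≤ B c y ∧ 0 ≤ B c z ∧ B c x + B c y + B c z = 1 := fun a t =>
    ⟨h.nonneg_of_adj a t.x1 (t.fst h), h.nonneg_of_adj a t.y1 (t.snd h),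
      h.nonneg_of_adj a t.z1 (t.thd h), by rw [← t.apply, h.symm, a.bc]⟩
  have bd := bes d
  have nd := nn e t
  rw [t₁.apply] at y1 z21 z31
  rw [t₂.apply] at y2 z12 z32
  rw [t₃.apply] at y3 z13 z23
  rw [t.apply] at z1 z2 z3
  have kd := h.bound e.c3 t₁.z1
  rw [e.c3] at bd
  have hd' : B d p = 0 ∧ B d b₁ = -1 ∧ B d b₂ = 0 ∧ B d b₃ = 0 := by omega
  have b1 := bes c₁
  have n1 := nn e1 t₁
  rw [e1.c3] at b1
  have k1 := d1.opp b₁ t₁.z1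
  have neg1 : ∀ {x : Λ}, B x x = 1 → B (-x) (-x) = 1 := fun hx => by simpa using hx
  by_cases hp : B c₁ p = 1
  · have t' := h.complete3 e1.c3 t₁.x1 (neg1 t₂.z1) (neg1 t₃.z1) hp (by rw [map_neg]; omega)
      (by rw [map_neg]; omega) (by simp [t₂.xz]) (by simp [t₃.xz]) (by simp [o12])
    have := t'.apply d
    rw [h.symm, d1.bc, map_neg, map_neg] at this
    omega
  by_cases ha : B c₁ a₂ = -1
  · have t' := h.complete3 e1.c3 t₁.y1 (neg1 t₂.y1) t₂.z1 (by omega) (by rw [map_neg]; omega)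
      (by omega) (by simp [o1]) o2 (by simp [t₂.yz])
    have := t'.apply c₃
    rw [h.symm, c13.bc, map_neg] at this
    have b3 := bes c₃
    have n3 := nn e3 t₃
    rw [e3.c3] at b3
    omega
  · have t' := h.complete3 e1.c3 t₁.y1 (neg1 t₃.y1) t₃.z1 (by omega) (by rw [map_neg]; omega)
      (by omega) (by simp [o5]) o6 (by simp [t₃.yz])
    have := t'.apply c₂
    rw [h.symm, c12.bc, map_neg] at this
    have b2 := bes c₂
    have n2 := nn e2 t₂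
    rw [e2.c3] at b2
    omega

end Lat

/-- Two columns of the array. -/
structure Two {ι : Type*} (B : Λ →+ Λ →+ ℤ) (S : Finset ι) (b c : ι → Λ) : Prop where
  bb : ∀ i ∈ S, ∀ j ∈ S, i ≠ j → Adj B (b i) (b j)
  cc : ∀ i ∈ S, ∀ j ∈ S, i ≠ j → Adj B (c i) (c j)
  bc : ∀ i ∈ S, Adj B (b i) (c i)
  cb : ∀ i ∈ S, ∀ j ∈ S, i ≠ j → B (c i) (b j) = 0

namespace Lat

variable {ι κ : Type*}

theorem pencil_one (h : Lat B) {S : Finset ι} {b c : ι → Λ} (w : Two B S b c) {i j k l : ι}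
    (hi : i ∈ S) (hj : j ∈ S) (hk : k ∈ S) (hl : l ∈ S) (ij : i ≠ j) (ik : i ≠ k) (jk : j ≠ k)
    (il : i ≠ l) (jl : j ≠ l) (kl : k ≠ l) {p a₁ a₂ a₃ b₁ b₂ b₃ : Λ}
    (t₁ : Tri B (b i) p a₁ b₁) (t₂ : Tri B (b j) p a₂ b₂) (t₃ : Tri B (b k) p a₃ b₃)
    (t : Tri B (b l) a₁ a₂ a₃) (hd : B (c l) a₁ = 1) : False :=
  h.pencil_aux t₁ t₂ t₃ t (w.bb _ hi _ hj ij) (w.bb _ hi _ hk ik) (w.bb _ hj _ hk jk)
    (w.bc _ hi) (w.bc _ hj) (w.bc _ hk) (w.bc _ hl) (w.cc _ hi _ hj ij) (w.cc _ hi _ hk ik)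
    (w.cc _ hi _ hl il) (w.cb _ hi _ hj ij) (w.cb _ hi _ hk ik) (w.cb _ hj _ hi ij.symm)
    (w.cb _ hj _ hk jk) (w.cb _ hk _ hi ik.symm) (w.cb _ hk _ hj jk.symm) (w.cb _ hi _ hl il)
    (w.cb _ hj _ hl jl) (w.cb _ hk _ hl kl) (w.cb _ hl _ hi il.symm) (w.cb _ hl _ hj jl.symm)
    (w.cb _ hl _ hk kl.symm) hd

theorem pencil (h : Lat B) {S : Finset ι} {b c : ι → Λ} (w : Two B S b c) {i j k l : ι}
    (hi : i ∈ S) (hj : j ∈ S) (hk : k ∈ S) (hl : l ∈ S) (ij : i ≠ j) (ik : i ≠ k) (jk : j ≠ k)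
    (il : i ≠ l) (jl : j ≠ l) (kl : k ≠ l) {p a₁ a₂ a₃ b₁ b₂ b₃ : Λ}
    (t₁ : Tri B (b i) p a₁ b₁) (t₂ : Tri B (b j) p a₂ b₂) (t₃ : Tri B (b k) p a₃ b₃)
    (t : Tri B (b l) a₁ a₂ a₃) : False := by
  have a := w.bc _ hl
  have h1 := h.nonneg_of_adj a t.x1 (t.fst h)
  have h2 := h.nonneg_of_adj a t.y1 (t.snd h)
  have h3 := h.nonneg_of_adj a t.z1 (t.thd h)
  have h4 := t.apply (c l)
  rw [h.symm, a.bc] at h4
  by_cases e1 : B (c l) a₁ = 1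
  · exact h.pencil_one w hi hj hk hl ij ik jk il jl kl t₁ t₂ t₃ t e1
  by_cases e2 : B (c l) a₂ = 1
  · exact h.pencil_one w hj hi hk hl ij.symm jk ik jl il kl t₂ t₁ t₃ (t.swap12 h) e2
  exact h.pencil_one w hk hi hj hl ik.symm jk.symm ij kl il jl t₃ t₁ t₂ ((t.swap23 h).swap12 h)
    (by omega)

theorem concurrent (h : Lat B) {S : Finset ι} {b c : ι → Λ} (w : Two B S b c) {i j k l : ι}
    (hi : i ∈ S) (hj : j ∈ S) (hk : k ∈ S) (hl : l ∈ S) (ij : i ≠ j) (ik : i ≠ k) (jk : j ≠ k)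
    (il : i ≠ l) (jl : j ≠ l) (kl : k ≠ l) {x₁ : Λ} (hx : B x₁ x₁ = 1) (h1 : B (b i) x₁ = 1)
    (h2 : B (b j) x₁ = 1) : B (b k) x₁ = 1 := by
  by_contra hne
  have aij := w.bb _ hi _ hj ij
  have aik := w.bb _ hi _ hk ik
  have ajk := w.bb _ hj _ hk jk
  have ail := w.bb _ hi _ hl il
  have ajl := w.bb _ hj _ hl jl
  have akl := w.bb _ hk _ hl kl
  obtain ⟨x₂, hx₂, h3, h4⟩ := h.meet aik
  obtain ⟨x₄, hx₄, h5, h6⟩ := h.meet ajk
  have n12 : x₁ ≠ x₂ := by rintro rfl; exact hne h4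
  have n14 : x₁ ≠ x₄ := by rintro rfl; exact hne h6
  have n24 : x₂ ≠ x₄ := by rintro rfl; exact n12 (h.meet_unique aij hx hx₂ h1 h2 h3 h5)
  have t₁ := h.complete2 aij.b3 hx hx₂ h1 h3 n12
  have t₂ := h.complete2 aij.c3 hx hx₄ h2 h5 n14
  have t₃ := h.complete2 aik.c3 hx₂ hx₄ h4 h6 n24
  generalize b i - x₁ - x₂ = x₃ at t₁
  generalize b j - x₁ - x₄ = x₅ at t₂
  generalize b k - x₂ - x₄ = x₆ at t₃
  obtain ⟨o1, o2, o3, o4⟩ := h.orth4 aij t₁ t₂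
  obtain ⟨o5, o6, o7, o8⟩ := h.orth4 aik (t₁.swap12 h) t₃
  obtain ⟨o9, o10, o11, o12⟩ := h.orth4 ajk (t₂.swap12 h) (t₃.swap12 h)
  have nn : ∀ {L c x y z : Λ}, Adj B L c → Tri B L x y z →
      0 ≤ B c x ∧ 0 ≤ B c y ∧ 0 ≤ B c z ∧ B c x + B c y + B c z = 1 := fun a t =>
    ⟨h.nonneg_of_adj a t.x1 (t.fst h), h.nonneg_of_adj a t.y1 (t.snd h),
      h.nonneg_of_adj a t.z1 (t.thd h), by rw [← t.apply, h.symm, a.bc]⟩
  have n1 := nn ail t₁
  have n2 := nn ajl t₂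
  have n3 := nn akl t₃
  by_cases e1 : B (b l) x₁ = 1
  · exact h.pencil w hi hj hl hk ij il jl ik jk kl.symm t₁ t₂
      (h.complete2 ail.c3 hx t₃.z1 e1 (by omega) (by rintro rfl; omega)) t₃
  by_cases e2 : B (b l) x₂ = 1
  · exact h.pencil w hi hk hl hj ik il kl ij jk.symm jl.symm (t₁.swap12 h) t₃
      (h.complete2 ail.c3 hx₂ t₂.z1 e2 (by omega) (by rintro rfl; omega)) t₂
  by_cases e4 : B (b l) x₄ = 1
  · exact h.pencil w hj hk hl hi jk jl kl ij.symm ik.symm il.symm (t₂.swap12 h) (t₃.swap12 h)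
      (h.complete2 ail.c3 hx₄ t₁.z1 e4 (by omega) (by rintro rfl; omega)) t₁
  have t₄ := h.complete3 ail.c3 t₁.z1 t₂.z1 t₃.z1 (by omega) (by omega) (by omega) o4 o8 o12
  have k1 := t₁.apply (c i)
  have k2 := t₂.apply (c i)
  have k3 := t₃.apply (c i)
  have k4 := t₄.apply (c i)
  rw [h.symm, (w.bc _ hi).bc] at k1
  rw [w.cb _ hi _ hj ij] at k2
  rw [w.cb _ hi _ hk ik] at k3
  rw [w.cb _ hi _ hl il] at k4
  omega

theorem exists_fourth {S : Finset ι} (hS : 4 ≤ S.card) (i j k : ι) :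
    ∃ l ∈ S, i ≠ l ∧ j ≠ l ∧ k ≠ l := by
  classical
  obtain ⟨l, hl, hl'⟩ := Finset.exists_mem_notMem_of_card_lt_card
    (show ({i, j, k} : Finset ι).card < S.card from Finset.card_le_three.trans_lt hS)
  simp only [Finset.mem_insert, Finset.mem_singleton, not_or] at hl'
  exact ⟨l, hl, Ne.symm hl'.1, Ne.symm hl'.2.1, Ne.symm hl'.2.2⟩

theorem exists_common (h : Lat B) {S : Finset ι} {b c : ι → Λ} (w : Two B S b c)
    (hS : S.card = 2 ∨ 4 ≤ S.card) : ∃ x, B x x = 1 ∧ ∀ i ∈ S, B (b i) x = 1 := by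
  classical
  obtain ⟨i, hi, j, hj, ij⟩ := Finset.one_lt_card.mp (show 1 < S.card by omega)
  obtain ⟨x, hx, h1, h2⟩ := h.meet (w.bb _ hi _ hj ij)
  refine ⟨x, hx, fun k hk => ?_⟩
  by_cases ik : i = k
  · rwa [← ik]
  by_cases jk : j = k
  · rwa [← jk]
  rcases hS with hS | hS
  · have : ({i, j, k} : Finset ι).card ≤ S.card := Finset.card_le_card (by
      intro x hx
      simp only [Finset.mem_insert, Finset.mem_singleton] at hx
      rcases hx with rfl | rfl | rfl <;> assumption)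
    rw [Finset.card_eq_three.mpr ⟨i, j, k, ij, ik, jk, rfl⟩] at this
    omega
  obtain ⟨l, hl, il, jl, kl⟩ := exists_fourth hS i j k
  exact h.concurrent w hi hj hk hl ij ik jk il jl kl hx h1 h2

/-- PF (3.5). -/
theorem grid (h : Lat B) {I : Finset ι} {J : Finset κ} {β : ι → κ → Λ} (hI : 4 ≤ I.card)
    (hJ : J.card = 2 ∨ 4 ≤ J.card)
    (hrow : ∀ i ∈ I, ∀ j ∈ J, ∀ j' ∈ J, j ≠ j' → Adj B (β i j) (β i j'))
    (hcol : ∀ j ∈ J, ∀ i ∈ I, ∀ i' ∈ I, i ≠ i' → Adj B (β i j) (β i' j))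
    (horth : ∀ i ∈ I, ∀ i' ∈ I, ∀ j ∈ J, ∀ j' ∈ J, i ≠ i' → j ≠ j' → B (β i j) (β i' j') = 0) :
    ∃ (x : ι → Λ) (y : κ → Λ) (z : ι → κ → Λ),
      (∀ i ∈ I, ∀ j ∈ J, Tri B (β i j) (x i) (y j) (z i j)) ∧
      (∀ i ∈ I, ∀ i' ∈ I, i ≠ i' → B (x i) (x i') = 0) ∧
      (∀ j ∈ J, ∀ j' ∈ J, j ≠ j' → B (y j) (y j') = 0) ∧
      (∀ i ∈ I, ∀ i' ∈ I, ∀ j ∈ J, B (x i) (z i' j) = 0) ∧
      (∀ i ∈ I, ∀ j ∈ J, ∀ j' ∈ J, B (y j) (z i j') = 0) ∧
      ∀ i ∈ I, ∀ i' ∈ I, ∀ j ∈ J, ∀ j' ∈ J, (i ≠ i' ∨ j ≠ j') → B (z i j) (z i' j') = 0 := by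
  classical
  have hy : ∀ j, ∃ y, j ∈ J → B y y = 1 ∧ ∀ i ∈ I, B (β i j) y = 1 := fun j => by
    by_cases hj : j ∈ J
    · obtain ⟨j', hj', hne⟩ := Finset.exists_mem_ne (show 1 < J.card by omega) j
      obtain ⟨y, h1⟩ := h.exists_common (b := fun i => β i j) (c := fun i => β i j')
        ⟨hcol j hj, hcol j' hj', fun i hi => hrow i hi j hj j' hj' hne.symm,
          fun i hi i' hi' ii => horth i hi i' hi' j' hj' j hj ii hne⟩ (Or.inr hI)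
      exact ⟨y, fun _ => h1⟩
    · exact ⟨0, fun h => absurd h hj⟩
  have hx : ∀ i, ∃ x, i ∈ I → B x x = 1 ∧ ∀ j ∈ J, B (β i j) x = 1 := fun i => by
    by_cases hi : i ∈ I
    · obtain ⟨i', hi', hne⟩ := Finset.exists_mem_ne (show 1 < I.card by omega) i
      obtain ⟨x, h1⟩ := h.exists_common (b := fun j => β i j) (c := fun j => β i' j)
        ⟨hrow i hi, hrow i' hi', fun j hj => hcol j hj i hi i' hi' hne.symm,
          fun j hj j' hj' jj => horth i' hi' i hi j hj j' hj' hne jj⟩ hJ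
      exact ⟨x, fun _ => h1⟩
    · exact ⟨0, fun h => absurd h hi⟩
  choose x hx using hx
  choose y hy using hy
  have t : ∀ i ∈ I, ∀ j ∈ J, Tri B (β i j) (x i) (y j) (β i j - x i - y j) := by
    intro i hi j hj
    obtain ⟨j', hj', hne⟩ := Finset.exists_mem_ne (show 1 < J.card by omega) j
    refine h.complete2 (hrow i hi j hj j' hj' hne.symm).b3 (hx i hi).1 (hy j hj).1
      ((hx i hi).2 j hj) ((hy j hj).2 i hi) fun e => ?_
    obtain ⟨k, hk, ik, -, -⟩ := exists_fourth hI i i i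
    obtain ⟨l, hl, il, kl, -⟩ := exists_fourth hI i k k
    obtain ⟨m, hm, im, km, lm⟩ := exists_fourth hI i k l
    have akl := hcol j hj k hk l hl kl
    have akm := hcol j hj k hk m hm km
    have alm := hcol j hj l hl m hm lm
    obtain ⟨a₁, b₁, t₁⟩ := h.complete1 akl.b3 (hy j hj).1 ((hy j hj).2 k hk)
    obtain ⟨a₂, b₂, t₂⟩ := h.complete1 akl.c3 (hy j hj).1 ((hy j hj).2 l hl)
    obtain ⟨a₃, b₃, t₃⟩ := h.complete1 akm.c3 (hy j hj).1 ((hy j hj).2 m hm)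
    obtain ⟨o1, o2, o3, o4⟩ := h.orth4 akl t₁ t₂
    obtain ⟨o5, o6, o7, o8⟩ := h.orth4 akm t₁ t₃
    obtain ⟨o9, o10, o11, o12⟩ := h.orth4 alm t₂ t₃
    have bes := h.bessel [y j, a₁, b₁, a₂, b₂, a₃, b₃]
      (by simp [t₁.x1, t₁.y1, t₁.z1, t₂.y1, t₂.z1, t₃.y1, t₃.z1])
      (by simp [t₁.xy, t₁.xz, t₁.yz, t₂.xy, t₂.xz, t₂.yz, t₃.xy, t₃.xz, t₃.yz, *]) (β i j')
    have k1 := t₁.apply (β i j')
    have k2 := t₂.apply (β i j')
    have k3 := t₃.apply (β i j')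
    have k4 := (hx i hi).2 j' hj'
    rw [horth i hi k hk j' hj' j hj ik hne] at k1
    rw [horth i hi l hl j' hj' j hj il hne] at k2
    rw [horth i hi m hm j' hj' j hj im hne] at k3
    rw [(hrow i hi j hj j' hj' hne.symm).c3] at bes
    rw [e] at k4
    simp only [List.map_cons, List.map_nil, List.sum_cons, List.sum_nil] at bes
    omega
  have r := fun i hi j hj j' hj' jj => h.orth4 (hrow i hi j hj j' hj' jj) (t i hi j hj) (t i hi j' hj')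
  have c := fun j hj i hi i' hi' ii => h.orth4 (hcol j hj i hi i' hi' ii) ((t i hi j hj).swap12 h)
    ((t i' hi' j hj).swap12 h)
  obtain ⟨i₀, hi₀⟩ := Finset.card_pos.mp (show 0 < I.card by omega)
  obtain ⟨j₀, hj₀⟩ := Finset.card_pos.mp (show 0 < J.card by omega)
  have xz : ∀ i ∈ I, ∀ i' ∈ I, ∀ j ∈ J, B (x i) (β i' j - x i' - y j) = 0 := by
    intro i hi i' hi' j hj
    by_cases ii : i = i'
    · subst ii; exact (t i hi j hj).xz
    · exact (c j hj i hi i' hi' ii).2.1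
  have yz : ∀ i ∈ I, ∀ j ∈ J, ∀ j' ∈ J, B (y j) (β i j' - x i - y j') = 0 := by
    intro i hi j hj j' hj'
    by_cases jj : j = j'
    · subst jj; exact (t i hi j hj).yz
    · exact (r i hi j hj j' hj' jj).2.1
  refine ⟨x, y, _, t, fun i hi i' hi' ii => (c j₀ hj₀ i hi i' hi' ii).1,
    fun j hj j' hj' jj => (r i₀ hi₀ j hj j' hj' jj).1, xz, yz, fun i hi i' hi' j hj j' hj' hne => ?_⟩
  by_cases ii : i = i'
  · subst ii
    exact (r i hi j hj j' hj' (hne.resolve_left (by simp))).2.2.2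
  by_cases jj : j = j'
  · subst jj
    exact (c j hj i hi i' hi' ii).2.2.2
  have k1 := horth i hi i' hi' j hj j' hj' ii jj
  have k2 := xz i hi i' hi' j' hj'
  have k3 := yz i' hi' j hj j' hj'
  have k4 := xz i' hi' i hi j hj
  have k5 := yz i hi j' hj' j hj
  have k6 := (c j hj i hi i' hi' ii).1
  have k7 := (r i hi j hj j' hj' jj).1
  have k8 := (t i hi j' hj').xy
  have k9 := (t i' hi' j hj).xy
  have e1 := (t i hi j hj).eq
  have e2 := (t i' hi' j' hj').eq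
  generalize β i j - x i - y j = u at *
  generalize β i' j' - x i' - y j' = v at *
  rw [e1, e2] at k1
  rw [h.symm] at k4 k5 k9
  simpa [*] using k1

theorem grid' (h : Lat B) [DecidableEq ι] [DecidableEq κ] {I : Finset ι} {J : Finset κ}
    {β : ι → κ → Λ} (hI : 4 ≤ I.card) (hJ : J.card = 2 ∨ 4 ≤ J.card)
    (hrow : ∀ i ∈ I, ∀ j ∈ J, ∀ j' ∈ J, j ≠ j' → Adj B (β i j) (β i j'))
    (hcol : ∀ j ∈ J, ∀ i ∈ I, ∀ i' ∈ I, i ≠ i' → Adj B (β i j) (β i' j))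
    (horth : ∀ i ∈ I, ∀ i' ∈ I, ∀ j ∈ J, ∀ j' ∈ J, i ≠ i' → j ≠ j' → B (β i j) (β i' j') = 0)
    {o₁ : ι} {o₂ : κ} (h1 : o₁ ∉ I) (h2 : o₂ ∉ J) {u : Λ} (uu : B u u = 1)
    (hu : ∀ i ∈ I, ∀ j ∈ J, B (β i j) u = 0) :
    ∃ e : ι → κ → Λ, e o₁ o₂ = u ∧
      (∀ i ∈ insert o₁ I, ∀ j ∈ insert o₂ J, ∀ i' ∈ insert o₁ I, ∀ j' ∈ insert o₂ J,
        B (e i j) (e i' j') = if i = i' ∧ j = j' then 1 else 0) ∧
      ∀ i ∈ I, ∀ j ∈ J, e i j - e i o₂ - e o₁ j + e o₁ o₂ = β i j + u := by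
  obtain ⟨x, y, z, t, xx, yy, xz, yz, zz⟩ := h.grid hI hJ hrow hcol horth
  obtain ⟨i₀, hi₀⟩ := Finset.card_pos.mp (show 0 < I.card by omega)
  obtain ⟨j₀, hj₀⟩ := Finset.card_pos.mp (show 0 < J.card by omega)
  have hu' : ∀ i ∈ I, ∀ j ∈ J, ∀ w, B w w = 1 → B (β i j) w = 1 → B w u = 0 := by
    intro i hi j hj w hw h1
    have h2 := hu i hi j hj
    rcases h.tri w u hw uu with e | e | e
    · rw [e] at h1; omega
    · rw [e, map_neg] at h1; omega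
    · exact e
  have xu := fun i hi => hu' i hi j₀ hj₀ _ (t i hi j₀ hj₀).x1 ((t i hi j₀ hj₀).fst h)
  have yu := fun j hj => hu' i₀ hi₀ j hj _ (t i₀ hi₀ j hj).y1 ((t i₀ hi₀ j hj).snd h)
  have zu := fun i hi j hj => hu' i hi j hj _ (t i hi j hj).z1 ((t i hi j hj).thd h)
  let e : ι → κ → Λ := fun i j =>
    if i = o₁ then (if j = o₂ then u else -y j) else if j = o₂ then -x i else z i j
  have n1 : ∀ i ∈ I, i ≠ o₁ := fun i hi e => h1 (e ▸ hi)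
  have n2 : ∀ j ∈ J, j ≠ o₂ := fun j hj e => h2 (e ▸ hj)
  have e0 : e o₁ o₂ = u := by simp [e]
  have e1 : ∀ j ∈ J, e o₁ j = -y j := fun j hj => by simp [e, n2 j hj]
  have e2 : ∀ i ∈ I, e i o₂ = -x i := fun i hi => by simp [e, n1 i hi]
  have e3 : ∀ i ∈ I, ∀ j ∈ J, e i j = z i j := fun i hi j hj => by simp [e, n1 i hi, n2 j hj]
  clear_value e
  refine ⟨e, e0, fun i hi j hj i' hi' j' hj' => ?_, fun i hi j hj => ?_⟩
  · have sy := h.symm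
    rcases Finset.mem_insert.1 hi with rfl | i1 <;> rcases Finset.mem_insert.1 hj with rfl | j1 <;>
      rcases Finset.mem_insert.1 hi' with rfl | k1 <;> rcases Finset.mem_insert.1 hj' with rfl | l1
    · simp [e0, uu]
    · simp [e0, e1 _ l1, sy u, yu _ l1, (n2 _ l1).symm]
    · simp [e0, e2 _ k1, sy u, xu _ k1, (n1 _ k1).symm]
    · simp [e0, e3 _ k1 _ l1, sy u, zu _ k1 _ l1, (n1 _ k1).symm]
    · simp [e0, e1 _ j1, yu _ j1, n2 _ j1]
    · by_cases e : j = j'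
      · simp [← e, e1 _ j1, (t i₀ hi₀ _ j1).y1]
      · simp [e, e1 _ j1, e1 _ l1, yy _ j1 _ l1 e]
    · simp [e1 _ j1, e2 _ k1, sy (y j), (t _ k1 _ j1).xy, n2 _ j1]
    · simp [e1 _ j1, e3 _ k1 _ l1, yz _ k1 _ j1 _ l1, (n1 _ k1).symm]
    · simp [e0, e2 _ i1, xu _ i1, n1 _ i1]
    · simp [e2 _ i1, e1 _ l1, (t _ i1 _ l1).xy, n1 _ i1]
    · by_cases e : i = i'
      · simp [← e, e2 _ i1, (t _ i1 j₀ hj₀).x1]
      · simp [e, e2 _ i1, e2 _ k1, xx _ i1 _ k1 e]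
    · simp [e2 _ i1, e3 _ k1 _ l1, xz _ i1 _ k1 _ l1, (n2 _ l1).symm]
    · simp [e0, e3 _ i1 _ j1, zu _ i1 _ j1, n1 _ i1]
    · simp [e3 _ i1 _ j1, e1 _ l1, sy (z i j), yz _ i1 _ l1 _ j1, n1 _ i1]
    · simp [e3 _ i1 _ j1, e2 _ k1, sy (z i j), xz _ k1 _ i1 _ j1, n2 _ j1]
    · rw [e3 _ i1 _ j1, e3 _ k1 _ l1]
      split_ifs with e
      · rw [← e.1, ← e.2, (t _ i1 _ j1).z1]
      · exact zz _ i1 _ k1 _ j1 _ l1 (not_and_or.1 e)
  · rw [e0, e1 j hj, e2 i hi, e3 i hi j hj, (t i hi j hj).eq]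
    abel

end Lat

end Cfsg.Agent.FT.PF03
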