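/-
CH1, part 1: Clifford theory.
-/
import Cfsg.Agent.FT.Char

set_option autoImplicit false

namespace Cfsg.Agent.FT

open Subgroup Cfsg Cfsg.Agent
open scoped commutatorElement ComplexConjugate

universe u

variable {G : Type u} [Group G] [Finite G]

namespace CH1

theorem ip_sum_cfClass {H L : Subgroup G} (hL : L ≤ 𝐍(H)) {θ ψ : G → ℂ} (hθ : θ ∈ Irr H)
    (hψ : ψ ∈ Irr H) :
    ip H (∑ ξ ∈ cfClass L θ, ξ) ψ = if ψ ∈ cfClass L θ then 1 else 0 :=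
  (on_Irr H).ip_sum (cfClass_subset_Irr hL hθ) hψ

theorem ip_ind_irr {H L : Subgroup G} (h : H ⊲ L) {θ ψ : G → ℂ} (hθ : θ ∈ Irr H)
    (hψ : ψ ∈ Irr H) :
    ip H (ind L H θ) ψ = if ψ ∈ cfClass L θ then (H.relIndex (L ⊓ inertia θ) : ℂ) else 0 := by
  rw [ind_normal_eq h (irr_mem_CF hθ), ip_smul_left, ip_sum_cfClass h.2 hθ hψ]
  split_ifs <;> simp

theorem ip_ind_ind {H L : Subgroup G} (h : H ⊲ L) {θ ψ : G → ℂ} (hθ : θ ∈ Irr H)
    (hψ : ψ ∈ Irr H) :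
    ip L (ind L H θ) (ind L H ψ) =
      if ψ ∈ cfClass L θ then (H.relIndex (L ⊓ inertia θ) : ℂ) else 0 := by
  rw [ip_ind_right h.1 (ind_mem_CF L H θ), ip_ind_irr h hθ hψ]

/-- Inner products of restrictions of characters are natural numbers. -/
theorem ip_res_nat {H L : Subgroup G} (h : H ≤ L) {χ θ : G → ℂ} (hχ : IsChar L χ)
    (hθ : IsChar H θ) : ∃ n : ℕ, ip H χ θ = n := by
  rw [← ip_res_left]; exact (hχ.res h).ip_nat hθ

theorem ip_cfConj_res {H L : Subgroup G} (hL : L ≤ 𝐍(H)) {χ : G → ℂ} (hχ : χ ∈ CF L)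
    (θ : G → ℂ) {g : G} (hg : g ∈ L) : ip H χ (cfConj g θ) = ip H χ θ := by
  conv_lhs => rw [← cfConj_eq_self hχ hg]
  exact ip_cfConj_of_norm (hL hg) χ θ

theorem relIndex_ne_zero' (H L : Subgroup G) : H.relIndex L ≠ 0 :=
  Subgroup.index_ne_zero_of_finite

theorem relIndex_ne_zero_C (H L : Subgroup G) : (H.relIndex L : ℂ) ≠ 0 := by
  exact_mod_cast relIndex_ne_zero' H L

theorem apply_one_of_mem_cfClass {L : Subgroup G} {θ ψ : G → ℂ} (h : ψ ∈ cfClass L θ) :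
    ψ 1 = θ 1 := by
  obtain ⟨g, -, rfl⟩ := mem_cfClass.1 h
  simp

theorem ip_res_eq {H L : Subgroup G} (h : H ⊲ L) {χ θ ψ : G → ℂ} (hχ : χ ∈ Irr L)
    (hθ : θ ∈ constt H (res H χ)) (hψ : ψ ∈ Irr H) :
    ip H χ ψ = if ψ ∈ cfClass L θ then ip H χ θ else 0 := by
  have hθ' := (mem_constt.1 hθ).1
  split_ifs with hc
  · obtain ⟨g, hg, rfl⟩ := mem_cfClass.1 hc
    exact ip_cfConj_res h.2 (irr_mem_CF hχ) θ hg
  · have h1 : χ ∈ constt L (ind L H θ) := (mem_constt_ind_iff h.1 hθ' hχ).2 hθ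
    have h2 := ((irr_isChar hθ').ind h.1).sub_constt h1
    obtain ⟨a, ha⟩ := ip_res_nat h.1 h2 (irr_isChar hψ)
    obtain ⟨b, hb⟩ := ip_res_nat h.1 (irr_isChar hχ) (irr_isChar hψ)
    have h3 := ip_ind_irr h hθ' hψ
    rw [if_neg hc] at h3
    rw [ip_sub_left, h3, hb, zero_sub] at ha
    have h4 : ((a + b : ℕ) : ℂ) = 0 := by push_cast; rw [← ha]; ring
    have h5 : a + b = 0 := by exact_mod_cast h4
    rw [hb, show b = 0 by omega]; simp

end CH1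

open CH1

/-- Clifford's theorem. -/
theorem clifford_res {H L : Subgroup G} (h : H ⊲ L) {χ θ : G → ℂ} (hχ : χ ∈ Irr L)
    (hθ : θ ∈ constt H (res H χ)) : res H χ = ip H χ θ • ∑ ψ ∈ cfClass L θ, ψ := by
  have hθ' := (mem_constt.1 hθ).1
  refine CF_ext_irr (res_mem_CF h.1 (irr_mem_CF hχ))
    (Submodule.smul_mem _ _ (Submodule.sum_mem _ fun ψ hψ =>
      irr_mem_CF (cfClass_subset_Irr h.2 hθ' hψ))) fun ψ hψ => ?_
  rw [ip_res_left, ip_smul_left, ip_sum_cfClass h.2 hθ' hψ, ip_res_eq h hχ hθ hψ]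
  split_ifs <;> simp

theorem constt_res_eq_cfClass {H L : Subgroup G} (h : H ⊲ L) {χ θ : G → ℂ} (hχ : χ ∈ Irr L)
    (hθ : θ ∈ constt H (res H χ)) : constt H (res H χ) = cfClass L θ := by
  have hθ' := mem_constt.1 hθ
  rw [ip_res_left] at hθ'
  ext ψ
  rw [mem_constt, ip_res_left]
  constructor
  · rintro ⟨h1, h2⟩
    rw [ip_res_eq h hχ hθ h1] at h2
    by_contra hc
    exact h2 (if_neg hc)
  · intro hc
    have h1 := cfClass_subset_Irr h.2 hθ'.1 hc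
    refine ⟨h1, ?_⟩
    rw [ip_res_eq h hχ hθ h1, if_pos hc]
    exact hθ'.2

theorem clifford_dg {H L : Subgroup G} (h : H ⊲ L) {χ θ : G → ℂ} (hχ : χ ∈ Irr L)
    (hθ : θ ∈ constt H (res H χ)) :
    ∃ e : ℕ, 0 < e ∧ ip H χ θ = e ∧ dg χ = e * (inertia θ).relIndex L * dg θ := by
  have hθ' := mem_constt.1 hθ
  rw [ip_res_left] at hθ'
  obtain ⟨e, he⟩ := ip_res_nat h.1 (irr_isChar hχ) (irr_isChar hθ'.1)
  refine ⟨e, Nat.pos_of_ne_zero ?_, he, ?_⟩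
  · rintro rfl
    exact hθ'.2 (by simpa using he)
  · have h1 := congrFun (clifford_res h hχ hθ) 1
    rw [res_one, Pi.smul_apply, Finset.sum_apply,
      Finset.sum_congr rfl (fun ψ hψ => apply_one_of_mem_cfClass hψ), Finset.sum_const,
      card_cfClass, he, irr_one_eq hθ'.1] at h1
    apply dg_eq_of
    rw [h1]; push_cast; simp [mul_assoc]

/-- A normal subgroup lies in the kernel of `χ` iff it lies in the kernel of a constituent of a
restriction of `χ` to an intermediate normal subgroup. -/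
theorem le_cfKer_iff_of_constt_res {N H L : Subgroup G} (h : H ⊲ L) (hN : N ≤ H) (hNL : L ≤ 𝐍(N))
    {χ θ : G → ℂ} (hχ : χ ∈ Irr L) (hθ : θ ∈ constt H (res H χ)) :
    N ≤ cfKer χ ↔ N ≤ cfKer θ := by
  rw [← (irr_isChar hχ).le_cfKer_res_iff hN h.1, ((irr_isChar hχ).res h.1).le_cfKer_iff_constt]
  refine ⟨fun h1 => h1 θ hθ, fun h1 ψ hψ => ?_⟩
  rw [constt_res_eq_cfClass h hχ hθ] at hψ
  obtain ⟨g, hg, rfl⟩ := mem_cfClass.1 hψ
  exact (le_cfKer_cfConj_iff (hNL hg)).2 h1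

/-- PF (1.5)(b). -/
theorem nsq_ind_irr {H L : Subgroup G} (h : H ⊲ L) {θ : G → ℂ} (hθ : θ ∈ Irr H) :
    nsq L (ind L H θ) = H.relIndex (L ⊓ inertia θ) := by
  apply nsq_eq_of_ip
  rw [ip_ind_ind h hθ hθ, if_pos (self_mem_cfClass L θ)]
  simp

/-- PF (1.5)(b). -/
theorem ind_mem_Irr_iff {H L : Subgroup G} (h : H ⊲ L) {θ : G → ℂ} (hθ : θ ∈ Irr H) :
    ind L H θ ∈ Irr L ↔ L ⊓ inertia θ ≤ H := by
  rw [((irr_isChar hθ).ind h.1).mem_Irr_iff, nsq_ind_irr h hθ, ← relIndex_eq_one]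
  exact_mod_cast Iff.rfl

/-- PF (1.5)(c). -/
theorem ip_ind_irr_eq_zero {H L : Subgroup G} (h : H ⊲ L) {θ ψ : G → ℂ} (hθ : θ ∈ Irr H)
    (hψ : ψ ∈ Irr H) (hn : ψ ∉ cfClass L θ) : ip L (ind L H θ) (ind L H ψ) = 0 := by
  rw [ip_ind_ind h hθ hψ, if_neg hn]

/-- PF (1.5)(c). -/
theorem ind_eq_ind_iff {H L : Subgroup G} (h : H ⊲ L) {θ ψ : G → ℂ} (hθ : θ ∈ Irr H)
    (hψ : ψ ∈ Irr H) : ind L H θ = ind L H ψ ↔ ψ ∈ cfClass L θ := by
  refine ⟨fun e => ?_, fun hc => (ind_eq_of_mem_cfClass h.2 hc).symm⟩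
  by_contra hc
  have h1 := ip_ind_irr_eq_zero h hθ hψ hc
  rw [← e, ip_ind_ind h hθ hθ, if_pos (self_mem_cfClass L θ)] at h1
  exact relIndex_ne_zero_C _ _ h1

/-- PF (1.5)(c). -/
theorem ip_ind_irr_of_ne {H L : Subgroup G} (h : H ⊲ L) {θ ψ : G → ℂ} (hθ : θ ∈ Irr H)
    (hψ : ψ ∈ Irr H) (hn : ind L H θ ≠ ind L H ψ) : ip L (ind L H θ) (ind L H ψ) = 0 :=
  ip_ind_irr_eq_zero h hθ hψ fun hc => hn ((ind_eq_ind_iff h hθ hψ).2 hc)

/-- PF (1.5)(d) (recall that `ind L H θ` vanishes off `H`). -/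
theorem scaled_ind_eq_sum {H L : Subgroup G} (h : H ⊲ L) {θ : G → ℂ} (hθ : θ ∈ Irr H) :
    (ind L H θ 1 / nsq L (ind L H θ)) • ind L H θ =
      (H.relIndex L : ℂ) • ∑ ξ ∈ cfClass L θ, ξ 1 • ξ := by
  rw [ind_one h.1, nsq_ind_irr h hθ,
    Finset.sum_congr rfl (fun ψ hψ => by rw [apply_one_of_mem_cfClass hψ]), ← Finset.smul_sum,
    ind_normal_eq h (irr_mem_CF hθ), smul_smul, smul_smul]
  congr 1
  have := relIndex_ne_zero_C H (L ⊓ inertia θ)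
  push_cast
  field_simp

/-- Summation over induced characters: `X` is an `L`-invariant set of irreducible characters. -/
theorem sum_image_ind {M : Type*} [AddCommMonoid M] {H L : Subgroup G} (h : H ⊲ L)
    {X : Finset (G → ℂ)} (hX : X ⊆ Irr H) (hXL : ∀ θ ∈ X, ∀ g ∈ L, cfConj g θ ∈ X)
    (F : (G → ℂ) → M) :
    ∑ θ ∈ X, F θ = ∑ φ ∈ X.image (ind L H), ∑ θ ∈ X with ind L H θ = φ, F θ ∧
      ∀ θ ∈ X, X.filter (fun ψ => ind L H ψ = ind L H θ) = cfClass L θ := by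
  refine ⟨(Finset.sum_fiberwise_of_maps_to (fun θ hθ => Finset.mem_image_of_mem _ hθ) F).symm,
    fun θ hθ => ?_⟩
  ext ψ
  rw [Finset.mem_filter]
  constructor
  · rintro ⟨h1, h2⟩
    exact (ind_eq_ind_iff h (hX hθ) (hX h1)).1 h2.symm
  · intro hc
    refine ⟨?_, ind_eq_of_mem_cfClass h.2 hc⟩
    obtain ⟨g, hg, rfl⟩ := mem_cfClass.1 hc
    exact hXL θ hθ g hg

namespace CH1

theorem normal_inertia {H L : Subgroup G} (h : H ⊲ L) {θ : G → ℂ} (hθ : θ ∈ Irr H) :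
    H ⊲ (L ⊓ inertia θ) :=
  ⟨le_inf h.1 (le_inertia (irr_mem_CF hθ)), inf_le_left.trans h.2⟩

/-- Monotonicity of multiplicities. -/
theorem ip_le_of_constt {H T : Subgroup G} (h : H ≤ T) {φ ψ θ : G → ℂ} (hφ : IsChar T φ)
    (hψ : ψ ∈ constt T φ) (hθ : IsChar H θ) {a b : ℕ} (ha : ip H φ θ = a) (hb : ip H ψ θ = b) :
    b ≤ a := by
  obtain ⟨c, hc⟩ := ip_res_nat h (hφ.sub_constt hψ) hθ
  rw [ip_sub_left, ha, hb] at hc
  have : ((a : ℕ) : ℂ) = (b + c : ℕ) := by push_cast; rw [← hc]; ring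
  have : a = b + c := by exact_mod_cast this
  omega

theorem corr_aux {H L : Subgroup G} (h : H ⊲ L) {θ ψ : G → ℂ} (hθ : θ ∈ Irr H)
    (hψ : ψ ∈ constt (L ⊓ inertia θ) (ind (L ⊓ inertia θ) H θ)) :
    ind L (L ⊓ inertia θ) ψ ∈ constt L (ind L H θ) ∧
      ip H (ind L (L ⊓ inertia θ) ψ) θ = ip H ψ θ := by
  set T := L ⊓ inertia θ with hT
  have hn := normal_inertia h hθ
  have hψ' := (mem_constt.1 hψ).1
  have hθψ := (mem_constt_ind_iff hn.1 hθ hψ').1 hψ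
  obtain ⟨f, hf0, hf, hfd⟩ := clifford_dg hn hψ' hθψ
  have h1 : (inertia θ).relIndex T = 1 := relIndex_eq_one.2 inf_le_right
  rw [h1, mul_one] at hfd
  obtain ⟨χ, hχ⟩ := exists_constt_ind (L := L) (inf_le_left : T ≤ L) hψ'
  have hχ' := (mem_constt.1 hχ).1
  have hψχ := (mem_constt_ind_iff inf_le_left hψ' hχ').1 hχ
  obtain ⟨e', he'⟩ := ip_res_nat h.1 (irr_isChar hχ') (irr_isChar hθ)
  have hfe : f ≤ e' := by
    refine ip_le_of_constt hn.1 ((irr_isChar hχ').res inf_le_left) hψχ (irr_isChar hθ) ?_ hf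
    rw [← he', ← ip_res_left, res_res hn.1, ip_res_left]
  have hθχ : θ ∈ constt H (res H χ) := by
    refine mem_constt.2 ⟨hθ, ?_⟩
    rw [ip_res_left, he']
    exact_mod_cast (by omega : e' ≠ 0)
  obtain ⟨e, he0, he, hed⟩ := clifford_dg h hχ' hθχ
  have hee : e' = e := by exact_mod_cast he'.symm.trans he
  subst hee
  have hc := (irr_isChar hψ').ind (inf_le_left : T ≤ L)
  have hd : dg (ind L T ψ) = f * (inertia θ).relIndex L * dg θ := by
    rw [(irr_isChar hψ').dg_ind inf_le_left, hfd, inf_relIndex_left]; ring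
  have hle : dg (ind L T ψ) ≤ dg χ := by
    rw [hd, hed]; gcongr
  have heq : ind L T ψ = χ := hc.eq_of_constt_of_dg hχ hle
  have hef : e' = f := by
    rw [heq, hed] at hd
    have h2 : 0 < (inertia θ).relIndex L * dg θ :=
      Nat.mul_pos (Nat.pos_of_ne_zero (relIndex_ne_zero' _ _)) (irr_dg_pos hθ)
    rw [mul_assoc, mul_assoc] at hd
    exact Nat.eq_of_mul_eq_mul_right h2 hd
  rw [heq]
  exact ⟨(mem_constt_ind_iff h.1 hθ hχ').2 hθχ, by rw [he', hf, hef]⟩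

end CH1

/-- The Clifford correspondence, PF (1.7)(a); `T = L ⊓ inertia θ`. -/
theorem clifford_corr {H L : Subgroup G} (h : H ⊲ L) {θ : G → ℂ} (hθ : θ ∈ Irr H) :
    Set.BijOn (ind L (L ⊓ inertia θ))
        (constt (L ⊓ inertia θ) (ind (L ⊓ inertia θ) H θ) : Set (G → ℂ))
        (constt L (ind L H θ)) ∧
      ∀ ψ ∈ constt (L ⊓ inertia θ) (ind (L ⊓ inertia θ) H θ),
        ip H (ind L (L ⊓ inertia θ) ψ) θ = ip H ψ θ := by
  have hn := normal_inertia h hθ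
  refine ⟨⟨fun ψ hψ => (corr_aux h hθ hψ).1, fun ψ₁ h1 ψ₂ h2 e => ?_, fun χ hχ => ?_⟩,
    fun ψ hψ => (corr_aux h hθ hψ).2⟩
  · by_contra hne
    set T := L ⊓ inertia θ with hT
    obtain ⟨a1, a2⟩ := corr_aux h hθ h1
    have h1' := (mem_constt.1 h1).1
    have h2' := (mem_constt.1 h2).1
    have hχ := (mem_constt.1 a1).1
    set χ := ind L T ψ₁ with hχd
    have b1 : ψ₁ ∈ constt T (res T χ) := by
      refine (mem_constt_ind_iff inf_le_left h1' hχ).1 (mem_constt.2 ⟨hχ, ?_⟩)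
      rw [← hχd, ip_irr_self hχ]; exact one_ne_zero
    have b2 : ψ₂ ∈ constt T (res T χ) := by
      refine (mem_constt_ind_iff inf_le_left h2' hχ).1 (mem_constt.2 ⟨hχ, ?_⟩)
      rw [← e, ip_irr_self hχ]; exact one_ne_zero
    have hc := ((irr_isChar hχ).res (inf_le_left : T ≤ L)).sub_constt b1
    have b3 : ψ₂ ∈ constt T (res T χ - ψ₁) := by
      refine mem_constt.2 ⟨h2', ?_⟩
      rw [ip_sub_left, ip_irr_of_ne h1' h2' hne, sub_zero]
      exact (mem_constt.1 b2).2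
    obtain ⟨f, hf0, hf, -⟩ := clifford_dg hn h2' ((mem_constt_ind_iff hn.1 hθ h2').1 h2)
    have b4 : ip H (res T χ - ψ₁) θ = (0 : ℕ) := by
      rw [ip_sub_left, ← ip_res_left H (res T χ), res_res hn.1, ip_res_left, a2]; simp
    have := ip_le_of_constt hn.1 hc b3 (irr_isChar hθ) b4 hf
    omega
  · set T := L ⊓ inertia θ with hT
    obtain ⟨hχ1, hχ2⟩ := mem_constt.1 hχ
    rw [← ind_ind (inf_le_left : T ≤ L) hn.1, eq_sum_constt (ind_mem_CF T H θ), map_sum,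
      ip_sum_left] at hχ2
    obtain ⟨ψ, hψ, hne⟩ := Finset.exists_ne_zero_of_sum_ne_zero hχ2
    refine ⟨ψ, hψ, ?_⟩
    rw [map_smul, ip_smul_left] at hne
    exact irr_eq_of_ip_ne_zero (mem_constt.1 (corr_aux h hθ hψ).1).1 hχ1 (right_ne_zero_of_mul hne)

/-- A form of the Clifford correspondence: induction from any overgroup of the inertia group. -/
theorem ind_mem_Irr_of_inertia_le {H T L : Subgroup G} (h : H ⊲ L) (hHT : H ≤ T) (hT : T ≤ L)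
    {θ ψ : G → ℂ} (hψ : ψ ∈ Irr T) (hθ : θ ∈ constt H (res H ψ)) (hi : L ⊓ inertia θ ≤ T) :
    ind L T ψ ∈ Irr L := by
  have hθ' := (mem_constt.1 hθ).1
  have hT' : H ⊲ T := ⟨hHT, hT.trans h.2⟩
  have e : T ⊓ inertia θ = L ⊓ inertia θ :=
    le_antisymm (inf_le_inf_right _ hT) (le_inf hi inf_le_right)
  obtain ⟨ψ₀, h0, rfl⟩ := (clifford_corr hT' hθ').1.surjOn
    (Finset.mem_coe.2 ((mem_constt_ind_iff hHT hθ' hψ).2 hθ))
  rw [ind_ind hT inf_le_left, e]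
  rw [e] at h0
  exact (mem_constt.1 (corr_aux h hθ' h0).1).1

theorem irr_dg_le_of_constt_res {C H : Subgroup G} (hC : C ≤ H) {χ θ : G → ℂ} (hχ : χ ∈ Irr H)
    (hθ : θ ∈ constt C (res C χ)) : dg χ ≤ C.relIndex H * dg θ := by
  have hθ' := (mem_constt.1 hθ).1
  rw [← (irr_isChar hθ').dg_ind hC]
  exact ((irr_isChar hθ').ind hC).dg_constt_le ((mem_constt_ind_iff hC hθ' hχ).2 hθ)

end Cfsg.Agent.FT
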