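/-
CH1, part 2: Brauer's permutation lemma, Frobenius groups, Gallagher's theorem.
-/
import Cfsg.Agent.FT.P.CH1_1

set_option autoImplicit false

namespace Cfsg.Agent.FT

open Subgroup Cfsg Cfsg.Agent
open scoped commutatorElement ComplexConjugate

universe u

variable {G : Type u} [Group G] [Finite G]

namespace CH1

omit [Finite G] in
theorem mem_class {H : Subgroup G} {x y : G} :
    y ∈ classSupp {x} H ↔ ∃ g ∈ H, g * x * g⁻¹ = y := by
  constructor
  · rintro ⟨a, rfl, g, hg, rfl⟩; exact ⟨g, hg, rfl⟩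
  · rintro ⟨g, hg, rfl⟩; exact ⟨x, rfl, g, hg, rfl⟩

omit [Finite G] in
theorem self_mem_class (H : Subgroup G) (x : G) : x ∈ classSupp {x} H :=
  mem_class.2 ⟨1, H.one_mem, by simp⟩

omit [Finite G] in
theorem class_eq_of_mem {H : Subgroup G} {x y : G} (h : y ∈ classSupp {x} H) :
    classSupp {y} H = classSupp {x} H := by
  obtain ⟨g, hg, rfl⟩ := mem_class.1 h
  ext z
  rw [mem_class, mem_class]
  constructor
  · rintro ⟨k, hk, rfl⟩; exact ⟨k * g, H.mul_mem hk hg, by group⟩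
  · rintro ⟨k, hk, rfl⟩; exact ⟨k * g⁻¹, H.mul_mem hk (H.inv_mem hg), by group⟩

theorem sum_fs_conj_class {M : Type*} [AddCommMonoid M] (H : Subgroup G) (x : G) (f : G → M) :
    ∑ g ∈ fs (H : Set G), f (g * x * g⁻¹) =
      Nat.card (H ⊓ 𝐂[x] : Subgroup G) • ∑ y ∈ fs (classSupp {x} H), f y := by
  classical
  rw [← Finset.sum_fiberwise_of_maps_to (g := fun g => g * x * g⁻¹)
    (t := fs (classSupp {x} H))
    (fun g hg => mem_fs.2 (mem_class.2 ⟨g, mem_fs.1 hg, rfl⟩)), Finset.smul_sum]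
  refine Finset.sum_congr rfl fun y hy => ?_
  obtain ⟨g, hg, rfl⟩ := mem_class.1 (mem_fs.1 hy)
  rw [Finset.sum_congr rfl fun k hk => by rw [(Finset.mem_filter.1 hk).2], Finset.sum_const,
    ← card_fs_coe]
  congr 1
  symm
  refine Finset.card_nbij (fun k => g * k) (fun k hk => ?_) (fun _ _ _ _ h => mul_left_cancel h)
    fun k hk => ?_
  · simp only [mem_fs, SetLike.mem_coe, mem_inf,
      mem_centralizer_singleton_iff] at hk
    simp only [Finset.mem_filter, mem_fs, SetLike.mem_coe]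
    refine ⟨H.mul_mem hg hk.1, ?_⟩
    calc g * k * x * (g * k)⁻¹ = g * (k * x) * k⁻¹ * g⁻¹ := by group
      _ = g * x * g⁻¹ := by rw [hk.2]; group
  · simp only [Finset.mem_filter, mem_fs, SetLike.mem_coe] at hk
    refine ⟨g⁻¹ * k, ?_, by simp⟩
    simp only [mem_fs, SetLike.mem_coe, mem_inf, mem_centralizer_singleton_iff]
    refine ⟨H.mul_mem (H.inv_mem hg) hk.1, ?_⟩
    calc g⁻¹ * k * x = g⁻¹ * (k * x * k⁻¹) * k := by group
      _ = x * (g⁻¹ * k) := by rw [hk.2]; group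

theorem card_cent_mul_card_class (H : Subgroup G) (x : G) :
    Nat.card (H ⊓ 𝐂[x] : Subgroup G) * (fs (classSupp {x} H)).card = Nat.card H := by
  have h1 := sum_fs_conj_class H x (fun _ => (1 : ℕ))
  rw [sum_fs_const, smul_eq_mul, smul_eq_mul, mul_one, ← Finset.card_eq_sum_ones] at h1
  exact h1.symm

end CH1

open CH1

/-- Brauer's permutation lemma for the action of one element normalizing `H`. -/
theorem brauer_perm {H : Subgroup G} {g : G} (hg : g ∈ 𝐍(H)) :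
    {χ : G → ℂ | χ ∈ Irr H ∧ g ∈ inertia χ}.ncard =
      {C : Set G | (∃ x ∈ H, C = classSupp {x} H) ∧ ∀ y ∈ C, g * y * g⁻¹ ∈ C}.ncard := by
  classical
  have hgH : ∀ x ∈ H, g * x * g⁻¹ ∈ H := fun x hx => (mem_normalizer_iff.1 hg x).1 hx
  let T : Finset G := (fs (H : Set G)).filter fun x => g * x * g⁻¹ ∈ classSupp {x} H
  have e1 : {χ : G → ℂ | χ ∈ Irr H ∧ g ∈ inertia χ} =
      ((Irr H).filter (fun χ => g ∈ inertia χ) : Finset (G → ℂ)) := by
    ext χ; simp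
  have e2 : {C : Set G | (∃ x ∈ H, C = classSupp {x} H) ∧ ∀ y ∈ C, g * y * g⁻¹ ∈ C} =
      (T.image (fun x => classSupp {x} H) : Finset (Set G)) := by
    ext C
    simp only [Set.mem_ofPred_eq, Finset.coe_image, Set.mem_image, T,
      Finset.mem_filter, mem_fs, SetLike.mem_coe]
    constructor
    · rintro ⟨⟨x, hx, rfl⟩, h⟩
      exact ⟨x, ⟨hx, h x (self_mem_class H x)⟩, rfl⟩
    · rintro ⟨x, ⟨hx, h⟩, rfl⟩
      refine ⟨⟨x, hx, rfl⟩, fun y hy => ?_⟩
      obtain ⟨k, hk, rfl⟩ := mem_class.1 hy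
      have := conj_mem_classSupp h (hgH k hk)
      convert this using 1
      group
  rw [e1, e2, Set.ncard_coe_finset, Set.ncard_coe_finset]
  have s1 : (((Irr H).filter (fun χ => g ∈ inertia χ)).card : ℂ) =
      ∑ χ ∈ Irr H, ip H (cfConj g⁻¹ χ) χ := by
    rw [Finset.card_filter]
    push_cast
    refine Finset.sum_congr rfl fun χ hχ => ?_
    rw [ip_irr (cfConj_mem_Irr_of_norm hχ (inv_mem hg)) hχ]
    simp only [← mem_inertia, inv_mem_iff]
  have s2 : ∑ χ ∈ Irr H, ip H (cfConj g⁻¹ χ) χ =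
      (Nat.card H : ℂ)⁻¹ * ∑ x ∈ T, (Nat.card (H ⊓ 𝐂[x] : Subgroup G) : ℂ) := by
    simp only [ip_def, ← Finset.mul_sum]
    rw [Finset.sum_comm, Finset.sum_filter]
    congr 1
    refine Finset.sum_congr rfl fun x hx => ?_
    have hx := mem_fs.1 hx
    simp only [cfConj_apply, inv_inv]
    rw [sum_irr_mul_conj (hgH x hx) hx]
    simp only [mem_class]
  have s3 : ∑ x ∈ T, (Nat.card (H ⊓ 𝐂[x] : Subgroup G) : ℂ) =
      ∑ _C ∈ T.image (fun x => classSupp {x} H), (Nat.card H : ℂ) := by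
    rw [← Finset.sum_fiberwise_of_maps_to (g := fun x => classSupp {x} H)
      (fun x hx => Finset.mem_image_of_mem (fun x => classSupp {x} H) hx)]
    refine Finset.sum_congr rfl fun C hC => ?_
    obtain ⟨x, hx, rfl⟩ := Finset.mem_image.1 hC
    obtain ⟨hx1, hx2⟩ := Finset.mem_filter.1 hx
    have hx1 := mem_fs.1 hx1
    have e3 : T.filter (fun y => classSupp {y} H = classSupp {x} H) = fs (classSupp {x} H) := by
      ext y
      simp only [T, Finset.mem_filter, mem_fs, SetLike.mem_coe]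
      constructor
      · rintro ⟨-, h⟩; rw [← h]; exact self_mem_class H y
      · intro h
        have h' := class_eq_of_mem h
        obtain ⟨k, hk, rfl⟩ := mem_class.1 h
        refine ⟨⟨H.mul_mem (H.mul_mem hk hx1) (H.inv_mem hk), ?_⟩, h'⟩
        rw [h']
        have := conj_mem_classSupp hx2 (hgH k hk)
        convert this using 1
        group
    rw [e3]
    have h0 : (fs (classSupp {x} H)).card ≠ 0 :=
      Finset.card_ne_zero.2 ⟨x, mem_fs.2 (self_mem_class H x)⟩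
    have h0' : ((fs (classSupp {x} H)).card : ℂ) ≠ 0 := by exact_mod_cast h0
    have e4 : ∀ y ∈ fs (classSupp {x} H), (Nat.card (H ⊓ 𝐂[y] : Subgroup G) : ℂ) =
        Nat.card H / (fs (classSupp {x} H)).card := by
      intro y hy
      rw [eq_div_iff h0', ← class_eq_of_mem (mem_fs.1 hy)]
      exact_mod_cast card_cent_mul_card_class H y
    rw [Finset.sum_congr rfl e4, Finset.sum_const, nsmul_eq_mul]
    field_simp
  rw [s2, s3, Finset.sum_const, nsmul_eq_mul] at s1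
  have := card_ne_zero_C H
  field_simp at s1
  exact_mod_cast s1

/-- A fixed-point-free element fixes no nonprincipal irreducible character. -/
theorem eq_cf1_of_mem_inertia {H : Subgroup G} {g : G} (hg : g ∈ 𝐍(H)) (h : H ⊓ 𝐂[g] = ⊥)
    {θ : G → ℂ} (hθ : θ ∈ Irr H) (hi : g ∈ inertia θ) : θ = cf1 H := by
  have hgH : ∀ x ∈ H, g * x * g⁻¹ ∈ H := fun x hx => (mem_normalizer_iff.1 hg x).1 hx
  have hfix : ∀ x ∈ H, g * x * g⁻¹ = x → x = 1 := fun x hx e => by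
    rw [← mem_bot, ← h]
    refine mem_inf.2 ⟨hx, mem_centralizer_singleton_iff.2 ?_⟩
    calc x * g = g * x * g⁻¹ * g := by rw [e]
      _ = g * x := by group
  let f : H → H := fun x => ⟨g * x * g⁻¹ * (x : G)⁻¹, H.mul_mem (hgH x x.2) (H.inv_mem x.2)⟩
  have hf : Function.Injective f := by
    intro a b e
    have e : g * a * g⁻¹ * (a : G)⁻¹ = g * b * g⁻¹ * (b : G)⁻¹ := congrArg Subtype.val e
    have := hfix ((b : G)⁻¹ * a) (H.mul_mem (H.inv_mem b.2) a.2) (by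
      calc g * ((b : G)⁻¹ * a) * g⁻¹
          = (g * b * g⁻¹)⁻¹ * (g * a * g⁻¹ * (a : G)⁻¹) * a := by group
        _ = (b : G)⁻¹ * a := by rw [e]; group)
    exact Subtype.ext (inv_mul_eq_one.1 this).symm
  have hs := Finite.surjective_of_injective hf
  have e2 : {C : Set G | (∃ x ∈ H, C = classSupp {x} H) ∧ ∀ y ∈ C, g * y * g⁻¹ ∈ C} =
      {classSupp {1} H} := by
    ext C
    simp only [Set.mem_ofPred_eq, Set.mem_singleton_iff]
    constructor
    · rintro ⟨⟨x, hx, rfl⟩, hC⟩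
      obtain ⟨k, hk, e⟩ := mem_class.1 (hC x (self_mem_class H x))
      obtain ⟨a, ha⟩ := hs ⟨k, hk⟩
      have ha : g * a * g⁻¹ * (a : G)⁻¹ = k := congrArg Subtype.val ha
      have := hfix ((a : G)⁻¹ * x * a) (H.mul_mem (H.mul_mem (H.inv_mem a.2) hx) a.2) (by
        calc g * ((a : G)⁻¹ * x * a) * g⁻¹
            = (g * a * g⁻¹)⁻¹ * (g * x * g⁻¹) * (g * a * g⁻¹) := by group
          _ = (a : G)⁻¹ * x * a := by rw [← e, ← ha]; group)
      have hx1 : x = 1 := by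
        calc x = a * ((a : G)⁻¹ * x * a) * (a : G)⁻¹ := by group
          _ = 1 := by rw [this]; group
      rw [hx1]
    · rintro rfl
      refine ⟨⟨1, H.one_mem, rfl⟩, fun y hy => ?_⟩
      obtain ⟨k, hk, rfl⟩ := mem_class.1 hy
      exact mem_class.2 ⟨1, H.one_mem, by group⟩
  have := brauer_perm hg
  rw [e2, Set.ncard_singleton, Set.ncard_eq_one] at this
  obtain ⟨a, ha⟩ := this
  have h1 : θ ∈ {χ : G → ℂ | χ ∈ Irr H ∧ g ∈ inertia χ} := ⟨hθ, hi⟩
  have h2 : cf1 H ∈ {χ : G → ℂ | χ ∈ Irr H ∧ g ∈ inertia χ} :=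
    ⟨cf1_mem_Irr H, norm_le_inertia_cf1 H hg⟩
  rw [ha] at h1 h2
  exact h1.trans h2.symm

/-- The same modulo a normal subgroup. -/
theorem eq_cf1_of_mem_inertia_mod {H N : Subgroup G} (hN : N ⊲ H) {g : G} (hg : g ∈ 𝐍(H))
    (hg' : g ∈ 𝐍(N)) (h : ∀ x ∈ H, ⁅g, x⁆ ∈ N → x ∈ N)
    {θ : G → ℂ} (hθ : θ ∈ irrKer H N) (hi : g ∈ inertia θ) : θ = cf1 H := by
  set Y : Subgroup G := 𝐍(H) ⊓ 𝐍(N) with hY
  have hHY : H ≤ Y := le_inf le_normalizer hN.2
  haveI := H1.normal_subgroupOf_of_le (inf_le_right : Y ≤ 𝐍(N))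
  have hP := pullPair_bar hN.1 hHY
  have hP0 := pullPair_bar_bot (hN.1.trans hHY)
  obtain ⟨ψ, hψ, rfl⟩ := hP.exists_pull_irr hP0 hθ
  let y : Y := ⟨g, hg, hg'⟩
  have hn : H1.qmk Y N y ∈ 𝐍(H1.bar Y N H) := by
    haveI := H1.bar_normal (N := N) (inf_le_left : Y ≤ 𝐍(H))
    rw [normalizer_eq_top]; exact mem_top _
  have h1 := (hP.mem_inertia_pull_iff (irr_mem_CF hψ) hn).1 hi
  rw [eq_cf1_of_mem_inertia hn ?_ hψ h1, hP.pull_cf1]
  rw [eq_bot_iff]
  intro z hz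
  obtain ⟨hz1, hz2⟩ := mem_inf.1 hz
  obtain ⟨x, hx, rfl⟩ := H1.mem_bar.1 hz1
  rw [mem_bot, H1.qmk_eq_one_iff]
  apply h x hx
  have : (⁅y, x⁆ : Y) = (⁅g, (x : G)⁆ : G) := rfl
  rw [← this, ← H1.qmk_eq_one_iff, map_commutatorElement, commutatorElement_eq_one_iff_mul_comm]
  exact (mem_centralizer_singleton_iff.1 hz2).symm

theorem FrobKerMod.inertia_le {L K N : Subgroup G} (h : FrobKerMod L K N) {θ : G → ℂ}
    (hθ : θ ∈ irrKer K N) (h1 : θ ≠ cf1 K) : L ⊓ inertia θ ≤ K := by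
  intro g hg
  obtain ⟨hg1, hg2⟩ := mem_inf.1 hg
  by_contra hgK
  refine h1 (eq_cf1_of_mem_inertia_mod ⟨h.ltN.le, h.ltK.le.trans h.normN⟩ (h.normK hg1)
    (h.normN hg1) (fun x hx hc => ?_) hθ hg2)
  by_contra hxN
  exact hgK (h.cent x hx hxN g hg1 hc)

theorem FrobKerMod.ind_mem_Irr {L K N : Subgroup G} (h : FrobKerMod L K N) {θ : G → ℂ}
    (hθ : θ ∈ irrKer K N) (h1 : θ ≠ cf1 K) : ind L K θ ∈ Irr L :=
  (ind_mem_Irr_iff ⟨h.ltK.le, h.normK⟩ (mem_irrKer.1 hθ).1).2 (h.inertia_le hθ h1)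

theorem FrobKerMod.exists_ind {L K N : Subgroup G} (h : FrobKerMod L K N) {χ : G → ℂ}
    (hχ : χ ∈ irrKerD L K N) : ∃ θ ∈ irrKer K N, θ ≠ cf1 K ∧ ind L K θ = χ := by
  obtain ⟨h1, h2, h3⟩ := mem_irrKerD.1 hχ
  have hn : K ⊲ L := ⟨h.ltK.le, h.normK⟩
  obtain ⟨θ, hθ⟩ := exists_constt_res h.ltK.le h1
  have hθ' := (mem_constt.1 hθ).1
  have hk : θ ∈ irrKer K N :=
    mem_irrKer.2 ⟨hθ', (le_cfKer_iff_of_constt_res hn h.ltN.le h.normN h1 hθ).1 h2⟩
  have hne : θ ≠ cf1 K := by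
    rintro rfl
    exact h3 ((le_cfKer_iff_of_constt_res hn le_rfl h.normK h1 hθ).2 (le_cfKer_cf1 K))
  exact ⟨θ, hk, hne, irr_eq_of_ip_ne_zero (h.ind_mem_Irr hk hne) h1
    (mem_constt.1 ((mem_constt_ind_iff hn.1 hθ' h1).2 hθ)).2⟩

namespace CH1

/-- The regular character of `L / N`. -/
theorem ind_cf1_eq_sum {N L : Subgroup G} (h : N ⊲ L) :
    ind L N (cf1 N) = ∑ β ∈ irrKer L N, β 1 • β := by
  classical
  refine CF_ext_irr (ind_mem_CF _ _ _) (Submodule.sum_mem _ fun β hβ =>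
    Submodule.smul_mem _ _ (irr_mem_CF (irrKer_subset _ _ hβ))) fun χ hχ => ?_
  rw [ip_ind_left h.1 _ (irr_mem_CF hχ), ip_sum_left]
  by_cases hk : N ≤ cfKer χ
  · rw [Finset.sum_eq_single χ, ip_smul_left, ip_irr_self hχ, mul_one, ← ip_res_right,
      res_eq_smul_cf1 hk, ip_smul_right, ip_cf1_cf1, mul_one, irr_one_eq hχ]
    · simp
    · intro β hβ hne
      rw [ip_smul_left, ip_irr_of_ne (irrKer_subset _ _ hβ) hχ hne, mul_zero]
    · intro hn; exact (hn (mem_irrKer.2 ⟨hχ, hk⟩)).elim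
  · rw [Finset.sum_eq_zero]
    · by_contra hne
      refine hk ((le_cfKer_iff_of_constt_res h le_rfl h.2 hχ (θ := cf1 N)
        (mem_constt.2 ⟨cf1_mem_Irr N, ?_⟩)).2 (le_cfKer_cf1 N))
      rw [ip_res_left]
      exact fun e => hne (ip_eq_zero_symm e)
    · intro β hβ
      rw [ip_smul_left, ip_irr_of_ne (irrKer_subset _ _ hβ) hχ, mul_zero]
      rintro rfl
      exact hk (mem_irrKer.1 hβ).2

theorem ind_res_eq_sum {N L : Subgroup G} (h : N ⊲ L) {χ : G → ℂ} (hχ : χ ∈ CF L) :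
    ind L N (res N χ) = ∑ β ∈ irrKer L N, β 1 • (β * χ) := by
  rw [ind_res N hχ, ind_cf1_eq_sum h, Finset.sum_mul]
  simp only [smul_mul_assoc]

theorem gallagher_ip {N L : Subgroup G} (h : N ⊲ L) {χ : G → ℂ} (hχ : IsChar L χ)
    (hθ : res N χ ∈ Irr N) {β γ : G → ℂ} (hβ : β ∈ irrKer L N) (hγ : γ ∈ irrKer L N) :
    ip L (β * χ) (γ * χ) = if β = γ then 1 else 0 := by
  classical
  have hc : ∀ β ∈ irrKer L N, IsChar L (β * χ) := fun β hβ =>
    (irr_isChar (irrKer_subset _ _ hβ)).mul hχ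
  have hex : ∀ β γ : G → ℂ, ∃ n : ℕ, β ∈ irrKer L N → γ ∈ irrKer L N →
      ip L (β * χ) (γ * χ) = n := by
    intro β γ
    by_cases h1 : β ∈ irrKer L N
    · by_cases h2 : γ ∈ irrKer L N
      · obtain ⟨n, hn⟩ := (hc β h1).ip_nat (hc γ h2)
        exact ⟨n, fun _ _ => hn⟩
      · exact ⟨0, fun _ h => (h2 h).elim⟩
    · exact ⟨0, fun h => (h1 h).elim⟩
  choose n hn using hex
  have hχ1 : χ 1 ≠ 0 := by simpa using irr_one_ne_zero hθ
  have hpos : ∀ β ∈ irrKer L N, 1 ≤ n β β := by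
    intro β hβ
    by_contra hlt
    have h0 : n β β = 0 := by omega
    have h1 := hn β β hβ hβ
    rw [h0, ip_self] at h1
    have h2 := eq_zero_of_nsq (hc β hβ).mem_CF (by exact_mod_cast h1)
    have h3 := congrFun h2 1
    simp only [Pi.mul_apply, Pi.zero_apply, mul_eq_zero] at h3
    exact h3.elim (irr_one_ne_zero (irrKer_subset _ _ hβ)) hχ1
  have h1 := ip_ind_ind h hθ hθ
  rw [if_pos (self_mem_cfClass _ _), inf_eq_left.2 (le_inertia_res h.2 hχ.mem_CF),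
    ← sum_irrKer_dg_sq h, ind_res_eq_sum h hχ.mem_CF, ip_sum_left] at h1
  have h2 : ∑ β ∈ irrKer L N, ∑ γ ∈ irrKer L N, dg β * dg γ * n β γ =
      ∑ β ∈ irrKer L N, dg β ^ 2 := by
    have : ((∑ β ∈ irrKer L N, ∑ γ ∈ irrKer L N, dg β * dg γ * n β γ : ℕ) : ℂ) =
        (∑ β ∈ irrKer L N, dg β ^ 2 : ℕ) := by
      rw [← h1]
      push_cast
      refine Finset.sum_congr rfl fun β hβ => ?_
      rw [ip_sum_right]
      refine Finset.sum_congr rfl fun γ hγ => ?_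
      rw [ip_smul_left, ip_smul_right, hn β γ hβ hγ, irr_one_eq (irrKer_subset _ _ hβ),
        irr_one_eq (irrKer_subset _ _ hγ)]
      simp [mul_assoc]
    exact_mod_cast this
  have h3 : ∀ β ∈ irrKer L N, dg β ^ 2 ≤ dg β * dg β * n β β := fun β hβ => by
    rw [sq]; exact Nat.le_mul_of_pos_right _ (hpos β hβ)
  have h4 : ∀ β ∈ irrKer L N, dg β ^ 2 ≤ ∑ γ ∈ irrKer L N, dg β * dg γ * n β γ := fun β hβ =>
    (h3 β hβ).trans (Finset.single_le_sum (f := fun γ => dg β * dg γ * n β γ)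
      (fun _ _ => Nat.zero_le _) hβ)
  have h5 := (Finset.sum_eq_sum_iff_of_le h4).1 h2.symm β hβ
  rw [← Finset.add_sum_erase _ _ hβ] at h5
  have h6 := h3 β hβ
  have hb := irr_dg_pos (irrKer_subset _ _ hβ)
  rw [hn β γ hβ hγ]
  split_ifs with e
  · subst e
    have h7 : dg β * dg β * n β β = dg β * dg β * 1 := by rw [mul_one]; rw [sq] at h5 h6; omega
    exact_mod_cast Nat.eq_of_mul_eq_mul_left (Nat.mul_pos hb hb) h7
  · have h7 : ∑ γ ∈ (irrKer L N).erase β, dg β * dg γ * n β γ = 0 := by omega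
    have h8 := Finset.sum_eq_zero_iff.1 h7 γ (Finset.mem_erase.2 ⟨Ne.symm e, hγ⟩)
    have hg := irr_dg_pos (irrKer_subset _ _ hγ)
    exact_mod_cast (Nat.mul_eq_zero.1 h8).resolve_left (Nat.mul_pos hb hg).ne'

end CH1

/-- Gallagher's theorem. -/
theorem gallagher {N L : Subgroup G} (h : N ⊲ L) {χ : G → ℂ} (hχ : IsChar L χ)
    (hθ : res N χ ∈ Irr N) :
    Set.BijOn (fun β => β * χ) (irrKer L N : Set (G → ℂ)) (constt L (ind L N (res N χ))) ∧
      ind L N (res N χ) = ∑ β ∈ irrKer L N, β 1 • (β * χ) := by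
  have hi : ∀ β ∈ irrKer L N, β * χ ∈ Irr L := fun β hβ => by
    rw [((irr_isChar (irrKer_subset _ _ hβ)).mul hχ).mem_Irr_iff, nsq_eq_one_iff,
      gallagher_ip h hχ hθ hβ hβ, if_pos rfl]
  refine ⟨⟨fun β hβ => ?_, fun β hβ γ hγ e => ?_, fun ψ hψ => ?_⟩, ind_res_eq_sum h hχ.mem_CF⟩
  · refine mem_constt.2 ⟨hi β hβ, ?_⟩
    rw [ind_res_eq_sum h hχ.mem_CF, ip_sum_left, Finset.sum_eq_single β]
    · rw [ip_smul_left, ip_irr_self (hi β hβ), mul_one]
      exact irr_one_ne_zero (irrKer_subset _ _ hβ)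
    · intro γ hγ hne
      rw [ip_smul_left, gallagher_ip h hχ hθ hγ hβ, if_neg hne, mul_zero]
    · intro hn; exact (hn hβ).elim
  · by_contra hne
    have h1 := gallagher_ip h hχ hθ hβ hγ
    have e : β * χ = γ * χ := e
    rw [if_neg hne, e, ip_irr_self (hi γ hγ)] at h1
    exact one_ne_zero h1
  · obtain ⟨h1, h2⟩ := mem_constt.1 hψ
    rw [ind_res_eq_sum h hχ.mem_CF, ip_sum_left] at h2
    obtain ⟨β, hβ, hne⟩ := Finset.exists_ne_zero_of_sum_ne_zero h2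
    rw [ip_smul_left] at hne
    exact ⟨β, hβ, irr_eq_of_ip_ne_zero (hi β hβ) h1 (right_ne_zero_of_mul hne)⟩

end Cfsg.Agent.FT
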