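/-
CH1, part 3: extension of invariant characters (cyclic quotient, coprime quotient).
-/
import Cfsg.Agent.FT.P.CH1_2

set_option autoImplicit false

namespace Cfsg.Agent.FT

open Subgroup Cfsg Cfsg.Agent
open scoped commutatorElement ComplexConjugate

universe u

namespace CH1

section groups

variable {Γ X C : Type*} [Group Γ] [Group X] [CommGroup C]

theorem section_of_subgroup (π : Γ →* X) (Δ : Subgroup Γ) (h1 : ∀ g, ∃ γ ∈ Δ, π γ = g)
    (h2 : ∀ γ ∈ Δ, π γ = 1 → γ = 1) : ∃ σ : X →* Γ, ∀ γ ∈ Δ, σ (π γ) = γ := by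
  have hb : Function.Bijective (π.comp Δ.subtype) := by
    refine ⟨(injective_iff_map_eq_one _).2 fun γ h => Subtype.ext (h2 γ γ.2 h), fun g => ?_⟩
    obtain ⟨γ, hγ, rfl⟩ := h1 g
    exact ⟨⟨γ, hγ⟩, rfl⟩
  let e := MulEquiv.ofBijective _ hb
  refine ⟨Δ.subtype.comp e.symm.toMonoidHom, fun γ hγ => ?_⟩
  exact congrArg Subtype.val (e.symm_apply_apply ⟨γ, hγ⟩)

open scoped IsMulCommutative in
theorem mul_pow_index {Q : Type*} [Group Q] (Z : Subgroup Q) [Z.FiniteIndex]
    (hZ : Z ≤ center Q) (a b : Q) : (a * b) ^ Z.index = a ^ Z.index * b ^ Z.index := by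
  haveI : IsMulCommutative Z :=
    ⟨⟨fun a b => Subtype.ext ((mem_center_iff.1 (hZ a.2) b).symm)⟩⟩
  have key : ∀ g : Q, ((MonoidHom.transfer (MonoidHom.id Z) g : Z) : Q) = g ^ Z.index := by
    intro g
    rw [MonoidHom.transfer_eq_pow (MonoidHom.id Z) g fun k g₀ hk => by
      have := mem_center_iff.1 (hZ hk) g₀
      rw [← mul_left_inj g₀, ← this]; group]
    rfl
  rw [← key, ← key, ← key, map_mul, coe_mul]

/-- The data of a central extension `Γ` of `X` by an image of `C`, split over `N`. -/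
structure Ext (π : Γ →* X) (N : Subgroup X) (s : N →* Γ) (j : C →* Γ) : Prop where
  surj : Function.Surjective π
  sec : ∀ x, π (s x) = x
  normal : s.range.Normal
  comm : ∀ c γ, γ * j c = j c * γ
  πj : ∀ c, π (j c) = 1
  ker : ∀ γ, π γ = 1 → ∃ c, j c = γ

variable {π : Γ →* X} {N : Subgroup X} {s : N →* Γ} {j : C →* Γ}

theorem Ext.eq_one (h : Ext π N s j) {γ : Γ} (h1 : γ ∈ s.range) (h2 : π γ = 1) : γ = 1 := by
  obtain ⟨x, rfl⟩ := h1
  rw [h.sec] at h2
  rw [show x = 1 from Subtype.ext h2, map_one]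

theorem Ext.decomp (h : Ext π N s j) {γ : Γ} (h1 : π γ ∈ N) : ∃ c x, γ = j c * s x := by
  obtain ⟨c, hc⟩ := h.ker (γ * (s ⟨_, h1⟩)⁻¹) (by rw [map_mul, map_inv, h.sec]; simp)
  exact ⟨c, ⟨_, h1⟩, by rw [hc]; simp⟩

theorem Ext.exists_section_cyc (h : Ext π N s j) [N.Normal] [N.FiniteIndex] {t : X}
    (ht : zpowers t ⊔ N = ⊤) (hroot : ∀ n : ℕ, n ≠ 0 → ∀ c : C, ∃ d, d ^ n = c) :
    ∃ σ : X →* Γ, ∀ x : N, σ x = s x := by
  haveI := h.normal
  set m := orderOf (QuotientGroup.mk' N t) with hm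
  have hm0 : m ≠ 0 := (orderOf_pos _).ne'
  obtain ⟨T₀, rfl⟩ := h.surj t
  obtain ⟨c, x, hc⟩ := h.decomp (γ := T₀ ^ m) (by
    rw [map_pow, ← QuotientGroup.eq_one_iff, ← QuotientGroup.mk'_apply, map_pow, hm,
      pow_orderOf_eq_one])
  obtain ⟨d, rfl⟩ := hroot m hm0 c
  set T := T₀ * j d⁻¹ with hT
  have hπT : π T = π T₀ := by rw [hT, map_mul, h.πj, mul_one]
  have hTm : T ^ m ∈ s.range := by
    have hcm : Commute T₀ (j d⁻¹) := h.comm _ _
    rw [hT, hcm.mul_pow, hc, ← map_pow, ← h.comm, mul_assoc, ← map_mul, ← mul_pow,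
      mul_inv_cancel, one_pow, map_one, mul_one]
    exact ⟨x, rfl⟩
  refine (section_of_subgroup π (zpowers T ⊔ s.range) (fun g => ?_) (fun γ hγ h1 => ?_)).imp
    fun σ hσ x => ?_
  rotate_right
  · rw [← h.sec x]
    exact hσ _ (mem_sup_right ⟨x, rfl⟩)
  · obtain ⟨y, ⟨i, rfl⟩, z, hz, rfl⟩ := mem_sup_of_normal_right.1 (ht ▸ mem_top g)
    exact ⟨T ^ i * s ⟨z, hz⟩, mul_mem (mem_sup_left ⟨i, rfl⟩) (mem_sup_right ⟨_, rfl⟩), by
      rw [map_mul, map_zpow, hπT, h.sec]⟩
  · obtain ⟨y, ⟨i, rfl⟩, z, hz, rfl⟩ := mem_sup_of_normal_right.1 hγ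
    refine h.eq_one (mul_mem ?_ hz) h1
    obtain ⟨x, rfl⟩ := hz
    have h2 : (QuotientGroup.mk' N (π T₀)) ^ i = 1 := by
      rw [map_mul, map_zpow, hπT, h.sec] at h1
      rw [← map_zpow, eq_inv_of_mul_eq_one_left h1, QuotientGroup.mk'_apply,
        QuotientGroup.eq_one_iff]
      exact inv_mem x.2
    obtain ⟨k, rfl⟩ := orderOf_dvd_iff_zpow_eq_one.2 h2
    show T ^ ((m : ℤ) * k) ∈ s.range
    rw [zpow_mul, zpow_natCast]
    exact zpow_mem hTm k

theorem Ext.exists_section_cop (h : Ext π N s j) [N.Normal] [N.FiniteIndex] (D : Γ →* C) {e : ℕ}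
    (hD : ∀ c, D (j c) = c ^ e) (hDs : ∀ x, D (s x) = 1) (hco : e.Coprime N.index) :
    ∃ σ : X →* Γ, ∀ x : N, σ x = s x := by
  haveI := h.normal
  let q := QuotientGroup.mk' s.range
  let Z := (q.comp j).range
  have hq : ∀ γ, q γ = 1 ↔ γ ∈ s.range := fun γ => QuotientGroup.eq_one_iff γ
  have hZ : Z ≤ center _ := by
    rintro _ ⟨c, rfl⟩
    rw [mem_center_iff]
    intro g
    obtain ⟨γ, rfl⟩ := QuotientGroup.mk'_surjective s.range g
    show q γ * q (j c) = q (j c) * q γ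
    rw [← map_mul, ← map_mul, h.comm]
  have hc : Z.comap q = N.comap π := by
    ext γ
    rw [mem_comap, mem_comap]
    constructor
    · rintro ⟨c, hc⟩
      have h1 : (j c)⁻¹ * γ ∈ s.range := by
        rw [← hq, map_mul, map_inv, ← hc]; exact inv_mul_cancel _
      obtain ⟨x, hx⟩ := h1
      have h2 := congrArg π hx
      rw [h.sec, map_mul, map_inv, h.πj, inv_one, one_mul] at h2
      exact h2 ▸ x.2
    · intro h1
      obtain ⟨c, x, rfl⟩ := h.decomp h1
      refine ⟨c, ?_⟩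
      rw [map_mul, (hq (s x)).2 ⟨x, rfl⟩, mul_one]; rfl
  have hi : Z.index = N.index := by
    rw [← index_comap_of_surjective Z (QuotientGroup.mk'_surjective s.range), hc,
      index_comap_of_surjective N h.surj]
  haveI : Z.FiniteIndex := ⟨hi ▸ FiniteIndex.index_ne_zero⟩
  set m := N.index with hm
  have hmul : ∀ a b : Γ, q (a * b) ^ m = q a ^ m * q b ^ m := fun a b => by
    rw [map_mul, ← hi, mul_pow_index Z hZ]
  let Δ : Subgroup Γ :=
    { carrier := {γ | q γ ^ m = 1 ∧ D γ = 1}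
      mul_mem' := fun {a b} ha hb => ⟨by rw [hmul, ha.1, hb.1, mul_one], by
        rw [map_mul, ha.2, hb.2, mul_one]⟩
      one_mem' := ⟨by simp, map_one _⟩
      inv_mem' := fun {a} ha => ⟨by rw [map_inv, inv_pow, ha.1, inv_one], by
        rw [map_inv, ha.2, inv_one]⟩ }
  refine (section_of_subgroup π Δ (fun g => ?_) (fun γ hγ h1 => ?_)).imp fun σ hσ x => ?_
  rotate_right
  · rw [← h.sec x]
    exact hσ _ ⟨by rw [(hq _).2 ⟨x, rfl⟩, one_pow], hDs x⟩
  · obtain ⟨γ, rfl⟩ := h.surj g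
    obtain ⟨u, x, hu⟩ := h.decomp (γ := γ ^ m) (by rw [map_pow]; exact N.pow_index_mem _)
    set v := D γ with hv
    have huv : v ^ m = u ^ e := by rw [hv, ← map_pow, hu, map_mul, hD, hDs, mul_one]
    obtain ⟨a, b, hab⟩ := Nat.isCoprime_iff_coprime.2 hco
    have huv' : v ^ (m : ℤ) = u ^ (e : ℤ) := by exact_mod_cast huv
    have h1 : (v ^ a * u ^ b) ^ m = u := by
      rw [← zpow_natCast, mul_zpow, ← zpow_mul, ← zpow_mul, mul_comm a, zpow_mul, huv',
        ← zpow_mul, ← zpow_add, mul_comm (e : ℤ), hab, zpow_one]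
    have h2 : (v ^ a * u ^ b) ^ e = v := by
      rw [← zpow_natCast, mul_zpow, ← zpow_mul, ← zpow_mul, mul_comm b, zpow_mul u, ← huv',
        ← zpow_mul, ← zpow_add, mul_comm (m : ℤ), hab, zpow_one]
    refine ⟨γ * j (v ^ a * u ^ b)⁻¹, ⟨?_, ?_⟩, by rw [map_mul, h.πj, mul_one]⟩
    · rw [hmul, ← map_pow, ← map_pow, ← map_pow, inv_pow, h1, hu, ← map_mul, ← h.comm, mul_assoc,
        ← map_mul, mul_inv_cancel, map_one, mul_one, hq]
      exact ⟨x, rfl⟩
    · rw [map_mul, hD, inv_pow, h2, mul_inv_cancel]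
  · obtain ⟨c, rfl⟩ := h.ker γ h1
    obtain ⟨h2, h3⟩ := hγ
    rw [← map_pow, hq] at h2
    have h4 := h.eq_one h2 (by rw [map_pow, h1, one_pow])
    rw [hD] at h3
    have h5 : j c ^ e = 1 := by rw [← map_pow, h3, map_one]
    exact (pow_eq_one_iff_of_coprime hco).1 ⟨h5, h4⟩

/-- Pairs `(g, A)` where `A` intertwines `ρ` and `ρ ^ g`. -/
def intertw {U : Type*} [Group U] (N : Subgroup X) [N.Normal] (ρ : N →* U) : Subgroup (X × U) where
  carrier := {γ | ∀ x : N, γ.2 * ρ x * γ.2⁻¹ = ρ (MulAut.conjNormal γ.1 x)}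
  mul_mem' := fun {a b} ha hb x => by
    rw [Prod.fst_mul, map_mul, MulAut.mul_apply, ← ha, ← hb, Prod.snd_mul]; group
  one_mem' := fun x => by simp
  inv_mem' := fun {a} ha x => by
    have := ha (MulAut.conjNormal a.1⁻¹ x)
    rw [← MulAut.mul_apply, ← map_mul, mul_inv_cancel, map_one, MulAut.one_apply] at this
    rw [Prod.fst_inv, Prod.snd_inv, ← this]; group

end groups

section rep

open Module

theorem schur {X V : Type*} [Group X] [AddCommGroup V] [Module ℂ V] [FiniteDimensional ℂ V]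
    (ρ : Representation ℂ X V) [ρ.IsIrreducible] {A : End ℂ V} (hA : ∀ x, A * ρ x = ρ x * A) :
    ∃ c : ℂ, A = algebraMap ℂ (End ℂ V) c := by
  let T : ρ.IntertwiningMap ρ := ⟨A, hA⟩
  obtain ⟨c, hc⟩ :=
    (Representation.IsIrreducible.algebraMap_intertwiningMap_bijective_of_isAlgClosed
      (ρ := ρ)).2 T
  have := congrArg Representation.IntertwiningMap.toLinearMap hc
  rw [Algebra.algebraMap_eq_smul_one] at this
  exact ⟨c, by rw [Algebra.algebraMap_eq_smul_one]; exact this.symm⟩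

theorem isIrreducible_comp {X Y V : Type*} [Group X] [Group Y] [AddCommGroup V] [Module ℂ V]
    (ρ : Representation ℂ X V) [hρ : ρ.IsIrreducible] (f : Y →* X) (hf : Function.Surjective f) :
    Representation.IsIrreducible (ρ.comp f : Representation ℂ Y V) := by
  let e : Subrepresentation ρ ≃o Subrepresentation (ρ.comp f : Representation ℂ Y V) :=
    { toFun := fun U => ⟨U.toSubmodule, fun g v hv => U.apply_mem_toSubmodule (f g) hv⟩
      invFun := fun U => ⟨U.toSubmodule, fun g v hv => by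
        obtain ⟨x, rfl⟩ := hf g
        exact U.apply_mem_toSubmodule x hv⟩
      left_inv := fun U => rfl
      right_inv := fun U => rfl
      map_rel_iff' := Iff.rfl }
  exact e.isSimpleOrder_iff.mp hρ

theorem exists_intertwiner {X V : Type*} [Group X] [Finite X] [AddCommGroup V] [Module ℂ V]
    [FiniteDimensional ℂ V] (ρ σ : Representation ℂ X V) [ρ.IsIrreducible] [σ.IsIrreducible]
    (h : σ.character = ρ.character) : ∃ A : (End ℂ V)ˣ, ∀ x, A * ρ x = σ x * A := by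
  haveI := Fintype.ofFinite X
  haveI : Invertible (Nat.card X : ℂ) := invertibleOfNonzero (H6.card_ne_zero_complex X)
  have h1 := Representation.char_orthonormal σ ρ
  have h2 := Representation.char_orthonormal ρ ρ
  rw [if_pos ⟨Representation.Equiv.refl ρ⟩] at h2
  rw [h, h2] at h1
  have h3 : Nonempty (ρ.Equiv σ) := by
    by_contra hn
    rw [if_neg hn] at h1
    exact one_ne_zero h1
  obtain ⟨φ⟩ := h3
  exact ⟨LinearMap.GeneralLinearGroup.ofLinearEquiv φ.toLinearEquiv, φ.isIntertwining'⟩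

theorem ext_abs {X : Type*} [Group X] [Finite X] (N : Subgroup X) [N.Normal] {θ : N → ℂ}
    (hθ : IsIrrCharacter N θ) (hinv : ∀ g : X, ∀ x : N, θ (MulAut.conjNormal g x) = θ x)
    (h : (Nat.card N).Coprime N.index ∨ ∃ t, zpowers t ⊔ N = ⊤) :
    ∃ χ, IsCharacter X χ ∧ ∀ x : N, χ x = θ x := by
  have hθ0 := hθ
  obtain ⟨n, ρ, hρ, rfl⟩ := hθ
  have hdeg : finrank ℂ (Fin n → ℂ) ∣ Nat.card N := hθ0.degree_dvd_card ρ.char_one
  let U := (End ℂ (Fin n → ℂ))ˣ
  let ρu : N →* U := ρ.toHomUnits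
  let Γ : Subgroup (X × U) := intertw N ρu
  let ι : ℂˣ →* U := Units.map (algebraMap ℂ (End ℂ (Fin n → ℂ))).toMonoidHom
  have hι : ∀ c (A : U), A * ι c = ι c * A := fun c A =>
    Units.ext (Algebra.commutes (c : ℂ) (A : End ℂ (Fin n → ℂ))).symm
  let π : Γ →* X := (MonoidHom.fst X U).comp Γ.subtype
  let s : N →* Γ := (N.subtype.prod ρu).codRestrict Γ fun y x => by
    show ρu y * ρu x * (ρu y)⁻¹ = ρu (MulAut.conjNormal (y : X) x)
    rw [← map_inv, ← map_mul, ← map_mul]; rfl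
  let j : ℂˣ →* Γ := ((1 : ℂˣ →* X).prod ι).codRestrict Γ fun c x => by
    show ι c * ρu x * (ι c)⁻¹ = ρu (MulAut.conjNormal (1 : X) x)
    rw [← hι, map_one, MulAut.one_apply]; exact mul_inv_cancel_right _ _
  have hE : Ext π N s j := by
    refine ⟨fun g => ?_, fun x => rfl, ⟨?_⟩, fun c γ => ?_, fun c => rfl, fun γ hγ => ?_⟩
    · haveI := isIrreducible_comp ρ (MulAut.conjNormal g : N ≃* N).toMonoidHom
        (MulAut.conjNormal g : N ≃* N).surjective
      obtain ⟨A, hA⟩ := exists_intertwiner ρ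
        (ρ.comp (MulAut.conjNormal g : N ≃* N).toMonoidHom) (funext fun x => hinv g x)
      refine ⟨⟨(g, A), fun x => ?_⟩, rfl⟩
      rw [mul_inv_eq_iff_eq_mul]
      exact Units.ext (hA x)
    · rintro _ ⟨x, rfl⟩ γ
      exact ⟨MulAut.conjNormal γ.1.1 x, Subtype.ext (Prod.ext rfl (γ.2 x).symm)⟩
    · exact Subtype.ext (Prod.ext ((mul_one γ.1.1).trans (one_mul γ.1.1).symm) (hι c _))
    · have h1 : γ.1.1 = 1 := hγ
      obtain ⟨c, hc⟩ := schur ρ (A := γ.1.2) fun x => by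
        have := γ.2 x
        rw [h1, map_one, MulAut.one_apply, mul_inv_eq_iff_eq_mul] at this
        exact congrArg Units.val this
      have hc0 : c ≠ 0 := by
        rintro rfl
        haveI := H6.nontrivial_of_isIrreducible ρ
        exact γ.1.2.ne_zero (by rw [hc, map_zero])
      exact ⟨Units.mk0 c hc0, Subtype.ext (Prod.ext h1.symm (Units.ext hc.symm))⟩
  have hσ : ∃ σ : X →* Γ, ∀ x : N, σ x = s x := by
    rcases h with h | ⟨t, ht⟩
    · let D₀ : Γ →* ℂˣ := (Units.map (LinearMap.det : End ℂ (Fin n → ℂ) →* ℂ)).comp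
        ((MonoidHom.snd X U).comp Γ.subtype)
      refine hE.exists_section_cop ((powMonoidHom (Nat.card N)).comp D₀)
        (e := finrank ℂ (Fin n → ℂ) * Nat.card N) (fun c => ?_) (fun x => ?_)
        (Nat.Coprime.mul_left (h.coprime_dvd_left hdeg) h)
      · rw [pow_mul, MonoidHom.comp_apply, powMonoidHom_apply]
        congr 1
        apply Units.ext
        show LinearMap.det (algebraMap ℂ (End ℂ (Fin n → ℂ)) c) = _
        rw [Algebra.algebraMap_eq_smul_one, LinearMap.det_smul, map_one, mul_one,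
          Units.val_pow_eq_pow_val]
      · rw [MonoidHom.comp_apply, powMonoidHom_apply, ← map_pow, ← map_pow, pow_card_eq_one',
          map_one, map_one]
    · refine hE.exists_section_cyc ht fun m hm c => ?_
      obtain ⟨d, hd⟩ := IsAlgClosed.exists_pow_nat_eq (c : ℂ) (Nat.pos_of_ne_zero hm)
      have hd0 : d ≠ 0 := by
        rintro rfl
        rw [zero_pow hm] at hd
        exact c.ne_zero hd.symm
      exact ⟨Units.mk0 d hd0, Units.ext hd⟩
  obtain ⟨σ, hσ⟩ := hσ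
  let τ : Representation ℂ X (Fin n → ℂ) :=
    (Units.coeHom _).comp ((MonoidHom.snd X U).comp (Γ.subtype.comp σ))
  refine ⟨τ.character, ⟨n, τ, rfl⟩, fun x => ?_⟩
  show LinearMap.trace ℂ _ ((σ x).1.2 : End ℂ (Fin n → ℂ)) = _
  rw [hσ]; rfl

end rep

variable {G : Type u} [Group G] [Finite G]

theorem mem_Irr_of_res {N L : Subgroup G} (h : N ≤ L) {χ : G → ℂ} (hχ : IsChar L χ)
    (hθ : res N χ ∈ Irr N) : χ ∈ Irr L := by
  have h0 : χ ≠ 0 := by
    rintro rfl
    exact irr_ne_zero hθ (map_zero _)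
  obtain ⟨ψ, hψ⟩ := constt_nonempty hχ.mem_CF h0
  have hψ' := (mem_constt.1 hψ).1
  obtain ⟨ξ, hξ⟩ := exists_constt_res h hψ'
  obtain ⟨hξ1, hξ2⟩ := mem_constt.1 hξ
  obtain ⟨a, ha⟩ := ip_res_nat h hχ (irr_isChar hξ1)
  obtain ⟨b, hb⟩ := ip_res_nat h (irr_isChar hψ') (irr_isChar hξ1)
  have hab := ip_le_of_constt h hχ hψ (irr_isChar hξ1) ha hb
  rw [ip_res_left, hb] at hξ2
  have hb0 : b ≠ 0 := by exact_mod_cast hξ2
  have e : res N χ = ξ := irr_eq_of_ip_ne_zero hθ hξ1 (by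
    rw [ip_res_left, ha]; exact_mod_cast (by omega : a ≠ 0))
  have h1 := ((irr_isChar hψ').res h).dg_constt_le hξ
  rw [← e, dg_res, dg_res] at h1
  rw [hχ.eq_of_constt_of_dg hψ h1]
  exact hψ'

theorem ext_of {N L : Subgroup G} (h : N ⊲ L) {θ : G → ℂ} (hθ : θ ∈ Irr N) (hi : L ≤ inertia θ)
    (hc : IsHallIn N L ∨ CycMod L N) : ∃ χ ∈ Irr L, res N χ = θ := by
  haveI := H1.normal_subgroupOf_of_le h.2
  let e := subgroupOfEquivOfLe h.1
  obtain ⟨χ, h1, h2⟩ := ext_abs (N.subgroupOf L) (θ := fun x => θ (e x))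
    ((mem_Irr.1 hθ).2.comp_surjective e.toMonoidHom e.surjective) (fun g x => by
      have := (inertia θ).inv_mem (hi g.2) (x : L)
      rw [inv_inv] at this
      exact this) (by
      rcases hc with hc | ⟨t, ht, hc⟩
      · left
        rw [Nat.card_congr e.toEquiv]
        exact hc.2
      · right
        refine ⟨⟨t, ht⟩, ?_⟩
        apply map_injective L.subtype_injective
        rw [Subgroup.map_sup, MonoidHom.map_zpowers, map_subgroupOf_eq_of_le h.1,
          ← MonoidHom.range_eq_map, range_subtype]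
        exact le_antisymm (sup_le ((zpowers_le_of_mem ht)) h.1) hc)
  have h3 : res N (extendByZero L χ) = θ := by
    funext x
    by_cases hx : x ∈ N
    · rw [res_of_mem _ hx, H6.extendByZero_of_mem L _ (h.1 hx)]
      exact h2 ⟨⟨x, h.1 hx⟩, hx⟩
    · rw [res_of_notMem _ hx, CF_off (irr_mem_CF hθ) hx]
  exact ⟨_, mem_Irr_of_res h.1 (isChar_extendByZero h1) (h3.symm ▸ hθ), h3⟩

end CH1

variable {G : Type u} [Group G] [Finite G]

/-- An invariant character extends over a cyclic quotient. -/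
theorem exists_extension_of_cycMod {N L : Subgroup G} (h : N ⊲ L) (hc : CycMod L N) {θ : G → ℂ}
    (hθ : θ ∈ Irr N) (hi : L ≤ inertia θ) : ∃ χ ∈ Irr L, res N χ = θ :=
  CH1.ext_of h hθ hi (Or.inr hc)

/-- Isaacs (6.28): an invariant character of a normal Hall subgroup extends. -/
theorem exists_extension_of_hall {N L : Subgroup G} (h : N ⊲ L) (hH : IsHallIn N L)
    (hs : Group.IsSolvable L) {θ : G → ℂ} (hθ : θ ∈ Irr N) (hi : L ≤ inertia θ) :
    ∃ χ ∈ Irr L, res N χ = θ :=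
  CH1.ext_of h hθ hi (Or.inl hH)

end Cfsg.Agent.FT
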