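/-
CH1, part 4: linear extensions, PF (1.7)(b), (c), PF (1.8).
-/
import Cfsg.Agent.FT.P.CH1_3

set_option autoImplicit false

namespace Cfsg.Agent.FT

open Subgroup Cfsg Cfsg.Agent
open scoped commutatorElement ComplexConjugate

universe u

variable {G : Type u} [Group G] [Finite G]

open CH1

/-- An invariant linear character of a normal subgroup extends to a semidirect product. -/
theorem SdProd.exists_lin_extension {N A L : Subgroup G} (h : SdProd N A L) {l : G → ℂ}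
    (hl : IsLin N l) (hi : A ≤ inertia l) : ∃ μ, IsLin L μ ∧ res N μ = l ∧ A ≤ cfKer μ := by
  classical
  obtain ⟨p, p1, p2, p3, p4⟩ := h.exists_proj
  have hN : N ≤ L := h.sup ▸ le_sup_left
  have hA : A ≤ L := h.sup ▸ le_sup_right
  let μ : G → ℂ := fun x => if hx : x ∈ L then l (x * (p ⟨x, hx⟩)⁻¹) else 0
  have hμ : ∀ x : L, μ x = l (x * (p x)⁻¹) := fun x => dif_pos x.2
  have hL : IsLin L μ := by
    refine ⟨fun x hx => dif_neg hx, ?_, fun x hx y hy => ?_⟩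
    · have := hμ 1
      rw [map_one] at this
      simpa [hl.2.1] using this
    · have h1 := hμ (⟨x, hx⟩ * ⟨y, hy⟩)
      have h2 := (inertia l).inv_mem (hi (p1 ⟨x, hx⟩)) (y * (p ⟨y, hy⟩)⁻¹)
      rw [hμ ⟨x, hx⟩, hμ ⟨y, hy⟩, ← h2, inv_inv, ← hl.2.2 _ (p2 _) _
        ((mem_normalizer_iff.1 (h.norm (p1 ⟨x, hx⟩)) _).1 (p2 ⟨y, hy⟩))]
      refine h1.trans ?_
      rw [map_mul]
      congr 1
      simp only [coe_mul]
      group
  refine ⟨μ, hL, ?_, fun a ha => ?_⟩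
  · funext x
    by_cases hx : x ∈ N
    · rw [res_of_mem _ hx, hμ ⟨x, hN hx⟩, (p4 _).2 hx, inv_one, mul_one]
    · rw [res_of_notMem _ hx, hl.1 x hx]
  · rw [hL.mem_cfKer_iff, hμ ⟨a, hA ha⟩, p3 _ ha, mul_inv_cancel, hl.2.1]

namespace CH1

theorem res_eq_of_lin {N L : Subgroup G} (h : N ≤ L) {μ l : G → ℂ} (hμ : IsLin L μ)
    (hl : l ∈ constt N (res N μ)) : res N μ = l :=
  irr_eq_of_ip_ne_zero (hμ.res h).mem_Irr (mem_constt.1 hl).1 (mem_constt.1 hl).2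

end CH1

/-- A linear character of a subgroup of an abelian group extends. More generally: -/
theorem exists_lin_extension_of_der {N L : Subgroup G} (h : N ≤ L) {l : G → ℂ}
    (hl : IsLin N l) (hd : N ⊓ ⁅L, L⁆ ≤ cfKer l) : ∃ μ, IsLin L μ ∧ res N μ = l := by
  set D := ⁅L, L⁆ with hD
  have hDL : D ≤ L := der_le L
  have hnD : L ≤ 𝐍(D) := (der_normal L).2
  set K := D ⊔ N with hK
  have hKL : K ≤ L := sup_le hDL h
  have h1 : res D (ind K N l) = ind D (D ⊓ N) l :=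
    res_ind_of_mul le_sup_left le_sup_right
      (fun g hg => by
        obtain ⟨a, ha, b, hb, e⟩ := (mem_sup_of_norm (h.trans hnD)).1 hg
        exact ⟨a, ha, b, hb, e.symm⟩) hl.mem_CF
  have h2 : ip D (ind K N l) (cf1 D) ≠ 0 := by
    rw [← ip_res_left, h1, ip_ind_left inf_le_left _ (cf1_mem_CF D), ← ip_res_left,
      ← ip_res_right, res_cf1 inf_le_left, res_eq_smul_cf1 (inf_comm D N ▸ hd), hl.2.1, one_smul,
      ip_cf1_cf1]
    exact one_ne_zero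
  rw [eq_sum_constt (ind_mem_CF K N l), ip_sum_left] at h2
  obtain ⟨ψ, hψ, hne⟩ := Finset.exists_ne_zero_of_sum_ne_zero h2
  rw [ip_smul_left] at hne
  have hψ' := (mem_constt.1 hψ).1
  have h3 : D ≤ cfKer ψ :=
    (le_cfKer_iff_of_constt_res ⟨le_sup_left, hKL.trans hnD⟩ le_rfl (hKL.trans hnD) hψ'
      (θ := cf1 D) (mem_constt.2 ⟨cf1_mem_Irr D, by
        rw [ip_res_left]; exact right_ne_zero_of_mul hne⟩)).2 (le_cfKer_cf1 D)
  obtain ⟨χ, hχ⟩ := exists_constt_ind hKL hψ'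
  have hχ' := (mem_constt.1 hχ).1
  have h4 : D ≤ cfKer χ := ((le_cfKer_ind_irr_iff hKL hnD hψ').2 h3).trans
    (((irr_isChar hψ').ind hKL).cfKer_le_constt hχ)
  have hlin := isLin_of_der_le_cfKer hχ' h4
  have h5 := res_eq_of_lin hKL hlin ((mem_constt_ind_iff hKL hψ' hχ').1 hχ)
  refine ⟨χ, hlin, res_eq_of_lin h hlin ?_⟩
  rw [← res_res (le_sup_right : N ≤ K), h5]
  exact (mem_constt_ind_iff le_sup_right hl.mem_Irr hψ').1 hψ

namespace CH1

theorem central_aux {H L : Subgroup G} (h : H ⊲ L) {θ : G → ℂ} (hθ : θ ∈ Irr H)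
    (hab : ⁅L ⊓ inertia θ, L ⊓ inertia θ⁆ ≤ H) {ψ : G → ℂ}
    (hψ : ψ ∈ constt (L ⊓ inertia θ) (ind (L ⊓ inertia θ) H θ)) {χ : G → ℂ}
    (hχ : χ ∈ constt L (ind L H θ)) : ip H χ θ = ip H ψ θ := by
  have hn := normal_inertia h hθ
  obtain ⟨ξ, hξ, rfl⟩ := (clifford_corr h hθ).1.surjOn (Finset.mem_coe.2 hχ)
  rw [(clifford_corr h hθ).2 ξ hξ]
  set T := L ⊓ inertia θ with hT
  have hψ' := (mem_constt.1 hψ).1
  have hθψ := (mem_constt_ind_iff hn.1 hθ hψ').1 hψ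
  have h1 := clifford_res hn hψ' hθψ
  have h2 : cfClass T θ = {θ} := by
    refine Finset.eq_singleton_iff_unique_mem.2 ⟨self_mem_cfClass _ _, fun η hη => ?_⟩
    obtain ⟨g, hg, rfl⟩ := mem_cfClass.1 hη
    exact mem_inertia.1 hg.2
  rw [h2, Finset.sum_singleton] at h1
  have h3 := ind_res_eq_sum hn (irr_mem_CF hψ')
  rw [h1, map_smul] at h3
  obtain ⟨hξ1, hξ2⟩ := mem_constt.1 hξ
  have h4 : ip H ψ θ ≠ 0 := by rw [← ip_res_left]; exact (mem_constt.1 hθψ).2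
  have h5 : ip T (ip H ψ θ • ind T H θ) ξ ≠ 0 := by
    rw [ip_smul_left]; exact mul_ne_zero h4 hξ2
  rw [h3, ip_sum_left] at h5
  obtain ⟨β, hβ, hne⟩ := Finset.exists_ne_zero_of_sum_ne_zero h5
  rw [ip_smul_left] at hne
  have hl := isLin_of_mem_irrKer hab hβ
  rw [← irr_eq_of_ip_ne_zero (hl.mul_mem_Irr hψ') hξ1 (right_ne_zero_of_mul hne)]
  refine ip_congr (fun x hx => ?_) fun _ _ => rfl
  rw [Pi.mul_apply, hl.mem_cfKer_iff.1 ((mem_irrKer.1 hβ).2 hx), one_mul]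

theorem central_of {H L : Subgroup G} (h : H ⊲ L) {θ : G → ℂ} (hθ : θ ∈ Irr H) {e : ℕ}
    (he : ∀ χ ∈ constt L (ind L H θ), ip H χ θ = e) :
    ind L H θ = (e : ℂ) • ∑ χ ∈ constt L (ind L H θ), χ ∧
      (constt L (ind L H θ)).card * e ^ 2 = H.relIndex (L ⊓ inertia θ) ∧
      ∀ χ ∈ constt L (ind L H θ), dg χ = (inertia θ).relIndex L * e * dg θ := by
  have h1 : ind L H θ = (e : ℂ) • ∑ χ ∈ constt L (ind L H θ), χ := by
    conv_lhs => rw [eq_sum_constt (ind_mem_CF L H θ)]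
    rw [Finset.smul_sum]
    refine Finset.sum_congr rfl fun χ hχ => ?_
    rw [ip_ind_left h.1 _ (irr_mem_CF (mem_constt.1 hχ).1), ← conj_ip, he χ hχ]
    simp
  refine ⟨h1, ?_, fun χ hχ => ?_⟩
  · have h2 := nsq_ind_irr h hθ
    rw [h1, nsq_nat_smul, ((on_Irr L).mono fun χ hχ => (mem_constt.1 hχ).1).nsq_sum,
      mul_comm] at h2
    exact_mod_cast h2
  · have hχ' := (mem_constt.1 hχ).1
    obtain ⟨f, -, hf, hd⟩ := clifford_dg h hχ' ((mem_constt_ind_iff h.1 hθ hχ').1 hχ)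
    have : f = e := by exact_mod_cast hf.symm.trans (he χ hχ)
    rw [hd, this]; ring

end CH1

/-- PF (1.7)(b); `T = L ⊓ inertia θ` and `T / H` is abelian. -/
theorem ind_central_inertia {H L : Subgroup G} (h : H ⊲ L) {θ : G → ℂ} (hθ : θ ∈ Irr H)
    (hab : ⁅L ⊓ inertia θ, L ⊓ inertia θ⁆ ≤ H) :
    ∃ e : ℕ, 0 < e ∧ ind L H θ = (e : ℂ) • ∑ χ ∈ constt L (ind L H θ), χ ∧
      (constt L (ind L H θ)).card * e ^ 2 = H.relIndex (L ⊓ inertia θ) ∧
      ∀ χ ∈ constt L (ind L H θ), dg χ = (inertia θ).relIndex L * e * dg θ := by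
  have hn := normal_inertia h hθ
  obtain ⟨ψ, hψ⟩ := exists_constt_ind hn.1 hθ
  have hψ' := (mem_constt.1 hψ).1
  obtain ⟨e, he0, he, -⟩ := clifford_dg hn hψ' ((mem_constt_ind_iff hn.1 hθ hψ').1 hψ)
  exact ⟨e, he0, central_of h hθ fun χ hχ => (central_aux h hθ hab hψ hχ).trans he⟩

/-- PF (1.7)(c). -/
theorem ind_hall_central_inertia {H L : Subgroup G} (h : H ⊲ L) (hs : Group.IsSolvable L)
    {θ : G → ℂ} (hθ : θ ∈ Irr H)
    (hab : ⁅L ⊓ inertia θ, L ⊓ inertia θ⁆ ≤ H) (hH : IsHallIn H (L ⊓ inertia θ)) :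
    ind L H θ = ∑ χ ∈ constt L (ind L H θ), χ ∧
      (constt L (ind L H θ)).card = H.relIndex (L ⊓ inertia θ) ∧
      ∀ χ ∈ constt L (ind L H θ), dg χ = (inertia θ).relIndex L * dg θ := by
  have hn := normal_inertia h hθ
  obtain ⟨ψ, hψ', hr⟩ := ext_of hn hθ inf_le_right (Or.inl hH)
  have he : ip H ψ θ = (1 : ℕ) := by rw [← ip_res_left, hr, ip_irr_self hθ, Nat.cast_one]
  have hψ : ψ ∈ constt (L ⊓ inertia θ) (ind (L ⊓ inertia θ) H θ) :=
    (mem_constt_ind_iff hn.1 hθ hψ').2 (mem_constt.2 ⟨hθ, by rw [ip_res_left, he]; simp⟩)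
  simpa using central_of h hθ fun χ hχ => (central_aux h hθ hab hψ hχ).trans he

/-- Restriction to a subgroup which is central modulo the kernel. -/
theorem res_central {Z H : Subgroup G} (hZ : Z ≤ H) {χ : G → ℂ} (hχ : χ ∈ Irr H)
    (h : ⁅H, Z⁆ ≤ cfKer χ) : ∃ l, IsLin Z l ∧ res Z χ = χ 1 • l := by
  have h1 := irr_one_ne_zero hχ
  have key : ∀ z ∈ Z, ∀ y ∈ H, χ (z * y) * χ 1 = χ z * χ y := by
    intro z hz y hy
    obtain ⟨n, ρ, hρ, e⟩ := (mem_Irr.1 hχ).2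
    have e' : ∀ x : H, χ x = ρ.character x := fun x => (congrFun e x).symm
    obtain ⟨c, hc⟩ := schur ρ (A := ρ ⟨z, hZ hz⟩) fun x => by
      have h2 := apply_of_mem_cfKer (h (commutator_mem_commutator x.2 hz))
      have h3 : ρ.character ⁅x, (⟨z, hZ hz⟩ : H)⁆ = ρ.character 1 := by
        rw [← e', ← e']; exact h2
      rw [H6.rep_char_eq_iff] at h3
      have h4 : x * ⟨z, hZ hz⟩ = ⁅x, (⟨z, hZ hz⟩ : H)⁆ * (⟨z, hZ hz⟩ * x) := by
        rw [commutatorElement_def]; group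
      rw [← map_mul, ← map_mul, h4, map_mul ρ ⁅_, _⁆, h3, one_mul]
    have h5 : ∀ x : H, χ (z * x) = c * χ x := fun x => by
      rw [e' x]
      refine (e' (⟨z, hZ hz⟩ * x)).trans ?_
      rw [Representation.character, map_mul, hc, Algebra.algebraMap_eq_smul_one, smul_mul_assoc,
        one_mul, map_smul]
      rfl
    have h6 := h5 1
    rw [h5 ⟨y, hy⟩]
    simp only [OneMemClass.coe_one, mul_one] at h6
    rw [h6]; ring
  refine ⟨(χ 1)⁻¹ • res Z χ, ⟨fun x hx => ?_, ?_, fun x hx y hy => ?_⟩, ?_⟩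
  · simp [res_of_notMem _ hx]
  · simp [h1]
  · simp only [Pi.smul_apply, smul_eq_mul, res_of_mem _ hx, res_of_mem _ hy,
      res_of_mem _ (Z.mul_mem hx hy)]
    field_simp
    rw [← key x hx y (hZ hy), mul_comm]
  · rw [smul_smul, mul_inv_cancel₀ h1, one_smul]

theorem irr_dg_sq_le {Z H : Subgroup G} (hZ : Z ≤ H) {χ : G → ℂ} (hχ : χ ∈ Irr H)
    (h : ⁅H, Z⁆ ≤ cfKer χ) : dg χ ^ 2 ≤ Z.relIndex H := by
  obtain ⟨l, hl, e⟩ := res_central hZ hχ h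
  have h1 : nsq Z χ = dg χ ^ 2 := by
    rw [← nsq_res, e, irr_one_eq hχ, nsq_nat_smul, nsq_irr hl.mem_Irr, mul_one]
  have h2 := nsq_irr hχ
  rw [nsq_def] at h1 h2
  have h3 : ∑ x ∈ fs (Z : Set G), ‖χ x‖ ^ 2 ≤ ∑ x ∈ fs (H : Set G), ‖χ x‖ ^ 2 :=
    Finset.sum_le_sum_of_subset_of_nonneg (fs_subset hZ) fun _ _ _ => by positivity
  have h4 := card_pos_R Z
  have h5 := card_pos_R H
  rw [inv_mul_eq_iff_eq_mul₀ h4.ne'] at h1
  rw [inv_mul_eq_iff_eq_mul₀ h5.ne', mul_one] at h2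
  rw [h1, h2, ← H1.card_mul_relIndex hZ] at h3
  push_cast at h3
  exact_mod_cast le_of_mul_le_mul_left h3 h4

/-- PF (1.8). -/
theorem irr_dg_bound_quo {B C D H : Subgroup G} {χ : G → ℂ} (hχ : χ ∈ Irr H) (hB : B ≤ cfKer χ)
    (hD : D ≤ C) (hC : C ≤ H) (h : ⁅C, D⁆ ≤ B) :
    dg χ ^ 2 ≤ C.relIndex H ^ 2 * D.relIndex C := by
  obtain ⟨θ, hθ⟩ := exists_constt_res hC hχ
  have h1 := irr_dg_le_of_constt_res hC hχ hθ
  have h2 := irr_dg_sq_le hD (mem_constt.1 hθ).1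
    ((le_cfKer_res ((commutator_mono le_rfl hD).trans (der_le C)) (h.trans hB)).trans
      (((irr_isChar hχ).res hC).cfKer_le_constt hθ))
  calc dg χ ^ 2 ≤ (C.relIndex H * dg θ) ^ 2 := by gcongr
    _ = C.relIndex H ^ 2 * dg θ ^ 2 := by ring
    _ ≤ _ := by gcongr

end Cfsg.Agent.FT
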