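/-
Galois action and integrality (section CH2 of the odd order project), part 1.
-/
import Cfsg.Agent.FT.CH1

set_option autoImplicit false

namespace Cfsg.Agent.FT.CH2

open Polynomial

/-- Automorphisms of a subfield extend to `ℂ`. -/
theorem exists_ext {A : Type} [Field A] [Algebra A ℂ] (σ : A ≃+* A) :
    ∃ u : ℂ →+* ℂ, ∀ a : A, u (algebraMap A ℂ a) = algebraMap A ℂ (σ a) := by
  obtain ⟨s, hs⟩ := exists_isTranscendenceBasis A ℂ
  letI := IsAlgClosed.isAlgClosure_of_transcendence_basis _ hs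
  let e := (hs.1.aevalEquiv.symm.toRingEquiv.trans (MvPolynomial.mapEquiv s σ)).trans
    hs.1.aevalEquiv.toRingEquiv
  refine ⟨(IsAlgClosure.equivOfEquiv ℂ ℂ e : ℂ ≃+* ℂ), fun a => ?_⟩
  have h1 : ∀ b : A, algebraMap A ℂ b =
      algebraMap (Algebra.adjoin A (Set.range ((↑) : s → ℂ))) ℂ (algebraMap A _ b) :=
    fun b => rfl
  have h2 : e (algebraMap A _ a) = algebraMap A _ (σ a) := by
    simp only [e, RingEquiv.trans_apply, AlgEquiv.coe_ringEquiv, AlgEquiv.toRingEquiv_eq_coe,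
      AlgEquiv.commutes, MvPolynomial.mapEquiv_apply, MvPolynomial.algebraMap_eq,
      MvPolynomial.map_C]
    exact hs.1.aevalEquiv.commutes _
  rw [h1, h1, RingHom.coe_coe, IsAlgClosure.equivOfEquiv_algebraMap, h2]

theorem exists_of_root {z y : ℂ} (hz : IsIntegral ℚ z) (h : aeval y (minpoly ℚ z) = 0) :
    ∃ u : ℂ →+* ℂ, u z = y := by
  have hy : IsIntegral ℚ y := ⟨minpoly ℚ z, minpoly.monic hz, h⟩
  let A := algebraicClosure ℚ ℂ
  let z' : A := ⟨z, mem_algebraicClosure_iff'.mpr hz⟩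
  let y' : A := ⟨y, mem_algebraicClosure_iff'.mpr hy⟩
  have hm : minpoly ℚ z' = minpoly ℚ z :=
    (minpoly.algebraMap_eq (algebraMap A ℂ).injective z').symm
  have h' : aeval y' (minpoly ℚ z') = 0 := by
    apply (algebraMap A ℂ).injective
    rw [hm, map_zero, ← aeval_algebraMap_apply]
    exact h
  haveI : IsAlgClosure ℚ A := algebraicClosure.isAlgClosure ℚ ℂ
  haveI : Normal ℚ A := IsAlgClosure.normal ℚ A
  obtain ⟨σ, hσ⟩ := minpoly.exists_algEquiv_of_root' (Algebra.IsAlgebraic.isAlgebraic z') h'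
  obtain ⟨u, hu⟩ := exists_ext σ.toRingEquiv
  refine ⟨u, ?_⟩
  have := hu z'
  rw [AlgEquiv.toRingEquiv_eq_coe, AlgEquiv.coe_ringEquiv, hσ] at this
  exact this

theorem eq_zero_or_one_le_norm_prod {ι : Type*} (s : Finset ι) (f : ι → ℂ) {m : ℤ}
    (h : ∏ i ∈ s, f i = m) (h0 : ∀ i ∈ s, f i ≠ 0) : 1 ≤ ∏ i ∈ s, ‖f i‖ := by
  rw [← norm_prod, h, Complex.norm_intCast]
  have : m ≠ 0 := by
    rintro rfl
    rw [Int.cast_zero, Finset.prod_eq_zero_iff] at h
    obtain ⟨i, hi, h⟩ := h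
    exact h0 i hi h
  exact_mod_cast Int.one_le_abs this

theorem card_le_sum_of_one_le_prod {ι : Type*} (s : Finset ι) (f : ι → ℝ) (h0 : ∀ i ∈ s, 0 < f i)
    (h : 1 ≤ ∏ i ∈ s, f i) : (s.card : ℝ) ≤ ∑ i ∈ s, f i := by
  have h1 : 0 ≤ ∑ i ∈ s, Real.log (f i) := by
    rw [← Real.log_prod fun i hi => (h0 i hi).ne']
    exact Real.log_nonneg h
  have h2 : ∑ i ∈ s, Real.log (f i) ≤ ∑ i ∈ s, (f i - 1) :=
    Finset.sum_le_sum fun i hi => Real.log_le_sub_one_of_pos (h0 i hi)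
  rw [Finset.sum_sub_distrib] at h2
  simp only [Finset.sum_const, nsmul_eq_mul, mul_one] at h2
  linarith

end Cfsg.Agent.FT.CH2

namespace Cfsg.Agent.FT

open Subgroup Cfsg Cfsg.Agent
open scoped commutatorElement

universe u

variable {G : Type u} [Group G] [Finite G]

/-- Cyclotomic automorphisms extend to `ℂ`. -/
theorem exists_aut_pow {n k : ℕ} (hn : 0 < n) (hk : k.Coprime n) :
    ∃ u : ℂ →+* ℂ, ∀ z : ℂ, z ^ n = 1 → u z = z ^ k := by
  have hζ := Complex.isPrimitiveRoot_exp n hn.ne'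
  set ζ := Complex.exp (2 * Real.pi * Complex.I / n)
  haveI : NeZero n := ⟨hn.ne'⟩
  have hζk := hζ.pow_of_coprime k hk
  have hi : IsIntegral ℚ ζ := (hζ.isIntegral hn).tower_top
  obtain ⟨u, hu⟩ := CH2.exists_of_root (y := ζ ^ k) hi (by
    rw [← Polynomial.cyclotomic_eq_minpoly_rat hζ hn, Polynomial.aeval_def,
      Polynomial.eval₂_eq_eval_map, Polynomial.map_cyclotomic]
    exact hζk.isRoot_cyclotomic hn)
  refine ⟨u, fun z hz => ?_⟩
  obtain ⟨i, -, rfl⟩ := hζ.eq_pow_of_pow_eq_one hz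
  rw [map_pow, hu, ← pow_mul, ← pow_mul, mul_comm]

theorem exists_pow_of_aut (u : ℂ →+* ℂ) {n : ℕ} (hn : 0 < n) :
    ∃ k : ℕ, 0 < k ∧ k.Coprime n ∧ ∀ z : ℂ, z ^ n = 1 → u z = z ^ k := by
  have hζ := Complex.isPrimitiveRoot_exp n hn.ne'
  set ζ := Complex.exp (2 * Real.pi * Complex.I / n)
  haveI : NeZero n := ⟨hn.ne'⟩
  have hu : IsPrimitiveRoot (u ζ) n := hζ.map_of_injective u.injective
  obtain ⟨i, -, hi, h⟩ := (hζ.isPrimitiveRoot_iff).mp hu
  refine ⟨i + n, by omega, by simpa using hi, fun z hz => ?_⟩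
  obtain ⟨j, -, rfl⟩ := hζ.eq_pow_of_pow_eq_one hz
  rw [map_pow, ← h, pow_add, hz, mul_one, ← pow_mul, ← pow_mul, mul_comm]

theorem int_of_isIntegral_rat {q : ℚ} (h : IsIntegral ℤ (q : ℂ)) : ∃ m : ℤ, (q : ℂ) = m := by
  have h1 : IsIntegral ℤ q := by
    have : (q : ℂ) = algebraMap ℚ ℂ q := rfl
    rw [this] at h
    exact (isIntegral_algebraMap_iff (algebraMap ℚ ℂ).injective).mp h
  obtain ⟨m, hm⟩ := IsIntegrallyClosed.isIntegral_iff.mp h1
  exact ⟨m, by rw [← hm]; simp⟩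

theorem int_of_aut_fixed {z : ℂ} (hz : IsIntegral ℤ z) (h : ∀ u : ℂ →+* ℂ, u z = z) :
    ∃ m : ℤ, z = m := by
  have hi : IsIntegral ℚ z := hz.tower_top
  have hsep : (minpoly ℚ z).Separable := (minpoly.irreducible hi).separable
  have h1 : (minpoly ℚ z).rootSet ℂ = {z} := by
    ext y
    rw [Polynomial.mem_rootSet, Set.mem_singleton_iff]
    constructor
    · rintro ⟨-, hy⟩
      obtain ⟨u, hu⟩ := CH2.exists_of_root hi hy
      rw [← hu, h]
    · rintro rfl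
      exact ⟨minpoly.ne_zero hi, minpoly.aeval ℚ y⟩
  have h2 := Polynomial.card_rootSet_eq_natDegree hsep
    (IsAlgClosed.splits ((minpoly ℚ z).map (algebraMap ℚ ℂ)))
  have h3 : (minpoly ℚ z).natDegree = 1 := by
    rw [← h2, ← Nat.card_eq_fintype_card, h1]; simp
  obtain ⟨q, hq⟩ := (minpoly.natDegree_eq_one_iff).mp h3
  have hq' : (q : ℂ) = z := hq
  rw [← hq'] at hz ⊢
  exact int_of_isIntegral_rat hz

theorem vchar_aut_apply {H : Subgroup G} {φ : G → ℂ} (hφ : φ ∈ VChar H) {u : ℂ →+* ℂ} {n k : ℕ}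
    (hn : 0 < n) (hu : ∀ z : ℂ, z ^ n = 1 → u z = z ^ k) {x : G} (hx : x ∈ H) (hxn : x ^ n = 1) :
    u (φ x) = φ (x ^ k) := by
  refine vchar_induction (P := fun φ => u (φ x) = φ (x ^ k)) (by simp) ?_ ?_ hφ
  · intro χ hχ
    obtain ⟨d, ρ, hρ⟩ := (irr_isChar hχ).2
    obtain ⟨b, l, -, h2, h3, -⟩ := H6.exists_eigenvalues ρ ⟨x, hx⟩
    have h4 : ∀ j : ℕ, χ (x ^ j) = ∑ i, l i ^ j := fun j => by
      rw [← h3, hρ]; rfl
    have h5 := h4 1
    rw [pow_one] at h5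
    rw [h4, h5, map_sum]
    refine Finset.sum_congr rfl fun i _ => ?_
    rw [pow_one]
    apply hu
    have : orderOf (⟨x, hx⟩ : H) ∣ n := orderOf_dvd_of_pow_eq_one (Subtype.ext hxn)
    obtain ⟨c, rfl⟩ := this
    rw [pow_mul, h2, one_pow]
  · intro φ ψ h1 h2
    simp only [Pi.sub_apply, map_sub, h1, h2]

/-- PF (1.9)(b). The automorphism `u` works for all subgroups of the ambient group. -/
theorem exists_aut_pi {a k : ℕ} (ha : 0 < a) (hk : k.Coprime a) :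
    ∃ u : ℂ →+* ℂ, (∀ z : ℂ, z ^ a = 1 → u z = z ^ k) ∧
      (∀ H : Subgroup G, ∀ φ ∈ VChar H, ∀ x ∈ H, orderOf x ∣ a → u (φ x) = φ (x ^ k)) ∧
      ∀ H : Subgroup G, ∀ φ ∈ VChar H, ∀ x : G, (orderOf x).Coprime a → u (φ x) = φ x := by
  classical
  -- `b` is the part of `|G|` prime to `a`
  let b := ∏ p ∈ (Nat.card G).primeFactors with ¬ p ∣ a, p ^ (Nat.card G).factorization p
  have hb : 0 < b := Finset.prod_pos fun p hp =>
    pow_pos (Nat.prime_of_mem_primeFactors (Finset.mem_filter.mp hp).1).pos _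
  have hab : a.Coprime b := Nat.Coprime.prod_right fun p hp => by
    obtain ⟨h1, h2⟩ := Finset.mem_filter.mp hp
    exact (((Nat.prime_of_mem_primeFactors h1).coprime_iff_not_dvd.mpr h2).symm).pow_right _
  have hdvd : ∀ m : ℕ, m ∣ Nat.card G → m.Coprime a → m ∣ b := by
    intro m hm hc
    have hG : Nat.card G ≠ 0 := Nat.card_pos.ne'
    have hm0 : m ≠ 0 := ne_zero_of_dvd_ne_zero hG hm
    rw [← Nat.factorization_prod_pow_eq_self hm0, Finsupp.prod]
    refine Finset.prod_dvd_of_isRelPrime ?_ ?_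
    · intro p hp q hq hpq
      have hp' := Nat.prime_of_mem_primeFactors (Nat.support_factorization m ▸ hp)
      have hq' := Nat.prime_of_mem_primeFactors (Nat.support_factorization m ▸ hq)
      exact Nat.coprime_iff_isRelPrime.mp
        (Nat.coprime_pow_primes _ _ hp' hq' hpq)
    · intro p hp
      rw [Nat.support_factorization] at hp
      have hp' := Nat.prime_of_mem_primeFactors hp
      have hpm := Nat.dvd_of_mem_primeFactors hp
      refine (pow_dvd_pow p ((Nat.factorization_le_iff_dvd hm0 hG).mpr hm p)).trans ?_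
      refine Finset.dvd_prod_of_mem (fun p => p ^ (Nat.card G).factorization p)
        (Finset.mem_filter.mpr ⟨Nat.mem_primeFactors.mpr ⟨hp', hpm.trans hm, hG⟩, fun h => ?_⟩)
      exact hp'.one_lt.ne' (Nat.eq_one_of_dvd_coprimes hc hpm h)
  obtain ⟨k', hk1, hk2⟩ := Nat.chineseRemainder hab k 1
  have hk' : k'.Coprime (a * b) := by
    refine Nat.Coprime.mul_right ?_ ?_
    · rw [Nat.Coprime, hk1.gcd_eq]; exact hk
    · rw [Nat.Coprime, hk2.gcd_eq]; simp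
  obtain ⟨u, hu⟩ := exists_aut_pow (Nat.mul_pos ha hb) hk'
  have h1 : ∀ z : ℂ, z ^ a = 1 → u z = z ^ k := fun z hz => by
    rw [hu z (by rw [pow_mul, hz, one_pow]), pow_eq_pow_of_modEq hk1 hz]
  have h2 : ∀ z : ℂ, z ^ b = 1 → u z = z ^ 1 := fun z hz => by
    rw [hu z (by rw [mul_comm, pow_mul, hz, one_pow]), pow_eq_pow_of_modEq hk2 hz]
  refine ⟨u, h1, fun H φ hφ x hx hxa =>
    vchar_aut_apply hφ ha h1 hx (orderOf_dvd_iff_pow_eq_one.mp hxa), fun H φ hφ x hxa => ?_⟩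
  by_cases hx : x ∈ H
  · rw [vchar_aut_apply hφ hb h2 hx
      (orderOf_dvd_iff_pow_eq_one.mp (hdvd _ (orderOf_dvd_natCard x) hxa)), pow_one]
  · rw [CF_off (vchar_mem_CF hφ) hx, map_zero]

/-- PF (1.9), restriction form. -/
theorem exists_aut_restrict {a : ℕ} (ha : 0 < a) (v : ℂ →+* ℂ) :
    ∃ u : ℂ →+* ℂ, (∀ z : ℂ, z ^ a = 1 → u z = v z) ∧
      (∀ H : Subgroup G, ∀ φ ∈ VChar H, ∀ x : G, orderOf x ∣ a → u (φ x) = v (φ x)) ∧
      ∀ H : Subgroup G, ∀ φ ∈ VChar H, ∀ x : G, (orderOf x).Coprime a → u (φ x) = φ x := by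
  obtain ⟨k, -, hk, hv⟩ := exists_pow_of_aut v ha
  obtain ⟨u, h1, h2, h3⟩ := exists_aut_pi (G := G) ha hk
  refine ⟨u, fun z hz => by rw [h1 z hz, hv z hz], fun H φ hφ x hxa => ?_, h3⟩
  by_cases hx : x ∈ H
  · rw [h2 H φ hφ x hx hxa, vchar_aut_apply hφ ha hv hx (orderOf_dvd_iff_pow_eq_one.mp hxa)]
  · rw [CF_off (vchar_mem_CF hφ) hx, map_zero, map_zero]

end Cfsg.Agent.FT
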