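/-
Galois action and integrality (section CH2 of the odd order project), part 2.
-/
import Cfsg.Agent.FT.P.CH2_1

set_option autoImplicit false

namespace Cfsg.Agent.FT.CH2

open Subgroup Cfsg Cfsg.Agent
open scoped commutatorElement ComplexConjugate

universe u

variable {G : Type u} [Group G] [Finite G]

theorem eq_or_eq_of_prime {N K W : Subgroup G} (h : N ≤ K) (h' : K ≤ W)
    (hp : (N.relIndex W).Prime) : K = N ∨ K = W := by
  have h1 := relIndex_mul_relIndex N K W h h'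
  rcases hp.eq_one_or_self_of_dvd _ (Dvd.intro _ h1) with h2 | h2
  · exact Or.inl (le_antisymm (relIndex_eq_one.mp h2) h)
  · right
    rw [h2] at h1
    have h3 : K.relIndex W = 1 := by
      have := hp.pos
      nlinarith
    exact le_antisymm h' (relIndex_eq_one.mp h3)

theorem exists_half {ι M : Type*} [AddCommMonoid M] (s : Finset ι) (σ : ι → ι)
    (h1 : ∀ x ∈ s, σ x ∈ s) (h2 : ∀ x ∈ s, σ (σ x) = x) (h3 : ∀ x ∈ s, σ x ≠ x) (f : ι → M)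
    (hf : ∀ x ∈ s, f (σ x) = f x) : ∃ t ⊆ s, ∑ x ∈ s, f x = 2 • ∑ x ∈ t, f x := by
  classical
  letI : LinearOrder ι := IsWellOrder.linearOrder WellOrderingRel
  refine ⟨s.filter fun x => x < σ x, Finset.filter_subset _ _, ?_⟩
  rw [← Finset.sum_filter_add_sum_filter_not s fun x => x < σ x, two_nsmul]
  congr 1
  refine Finset.sum_nbij' σ σ ?_ ?_ ?_ ?_ ?_
  · intro x hx
    obtain ⟨hx, h⟩ := Finset.mem_filter.mp hx
    refine Finset.mem_filter.mpr ⟨h1 x hx, ?_⟩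
    rw [h2 x hx]
    exact lt_of_le_of_ne (not_lt.mp h) (h3 x hx)
  · intro x hx
    obtain ⟨hx, h⟩ := Finset.mem_filter.mp hx
    refine Finset.mem_filter.mpr ⟨h1 x hx, ?_⟩
    rw [h2 x hx]
    exact not_lt.mpr h.le
  · intro x hx
    exact h2 x (Finset.mem_filter.mp hx).1
  · intro x hx
    exact h2 x (Finset.mem_filter.mp hx).1
  · intro x hx
    exact (hf x (Finset.mem_filter.mp hx).1).symm

theorem dirr_sign {X : Subgroup G} {a c : G → ℂ} (ha : Dirr X a) (hc : Dirr X c)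
    (h : ip X a c ≠ 0) : ∃ s : ℝ, s * s = 1 ∧ a = (s : ℂ) • c := by
  rcases ha.ip_cases hc with h1 | h1 | h1
  · exact ⟨1, by simp, by simp [h1]⟩
  · exact ⟨-1, by simp, by simp [h1]⟩
  · exact (h h1).elim

theorem pairs_core {X : Subgroup G} {a b c d : G → ℂ} (ha : Dirr X a) (hb : Dirr X b)
    (hc : Dirr X c) (hd : Dirr X d) (hab : ip X a b = 0) (hcd : ip X c d = 0) {u v : ℝ}
    (hu : u ≠ 0) (hv : v ≠ 0) (h : ip X (a - b) ((u : ℂ) • c - (v : ℂ) • d) = 0)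
    (h1 : a 1 = b 1) (h2 : u * c 1 = v * d 1) : ip X a c = 0 := by
  by_contra hac
  obtain ⟨s, hs, rfl⟩ := dirr_sign ha hc hac
  have hsC : (s : ℂ) * s = 1 := by exact_mod_cast hs
  have hs0 : (s : ℂ) ≠ 0 := left_ne_zero_of_mul_eq_one hsC
  have hu' : (u : ℂ) ≠ 0 := by exact_mod_cast hu
  have hv' : (v : ℂ) ≠ 0 := by exact_mod_cast hv
  have hbc : ip X b c = 0 := by
    rw [ip_smul_left, mul_eq_zero] at hab
    exact ip_eq_zero_symm (hab.resolve_left hs0)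
  simp only [ip_sub_left, ip_sub_right, ip_smul_left, ip_smul_right, Complex.conj_ofReal, hcd,
    hbc, hc.ip_self] at h
  have hbd : ip X b d ≠ 0 := by
    intro h0
    rw [h0] at h
    apply mul_ne_zero hu' hs0
    linear_combination h
  obtain ⟨t, ht, rfl⟩ := dirr_sign hb hd hbd
  have htC : (t : ℂ) * t = 1 := by exact_mod_cast ht
  have ht0 : (t : ℂ) ≠ 0 := left_ne_zero_of_mul_eq_one htC
  rw [ip_smul_left, hd.ip_self] at h
  simp only [Pi.smul_apply, smul_eq_mul] at h1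
  apply mul_ne_zero (mul_ne_zero (mul_ne_zero two_ne_zero hv') hs0) hd.one_ne_zero
  have h3 : (u : ℂ) * s + v * t = 0 := by linear_combination h
  have h4 : (u : ℂ) * t + v * s = 0 := by
    linear_combination (s * t) * h3 - u * t * hsC - v * s * htC
  linear_combination (d 1) * h4 + u * h1 - s * h2

end Cfsg.Agent.FT.CH2

namespace Cfsg.Agent.FT

open Subgroup Cfsg Cfsg.Agent
open scoped commutatorElement

universe u

variable {G : Type u} [Group G] [Finite G]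

theorem cfKer_eq_of_irrKer_prime {W N : Subgroup G} (hN : N ⊲ W) (hp : (N.relIndex W).Prime)
    {β : G → ℂ} (hβ : β ∈ irrKer W N) (hβ1 : β ≠ cf1 W) : cfKer β = N := by
  obtain ⟨h1, h2⟩ := mem_irrKer.mp hβ
  rcases CH2.eq_or_eq_of_prime h2 (irr_cfKer_le h1) hp with h | h
  · exact h
  · exact (hβ1 ((irr_eq_cf1_iff h1).mpr h.ge)).elim

/-- The nonprincipal characters of a group of prime order are Galois conjugate; here for the
section `W / N` of prime order. -/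
theorem exists_aut_irrKer_prime {W N : Subgroup G} (hN : N ⊲ W) (hp : (N.relIndex W).Prime)
    {β γ : G → ℂ} (hβ : β ∈ irrKer W N) (hβ1 : β ≠ cf1 W) (hγ : γ ∈ irrKer W N) (hγ1 : γ ≠ cf1 W) :
    (∃ u : ℂ →+* ℂ, γ = cfAut u β) ∧ ∃ k : ℕ, 0 < k ∧ k.Coprime (N.relIndex W) ∧ γ = β ^ k := by
  have hWN : ¬ W ≤ N := fun h => hp.one_lt.ne' (relIndex_eq_one.mpr h)
  obtain ⟨w, hw, hwN⟩ := SetLike.not_le_iff_exists.mp hWN
  have hgen : zpowers w ⊔ N = W := by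
    refine (CH2.eq_or_eq_of_prime le_sup_right (sup_le (zpowers_le.mpr hw) hN.1) hp).resolve_left
      fun h => hwN ?_
    rw [← h]
    exact mem_sup_left (mem_zpowers w)
  have hder : ⁅W, W⁆ ≤ N := CycMod.der_le ⟨w, hw, hgen.ge⟩ hN.2 hN.1
  haveI := H1.normal_subgroupOf_of_le hN.2
  haveI := Fact.mk hp
  haveI : NeZero (N.relIndex W) := ⟨hp.ne_zero⟩
  have hpow : ∀ x ∈ W, x ^ N.relIndex W ∈ N := fun x hx =>
    (N.subgroupOf W).pow_index_mem ⟨x, hx⟩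
  have hroot : ∀ δ ∈ irrKer W N, ∀ x ∈ W, δ x ^ N.relIndex W = 1 := fun δ hδ x hx => by
    have hl := isLin_of_mem_irrKer hder hδ
    rw [← hl.pow_apply hx]
    exact hl.mem_cfKer_iff.mp ((mem_irrKer.mp hδ).2 (hpow x hx))
  have hprim : ∀ δ ∈ irrKer W N, δ ≠ cf1 W → IsPrimitiveRoot (δ w) (N.relIndex W) := by
    intro δ hδ h1
    refine IsPrimitiveRoot.iff_orderOf.mpr (orderOf_eq_prime (hroot δ hδ w hw) fun h => hwN ?_)
    rw [← cfKer_eq_of_irrKer_prime hN hp hδ h1]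
    exact (isLin_of_mem_irrKer hder hδ).mem_cfKer_iff.mpr h
  obtain ⟨k, -, hk, hk'⟩ := (hprim β hβ hβ1).isPrimitiveRoot_iff.mp (hprim γ hγ hγ1)
  have hk0 : 0 < k := Nat.pos_of_ne_zero fun h => by
    rw [h, Nat.coprime_zero_left] at hk
    exact hp.one_lt.ne' hk
  have lβ := isLin_of_mem_irrKer hder hβ
  have lγ := isLin_of_mem_irrKer hder hγ
  have hall : ∀ x ∈ W, γ x = β x ^ k := by
    let S : Subgroup G :=
      { carrier := {x | x ∈ W ∧ γ x = β x ^ k}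
        mul_mem' := by
          rintro a b ⟨ha, ha'⟩ ⟨hb, hb'⟩
          exact ⟨W.mul_mem ha hb, by rw [lγ.2.2 a ha b hb, lβ.2.2 a ha b hb, ha', hb', mul_pow]⟩
        one_mem' := ⟨W.one_mem, by rw [lγ.2.1, lβ.2.1, one_pow]⟩
        inv_mem' := by
          rintro a ⟨ha, ha'⟩
          refine ⟨W.inv_mem ha, ?_⟩
          rw [eq_inv_of_mul_eq_one_right (lγ.mul_inv ha), eq_inv_of_mul_eq_one_right (lβ.mul_inv ha),
            ha', inv_pow] }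
    have : W ≤ S := by
      rw [← hgen]
      refine sup_le (zpowers_le.mpr ⟨hw, hk'.symm⟩) fun x hx => ⟨hN.1 hx, ?_⟩
      rw [lγ.mem_cfKer_iff.mp ((mem_irrKer.mp hγ).2 hx),
        lβ.mem_cfKer_iff.mp ((mem_irrKer.mp hβ).2 hx), one_pow]
    exact fun x hx => (this hx).2
  constructor
  · obtain ⟨u, hu⟩ := exists_aut_pow hp.pos hk
    refine ⟨u, funext fun x => ?_⟩
    by_cases hx : x ∈ W
    · rw [cfAut_apply, hu _ (hroot β hβ x hx), hall x hx]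
    · rw [cfAut_apply, lγ.1 x hx, lβ.1 x hx, map_zero]
  · refine ⟨k, hk0, hk, funext fun x => ?_⟩
    by_cases hx : x ∈ W
    · rw [Pi.pow_apply, hall x hx]
    · rw [Pi.pow_apply, lγ.1 x hx, lβ.1 x hx, zero_pow hk0.ne']

/-- Used in PF (13.9)(b) (Isaacs (3.14)). -/
theorem ncard_le_sum_norm_sq {H : Subgroup G} {φ : G → ℂ} (hφ : φ ∈ VChar H) {A : Set G}
    (hA : ∀ x ∈ A, ∀ k : ℕ, k.Coprime (orderOf x) → x ^ k ∈ A) (h0 : ∀ x ∈ A, φ x ≠ 0) :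
    (A.ncard : ℝ) ≤ ∑ x ∈ fs A, ‖φ x‖ ^ 2 := by
  have hAH : ∀ x ∈ A, x ∈ H := fun x hx => by
    by_contra h
    exact h0 x hx (CF_off (vchar_mem_CF hφ) h)
  have h0' : ∀ x ∈ fs A, φ x ≠ 0 := fun x hx => h0 x (mem_fs.mp hx)
  obtain ⟨m, hm⟩ : ∃ m : ℤ, ∏ x ∈ fs A, φ x = m := by
    refine int_of_aut_fixed (IsIntegral.prod _ fun x _ => vchar_isIntegral hφ x) fun u => ?_
    obtain ⟨k, -, hk, hu⟩ := exists_pow_of_aut u (Nat.card_pos (α := G))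
    have hinj : Function.Injective fun x : G => x ^ k := (powCoprime hk.symm).injective
    have hmaps : ∀ x ∈ fs A, x ^ k ∈ fs A := fun x hx =>
      mem_fs.mpr (hA x (mem_fs.mp hx) k (hk.coprime_dvd_right (orderOf_dvd_natCard x)))
    rw [map_prod]
    refine Finset.prod_nbij (fun x => x ^ k) hmaps hinj.injOn ?_ fun x hx => ?_
    · exact Finset.surjOn_of_injOn_of_card_le _ hmaps hinj.injOn le_rfl
    · exact vchar_aut_apply hφ Nat.card_pos hu (hAH x (mem_fs.mp hx)) pow_card_eq_one'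
  have h1 := CH2.eq_zero_or_one_le_norm_prod _ _ hm h0'
  rw [← card_fs]
  refine CH2.card_le_sum_of_one_le_prod _ _ (fun x hx => pow_pos (norm_pos_iff.mpr (h0' x hx)) 2) ?_
  rw [Finset.prod_pow]
  exact one_le_pow₀ h1

theorem irr_central_isIntegral {H : Subgroup G} {χ : G → ℂ} (hχ : χ ∈ Irr H) {g : G} (hg : g ∈ H) :
    IsIntegral ℤ ((𝐂[g].relIndex H : ℂ) * χ g / χ 1) := by
  have h := (mem_Irr.mp hχ).2.isIntegral_central ⟨g, hg⟩
  have h1 : (𝐂[g]).subgroupOf H = centralizer ({⟨g, hg⟩} : Set H) := by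
    ext x
    simp only [mem_subgroupOf, mem_centralizer_singleton_iff, Subtype.ext_iff, coe_mul]
  rw [relIndex, h1]
  exact h

/-- PF (1.1). -/
theorem odd_star_irr_eq_iff {H : Subgroup G} (ho : Odd 𝐨(H)) {χ : G → ℂ} (hχ : χ ∈ Irr H) :
    star χ = χ ↔ χ = cf1 H := by
  refine ⟨fun h => ?_, fun h => by rw [h, star_cf1]⟩
  by_contra hne
  have h1 := ip_irr_of_ne hχ (cf1_mem_Irr H) hne
  rw [ip_cf1_right, mul_eq_zero, sum_fs_sharp] at h1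
  have h2 := h1.resolve_left (inv_ne_zero (card_ne_zero_C H))
  obtain ⟨t, -, ht⟩ := CH2.exists_half (fs (sharp H)) (fun x => x⁻¹)
    (fun x hx => by
      rw [mem_fs] at hx ⊢
      exact ⟨H.inv_mem hx.1, fun h => hx.2 (inv_eq_one.mp h)⟩)
    (fun x _ => inv_inv x)
    (fun x hx h => by
      rw [mem_fs] at hx
      have h3 : orderOf x ∣ 2 := orderOf_dvd_of_pow_eq_one (by
        rw [pow_two]; exact mul_eq_one_iff_inv_eq.mpr h)
      have h4 : orderOf x ∣ Nat.card H := H.orderOf_dvd_natCard hx.1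
      exact hx.2 (orderOf_eq_one_iff.mp
        (Nat.eq_one_of_dvd_coprimes (Nat.coprime_two_left.mpr ho) h3 h4)))
    χ (fun x _ => by rw [(irr_isChar hχ).apply_inv, ← star_apply', h])
  rw [ht, irr_one_eq hχ] at h2
  have h3 : IsIntegral ℤ (((dg χ : ℚ) / 2 : ℚ) : ℂ) := by
    have : (((dg χ : ℚ) / 2 : ℚ) : ℂ) = -∑ x ∈ t, χ x := by
      push_cast
      rw [nsmul_eq_mul] at h2
      push_cast at h2
      linear_combination h2 / 2
    rw [this]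
    exact (IsIntegral.sum _ fun x _ => (irr_isChar hχ).isIntegral x).neg
  obtain ⟨m, hm⟩ := int_of_isIntegral_rat h3
  have h4 : (dg χ : ℤ) = 2 * m := by
    push_cast at hm
    have : ((dg χ : ℤ) : ℂ) = ((2 * m : ℤ) : ℂ) := by push_cast; linear_combination 2 * hm
    exact_mod_cast this
  have h5 : 2 ∣ dg χ := by exact_mod_cast (Dvd.intro _ h4.symm : (2 : ℤ) ∣ (dg χ : ℤ))
  exact (Nat.not_even_iff_odd.mpr ho) (even_iff_two_dvd.mpr (h5.trans (irr_dg_dvd_card hχ)))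

/-- PF (1.2). -/
theorem irr_reg_off_ker {H L : Subgroup G} (h : H ⊲ L) {χ : G → ℂ} (hχ : χ ∈ Irr L)
    (hk : ¬ H ≤ cfKer χ) {g : G} (hg : H ⊓ 𝐂[g] = ⊥) : χ g = 0 := by
  by_cases hgL : g ∈ L
  swap
  · exact (irr_isChar hχ).off hgL
  haveI := H1.normal_subgroupOf_of_le h.2
  have h1 := sum_irr_norm_sq hgL
  have h2 := PullPair.sum_irrKer (pullPair_bar_top (N := H) h.1) (pullPair_bar_bot (N := H) h.1)
    (fun χ => ‖χ g‖ ^ 2)
  simp only [cfPull_of_mem _ hgL] at h2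
  rw [sum_irr_norm_sq (mem_top _)] at h2
  have h3 : Nat.card (L ⊓ 𝐂[g] : Subgroup G) ≤
      Nat.card (⊤ ⊓ 𝐂[H1.qmk L H ⟨g, hgL⟩] : Subgroup (L ⧸ H.subgroupOf L)) := by
    refine Nat.card_le_card_of_injective (fun x => ⟨H1.qmk L H ⟨x.1, x.2.1⟩, mem_top _, ?_⟩) ?_
    · have := mem_centralizer_singleton_iff.mp x.2.2
      refine mem_centralizer_singleton_iff.mpr ?_
      rw [← map_mul, ← map_mul]
      congr 1
      exact Subtype.ext this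
    · intro x y hxy
      have h4 : H1.qmk L H ⟨x.1, x.2.1⟩ = H1.qmk L H ⟨y.1, y.2.1⟩ := congrArg Subtype.val hxy
      rw [← mul_inv_eq_one, ← map_inv, ← map_mul, H1.qmk_eq_one_iff] at h4
      have h5 : x.1 * y.1⁻¹ ∈ H ⊓ 𝐂[g] := ⟨h4, (𝐂[g]).mul_mem x.2.2 ((𝐂[g]).inv_mem y.2.2)⟩
      rw [hg, mem_bot, mul_inv_eq_one] at h5
      exact Subtype.ext h5
  have h4 : ∑ ψ ∈ insert χ (irrKer L H), ‖ψ g‖ ^ 2 ≤ ∑ ψ ∈ Irr L, ‖ψ g‖ ^ 2 :=
    Finset.sum_le_sum_of_subset_of_nonneg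
      (Finset.insert_subset hχ (irrKer_subset L H)) fun _ _ _ => by positivity
  rw [Finset.sum_insert fun h => hk (mem_irrKer.mp h).2, h1, h2] at h4
  have h5 : (Nat.card (L ⊓ 𝐂[g] : Subgroup G) : ℝ) ≤
      Nat.card (⊤ ⊓ 𝐂[H1.qmk L H ⟨g, hgL⟩] : Subgroup (L ⧸ H.subgroupOf L)) := by
    exact_mod_cast h3
  have h6 : ‖χ g‖ ^ 2 = 0 := le_antisymm (by linarith) (by positivity)
  simpa using h6

/-- The principle behind PF (1.3). -/
theorem eq_zero_on_of_orth_CFon {H : Subgroup G} {A : Set G} (hA : A ⊆ H)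
    (hn : ∀ g ∈ H, ∀ a ∈ A, g * a * g⁻¹ ∈ A) {ψ : G → ℂ}
    (hψ : ∀ g ∈ H, ∀ x, ψ (g * x * g⁻¹) = ψ x) (h : ∀ α ∈ CFon H A, ip H α ψ = 0) :
    ∀ a ∈ A, ψ a = 0 := by
  have h1 : A.indicator ψ ∈ CFon H A := by
    refine mem_CFon.mpr ⟨mem_CF.mpr ⟨fun x hx => Set.indicator_of_notMem (fun h => hx (hA h)) _,
      fun g hg x => ?_⟩, fun x hx => Set.indicator_of_notMem hx _⟩
    by_cases hx : x ∈ A
    · rw [Set.indicator_of_mem hx, Set.indicator_of_mem (hn g hg x hx), hψ g hg]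
    · rw [Set.indicator_of_notMem hx, Set.indicator_of_notMem]
      intro h2
      have := hn g⁻¹ (H.inv_mem hg) _ h2
      apply hx
      simpa [mul_assoc] using this
  have h2 := h _ h1
  rw [ip_congr_of_supp (A := A) (ψ' := A.indicator ψ) (fun x _ hx => CFon_off h1 hx)
    (fun x hx => (Set.indicator_of_mem hx _).symm), ip_self] at h2
  intro a ha
  have := apply_eq_zero_of_nsq (by exact_mod_cast h2) (hA ha)
  rwa [Set.indicator_of_mem ha] at this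

/-- PF (1.4). -/
theorem vchar_isometry_base {H Y : Subgroup G} {X : Finset (G → ℂ)} (hX : X ⊆ Irr H)
    (h2 : 1 < X.card) (hd : ∀ χ ∈ X, ∀ ψ ∈ X, χ 1 = ψ 1) {τ : (G → ℂ) →ₗ[ℂ] (G → ℂ)}
    (hi : ∀ φ ∈ Zs0 X, ∀ ψ ∈ Zs0 X, ip Y (τ φ) (τ ψ) = ip H φ ψ)
    (hv : ∀ φ ∈ Zs0 X, τ φ ∈ VChar Y ∧ τ φ 1 = 0) :
    ∃ ε : ℤ, (ε = 1 ∨ ε = -1) ∧ ∃ μ : (G → ℂ) → G → ℂ, (∀ χ ∈ X, μ χ ∈ Irr Y) ∧
      Set.InjOn μ X ∧ ∀ χ ∈ X, ∀ ψ ∈ X, τ (χ - ψ) = (ε : ℂ) • (μ χ - μ ψ) := by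
  obtain ⟨χ₁, h₁, χ₂, h₂, h12⟩ := Finset.one_lt_card.mp h2
  have hz : ∀ χ ∈ X, ∀ ψ ∈ X, χ - ψ ∈ Zs0 X := fun χ hχ ψ hψ =>
    sub_mem_Zs0 (mem_Zs_of_mem hχ) (mem_Zs_of_mem hψ) (hd χ hχ ψ hψ)
  have hab : ∀ χ, ∃ a b, χ ∈ X → χ ≠ χ₁ →
      a ∈ Irr Y ∧ b ∈ Irr Y ∧ a ≠ b ∧ τ (χ₁ - χ) = a - b := by
    intro χ
    by_cases hχ : χ ∈ X ∧ χ ≠ χ₁
    · obtain ⟨a, ha, b, hb, h⟩ := vchar_norm_two (hv _ (hz _ h₁ _ hχ.1)).1 (by
        rw [nsq_eq_of_ip_eq (hi _ (hz _ h₁ _ hχ.1) _ (hz _ h₁ _ hχ.1)),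
          nsq_sub_of_orth (ip_irr_of_ne (hX h₁) (hX hχ.1) hχ.2.symm), nsq_irr (hX h₁),
          nsq_irr (hX hχ.1)]
        norm_num) (hv _ (hz _ h₁ _ hχ.1)).2
      exact ⟨a, b, fun _ _ => ⟨ha, hb, h⟩⟩
    · exact ⟨0, 0, fun h h' => (hχ ⟨h, h'⟩).elim⟩
  choose a b hab using hab
  have hor : ∀ χ ∈ X, χ ≠ χ₁ → ∀ ψ ∈ X, ψ ≠ χ₁ → a χ = a ψ ∨ b χ = b ψ := by
    intro χ hχ hχ1 ψ hψ hψ1
    by_cases hχψ : χ = ψ
    · exact Or.inl (by rw [hχψ])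
    by_contra hc
    push Not at hc
    obtain ⟨ha, hb, -, e⟩ := hab χ hχ hχ1
    obtain ⟨ha', hb', -, e'⟩ := hab ψ hψ hψ1
    have h3 := hi _ (hz _ h₁ _ hχ) _ (hz _ h₁ _ hψ)
    rw [e, e'] at h3
    simp only [ip_sub_left, ip_sub_right, ip_irr_of_ne ha ha' hc.1, ip_irr_of_ne hb hb' hc.2,
      ip_irr_self (hX h₁), ip_irr_of_ne (hX h₁) (hX hψ) hψ1.symm,
      ip_irr_of_ne (hX hχ) (hX h₁) hχ1, ip_irr_of_ne (hX hχ) (hX hψ) hχψ,
      ip_irr ha hb', ip_irr hb ha'] at h3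
    split_ifs at h3 <;> norm_num at h3
  have hne : ∀ χ ∈ X, χ ≠ χ₁ → ∀ ψ ∈ X, ψ ≠ χ₁ → a χ = a ψ → b χ = b ψ → χ = ψ := by
    intro χ hχ hχ1 ψ hψ hψ1 e1 e2
    by_contra hχψ
    obtain ⟨ha, hb, hab1, e⟩ := hab χ hχ hχ1
    obtain ⟨-, -, -, e'⟩ := hab ψ hψ hψ1
    have h3 := hi _ (hz _ h₁ _ hχ) _ (hz _ h₁ _ hψ)
    rw [e, e', ← e1, ← e2] at h3
    simp only [ip_sub_left, ip_sub_right, ip_irr_self ha, ip_irr_self hb,
      ip_irr_of_ne ha hb hab1, ip_irr_of_ne hb ha hab1.symm,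
      ip_irr_self (hX h₁), ip_irr_of_ne (hX h₁) (hX hψ) hψ1.symm,
      ip_irr_of_ne (hX hχ) (hX h₁) hχ1, ip_irr_of_ne (hX hχ) (hX hψ) hχψ] at h3
    norm_num at h3
  obtain ⟨ε, hε, a₀, ha₀, c, hc⟩ : ∃ ε : ℤ, (ε = 1 ∨ ε = -1) ∧ ∃ a₀ ∈ Irr Y,
      ∃ c : (G → ℂ) → G → ℂ, ∀ χ ∈ X, χ ≠ χ₁ →
        c χ ∈ Irr Y ∧ τ (χ₁ - χ) = (ε : ℂ) • (a₀ - c χ) := by
    by_cases hA : ∀ χ ∈ X, χ ≠ χ₁ → a χ = a χ₂
    · refine ⟨1, Or.inl rfl, a χ₂, (hab χ₂ h₂ h12.symm).1, b, fun χ hχ hχ1 =>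
        ⟨(hab χ hχ hχ1).2.1, ?_⟩⟩
      rw [(hab χ hχ hχ1).2.2.2, hA χ hχ hχ1]; simp
    · push Not at hA
      obtain ⟨ψ, hψ, hψ1, hψa⟩ := hA
      have hψb := (hor ψ hψ hψ1 χ₂ h₂ h12.symm).resolve_left hψa
      refine ⟨-1, Or.inr rfl, b χ₂, (hab χ₂ h₂ h12.symm).2.1, a, fun χ hχ hχ1 =>
        ⟨(hab χ hχ hχ1).1, ?_⟩⟩
      have hb : b χ = b χ₂ := by
        rcases hor χ hχ hχ1 χ₂ h₂ h12.symm with h | h
        · rcases hor χ hχ hχ1 ψ hψ hψ1 with h' | h'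
          · exact (hψa (h'.symm.trans h)).elim
          · exact h'.trans hψb
        · exact h
      rw [(hab χ hχ hχ1).2.2.2, hb]; simp
  let μ : (G → ℂ) → G → ℂ := fun χ => if χ = χ₁ then a₀ else c χ
  have hμ1 : ∀ χ ∈ X, τ (χ₁ - χ) = (ε : ℂ) • (a₀ - μ χ) := by
    intro χ hχ
    by_cases h : χ = χ₁
    · simp [μ, h]
    · simp only [μ, if_neg h]
      exact (hc χ hχ h).2
  have hμ : ∀ χ ∈ X, ∀ ψ ∈ X, τ (χ - ψ) = (ε : ℂ) • (μ χ - μ ψ) := by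
    intro χ hχ ψ hψ
    have : χ - ψ = (χ₁ - ψ) - (χ₁ - χ) := by abel
    rw [this, map_sub, hμ1 χ hχ, hμ1 ψ hψ, ← smul_sub]
    congr 1
    abel
  refine ⟨ε, hε, μ, fun χ hχ => ?_, fun χ hχ ψ hψ e => ?_, hμ⟩
  · by_cases h : χ = χ₁
    · simp only [μ, if_pos h]; exact ha₀
    · simp only [μ, if_neg h]; exact (hc χ hχ h).1
  · have h3 := hi _ (hz _ hχ _ hψ) _ (hz _ hχ _ hψ)
    rw [hμ χ hχ ψ hψ, e, sub_self, smul_zero, ip_zero_left, ip_self] at h3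
    exact sub_eq_zero.mp (eq_zero_of_nsq (sub_mem (irr_mem_CF (hX hχ)) (irr_mem_CF (hX hψ)))
      (by exact_mod_cast h3.symm))

/-- PF (1.5)(e). -/
theorem odd_induced_orth {H L : Subgroup G} (h : H ⊲ L) (ho : Odd 𝐨(L)) {θ : G → ℂ}
    (hθ : θ ∈ Irr H) (h1 : θ ≠ cf1 H) : ip L (ind L H θ) (star (ind L H θ)) = 0 := by
  rw [← ind_star]
  refine ip_ind_irr_eq_zero h hθ (star_mem_Irr hθ) fun hc => h1 ?_
  obtain ⟨g, hg, e⟩ := mem_cfClass.mp hc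
  have h2 : g ^ 2 ∈ inertia θ := by
    rw [mem_inertia, pow_two, ← cfConj_cfConj, e, cfConj_star, e, star_star]
  have h3 : g ∈ inertia θ := by
    have h4 : (2 : ℕ).Coprime (orderOf g) :=
      (Nat.coprime_two_left.mpr ho).coprime_dvd_right (L.orderOf_dvd_natCard hg)
    obtain ⟨m, hm⟩ := exists_pow_eq_self_of_coprime h4
    rw [← hm]
    exact pow_mem h2 m
  rw [mem_inertia.mp h3] at e
  exact (odd_star_irr_eq_iff (ho.of_dvd_nat (card_dvd_of_le h.1)) hθ).mp e.symm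

/-- PF (1.10)(a). -/
theorem vchar_ker_mod_prim {p : ℕ} (hp : p.Prime) {ε : ℂ} (hε : IsPrimitiveRoot ε p)
    {H : Subgroup G} {φ : G → ℂ} (hφ : φ ∈ VChar H) {x y : G} (hx : x ∈ H)
    (hxp : x ^ p = 1) (hxy : Commute x y) :
    ∃ z : ℂ, IsIntegral ℤ z ∧ φ (x * y) - φ y = (1 - ε) * z := by
  by_cases hy : y ∈ H
  swap
  · refine ⟨0, isIntegral_zero, ?_⟩
    rw [CF_off (vchar_mem_CF hφ) hy, CF_off (vchar_mem_CF hφ) fun h => hy ?_]
    · simp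
    · exact (H.mul_mem_cancel_left hx).mp h
  haveI : NeZero p := ⟨hp.ne_zero⟩
  let K := closure ({x, y} : Set G)
  have hK : K ≤ H := (closure_le _).mpr (by
    rintro z (rfl | rfl) <;> assumption)
  have hxK : x ∈ K := subset_closure (by simp)
  have hyK : y ∈ K := subset_closure (by simp)
  have hc : IsMulCommutative K := isMulCommutative_closure (by
    rintro z (rfl | rfl) w (rfl | rfl)
    exacts [rfl, hxy.eq, hxy.eq.symm, rfl])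
  rw [← res_of_mem φ (K.mul_mem hxK hyK), ← res_of_mem φ hyK]
  refine vchar_induction (P := fun ψ => ∃ z : ℂ, IsIntegral ℤ z ∧ ψ (x * y) - ψ y = (1 - ε) * z)
    ⟨0, isIntegral_zero, by simp⟩ ?_ ?_ (vchar_res hK hφ)
  · intro χ hχ
    have hl := isLin_of_comm hc hχ
    obtain ⟨i, -, hi⟩ := hε.eq_pow_of_pow_eq_one (ξ := χ x)
      (by rw [← hl.pow_apply hxK, hxp, hl.2.1])
    refine ⟨-((∑ j ∈ Finset.range i, ε ^ j) * χ y), ((IsIntegral.sum _ fun j _ =>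
      (hε.isIntegral hp.pos).pow j).mul ((irr_isChar hχ).isIntegral y)).neg, ?_⟩
    rw [hl.2.2 x hxK y hyK, mul_neg, ← mul_assoc, mul_neg_geom_sum, hi]
    ring
  · rintro ψ ψ' ⟨z, hz, e⟩ ⟨z', hz', e'⟩
    refine ⟨z - z', hz.sub hz', ?_⟩
    simp only [Pi.sub_apply]
    linear_combination e - e'

/-- PF (1.10)(b). -/
theorem dvd_of_mod_prim {p : ℕ} (hp : p.Prime) {ε : ℂ} (hε : IsPrimitiveRoot ε p) {n : ℤ} {z : ℂ}
    (hz : IsIntegral ℤ z) (h : (n : ℂ) = (1 - ε) * z) : (p : ℤ) ∣ n := by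
  obtain ⟨q, rfl⟩ : ∃ q, p = q + 1 := ⟨p - 1, (Nat.succ_pred_eq_of_pos hp.pos).symm⟩
  have h1 : ∀ k, ∃ w : ℂ, k ∈ Finset.range q →
      IsIntegral ℤ w ∧ (n : ℂ) = (1 - ε ^ (k + 1)) * w := by
    intro k
    by_cases hk : k ∈ Finset.range q
    · have hk' := Finset.mem_range.mp hk
      obtain ⟨u, hu⟩ := exists_aut_pow (k := k + 1) hp.pos
        (Nat.coprime_of_lt_prime (by omega) (by omega) hp).symm
      refine ⟨u z, fun _ => ⟨hz.map u.toIntAlgHom, ?_⟩⟩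
      rw [← hu ε hε.pow_eq_one, ← map_intCast u n, h, map_mul, map_sub, map_one]
    · exact ⟨0, fun h => (hk h).elim⟩
  choose w hw using h1
  have h2 : (n : ℂ) ^ q = ((q + 1 : ℕ) : ℂ) * ∏ k ∈ Finset.range q, w k := by
    have h3 := hε.prod_one_sub_pow_eq_order
    push_cast
    rw [← h3, ← Finset.prod_mul_distrib, ← Finset.prod_congr rfl fun k hk => (hw k hk).2]
    simp
  have hq : ((q + 1 : ℕ) : ℂ) ≠ 0 := by exact_mod_cast hp.ne_zero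
  have h4 : IsIntegral ℤ ((((n : ℚ) ^ q / (q + 1 : ℕ)) : ℚ) : ℂ) := by
    have : ((((n : ℚ) ^ q / (q + 1 : ℕ)) : ℚ) : ℂ) = ∏ k ∈ Finset.range q, w k := by
      rw [Rat.cast_div, Rat.cast_pow, Rat.cast_intCast, Rat.cast_natCast, h2]
      field_simp
    rw [this]
    exact IsIntegral.prod _ fun k hk => (hw k hk).1
  obtain ⟨m, hm⟩ := int_of_isIntegral_rat h4
  rw [Rat.cast_div, Rat.cast_pow, Rat.cast_intCast, Rat.cast_natCast, div_eq_iff hq] at hm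
  have h5 : n ^ q = m * (q + 1 : ℕ) := by exact_mod_cast hm
  exact (Nat.prime_iff_prime_int.mp hp).dvd_of_dvd_pow (Dvd.intro_left _ h5.symm)

/-- Inner products of real virtual characters of a group of odd order. -/
theorem ip_real_vchar_mod_two {H : Subgroup G} (ho : Odd 𝐨(H)) {φ ψ : G → ℂ} (hφ : φ ∈ VChar H)
    (hψ : ψ ∈ VChar H) (rφ : star φ = φ) (rψ : star ψ = ψ) :
    ∃ n : ℤ, ip H φ ψ = ip H φ (cf1 H) * ip H ψ (cf1 H) + 2 * n := by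
  have hstar : ∀ ξ ∈ VChar H, star ξ = ξ → ∀ χ ∈ Irr H, ip H ξ (star χ) = ip H ξ χ := by
    intro ξ hξ r χ hχ
    rw [ip_star_right, r, vchar_ip_comm hξ (irr_mem_VChar hχ)]
  have hsum : ip H φ ψ = ∑ χ ∈ Irr H, ip H φ χ * ip H ψ χ := by
    rw [ip_eq_sum_irr (vchar_mem_CF hφ)]
    refine Finset.sum_congr rfl fun χ hχ => ?_
    rw [conj_ip, vchar_ip_comm hψ (irr_mem_VChar hχ)]
  obtain ⟨t, hts, ht⟩ := CH2.exists_half ((Irr H).erase (cf1 H)) star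
    (fun χ hχ => by
      obtain ⟨h1, h2⟩ := Finset.mem_erase.mp hχ
      refine Finset.mem_erase.mpr ⟨fun h => h1 ?_, star_mem_Irr h2⟩
      rw [← star_star χ, h, star_cf1])
    (fun χ _ => star_star χ)
    (fun χ hχ h => by
      obtain ⟨h1, h2⟩ := Finset.mem_erase.mp hχ
      exact h1 ((odd_star_irr_eq_iff ho h2).mp h))
    (fun χ => ip H φ χ * ip H ψ χ)
    (fun χ hχ => by
      have h2 := (Finset.mem_erase.mp hχ).2
      rw [hstar φ hφ rφ χ h2, hstar ψ hψ rψ χ h2])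
  have hint : ∃ n : ℤ, ∑ χ ∈ t, ip H φ χ * ip H ψ χ = n := by
    refine Finset.sum_induction _ (fun z : ℂ => ∃ n : ℤ, z = n) ?_ ⟨0, by simp⟩ ?_
    · rintro _ _ ⟨a, rfl⟩ ⟨b, rfl⟩
      exact ⟨a + b, by simp⟩
    · intro χ hχ
      have h2 := irr_mem_VChar (Finset.mem_erase.mp (hts hχ)).2
      obtain ⟨a, ha⟩ := vchar_ip_int hφ h2
      obtain ⟨b, hb⟩ := vchar_ip_int hψ h2
      exact ⟨a * b, by rw [ha, hb]; simp⟩
  obtain ⟨n, hn⟩ := hint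
  refine ⟨n, ?_⟩
  rw [hsum, ← Finset.add_sum_erase _ _ (cf1_mem_Irr H), ht, hn]
  simp

/-- PF (4.1). -/
theorem vchar_pairs_orthonormal {X : Subgroup G} {a b c d : G → ℂ} (ha : Dirr X a) (hb : Dirr X b)
    (hc : Dirr X c) (hd : Dirr X d) (hab : ip X a b = 0) (hcd : ip X c d = 0) {u v : ℝ}
    (hu : u ≠ 0) (hv : v ≠ 0) (h : ip X (a - b) ((u : ℂ) • c - (v : ℂ) • d) = 0)
    (h1 : a 1 = b 1) (h2 : u * c 1 = v * d 1) :
    ip X a c = 0 ∧ ip X a d = 0 ∧ ip X b c = 0 ∧ ip X b d = 0 := by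
  have hba := ip_eq_zero_symm hab
  have hdc := ip_eq_zero_symm hcd
  refine ⟨CH2.pairs_core ha hb hc hd hab hcd hu hv h h1 h2,
    CH2.pairs_core ha hb hd hc hab hdc hv hu ?_ h1 h2.symm,
    CH2.pairs_core hb ha hc hd hba hcd hu hv ?_ h1.symm h2,
    CH2.pairs_core hb ha hd hc hba hdc hv hu ?_ h1.symm h2.symm⟩
  · rw [← neg_sub ((u : ℂ) • c), ip_neg_right, h, neg_zero]
  · rw [← neg_sub a, ip_neg_left, h, neg_zero]
  · rw [← neg_sub a, ip_neg_left, ← neg_sub ((u : ℂ) • c), ip_neg_right, h, neg_zero, neg_zero]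

end Cfsg.Agent.FT
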