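/-
PF section 2, first part: the signalizer, the support and the isometry property.
-/
import Cfsg.Agent.FT.CH2

set_option autoImplicit false
set_option linter.unusedSectionVars false
set_option linter.unusedVariables false

namespace Cfsg.Agent.FT

open Subgroup Cfsg Cfsg.Agent
open scoped commutatorElement ComplexConjugate

universe u

variable {G : Type u} [Group G] [Finite G]

namespace PF02

omit [Finite G] in
theorem sub_top (A : Set G) : A ⊆ ((⊤ : Subgroup G) : Set G) := fun _ _ => trivial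

theorem sum_mul_disj {M : Type*} [AddCommMonoid M] {A B : Subgroup G} (hd : A ⊓ B = ⊥)
    {S : Set G} (hS : ∀ x, x ∈ S ↔ ∃ a ∈ A, ∃ b ∈ B, a * b = x) (F : G → M) :
    ∑ x ∈ fs S, F x = ∑ a ∈ fs (A : Set G), ∑ b ∈ fs (B : Set G), F (a * b) := by
  rw [← Finset.sum_product']
  symm
  refine Finset.sum_nbij (fun p => p.1 * p.2) (fun p hp => ?_) (fun p hp q hq e => ?_)
    (fun x hx => ?_) fun _ _ => rfl
  · rw [Finset.mem_product, mem_fs, mem_fs] at hp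
    exact mem_fs.2 ((hS _).2 ⟨_, hp.1, _, hp.2, rfl⟩)
  · simp only [Finset.coe_product, coe_fs, Set.mem_prod, SetLike.mem_coe] at hp hq
    have e' : q.1⁻¹ * p.1 = q.2 * p.2⁻¹ := by
      calc q.1⁻¹ * p.1 = q.1⁻¹ * (p.1 * p.2) * p.2⁻¹ := by group
        _ = _ := by rw [show p.1 * p.2 = q.1 * q.2 from e]; group
    have h2 : q.1⁻¹ * p.1 ∈ A ⊓ B :=
      ⟨A.mul_mem (A.inv_mem hq.1) hp.1, e' ▸ B.mul_mem hq.2 (B.inv_mem hp.2)⟩
    rw [hd, mem_bot] at h2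
    have h3 : q.1 = p.1 := inv_mul_eq_one.1 h2
    refine Prod.ext h3.symm ?_
    rw [h2] at e'
    exact (mul_inv_eq_one.1 e'.symm).symm
  · rw [coe_fs] at hx
    obtain ⟨a, ha, b, hb, rfl⟩ := (hS x).1 hx
    exact ⟨(a, b), by simp [ha, hb], rfl⟩

theorem sum_weight {R : Type*} [CommSemiring R] (W F : G → R)
    (hF : ∀ x g : G, F (x * g * x⁻¹) = F g) :
    (Nat.card G : R) * ∑ g ∈ fs ((⊤ : Subgroup G) : Set G), W g * F g =
      ∑ g ∈ fs ((⊤ : Subgroup G) : Set G), F g *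
        ∑ x ∈ fs ((⊤ : Subgroup G) : Set G), W (x⁻¹ * g * x) := by
  simp_rw [Finset.mul_sum]
  rw [Finset.sum_comm, ← Finset.mul_sum, ← nsmul_eq_mul, ← card_top (G := G), ← sum_fs_const]
  refine sum_fs_congr fun x _ => ?_
  rw [← sum_fs_conj' (H := ⊤) (g := x) (by rw [norm_top]; trivial)]
  refine sum_fs_congr fun g _ => ?_
  have := hF x⁻¹ g
  rw [inv_inv] at this
  rw [this, mul_comm]

open Classical in
theorem sum_coset {M : Type*} [AddCommMonoid M] (C : Subgroup G) (a : G) (φ : G → M) :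
    ∑ g ∈ fs ((⊤ : Subgroup G) : Set G), (if g * a⁻¹ ∈ C then φ g else 0) =
      ∑ c ∈ fs (C : Set G), φ (c * a) := by
  rw [← sum_fs_mul_right (H := ⊤) (g := a) trivial,
    ← sum_fs_subset (sub_top (C : Set G))]
  · refine sum_fs_congr fun c hc => ?_
    rw [if_pos (by simpa using hc)]
  · intro x _ hx
    rw [if_neg (by simpa using hx)]

/-- The set of primes attached to a Dade hypothesis. -/
def dpi (L : Subgroup G) (A : Set G) : Set ℕ := {p | ∃ b ∈ A, p ∈ piOf (L ⊓ 𝐂[b])}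

variable {L : Subgroup G} {A : Set G} {H : G → Subgroup G}

theorem isPi_H (h : DadeHyp L A H) {a : G} (ha : a ∈ A) : IsPiSubgroup (dpi L A)ᶜ (H a) := by
  rintro p hp hd ⟨b, hb, -, hb'⟩
  exact hp.one_lt.ne' (Nat.eq_one_of_dvd_coprimes (h.cop a ha b hb) hd hb')

theorem isPi_CL {a : G} (ha : a ∈ A) : IsPiSubgroup (dpi L A) (L ⊓ 𝐂[a]) :=
  fun p hp hd => ⟨a, ha, hp, hd⟩

theorem isPiElt_A (h : DadeHyp L A H) {a : G} (ha : a ∈ A) : IsPiElt (dpi L A) a :=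
  isPiElt_of_mem (isPi_CL ha) (mem_inf.2 ⟨h.subset ha, self_mem_cent1 a⟩)

theorem mem_H_iff_of (h : DadeHyp L A H) {a : G} (ha : a ∈ A) {π : Set ℕ}
    (h1 : IsPiSubgroup πᶜ (H a)) (h2 : IsPiSubgroup π (L ⊓ 𝐂[a])) {x : G} :
    x ∈ H a ↔ x ∈ 𝐂[a] ∧ IsPiElt πᶜ x :=
  ⟨fun hx => ⟨(h.sd a ha).le_left hx, isPiElt_of_mem h1 hx⟩, fun hx =>
    mem_of_hall_normal ((h.sd a ha).hall h1 (by rwa [compl_compl])).1 (h.sd a ha).le_norm hx.1 hx.2⟩

theorem mem_H_iff (h : DadeHyp L A H) {a : G} (ha : a ∈ A) {x : G} :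
    x ∈ H a ↔ x ∈ 𝐂[a] ∧ IsPiElt (dpi L A)ᶜ x :=
  mem_H_iff_of h ha (isPi_H h ha) (isPi_CL ha)

theorem H_conj (h : DadeHyp L A H) {a x : G} (ha : a ∈ A) (hx : x * a * x⁻¹ ∈ A) :
    H (x * a * x⁻¹) = H a ^ᵍ x := by
  ext y
  rw [mem_conj, mem_H_iff h hx, mem_H_iff h ha, cent1_conj, mem_conj]
  have : IsPiElt (dpi L A)ᶜ (x⁻¹ * y * x) ↔ IsPiElt (dpi L A)ᶜ y := by
    have := isPiElt_conj (π := (dpi L A)ᶜ) (x := y) (g := x⁻¹)
    rwa [inv_inv] at this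
  rw [this]

theorem piPt_mul_H (h : DadeHyp L A H) {a u : G} (ha : a ∈ A) (hu : u ∈ H a) :
    piPt (dpi L A) (u * a) = a := by
  obtain ⟨h1, h2⟩ := (mem_H_iff h ha).1 hu
  have hc := mem_cent1_iff_commute.1 h1
  rw [← hc.eq]
  exact piPt_mul_eq (isPiElt_A h ha) h2 hc

theorem coset_iff (h : DadeHyp L A H) {a g : G} (ha : a ∈ A) :
    g * a⁻¹ ∈ H a ↔ piPt (dpi L A) g = a := by
  constructor
  · intro hg
    have := piPt_mul_H h ha hg
    rwa [inv_mul_cancel_right] at this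
  · intro e
    have hc : g ∈ 𝐂[a] := by rw [← e]; exact cent1_le_cent1_piPt _ g (self_mem_cent1 g)
    refine (mem_H_iff h ha).2 ⟨mul_mem hc (inv_mem (self_mem_cent1 a)), ?_⟩
    have h2 := (piPt_spec (dpi L A) g).2.2
    rw [e] at h2
    have e2 : g * a⁻¹ = a⁻¹ * g := ((mem_cent1_iff_commute.1 hc).inv_left.eq).symm
    rwa [e2]

theorem supp1_iff (h : DadeHyp L A H) {a g : G} (ha : a ∈ A) :
    InDadeSupp1 H a g ↔ ∃ x, piPt (dpi L A) g = x * a * x⁻¹ := by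
  constructor
  · rintro ⟨u, hu, x, rfl⟩
    exact ⟨x, by rw [piPt_conj, piPt_mul_H h ha hu]⟩
  · rintro ⟨x, hx⟩
    have h1 : piPt (dpi L A) (x⁻¹ * g * x⁻¹⁻¹) = a := by rw [piPt_conj, hx]; group
    exact ⟨_, (coset_iff h ha).2 h1, x, by group⟩

theorem conj_mem_iff (h : DadeHyp L A H) {a x : G} (ha : a ∈ A) :
    x⁻¹ * a * x ∈ A ↔ ∃ u ∈ H a, ∃ l ∈ L, u * l = x := by
  constructor
  · intro hx
    obtain ⟨l, hl, e⟩ := h.fusion a ha x⁻¹ (by rwa [inv_inv])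
    have h1 : x * l ∈ 𝐂[a] := by
      rw [mem_cent1_iff_conj]
      calc x * l * a * (x * l)⁻¹ = x * (l * a * l⁻¹) * x⁻¹ := by group
        _ = a := by rw [e]; group
    obtain ⟨u, hu, y, hy, e2⟩ := (h.sd a ha).mem_iff.1 h1
    refine ⟨u, hu, y * l⁻¹, mul_mem (mem_inf.1 hy).1 (inv_mem hl), ?_⟩
    rw [← mul_assoc, e2]; group
  · rintro ⟨u, hu, l, hl, rfl⟩
    have h1 : u⁻¹ * a * u = a := by
      have := mem_cent1_iff_conj.1 (inv_mem ((h.sd a ha).le_left hu))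
      rwa [inv_inv] at this
    have := h.norm l⁻¹ (inv_mem hl) a ha
    rw [inv_inv] at this
    have e : (u * l)⁻¹ * a * (u * l) = l⁻¹ * (u⁻¹ * a * u) * l := by group
    rwa [e, h1]

theorem H_inf_L (h : DadeHyp L A H) {a : G} (ha : a ∈ A) : H a ⊓ L = ⊥ := by
  rw [eq_bot_iff, ← (h.sd a ha).disj]
  exact le_inf inf_le_left (le_inf inf_le_right (inf_le_left.trans (h.sd a ha).le_left))

/-- The counting form of PF (2.7). -/
theorem sum_supp {K : Type*} [Field K] [CharZero K] (h : DadeHyp L A H) (F : G → K)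
    (hF : ∀ x g : G, F (x * g * x⁻¹) = F g) :
    (Nat.card G : K)⁻¹ * ∑ g ∈ fs (dadeSupp A H), F g =
      (𝐨(L) : K)⁻¹ * ∑ a ∈ fs A, (𝐨(H a) : K)⁻¹ * ∑ u ∈ fs (H a : Set G), F (u * a) := by
  classical
  obtain ⟨π, hπ⟩ : ∃ π, π = dpi L A := ⟨_, rfl⟩
  let W : G → K := fun g => if piPt π g ∈ A then (𝐨(H (piPt π g)) : K)⁻¹ else 0
  have h1 : ∑ a ∈ fs A, (𝐨(H a) : K)⁻¹ * ∑ u ∈ fs (H a : Set G), F (u * a) =
      ∑ g ∈ fs ((⊤ : Subgroup G) : Set G), W g * F g := by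
    rw [sum_fs_congr (g := fun a => ∑ g ∈ fs ((⊤ : Subgroup G) : Set G),
      if piPt π g = a then (𝐨(H a) : K)⁻¹ * F g else 0) fun a ha => ?_, Finset.sum_comm]
    · refine sum_fs_congr fun g _ => ?_
      rw [Finset.sum_ite_eq]
      simp only [W, mem_fs]
      split_ifs <;> simp
    · rw [Finset.mul_sum, ← sum_coset (H a) a (fun g => (𝐨(H a) : K)⁻¹ * F g)]
      refine sum_fs_congr fun g _ => ?_
      simp only [coset_iff h ha, hπ]
  have h2 : ∀ g ∈ dadeSupp A H, ∑ x ∈ fs ((⊤ : Subgroup G) : Set G), W (x⁻¹ * g * x) = 𝐨(L) := by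
    rintro g ⟨a, ha, hg⟩
    obtain ⟨y, hy⟩ := (supp1_iff h ha).1 hg
    rw [← hπ] at hy
    rw [← sum_fs_mul_left (H := ⊤) (g := y) trivial,
      ← sum_fs_subset (sub_top {x | x⁻¹ * a * x ∈ A}),
      sum_fs_congr (g := fun _ => (𝐨(H a) : K)⁻¹),
      sum_mul_disj (S := {x | x⁻¹ * a * x ∈ A}) (H_inf_L h ha) (fun x => conj_mem_iff h ha),
      sum_fs_const, sum_fs_const,
      nsmul_eq_mul, nsmul_eq_mul]
    · have : (𝐨(H a) : K) ≠ 0 := Nat.cast_ne_zero.2 (card_ne_zero _)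
      field_simp
    · intro x hx
      have e : piPt π ((y * x)⁻¹ * g * (y * x)) = x⁻¹ * a * x⁻¹⁻¹ := by
        have := piPt_conj π g (y * x)⁻¹
        rw [inv_inv] at this
        rw [this, hy]; group
      have hx' : x⁻¹ * a * x⁻¹⁻¹ ∈ A := by rwa [inv_inv]
      simp only [W, e]
      rw [if_pos hx', H_conj h ha hx', card_conj]
    · intro x _ hx
      have e : piPt π ((y * x)⁻¹ * g * (y * x)) = x⁻¹ * a * x := by
        have := piPt_conj π g (y * x)⁻¹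
        rw [inv_inv] at this
        rw [this, hy]; group
      simp only [W, e]
      exact if_neg hx
  have h3 : ∀ g, g ∉ dadeSupp A H → ∀ x, W (x⁻¹ * g * x) = 0 := by
    intro g hg x
    refine if_neg fun hx => hg ⟨_, hx, (supp1_iff h hx).2 ⟨x, ?_⟩⟩
    have := piPt_conj π g x⁻¹
    rw [inv_inv] at this
    rw [this, hπ]; group
  have h4 := sum_weight W F hF
  rw [← h1, ← sum_fs_subset (sub_top (dadeSupp A H))
    (f := fun g => F g * ∑ x ∈ fs ((⊤ : Subgroup G) : Set G), W (x⁻¹ * g * x))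
    (fun g _ hg => by rw [Finset.sum_eq_zero fun x _ => h3 g hg x, mul_zero]),
    sum_fs_congr (A := dadeSupp A H) (g := fun g => F g * 𝐨(L)) (fun g hg => by rw [h2 g hg]),
    ← Finset.sum_mul] at h4
  have h5 : (𝐨(L) : K) ≠ 0 := Nat.cast_ne_zero.2 (card_ne_zero _)
  have h6 : (Nat.card G : K) ≠ 0 := Nat.cast_ne_zero.2 Nat.card_pos.ne'
  rw [inv_mul_eq_iff_eq_mul₀ h6, mul_left_comm, h4, mul_comm, mul_inv_cancel_right₀ h5]

end PF02

open PF02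

section

variable {L : Subgroup G} {A : Set G} {H : G → Subgroup G}

/-- PF (2.4)(a). -/
theorem DadeHyp.signalizer_conj (h : DadeHyp L A H) {a x : G} (ha : a ∈ A) (hx : x ∈ L) :
    H (x * a * x⁻¹) = H a ^ᵍ x :=
  H_conj h ha (h.norm x hx a ha)

/-- PF (2.3): the signalizer is determined by `(L, A)`. -/
theorem DadeHyp.signalizer_unique {B : Set G} {H' : G → Subgroup G} (h : DadeHyp L A H)
    (h' : DadeHyp L B H') {a : G} (ha : a ∈ A) (hb : a ∈ B) : H a = H' a := by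
  ext x
  rw [mem_H_iff_of h ha (coprime_iff_isPi_compl.1 (h.cop a ha a ha)) (isPi_piOf _),
    mem_H_iff_of h' hb (coprime_iff_isPi_compl.1 (h'.cop a hb a hb)) (isPi_piOf _)]

/-- PF (2.4)(b). -/
theorem DadeHyp.supp1_TI (h : DadeHyp L A H) {a b g : G} (ha : a ∈ A) (hb : b ∈ A)
    (hga : InDadeSupp1 H a g) (hgb : InDadeSupp1 H b g) : ∃ x ∈ L, b = x * a * x⁻¹ := by
  obtain ⟨x, hx⟩ := (supp1_iff h ha).1 hga
  obtain ⟨y, hy⟩ := (supp1_iff h hb).1 hgb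
  have e : y⁻¹ * x * a * (y⁻¹ * x)⁻¹ = b := by
    calc y⁻¹ * x * a * (y⁻¹ * x)⁻¹ = y⁻¹ * (x * a * x⁻¹) * y := by group
      _ = b := by rw [← hx, hy]; group
  obtain ⟨l, hl, e2⟩ := h.fusion a ha (y⁻¹ * x) (by rwa [e])
  exact ⟨l, hl, by rw [e2, e]⟩

omit [Finite G] in
theorem inDadeSupp1_self (H : G → Subgroup G) (a : G) : InDadeSupp1 H a a :=
  ⟨1, one_mem _, 1, by group⟩

omit [Finite G] in
theorem InDadeSupp1.conj {a g : G} (h : InDadeSupp1 H a g) (x : G) :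
    InDadeSupp1 H a (x * g * x⁻¹) := by
  obtain ⟨u, hu, y, rfl⟩ := h
  exact ⟨u, hu, x * y, by group⟩

omit [Finite G] in
theorem subset_dadeSupp (A : Set G) (H : G → Subgroup G) : A ⊆ dadeSupp A H :=
  fun a ha => ⟨a, ha, inDadeSupp1_self H a⟩

omit [Finite G] in
theorem conj_mem_dadeSupp_iff {g x : G} : x * g * x⁻¹ ∈ dadeSupp A H ↔ g ∈ dadeSupp A H := by
  refine ⟨fun ⟨a, ha, h⟩ => ⟨a, ha, ?_⟩, fun ⟨a, ha, h⟩ => ⟨a, ha, h.conj x⟩⟩
  have := h.conj x⁻¹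
  rwa [show x⁻¹ * (x * g * x⁻¹) * x⁻¹⁻¹ = g by group] at this

omit [Finite G] in
theorem dadeSupp_mono {B : Set G} (h : A ⊆ B) (H : G → Subgroup G) :
    dadeSupp A H ⊆ dadeSupp B H :=
  fun g ⟨a, ha, hg⟩ => ⟨a, h ha, hg⟩

theorem DadeHyp.one_notMem_supp (h : DadeHyp L A H) : (1 : G) ∉ dadeSupp A H := by
  rintro ⟨a, ha, hg⟩
  obtain ⟨x, hx⟩ := (supp1_iff h ha).1 hg
  rw [piPt_one] at hx
  have : a = 1 := by
    calc a = x⁻¹ * (x * a * x⁻¹) * x := by group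
      _ = 1 := by rw [← hx]; group
  exact h.one_notMem (this ▸ ha)

/-- PF (2.5). -/
theorem DadeHyp.dade_apply (h : DadeHyp L A H) {α : G → ℂ} (hα : α ∈ CF L) {a g : G} (ha : a ∈ A)
    (hg : InDadeSupp1 H a g) : dade A H α g = α a := by
  have h1 : ∃ a ∈ A, InDadeSupp1 H a g := ⟨a, ha, hg⟩
  have h2 : dade A H α g = α h1.choose := dif_pos h1
  obtain ⟨x, hx, e⟩ := h.supp1_TI ha h1.choose_spec.1 hg h1.choose_spec.2
  rw [h2, e, CF_conj hα hx]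

theorem DadeHyp.dade_id (h : DadeHyp L A H) {α : G → ℂ} (hα : α ∈ CF L) {a : G} (ha : a ∈ A) :
    dade A H α a = α a :=
  h.dade_apply hα ha (inDadeSupp1_self H a)

omit [Finite G] in
theorem dade_of_notMem (α : G → ℂ) {g : G} (hg : g ∉ dadeSupp A H) : dade A H α g = 0 :=
  dif_neg hg

theorem DadeHyp.dade_one (h : DadeHyp L A H) (α : G → ℂ) : dade A H α 1 = 0 :=
  dade_of_notMem α h.one_notMem_supp

theorem DadeHyp.dade_mem_CFon (h : DadeHyp L A H) {α : G → ℂ} (hα : α ∈ CF L) :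
    dade A H α ∈ CFon ⊤ (dadeSupp A H) := by
  refine mem_CFon.2 ⟨mem_CF_of (fun x hx => absurd trivial hx) fun x _ g _ => ?_,
    fun g hg => dade_of_notMem α hg⟩
  by_cases hg : g ∈ dadeSupp A H
  · obtain ⟨a, ha, hg⟩ := hg
    rw [h.dade_apply hα ha hg, h.dade_apply hα ha (hg.conj x)]
  · rw [dade_of_notMem α hg, dade_of_notMem α (mt conj_mem_dadeSupp_iff.1 hg)]

/-- The support of `α^τ` when `α` vanishes on `A ∖ B`. -/
theorem DadeHyp.dade_eq_zero_of_supp (h : DadeHyp L A H) {B : Set G} {α : G → ℂ}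
    (hα : α ∈ CFon L B) {g : G} (hg : g ∉ dadeSupp (A ∩ B) H) : dade A H α g = 0 := by
  by_cases hg' : g ∈ dadeSupp A H
  · obtain ⟨a, ha, h1⟩ := hg'
    rw [h.dade_apply (mem_CFon.1 hα).1 ha h1]
    exact CFon_off hα fun hb => hg ⟨a, ⟨ha, hb⟩, h1⟩
  · exact dade_of_notMem α hg'

omit [Finite G] in
theorem dade_cfAut (u : ℂ →+* ℂ) (α : G → ℂ) : dade A H (cfAut u α) = cfAut u (dade A H α) := by
  funext g
  rw [cfAut_apply]
  by_cases h1 : ∃ a ∈ A, InDadeSupp1 H a g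
  · have h2 : ∀ β : G → ℂ, dade A H β g = β h1.choose := fun β => dif_pos h1
    rw [h2, h2, cfAut_apply]
  · rw [dade_of_notMem _ h1, dade_of_notMem _ h1, map_zero]

omit [Finite G] in
theorem dade_star (α : G → ℂ) : dade A H (star α) = star (dade A H α) := by
  rw [← cfAut_conj, ← cfAut_conj, dade_cfAut]

/-- PF (2.11). -/
theorem DadeHyp.dade_restr {B : Set G} (h : DadeHyp L A H) (hB : DadeHyp L B H) (hBA : B ⊆ A)
    {α : G → ℂ} (hα : α ∈ CFon L B) : dade B H α = dade A H α := by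
  funext g
  by_cases hg : g ∈ dadeSupp B H
  · obtain ⟨b, hb, h1⟩ := hg
    rw [hB.dade_apply (mem_CFon.1 hα).1 hb h1, h.dade_apply (mem_CFon.1 hα).1 (hBA hb) h1]
  · rw [dade_of_notMem α hg, h.dade_eq_zero_of_supp hα
      fun h1 => hg (dadeSupp_mono Set.inter_subset_right H h1)]

omit [Finite G] in
theorem invDade_of_mem [Finite G] (χ : G → ℂ) {a : G} (ha : a ∈ A) :
    invDade A H χ a = (𝐨(H a) : ℂ)⁻¹ * ∑ h ∈ fs (H a : Set G), χ (h * a) :=
  if_pos ha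

theorem invDade_of_notMem (χ : G → ℂ) {a : G} (ha : a ∉ A) : invDade A H χ a = 0 :=
  if_neg ha

theorem DadeHyp.invDade_mem_CFon (h : DadeHyp L A H) {χ : G → ℂ} (hχ : χ ∈ CF ⊤) :
    invDade A H χ ∈ CFon L A := by
  refine mem_CFon.2 ⟨mem_CF_of (fun x hx => invDade_of_notMem χ fun hx' => hx (h.subset hx'))
    fun x hx a _ => ?_, fun a ha => invDade_of_notMem χ ha⟩
  by_cases ha : a ∈ A
  · rw [invDade_of_mem χ ha, invDade_of_mem χ (h.norm x hx a ha), h.signalizer_conj ha hx,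
      card_conj]
    congr 1
    rw [← sum_fs_bij (A := (H a : Set G)) (fun u => x * u * x⁻¹)]
    · refine sum_fs_congr fun u _ => ?_
      rw [← CF_conj hχ (g := x) trivial (u * a)]
      congr 1; group
    · refine ⟨fun u hu => conj_mem_conj hu x, fun u _ v _ e => by simpa using e, fun y hy => ?_⟩
      obtain ⟨u, hu, e⟩ := mem_conj'.1 hy
      exact ⟨u, hu, e⟩
  · rw [invDade_of_notMem χ ha, invDade_of_notMem χ fun h1 => ha ?_]
    have := h.norm x⁻¹ (inv_mem hx) _ h1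
    rwa [show x⁻¹ * (x * a * x⁻¹) * x⁻¹⁻¹ = a by group] at this

theorem PF02.invDade_of_const {χ : G → ℂ} {a : G} (ha : a ∈ A) {c : ℂ}
    (hc : ∀ u ∈ H a, χ (u * a) = c) : invDade A H χ a = c := by
  rw [invDade_of_mem χ ha, sum_fs_congr (g := fun _ => c) hc, sum_fs_const, nsmul_eq_mul,
    inv_mul_cancel_left₀ (card_ne_zero_C _)]

theorem invDade_cf1 (a : G) (ha : a ∈ A) : invDade A H (cf1 ⊤) a = 1 :=
  invDade_of_const ha fun _ _ => cf1_top_apply _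

/-- PF (2.7), in the form of section 7. -/
theorem DadeHyp.ip_dade_left (h : DadeHyp L A H) {α χ : G → ℂ} (hα : α ∈ CFon L A)
    (hχ : χ ∈ CF ⊤) : ip ⊤ (dade A H α) χ = ip L α (invDade A H χ) := by
  have hα' := (mem_CFon.1 hα).1
  have hd := h.dade_mem_CFon hα'
  rw [ip_eq_sum_of_supp (sub_top (dadeSupp A H)) (fun x _ hx => CFon_off hd hx),
    ip_eq_sum_of_supp h.subset (fun x _ hx => CFon_off hα hx), card_top,
    sum_supp h _ fun x g => by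
      rw [CF_conj (mem_CFon.1 hd).1 (g := x) trivial, CF_conj hχ (g := x) trivial]]
  congr 1
  refine sum_fs_congr fun a ha => ?_
  rw [invDade_of_mem χ ha, map_mul, map_inv₀, map_natCast, map_sum, mul_left_comm]
  congr 1
  rw [Finset.mul_sum]
  refine sum_fs_congr fun u hu => ?_
  rw [h.dade_apply hα' ha ⟨u, hu, 1, by group⟩]

/-- PF (2.7), last statement. -/
theorem DadeHyp.reciprocity (h : DadeHyp L A H) {α χ : G → ℂ} (hα : α ∈ CFon L A)
    (hχ : χ ∈ CF ⊤) (hc : ∀ a ∈ A, ∀ u ∈ H a, χ (u * a) = χ a) :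
    ip ⊤ (dade A H α) χ = ip L α χ := by
  rw [h.ip_dade_left hα hχ]
  exact ip_congr_of_supp (fun x _ hx => CFon_off hα hx) fun a ha => invDade_of_const ha (hc a ha)

theorem DadeHyp.ip_dade_cf1 (h : DadeHyp L A H) {α : G → ℂ} (hα : α ∈ CFon L A) :
    ip ⊤ (dade A H α) (cf1 ⊤) = ip L α (cf1 L) := by
  rw [h.reciprocity hα (cf1_mem_CF ⊤) fun a _ u _ => by rw [cf1_top_apply, cf1_top_apply]]
  exact ip_congr (fun _ _ => rfl) fun x hx => by rw [cf1_top_apply, cf1_of_mem hx]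

/-- PF (7.2)(a). -/
theorem DadeHyp.invDade_dade (h : DadeHyp L A H) {α : G → ℂ} (hα : α ∈ CFon L A) :
    invDade A H (dade A H α) = α := by
  funext a
  by_cases ha : a ∈ A
  · exact invDade_of_const ha fun u hu =>
      h.dade_apply (mem_CFon.1 hα).1 ha ⟨u, hu, 1, by group⟩
  · rw [invDade_of_notMem _ ha, CFon_off hα ha]

/-- PF (2.6)(a). -/
theorem DadeHyp.iso (h : DadeHyp L A H) {α β : G → ℂ} (hα : α ∈ CFon L A) (hβ : β ∈ CFon L A) :
    ip ⊤ (dade A H α) (dade A H β) = ip L α β := by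
  rw [h.ip_dade_left hα (mem_CFon.1 (h.dade_mem_CFon (mem_CFon.1 hβ).1)).1, h.invDade_dade hβ]

theorem NormedTI.dadeHyp (h : NormedTI A ⊤ L) : DadeHyp L A (fun _ => ⊥) := by
  refine ⟨h.subset, h.norm, h.one_notMem, fun a ha g hg => ⟨g, h.ti g trivial a ha hg, rfl⟩,
    fun a ha => ⟨?_, by rw [norm_bot]; exact le_top, bot_inf_eq _⟩, fun a ha b hb => by simp⟩
  rw [bot_sup_eq, inf_eq_right]
  have := h.cent1_le ha
  rwa [top_inf_eq] at this

theorem DadeHyp.signalizer_eq_bot_iff (h : DadeHyp L A H) {a : G} (ha : a ∈ A) :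
    H a = ⊥ ↔ 𝐂[a] ≤ L := by
  constructor
  · intro e
    have := (h.sd a ha).sup
    rw [e, bot_sup_eq] at this
    exact this.ge.trans inf_le_left
  · intro hc
    rw [← H_inf_L h ha, left_eq_inf]
    exact (h.sd a ha).le_left.trans hc

theorem PF02.normedTI_sub (h : DadeHyp L A H) {B : Set G} (hBA : B ⊆ A) (hne : B.Nonempty)
    (hn : ∀ g ∈ L, ∀ a ∈ B, g * a * g⁻¹ ∈ B) (hc : ∀ a ∈ B, 𝐂[a] ≤ L) : NormedTI B ⊤ L := by
  refine ⟨hne, fun h1 => h.one_notMem (hBA h1), hBA.trans h.subset, le_top, hn,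
    fun g _ a ha hg => ?_⟩
  obtain ⟨l, hl, e⟩ := h.fusion a (hBA ha) g (hBA hg)
  have h1 : l⁻¹ * g ∈ 𝐂[a] := by
    rw [mem_cent1_iff_conj]
    calc l⁻¹ * g * a * (l⁻¹ * g)⁻¹ = l⁻¹ * (g * a * g⁻¹) * l := by group
      _ = a := by rw [← e]; group
  simpa using mul_mem hl (hc a ha h1)

theorem DadeHyp.normedTI (h : DadeHyp L A H) (hne : A.Nonempty) (hc : ∀ a ∈ A, 𝐂[a] ≤ L) :
    NormedTI A ⊤ L :=
  normedTI_sub h subset_rfl hne h.norm hc

theorem PF02.supp1_bot {a g : G} (ha : H a = ⊥) (hg : InDadeSupp1 H a g) :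
    ∃ x, g = x * a * x⁻¹ := by
  obtain ⟨u, hu, x, rfl⟩ := hg
  rw [ha, mem_bot] at hu
  exact ⟨x, by rw [hu, one_mul]⟩

/-- The Dade isometry is induction on functions supported by a TI-subset. -/
theorem DadeHyp.dade_eq_ind (h : DadeHyp L A H) {B : Set G} (hBA : B ⊆ A)
    (hc : ∀ a ∈ B, 𝐂[a] ≤ L) {α : G → ℂ} (hα : α ∈ CFon L B) : dade A H α = ind ⊤ L α := by
  let B' : Set G := {a | a ∈ A ∧ 𝐂[a] ≤ L}
  have hα' : α ∈ CFon L B' := CFon_mono L (A := B) (B := B') (fun a ha => ⟨hBA ha, hc a ha⟩) hα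
  have hi := ind_mem_CFon ⊤ (H := L) (A := B') (φ := α) fun x _ hx => CFon_off hα' hx
  funext g
  by_cases hg : g ∈ classSupp B' ⊤
  · obtain ⟨b, hb, x, -, rfl⟩ := hg
    have hT : NormedTI B' ⊤ L := normedTI_sub h (fun a ha => ha.1) ⟨b, hb⟩
      (fun l hl a ha => ⟨h.norm l hl a ha.1, by
        rw [cent1_conj]; exact conj_le_of_mem ha.2 hl⟩) fun a ha => ha.2
    rw [CF_conj (mem_CFon.1 hi).1 (g := x) trivial, hT.ind_apply hα' hb,
      h.dade_apply (mem_CFon.1 hα).1 hb.1 ((inDadeSupp1_self H b).conj x)]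
  · rw [CFon_off hi hg, h.dade_eq_zero_of_supp hα']
    rintro ⟨b, hb, h1⟩
    obtain ⟨x, rfl⟩ := supp1_bot ((h.signalizer_eq_bot_iff hb.1).2 hb.2.2) h1
    exact hg ⟨b, hb.2, x, trivial, rfl⟩

theorem DadeHyp.dadeSupp_eq_classSupp (h : DadeHyp L A H) (hc : ∀ a ∈ A, 𝐂[a] ≤ L) :
    dadeSupp A H = classSupp A ⊤ := by
  ext g
  constructor
  · rintro ⟨a, ha, h1⟩
    obtain ⟨x, rfl⟩ := supp1_bot ((h.signalizer_eq_bot_iff ha).2 (hc a ha)) h1
    exact ⟨a, ha, x, trivial, rfl⟩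
  · rintro ⟨a, ha, x, -, rfl⟩
    exact ⟨a, ha, (inDadeSupp1_self H a).conj x⟩

/-- PF (7.2)(b). -/
theorem DadeHyp.nsq_invDade_le (h : DadeHyp L A H) {χ : G → ℂ} (hχ : χ ∈ CF ⊤) :
    nsq L (invDade A H χ) ≤ nsq ⊤ χ ∧
      (nsq L (invDade A H χ) = nsq ⊤ χ ↔ χ = dade A H (invDade A H χ)) := by
  have hρ := h.invDade_mem_CFon hχ
  set ψ := dade A H (invDade A H χ) with hψ
  have h1 : ip ⊤ ψ (χ - ψ) = 0 := by
    rw [ip_sub_right, hψ, h.ip_dade_left hρ hχ, h.iso hρ hρ, sub_self]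
  have h2 : nsq ⊤ ψ = nsq L (invDade A H χ) := nsq_eq_of_ip_eq (h.iso hρ hρ)
  have h3 := nsq_add_of_orth h1
  rw [add_sub_cancel, h2] at h3
  have h4 := nsq_nonneg ⊤ (χ - ψ)
  refine ⟨by linarith, fun e => sub_eq_zero.1 (eq_zero_of_nsq_top (by linarith)), fun e => ?_⟩
  rw [← h2, ← e]

/-- PF (7.3). -/
theorem DadeHyp.nsq_invDade_le_supp (h : DadeHyp L A H) {χ : G → ℂ} (hχ : χ ∈ CF ⊤) :
    nsq L (invDade A H χ) ≤ (Nat.card G : ℝ)⁻¹ * ∑ g ∈ fs (dadeSupp A H), ‖χ g‖ ^ 2 ∧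
      (nsq L (invDade A H χ) = (Nat.card G : ℝ)⁻¹ * ∑ g ∈ fs (dadeSupp A H), ‖χ g‖ ^ 2 ↔
        ∀ a ∈ A, ∀ u ∈ H a, χ (u * a) = χ a) := by
  let χ' : G → ℂ := Set.indicator (dadeSupp A H) χ
  have e1 : ∀ g ∈ dadeSupp A H, χ' g = χ g := fun g hg => Set.indicator_of_mem hg _
  have e0 : ∀ g, g ∉ dadeSupp A H → χ' g = 0 := fun g hg => Set.indicator_of_notMem hg _
  have hs : ∀ a ∈ A, ∀ u ∈ H a, InDadeSupp1 H a (u * a) := fun a ha u hu => ⟨u, hu, 1, by group⟩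
  have hχ' : χ' ∈ CF ⊤ := by
    refine mem_CF_of (fun x hx => absurd trivial hx) fun x _ g _ => ?_
    by_cases hg : g ∈ dadeSupp A H
    · rw [e1 g hg, e1 _ (conj_mem_dadeSupp_iff.2 hg), CF_conj hχ (g := x) trivial]
    · rw [e0 g hg, e0 _ (mt conj_mem_dadeSupp_iff.1 hg)]
  have hρ : invDade A H χ' = invDade A H χ := by
    funext a
    by_cases ha : a ∈ A
    · rw [invDade_of_mem _ ha, invDade_of_mem _ ha,
        sum_fs_congr fun u hu => e1 _ ⟨a, ha, hs a ha u hu⟩]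
    · rw [invDade_of_notMem _ ha, invDade_of_notMem _ ha]
  have hn : nsq ⊤ χ' = (Nat.card G : ℝ)⁻¹ * ∑ g ∈ fs (dadeSupp A H), ‖χ g‖ ^ 2 := by
    rw [nsq_def, card_top, ← sum_fs_subset (sub_top (dadeSupp A H)) (f := fun g => ‖χ' g‖ ^ 2)
      (fun g _ hg => by rw [e0 g hg]; simp), sum_fs_congr fun g hg => by rw [e1 g hg]]
  have h1 := h.nsq_invDade_le hχ'
  rw [hρ, hn] at h1
  have hc := (mem_CFon.1 (h.invDade_mem_CFon hχ)).1
  refine ⟨h1.1, h1.2.trans ⟨fun e a ha u hu => ?_, fun e => funext fun g => ?_⟩⟩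
  · rw [← e1 _ ⟨a, ha, hs a ha u hu⟩, ← e1 a (subset_dadeSupp A H ha), e,
      h.dade_apply hc ha (hs a ha u hu), h.dade_id hc ha]
  · by_cases hg : g ∈ dadeSupp A H
    · rw [e1 g hg]
      obtain ⟨a, ha, h2⟩ := hg
      rw [h.dade_apply hc ha h2, invDade_of_const ha (e a ha)]
      obtain ⟨u, hu, x, rfl⟩ := h2
      rw [CF_conj hχ (g := x) trivial, e a ha u hu]
    · rw [e0 g hg, dade_of_notMem _ hg]

theorem PF02.ncard_supp_real (h : DadeHyp L A H) :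
    (Nat.card G : ℝ)⁻¹ * (dadeSupp A H).ncard = A.ncard / 𝐨(L) := by
  have h1 := sum_supp h (fun _ => (1 : ℝ)) fun _ _ => rfl
  rw [sum_fs_congr (A := A) (g := fun _ => (1 : ℝ)) fun a _ => by
    rw [sum_fs_const, nsmul_eq_mul, mul_one, inv_mul_cancel₀ (card_ne_zero_R _)]] at h1
  simp only [Finset.sum_const, card_fs, nsmul_eq_mul, mul_one] at h1
  rw [h1, div_eq_inv_mul]

theorem DadeHyp.ncard_supp (h : DadeHyp L A H) :
    (dadeSupp A H).ncard * 𝐨(L) = A.ncard * Nat.card G := by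
  have h1 := ncard_supp_real h
  have h5 := card_ne_zero_R L
  have h6 : (Nat.card G : ℝ) ≠ 0 := Nat.cast_ne_zero.2 Nat.card_pos.ne'
  field_simp at h1
  exact_mod_cast h1.trans (mul_comm _ _)

end

/-- PF (7.5). -/
theorem dade_cover_inequality {ι : Type*} (I : Finset ι) {L : ι → Subgroup G} {A : ι → Set G}
    {H : ι → G → Subgroup G} (h : ∀ i ∈ I, DadeHyp (L i) (A i) (H i))
    (hd : ∀ i ∈ I, ∀ j ∈ I, i ≠ j → Disjoint (dadeSupp (A i) (H i)) (dadeSupp (A j) (H j)))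
    {G₀ : Set G} (hG₀ : ∀ g, g ∈ G₀ ↔ ∀ i ∈ I, g ∉ dadeSupp (A i) (H i))
    {χ : G → ℂ} (hχ : χ ∈ CF ⊤) (h1 : nsq ⊤ χ = 1) :
    (Nat.card G : ℝ)⁻¹ * (∑ g ∈ fs G₀, ‖χ g‖ ^ 2 - G₀.ncard) +
      ∑ i ∈ I, (nsq (L i) (invDade (A i) (H i) χ) - (A i).ncard / 𝐨(L i)) ≤ 0 := by
  classical
  have hs : ∀ f : G → ℝ, ∑ g ∈ fs ((⊤ : Subgroup G) : Set G), f g =
      ∑ g ∈ fs G₀, f g + ∑ i ∈ I, ∑ g ∈ fs (dadeSupp (A i) (H i)), f g := by
    intro f
    rw [sum_fs_diff (sub_top G₀), ← Finset.sum_biUnion]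
    · congr 2
      ext g
      simp only [mem_fs, Set.mem_sdiff, hG₀, Finset.mem_biUnion]
      push Not
      simp
    · intro i hi j hj hij
      rw [Function.onFun, Finset.disjoint_left]
      intro g hg hg'
      exact Set.disjoint_left.1 (hd i hi j hj hij) (mem_fs.1 hg) (mem_fs.1 hg')
  have h6 : (Nat.card G : ℝ) ≠ 0 := Nat.cast_ne_zero.2 Nat.card_pos.ne'
  have h2 := hs fun _ => 1
  rw [sum_fs_const, card_top] at h2
  simp only [Finset.sum_const, card_fs, nsmul_eq_mul, mul_one] at h2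
  have h3 : (1 : ℝ) = (Nat.card G : ℝ)⁻¹ * G₀.ncard + ∑ i ∈ I, ((A i).ncard / 𝐨(L i) : ℝ) := by
    rw [← Finset.sum_congr rfl fun i hi => ncard_supp_real (h i hi), ← Finset.mul_sum, ← mul_add,
      ← h2, inv_mul_cancel₀ h6]
  rw [nsq_def, card_top, hs, mul_add, Finset.mul_sum I] at h1
  have h4 := Finset.sum_le_sum fun i hi => ((h i hi).nsq_invDade_le_supp hχ).1
  rw [Finset.sum_sub_distrib, mul_sub]
  linarith

end Cfsg.Agent.FT
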