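/-
PF section 2, second part: the Dade isometry preserves virtual characters.
-/
import Cfsg.Agent.FT.P.PF02_1

set_option autoImplicit false
set_option linter.unusedSectionVars false
set_option linter.unusedVariables false

namespace Cfsg.Agent.FT

open Subgroup Cfsg Cfsg.Agent
open scoped commutatorElement ComplexConjugate

universe u

variable {G : Type u} [Group G] [Finite G]

namespace PF02

theorem orbit_sum {Γ X : Type*} [Group Γ] [Finite Γ] [Fintype X] [MulAction Γ X] (g : X → ℂ)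
    (hg : ∀ (γ : Γ) x, g (γ • x) = g x)
    (hi : ∀ x, ∃ n : ℤ, g x = Nat.card (MulAction.stabilizer Γ x) * n) :
    ∃ n : ℤ, ∑ x, g x = Nat.card Γ * n := by
  classical
  choose n hn using hi
  let _ : Fintype (MulAction.orbitRel.Quotient Γ X) := Fintype.ofFinite _
  refine ⟨∑ ω : MulAction.orbitRel.Quotient Γ X, n ω.out, ?_⟩
  rw [← Finset.sum_fiberwise (s := Finset.univ)
    (g := fun x : X => (Quotient.mk'' x : MulAction.orbitRel.Quotient Γ X)), Int.cast_sum,
    Finset.mul_sum]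
  refine Finset.sum_congr rfl fun ω _ => ?_
  have h1 : ∀ x : X, (Quotient.mk'' x : MulAction.orbitRel.Quotient Γ X) = ω ↔
      x ∈ MulAction.orbit Γ ω.out := by
    intro x
    rw [← MulAction.orbitRel_apply, ← Quotient.eq'', Quotient.out_eq']
  rw [Finset.sum_congr rfl (g := fun _ => g ω.out) fun x hx => ?_, Finset.sum_const, nsmul_eq_mul,
    hn, ← mul_assoc, ← Nat.cast_mul, ← (MulAction.stabilizer Γ ω.out).index_mul_card,
    MulAction.index_stabilizer]
  · congr 3
    rw [← Set.ncard_coe_finset]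
    congr 1
    ext x
    simp [h1]
  · obtain ⟨γ, rfl⟩ := (h1 x).1 (Finset.mem_filter.1 hx).2
    exact hg γ _

open Classical in
theorem sum_twist {R : Type*} [CommSemiring R] {K : Subgroup G} {a : G} (hn : a ∈ 𝐍(K))
    {C : Subgroup G} (hC : C ≤ K) (F : G → R) (hF : ∀ x g : G, F (x * g * x⁻¹) = F g) :
    (𝐨(K) : R) * ∑ c ∈ fs (C : Set G), F (c * a) = ∑ k ∈ fs (K : Set G), F (k * a) *
      ((fs (K : Set G)).filter fun x => x⁻¹ * k * (a * x * a⁻¹) ∈ C).card := by
  have h1 : ∀ k, F (k * a) * ((fs (K : Set G)).filter fun x => x⁻¹ * k * (a * x * a⁻¹) ∈ C).card =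
      ∑ x ∈ fs (K : Set G), if x⁻¹ * k * (a * x * a⁻¹) ∈ C then
        F (x⁻¹ * k * (a * x * a⁻¹) * a) else 0 := by
    intro k
    rw [← Finset.sum_filter, Finset.sum_congr rfl (g := fun _ => F (k * a)) fun x _ => ?_,
      Finset.sum_const, nsmul_eq_mul, mul_comm]
    rw [← hF x⁻¹ (k * a)]
    congr 1; group
  simp_rw [h1]
  rw [Finset.sum_comm, ← nsmul_eq_mul, ← sum_fs_const]
  refine sum_fs_congr fun x hx => ?_
  rw [sum_fs_mul_left (inv_mem hx) (fun k => if k * (a * x * a⁻¹) ∈ C then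
        F (k * (a * x * a⁻¹) * a) else 0),
    sum_fs_mul_right ((mem_normalizer_iff.1 hn x).1 hx) (fun k => if k ∈ C then
        F (k * a) else 0), ← sum_fs_subset (A := (C : Set G)) hC]
  · exact sum_fs_congr fun c hc => (if_pos hc).symm
  · exact fun c _ hc => if_neg hc

/-- Averaging over a coset under a coprime action. -/
theorem avg_coprime {π : Set ℕ} {K : Subgroup G} {a : G} (ha : IsPiElt π a)
    (hK : IsPiSubgroup πᶜ K) (hn : a ∈ 𝐍(K)) (F : G → ℂ)
    (hF : ∀ x g : G, F (x * g * x⁻¹) = F g) :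
    (𝐨(K) : ℂ)⁻¹ * ∑ k ∈ fs (K : Set G), F (k * a) =
      (𝐨(K ⊓ 𝐂[a]) : ℂ)⁻¹ * ∑ c ∈ fs ((K ⊓ 𝐂[a] : Subgroup G) : Set G), F (c * a) := by
  classical
  obtain ⟨C, hC⟩ : ∃ C, C = K ⊓ 𝐂[a] := ⟨_, rfl⟩
  rw [← hC]
  have hCK : C ≤ K := hC.le.trans inf_le_left
  have h0 : ∀ k x, x⁻¹ * k * (a * x * a⁻¹) ∈ C → piPt π (k * a) = x * a * x⁻¹ := by
    intro k x hx
    rw [hC] at hx
    have hc := mem_cent1_iff_commute.1 (mem_inf.1 hx).2
    have h2 := piPt_mul_eq ha (isPiElt_of_mem hK (mem_inf.1 hx).1) hc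
    rw [hc.eq] at h2
    have h3 := piPt_conj π (x⁻¹ * k * (a * x * a⁻¹) * a) x
    rw [h2] at h3
    rw [← h3]
    congr 1; group
  have h1 : ∀ k ∈ fs (K : Set G),
      ((fs (K : Set G)).filter fun x => x⁻¹ * k * (a * x * a⁻¹) ∈ C).card ≤ 𝐨(C) := by
    intro k _
    rcases Finset.eq_empty_or_nonempty
      ((fs (K : Set G)).filter fun x => x⁻¹ * k * (a * x * a⁻¹) ∈ C) with e | ⟨y, hy⟩
    · rw [e]; simp
    rw [← card_fs_coe C]
    refine Finset.card_le_card_of_injOn (fun x => y⁻¹ * x) (fun x hx => ?_)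
      fun x _ z _ e => by simpa using e
    rw [Finset.mem_coe, Finset.mem_filter, mem_fs] at hx
    rw [Finset.mem_filter, mem_fs] at hy
    rw [Finset.mem_coe, mem_fs, hC]
    refine mem_inf.2 ⟨mul_mem (inv_mem hy.1) hx.1, mem_cent1_iff_conj.2 ?_⟩
    calc y⁻¹ * x * a * (y⁻¹ * x)⁻¹ = y⁻¹ * (x * a * x⁻¹) * y := by group
      _ = a := by rw [← h0 k x hx.2, h0 k y hy.2]; group
  have h2 := sum_twist hn hCK (fun _ => (1 : ℕ)) fun _ _ => rfl
  simp only [one_mul, Nat.cast_id, sum_fs_const, smul_eq_mul, mul_one] at h2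
  have h3 := (Finset.sum_eq_sum_iff_of_le h1).1 (by rw [← h2, sum_fs_const, smul_eq_mul])
  have h4 := sum_twist hn hCK F hF
  rw [Finset.sum_congr (s₁ := fs (K : Set G)) rfl (g := fun k => F (k * a) * 𝐨(C))
    (fun k hk => by rw [h3 k hk]),
    ← Finset.sum_mul] at h4
  rw [inv_mul_eq_iff_eq_mul₀ (card_ne_zero_C _), mul_left_comm, h4, mul_comm,
    mul_inv_cancel_right₀ (card_ne_zero_C _)]

theorem sd_int {K N M : Subgroup G} (h : SdProd K N M) {α χ : G → ℂ} (hα : α ∈ VChar N)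
    (hχ : χ ∈ VChar ⊤) : ∃ z : ℤ, ∑ n ∈ fs (N : Set G),
      α n * conj ((𝐨(K) : ℂ)⁻¹ * ∑ k ∈ fs (K : Set G), χ (k * n)) = 𝐨(N) * z := by
  obtain ⟨p, h1, -, h3, h4⟩ := h.exists_proj
  have hK : PullPair M p M N := ⟨le_rfl, fun y => ⟨fun _ => h1 y, fun _ => y.2⟩,
    fun z hz => ⟨⟨z, h.le_right hz⟩, h3 _ hz⟩⟩
  obtain ⟨z, hz⟩ := vchar_ip_int (hK.vchar_pull hα) (vchar_res (le_top (a := M)) hχ)
  refine ⟨z, ?_⟩
  rw [← hz, ip_res_right, ip_def, sum_mul_disj h.disj (S := (M : Set G)) (fun x => h.mem_iff),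
    Finset.sum_comm, h.card, Nat.cast_mul, mul_inv, mul_comm (𝐨(K) : ℂ)⁻¹, mul_assoc,
    mul_inv_cancel_left₀ (card_ne_zero_C _), Finset.mul_sum]
  refine sum_fs_congr fun n hn => ?_
  rw [map_mul, map_inv₀, map_natCast, map_sum, mul_left_comm]
  congr 1
  rw [Finset.mul_sum]
  refine sum_fs_congr fun k hk => ?_
  have e : (⟨k * n, mul_mem (h.le_left hk) (h.le_right hn)⟩ : M) =
    ⟨k, h.le_left hk⟩ * ⟨n, h.le_right hn⟩ := rfl
  rw [cfPull_of_mem _ (mul_mem (h.le_left hk) (h.le_right hn)), e, map_mul, (h4 _).2 hk, one_mul,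
    h3 _ hn]

theorem sum_fs_conj_sub {M : Type*} [AddCommMonoid M] (K : Subgroup G) (x : G) (f : G → M) :
    ∑ y ∈ fs ((K ^ᵍ x : Subgroup G) : Set G), f y = ∑ u ∈ fs (K : Set G), f (x * u * x⁻¹) := by
  rw [← sum_fs_bij (A := (K : Set G)) (fun u => x * u * x⁻¹)]
  refine ⟨fun u hu => conj_mem_conj hu x, fun u _ v _ e => by simpa using e, fun y hy => ?_⟩
  obtain ⟨u, hu, e⟩ := mem_conj'.1 hy
  exact ⟨u, hu, e⟩

/-- The conjugate of a subset. -/
def cj (l : G) (B : Set G) : Set G := {x | l⁻¹ * x * l ∈ B}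

theorem ncard_cj (l : G) (B : Set G) : (cj l B).ncard = B.ncard := by
  have : cj l B = (fun x => l * x * l⁻¹) '' B := by
    ext x
    constructor
    · intro hx; exact ⟨_, hx, by group⟩
    · rintro ⟨y, hy, rfl⟩
      show l⁻¹ * (l * y * l⁻¹) * l ∈ B
      rwa [show l⁻¹ * (l * y * l⁻¹) * l = y by group]
  rw [this, Set.ncard_image_of_injective _ fun u v e => by simpa using e]

theorem conj_mem_cj {l b : G} {B : Set G} : l * b * l⁻¹ ∈ cj l B ↔ b ∈ B := by
  show l⁻¹ * (l * b * l⁻¹) * l ∈ B ↔ _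
  rw [show l⁻¹ * (l * b * l⁻¹) * l = b by group]

theorem cj_eq_iff {l : G} {B : Set G} : cj l B = B ↔ l ∈ normalizer B := by
  rw [mem_set_normalizer_iff'', Set.ext_iff]
  exact forall_congr' fun x => Iff.comm

theorem normalizer_cj (l : G) (B : Set G) : normalizer (cj l B) = normalizer B ^ᵍ l := by
  ext x
  rw [mem_conj, mem_set_normalizer_iff, mem_set_normalizer_iff]
  constructor
  · intro h m
    rw [← conj_mem_cj (l := l), h, ← conj_mem_cj (l := l) (B := B)]
    congr! 1; group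
  · intro h n
    show l⁻¹ * n * l ∈ B ↔ l⁻¹ * (x * n * x⁻¹) * l ∈ B
    rw [h]
    congr! 1; group

/-- The action of a subgroup on the subsets. -/
@[reducible] def cjAct (L : Subgroup G) : MulAction L (Set G) where
  smul l B := cj l B
  one_smul B := by
    ext x
    show ((1 : L) : G)⁻¹ * x * (1 : L) ∈ B ↔ _
    simp
  mul_smul l m B := by
    ext x
    show ((l * m : L) : G)⁻¹ * x * (l * m : L) ∈ B ↔ (m : G)⁻¹ * ((l : G)⁻¹ * x * l) * m ∈ B
    rw [coe_mul]
    congr! 1; group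

/-- `H(B)`. -/
def HB (H : G → Subgroup G) (B : Set G) : Subgroup G := ⨅ b ∈ B, H b

theorem mem_HB {H : G → Subgroup G} {B : Set G} {x : G} : x ∈ HB H B ↔ ∀ b ∈ B, x ∈ H b := by
  simp [HB, mem_iInf]

variable {L : Subgroup G} {A : Set G} {H : G → Subgroup G}

theorem cj_subset_iff (h : DadeHyp L A H) {l : G} (hl : l ∈ L) {B : Set G} :
    cj l B ⊆ A ↔ B ⊆ A := by
  constructor
  · intro h1 b hb
    have := h.norm l⁻¹ (inv_mem hl) _ (h1 (conj_mem_cj.2 hb))
    rwa [show l⁻¹ * (l * b * l⁻¹) * l⁻¹⁻¹ = b by group] at this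
  · intro h1 x hx
    have := h.norm l hl _ (h1 hx)
    rwa [show l * (l⁻¹ * x * l) * l⁻¹ = x by group] at this

theorem HB_cj (h : DadeHyp L A H) {l : G} (hl : l ∈ L) {B : Set G} (hB : B ⊆ A) :
    HB H (cj l B) = HB H B ^ᵍ l := by
  ext x
  rw [mem_conj, mem_HB, mem_HB]
  constructor
  · intro h1 b hb
    have := h1 _ (conj_mem_cj.2 hb)
    rwa [h.signalizer_conj (hB hb) hl, mem_conj] at this
  · intro h1 b hb
    have := mem_conj.2 (h1 _ hb)
    rwa [← h.signalizer_conj (hB hb) hl, show l * (l⁻¹ * b * l) * l⁻¹ = b by group] at this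

theorem norm_HB (h : DadeHyp L A H) {B : Set G} (hB : B ⊆ A) :
    L ⊓ normalizer B ≤ 𝐍(HB H B) := fun x hx => by
  rw [← conj_eq_self_iff, ← HB_cj h (mem_inf.1 hx).1 hB, cj_eq_iff.2 (mem_inf.1 hx).2]

theorem HB_insert (h : DadeHyp L A H) {B : Set G} (hB : B ⊆ A) (hne : B.Nonempty) {a : G}
    (ha : a ∈ A) : HB H B ⊓ 𝐂[a] = HB H (insert a B) := by
  obtain ⟨b, hb⟩ := hne
  ext x
  rw [mem_inf, mem_HB, mem_HB, Set.forall_mem_insert, mem_H_iff h ha]
  exact ⟨fun h1 => ⟨⟨h1.2, ((mem_H_iff h (hB hb)).1 (h1.1 b hb)).2⟩, h1.1⟩,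
    fun h1 => ⟨h1.2, h1.1.1⟩⟩

omit [Finite G] in
theorem mem_normalizer_insert {a : G} {B : Set G} (ha : a ∉ B) :
    a ∈ normalizer (insert a B) ↔ a ∈ normalizer B := by
  rw [mem_set_normalizer_iff, mem_set_normalizer_iff]
  refine forall_congr' fun n => ?_
  by_cases hn : n = a
  · subst hn; simp
  · have : a * n * a⁻¹ ≠ a := fun e => hn (by
      calc n = a⁻¹ * (a * n * a⁻¹) * a := by group
        _ = a := by rw [e]; group)
    simp [hn, this]

open Classical in
theorem alt_sum [Fintype (Set G)] {a : G} (ha : a ∈ A) (U : Set G → ℂ) :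
    ∑ B : Set G, (if B ⊆ A ∧ a ∈ normalizer B then (-1) ^ B.ncard * U (insert a B) else 0) = 0 := by
  set f : Set G → ℂ := fun B =>
    if B ⊆ A ∧ a ∈ normalizer B then (-1) ^ B.ncard * U (insert a B) else 0 with hf
  have h1 : ∀ B, a ∉ B → f (insert a B) = -f B := by
    intro B hB
    simp only [hf, mem_normalizer_insert hB, Set.insert_subset_iff, ha, true_and,
      Set.ncard_insert_of_notMem hB, Set.insert_idem]
    split_ifs
    · ring
    · simp
  let i : Set G → Set G := fun B => if a ∈ B then B \ {a} else insert a B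
  have hi : Function.Involutive i := by
    intro B
    by_cases hB : a ∈ B
    · simp [i, hB]
    · simp [i, hB]
  have h2 : ∀ B, f (i B) = -f B := by
    intro B
    by_cases hB : a ∈ B
    · have := h1 (B \ {a}) (by simp)
      rw [Set.insert_sdiff_singleton, Set.insert_eq_of_mem hB] at this
      simp only [i, if_pos hB]
      rw [this, neg_neg]
    · simp only [i, if_neg hB]
      exact h1 B hB
  have h3 := Equiv.sum_comp hi.toPerm f
  simp only [Function.Involutive.coe_toPerm, h2, Finset.sum_neg_distrib] at h3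
  linear_combination (-1 / 2 : ℂ) * h3

end PF02

open PF02

variable {L : Subgroup G} {A : Set G} {H : G → Subgroup G}

/-- PF (2.6)(b). -/
theorem DadeHyp.vchar (h : DadeHyp L A H) {α : G → ℂ} (hα : α ∈ CFon L A) (hv : α ∈ VChar L) :
    dade A H α ∈ VChar ⊤ := by
  classical
  have hα' := (mem_CFon.1 hα).1
  refine mem_VChar_iff.2 ⟨(mem_CFon.1 (h.dade_mem_CFon hα')).1, fun χ hχ => ?_⟩
  have hχ' := irr_mem_CF hχ
  have hχc : ∀ x g : G, χ (x * g * x⁻¹) = χ g := fun x g => CF_conj hχ' (g := x) trivial g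
  rw [h.ip_dade_left hα hχ', ip_eq_sum_of_supp h.subset fun x _ hx => CFon_off hα hx]
  let _ : Fintype (Set G) := Fintype.ofFinite _
  let _ := cjAct L
  let T : Set G → G → ℂ := fun B n =>
    conj ((𝐨(HB H B) : ℂ)⁻¹ * ∑ k ∈ fs (HB H B : Set G), χ (k * n))
  let g : Set G → ℂ := fun B => if B ⊆ A ∧ B.Nonempty then
    (-1) ^ B.ncard * ∑ n ∈ fs ((L ⊓ normalizer B : Subgroup G) : Set G), α n * T B n else 0
  obtain ⟨z, hz⟩ := orbit_sum (Γ := L) g (fun l B => by
      show g (cj l B) = g B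
      have e1 : (cj (l : G) B).Nonempty ↔ B.Nonempty := by
        rw [← Set.ncard_pos, ← Set.ncard_pos, ncard_cj]
      simp only [g, cj_subset_iff h l.2, e1, ncard_cj]
      split_ifs with h1
      · congr 1
        have e2 : L ⊓ normalizer B ^ᵍ (l : G) = (L ⊓ normalizer B) ^ᵍ (l : G) := by
          rw [conj_inf, conj_eq_of_mem l.2]
        rw [normalizer_cj, e2, sum_fs_conj_sub]
        refine sum_fs_congr fun n _ => ?_
        rw [CF_conj hα' l.2]
        simp only [T]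
        rw [HB_cj h l.2 h1.1, card_conj, sum_fs_conj_sub]
        congr 3
        refine sum_fs_congr fun k _ => ?_
        rw [← hχc l (k * n)]
        congr 1; group
      · rfl)
    (fun B => by
      by_cases h1 : B ⊆ A ∧ B.Nonempty
      · obtain ⟨b, hb⟩ := h1.2
        have hs : SdProd (HB H B) (L ⊓ normalizer B) (HB H B ⊔ L ⊓ normalizer B) :=
          ⟨rfl, norm_HB h h1.1, by
            rw [eq_bot_iff, ← H_inf_L h (h1.1 hb)]
            exact inf_le_inf (fun x hx => mem_HB.1 hx b hb) inf_le_left⟩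
        obtain ⟨z, hz⟩ := sd_int hs (vchar_res inf_le_left hv) (irr_mem_VChar hχ)
        rw [sum_fs_congr (g := fun n => α n * T B n) fun n hn => by rw [res_of_mem _ hn]] at hz
        have e : MulAction.stabilizer L B = (L ⊓ normalizer B).subgroupOf L := by
          ext l
          rw [MulAction.mem_stabilizer_iff, mem_subgroupOf, mem_inf, ← cj_eq_iff]
          exact ⟨fun e => ⟨l.2, e⟩, fun e => e.2⟩
        refine ⟨(-1) ^ B.ncard * z, ?_⟩
        simp only [g, if_pos h1]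
        rw [hz, e, H2.card_subgroupOf_of_le inf_le_left]
        push_cast
        ring
      · exact ⟨0, by simp only [g, if_neg h1]; simp⟩)
  refine ⟨-z, ?_⟩
  rw [inv_mul_eq_iff_eq_mul₀ (card_ne_zero_C _), Int.cast_neg, mul_neg, ← hz]
  have h2 : ∀ B, g B = ∑ a ∈ fs A, α a *
      if (B ⊆ A ∧ a ∈ normalizer B) ∧ B.Nonempty then (-1) ^ B.ncard * T (insert a B) a else 0 := by
    intro B
    by_cases h1 : B ⊆ A ∧ B.Nonempty
    · simp only [g, if_pos h1]
      rw [Finset.mul_sum, ← sum_fs_subset (A := A ∩ normalizer B)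
        (fun x hx => mem_inf.2 ⟨h.subset hx.1, hx.2⟩),
        ← sum_fs_subset (A := A ∩ normalizer B) Set.inter_subset_left]
      · refine sum_fs_congr fun a ha => ?_
        rw [if_pos ⟨⟨h1.1, ha.2⟩, h1.2⟩, mul_left_comm]
        simp only [T]
        obtain ⟨b, hb⟩ := h1.2
        rw [← HB_insert h h1.1 h1.2 ha.1, ← avg_coprime (isPiElt_A h ha.1)
          (isPi_of_le (fun x hx => mem_HB.1 hx b hb) (isPi_H h (h1.1 hb)))
          (norm_HB h h1.1 (mem_inf.2 ⟨h.subset ha.1, ha.2⟩)) χ hχc]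
      · intro a ha ha'
        rw [if_neg fun h3 => ha' ⟨ha, h3.1.2⟩, mul_zero]
      · intro a ha ha'
        rw [CFon_off hα fun h3 => ha' ⟨h3, (mem_inf.1 ha).2⟩, zero_mul, mul_zero]
    · simp only [g, if_neg h1]
      exact (Finset.sum_eq_zero fun a _ => by
        rw [if_neg fun h3 => h1 ⟨h3.1.1, h3.2⟩, mul_zero]).symm
  simp_rw [h2]
  rw [Finset.sum_comm, ← Finset.sum_neg_distrib]
  refine sum_fs_congr fun a ha => ?_
  rw [← Finset.mul_sum, ← mul_neg]
  congr 1
  have h3 := alt_sum ha fun B => T B a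
  rw [← Finset.add_sum_erase _ _ (Finset.mem_univ ∅), add_eq_zero_iff_eq_neg,
    if_pos ⟨Set.empty_subset _, by simp [mem_set_normalizer_iff]⟩] at h3
  rw [← Finset.add_sum_erase _ _ (Finset.mem_univ ∅), if_neg (by simp), zero_add,
    Finset.sum_congr rfl (g := fun B => if B ⊆ A ∧ a ∈ normalizer B then
      (-1) ^ B.ncard * T (insert a B) a else 0) fun B hB => ?_, ← h3, invDade_of_mem χ ha]
  · have e : HB H (insert a ∅) = H a := by
      ext x; simp [mem_HB]
    simp only [T, e, Set.ncard_empty, pow_zero, one_mul]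
  · have : B.Nonempty := Set.nonempty_iff_ne_empty.2 (Finset.mem_erase.1 hB).1
    simp only [this, and_true]

end Cfsg.Agent.FT
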