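/-
PF section 3, first part: the construction of the isometry (3.2).
-/
import Cfsg.Agent.FT.PF02
import Cfsg.Agent.FT.P.PF03_1

set_option autoImplicit false

namespace Cfsg.Agent.FT

open Subgroup Cfsg Cfsg.Agent
open scoped commutatorElement ComplexConjugate

universe u

variable {G : Type u} [Group G] [Finite G]

variable {X W₁ W₂ W : Subgroup G}

omit [Finite G] in
theorem CycTI.symm (h : CycTI X W₁ W₂ W) : CycTI X W₂ W₁ W :=
  ⟨h.dprod.symm, h.cyc, h.odd, hatSet_comm W₁ W₂ ▸ h.ti⟩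

namespace PF03

omit [Finite G] in
theorem comm (h : CycTI X W₁ W₂ W) : IsMulCommutative W := by
  have := h.cyc
  infer_instance

omit [Finite G] in
theorem three_le (h : CycTI X W₁ W₂ W) : 3 ≤ 𝐨(W₁) ∧ Odd 𝐨(W₁) := by
  have ho : Odd 𝐨(W₁) := h.odd.of_dvd_nat (card_dvd_of_le h.dprod.le_left)
  obtain ⟨x, hx⟩ := h.ti.nonempty
  obtain ⟨a, ha, ha1, -⟩ := h.dprod.mem_hatSet.1 hx
  have h1 : 𝐨(W₁) ≠ 1 := fun e => ha1 (by rwa [card_eq_one.1 e, mem_bot] at ha)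
  obtain ⟨k, hk⟩ := ho
  exact ⟨by omega, k, hk⟩

theorem ncard_hatSet (h : DProd W₁ W₂ W) :
    (hatSet W₁ W₂).ncard = (𝐨(W₁) - 1) * (𝐨(W₂) - 1) := by
  rw [← ncard_sharp, ← ncard_sharp, ← Set.ncard_prod]
  refine (Set.ncard_congr (fun x _ => x.1 * x.2) ?_ ?_ ?_).symm
  · rintro ⟨a, b⟩ ⟨ha, hb⟩
    exact h.mem_hatSet.2 ⟨a, ha.1, ha.2, b, hb.1, hb.2, rfl⟩
  · rintro ⟨a, b⟩ ⟨a', b'⟩ ⟨ha, hb⟩ ⟨ha', hb'⟩ (e : a * b = a' * b')
    have h1 : a'⁻¹ * a = b' * b⁻¹ := by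
      rw [inv_mul_eq_iff_eq_mul, ← mul_assoc, ← e, mul_inv_cancel_right]
    have h2 : a'⁻¹ * a ∈ W₁ ⊓ W₂ :=
      mem_inf.mpr ⟨mul_mem (inv_mem ha'.1) ha.1, h1 ▸ mul_mem hb'.1 (inv_mem hb.1)⟩
    rw [h.disj, mem_bot, inv_mul_eq_one] at h2
    subst h2
    rw [mul_left_cancel e]
  · intro x hx
    obtain ⟨a, ha, ha1, b, hb, hb1, rfl⟩ := h.mem_hatSet.1 hx
    exact ⟨(a, b), ⟨⟨ha, ha1⟩, ⟨hb, hb1⟩⟩, rfl⟩

end PF03

theorem CycTI.basic (h : CycTI X W₁ W₂ W) :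
    IsMulCommutative W ∧ 𝐨(W₁).Coprime 𝐨(W₂) ∧ 3 ≤ 𝐨(W₁) ∧ 3 ≤ 𝐨(W₂) ∧ Odd 𝐨(W₁) ∧ Odd 𝐨(W₂) ∧
      𝐨(W₁) ≠ 𝐨(W₂) ∧ (irrKer W W₂).card = 𝐨(W₁) ∧ (irrKer W W₁).card = 𝐨(W₂) ∧
      (hatSet W₁ W₂).ncard = (𝐨(W₁) - 1) * (𝐨(W₂) - 1) ∧
      ∀ x ∈ hatSet W₁ W₂, X ⊓ 𝐂[x] = W := by
  have hc := h.dprod.coprime_of_isCyclic h.cyc
  have h1 := PF03.three_le h
  have h2 := PF03.three_le h.symm
  have h3 := h.dprod.card_irrKer_of_comm (PF03.comm h)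
  refine ⟨PF03.comm h, hc, h1.1, h2.1, h1.2, h2.2, fun e => ?_, h3.1, h3.2,
    PF03.ncard_hatSet h.dprod, fun x hx => le_antisymm (h.ti.cent1_le hx) (le_inf h.ti.le ?_)⟩
  · rw [e, Nat.coprime_self] at hc
    omega
  · have := PF03.comm h
    exact fun y hy => mem_centralizer_singleton_iff.2
      (mem_centralizer_iff.1 (W.le_centralizer (h.ti.subset hx)) y hy)

theorem CycTI.isLin (h : CycTI X W₁ W₂ W) {ω : G → ℂ} (hω : ω ∈ Irr W) : IsLin W ω :=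
  isLin_of_comm (PF03.comm h) hω

namespace PF03

theorem apply_ker (h : CycTI X W₁ W₂ W) {N : Subgroup G} {α : G → ℂ} (hα : α ∈ irrKer W N) {x : G}
    (hx : x ∈ N) : α x = 1 :=
  (h.isLin (mem_irrKer.1 hα).1).mem_cfKer_iff.1 ((mem_irrKer.1 hα).2 hx)

theorem CF_ker {N : Subgroup G} {α : G → ℂ} (hα : α ∈ irrKer W N) : α ∈ CF W :=
  irr_mem_CF (mem_irrKer.1 hα).1

end PF03

/-- The functions `(α - α') (β - β')` lie in `CF(W, V)`. -/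
theorem CycTI.sub_mul_sub_mem (h : CycTI X W₁ W₂ W) {α α' β β' : G → ℂ} (hα : α ∈ irrKer W W₂)
    (hα' : α' ∈ irrKer W W₂) (hβ : β ∈ irrKer W W₁) (hβ' : β' ∈ irrKer W W₁) :
    α * β - α * β' - α' * β + α' * β' ∈ CFon W (hatSet W₁ W₂) := by
  refine mem_CFon_of (add_mem (sub_mem (sub_mem
    (mul_mem_CF (PF03.CF_ker hα) (PF03.CF_ker hβ)) (mul_mem_CF (PF03.CF_ker hα) (PF03.CF_ker hβ')))
    (mul_mem_CF (PF03.CF_ker hα') (PF03.CF_ker hβ))) (mul_mem_CF (PF03.CF_ker hα') (PF03.CF_ker hβ')))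
    fun x hx hV => ?_
  rw [mem_hatSet, h.dprod.sup] at hV
  by_cases h1 : x ∈ W₁
  · simp [PF03.apply_ker h hβ h1, PF03.apply_ker h hβ' h1]
  · have h2 : x ∈ W₂ := by tauto
    simp [PF03.apply_ker h hα h2, PF03.apply_ker h hα' h2]

namespace PF03

theorem one_mem₁ (h : CycTI X W₁ W₂ W) : cf1 W ∈ irrKer W W₂ := cf1_mem_irrKer h.dprod.le_right

theorem one_mem₂ (h : CycTI X W₁ W₂ W) : cf1 W ∈ irrKer W W₁ := cf1_mem_irrKer h.dprod.le_left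

/-- The basis of `CF(W, V)`, PF (3.4). -/
theorem eq_sum_basis (h : CycTI X W₁ W₂ W) {φ : G → ℂ} (hφ : φ ∈ CFon W (hatSet W₁ W₂)) :
    φ = ∑ α ∈ irrKer W W₂, ∑ β ∈ irrKer W W₁, ip W φ (α * β) •
      (α * β - α * cf1 W - cf1 W * β + cf1 W * cf1 W) := by
  refine CF_ext hφ.1 (Submodule.sum_mem _ fun α hα => Submodule.sum_mem _ fun β hβ =>
    Submodule.smul_mem _ _ (h.sub_mul_sub_mem hα (one_mem₁ h) hβ (one_mem₂ h)).1) fun x hx => ?_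
  obtain ⟨a, ha, b, hb, rfl⟩ := h.dprod.mem_iff.1 hx
  have e : ∀ y, φ y = ∑ α ∈ irrKer W W₂, ∑ β ∈ irrKer W W₁, ip W φ (α * β) * (α * β) y :=
    fun y => (apply_eq_sum_irr hφ.1 y).trans (h.dprod.sum_Irr fun χ => ip W φ χ * χ y)
  have h1 : φ a = 0 := hφ.2 a fun h => h.2.1 ha
  have h2 : φ b = 0 := hφ.2 b fun h => h.2.2 hb
  have h3 : φ 1 = 0 := hφ.2 1 fun h => h.2.1 (one_mem _)
  rw [show φ (a * b) = φ (a * b) - φ a - φ b + φ 1 by rw [h1, h2, h3]; ring, e (a * b), e a, e b,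
    e 1]
  simp only [Finset.sum_apply, ← Finset.sum_sub_distrib, ← Finset.sum_add_distrib]
  refine Finset.sum_congr rfl fun α hα => Finset.sum_congr rfl fun β hβ => ?_
  have lα := h.isLin (mem_irrKer.1 hα).1
  have lβ := h.isLin (mem_irrKer.1 hβ).1
  have ha' := h.dprod.le_left ha
  have hb' := h.dprod.le_right hb
  simp only [Pi.smul_apply, Pi.add_apply, Pi.sub_apply, Pi.mul_apply, smul_eq_mul, cf1_of_mem hx,
    lα.2.2 a ha' b hb', lβ.2.2 a ha' b hb', apply_ker h hα hb, apply_ker h hβ ha, lα.2.1, lβ.2.1]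
  ring

/-- The integral form on virtual characters. -/
noncomputable def zform (X : Subgroup G) : VChar X →+ VChar X →+ ℤ :=
  AddMonoidHom.mk' (fun φ => AddMonoidHom.mk' (fun ψ => (vchar_ip_int φ.2 ψ.2).choose)
    fun ψ ψ' => Int.cast_injective (α := ℂ) (by
      rw [Int.cast_add, ← (vchar_ip_int φ.2 ψ.2).choose_spec, ← (vchar_ip_int φ.2 ψ'.2).choose_spec,
        ← (vchar_ip_int φ.2 (ψ + ψ').2).choose_spec, Submodule.coe_add, ip_add_right]))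
    fun φ φ' => AddMonoidHom.ext fun ψ => Int.cast_injective (α := ℂ) (by
      simp only [AddMonoidHom.mk'_apply, AddMonoidHom.add_apply]
      rw [Int.cast_add, ← (vchar_ip_int φ.2 ψ.2).choose_spec, ← (vchar_ip_int φ'.2 ψ.2).choose_spec,
        ← (vchar_ip_int (φ + φ').2 ψ.2).choose_spec, Submodule.coe_add, ip_add_left])

theorem zform_cast (φ ψ : VChar X) : (zform X φ ψ : ℂ) = ip X φ ψ :=
  (vchar_ip_int φ.2 ψ.2).choose_spec.symm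

theorem zform_eq {φ ψ : VChar X} {n : ℤ} : zform X φ ψ = n ↔ ip X φ ψ = n := by
  rw [← zform_cast, Int.cast_inj]

theorem dirr_of_zform {φ : VChar X} (h : zform X φ φ = 1) : Dirr X φ :=
  dirr_of_nsq_one φ.2 (nsq_eq_one_iff.2 (by simpa using zform_eq.1 h))

theorem lat (X : Subgroup G) : Lat (zform X) where
  symm x y := zform_eq.2 (by rw [zform_cast, vchar_ip_comm x.2 y.2])
  nonneg x := by
    have h := zform_cast x x
    rw [ip_self] at h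
    have h2 : (zform X x x : ℝ) = nsq X x := by exact_mod_cast h
    exact_mod_cast h2 ▸ nsq_nonneg X x
  tri x y hx hy := by
    rcases (dirr_of_zform hx).ip_cases (dirr_of_zform hy) with h | h | h
    · exact Or.inl (Subtype.ext h)
    · exact Or.inr (Or.inl (Subtype.ext h))
    · exact Or.inr (Or.inr (zform_eq.2 (by simpa using h)))
  three v hv := by
    obtain ⟨E, h1, h2, h3, h4⟩ := vchar_small_norm v.2 (n := 3)
      (nsq_eq_of_ip (by simpa using zform_eq.1 hv)) le_rfl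
    obtain ⟨x, y, z, xy, xz, yz, rfl⟩ := Finset.card_eq_three.1 h1
    refine ⟨⟨x, (h2 x (by simp)).mem_VChar⟩, ⟨y, (h2 y (by simp)).mem_VChar⟩,
      ⟨z, (h2 z (by simp)).mem_VChar⟩, Subtype.ext ?_, zform_eq.2 ?_, zform_eq.2 ?_, zform_eq.2 ?_,
      zform_eq.2 ?_, zform_eq.2 ?_, zform_eq.2 ?_⟩
    · rw [h4, Finset.sum_insert (by simp [xy, xz]), Finset.sum_pair yz, ← add_assoc]; rfl
    · simpa using h3.1 x (by simp)
    · simpa using h3.1 y (by simp)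
    · simpa using h3.1 z (by simp)
    · simpa using h3.2 x (by simp) y (by simp) xy
    · simpa using h3.2 x (by simp) z (by simp) xz
    · simpa using h3.2 y (by simp) z (by simp) yz

theorem adj_of {b c : VChar X} (hb : zform X b b = 3) (hc : zform X c c = 3)
    (hbc : zform X b c = 1) (h1 : (b : G → ℂ) 1 = (c : G → ℂ) 1) : Adj (zform X) b c := by
  refine ⟨hb, hc, hbc, fun x hx h2 h3 => (dirr_of_zform hx).one_ne_zero ?_⟩
  have h := lat X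
  have h4 : zform X (b - c - x - x) (b - c - x - x) = 0 := by
    simp [hb, hc, hbc, hx, h2, h3, h.symm c b, h.symm x b, h.symm x c]
  have h5 := congrFun (eq_zero_of_nsq (vchar_mem_CF (b - c - x - x).2)
    (nsq_eq_of_ip (by simpa using zform_eq.1 h4))) 1
  simp only [Submodule.coe_sub, Pi.sub_apply, h1, Pi.zero_apply] at h5
  linear_combination (-1 / 2 : ℂ) * h5

theorem iso_of_irr {τ : (G → ℂ) →ₗ[ℂ] (G → ℂ)}
    (h : ∀ χ ∈ Irr W, ∀ ψ ∈ Irr W, ip X (τ χ) (τ ψ) = if χ = ψ then 1 else 0) {φ ψ : G → ℂ}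
    (hφ : φ ∈ CF W) (hψ : ψ ∈ CF W) : ip X (τ φ) (τ ψ) = ip W φ ψ := by
  rw [ip_eq_sum_irr hφ]
  conv_lhs => rw [eq_sum_irr hφ, eq_sum_irr hψ]
  simp only [map_sum, map_smul, ip_sum_left, ip_sum_right, ip_smul_left, ip_smul_right]
  refine Finset.sum_congr rfl fun χ hχ => ?_
  rw [Finset.sum_eq_single_of_mem χ hχ fun ψ' hψ' hne => by rw [h _ hψ' _ hχ, if_neg hne]; simp,
    h _ hχ _ hχ, if_pos rfl]
  ring

theorem exists_family (h : CycTI X W₁ W₂ W) (h5 : 5 ≤ 𝐨(W₁)) :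
    ∃ e : (G → ℂ) → (G → ℂ) → G → ℂ, e (cf1 W) (cf1 W) = cf1 X ∧
      (∀ α ∈ irrKer W W₂, ∀ β ∈ irrKer W W₁, e α β ∈ VChar X) ∧
      (∀ α ∈ irrKer W W₂, ∀ β ∈ irrKer W W₁, ∀ α' ∈ irrKer W W₂, ∀ β' ∈ irrKer W W₁,
        ip X (e α β) (e α' β') = if α = α' ∧ β = β' then 1 else 0) ∧
      ∀ α ∈ irrKer W W₂, ∀ β ∈ irrKer W W₁,
        e α β - e α (cf1 W) - e (cf1 W) β + e (cf1 W) (cf1 W) =
          ind X W (α * β - α * cf1 W - cf1 W * β + cf1 W * cf1 W) := by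
  classical
  obtain ⟨-, -, -, h3, -, ho, -, hc1, hc2, -⟩ := h.basic
  have o1 := one_mem₁ h
  have o2 := one_mem₂ h
  let I := (irrKer W W₂).erase (cf1 W)
  let J := (irrKer W W₁).erase (cf1 W)
  let a : (G → ℂ) → (G → ℂ) → G → ℂ := fun α β =>
    α * β - α * cf1 W - cf1 W * β + cf1 W * cf1 W
  have hv : ∀ α ∈ irrKer W W₂, ∀ β ∈ irrKer W W₁, ind X W (a α β) - cf1 X ∈ VChar X := by
    intro α hα β hβ
    have k := fun {α β : G → ℂ} (hα : α ∈ irrKer W W₂) (hβ : β ∈ irrKer W W₁) =>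
      irr_mem_VChar (h.dprod.mul_mem_Irr hα hβ)
    exact sub_mem (vchar_ind h.ti.le (add_mem (sub_mem (sub_mem (k hα hβ) (k hα o2)) (k o1 hβ))
      (k o1 o2))) (cf1_mem_VChar X)
  let b : (G → ℂ) → (G → ℂ) → VChar X := fun α β =>
    if hh : α ∈ irrKer W W₂ ∧ β ∈ irrKer W W₁ then ⟨_, hv α hh.1 β hh.2⟩ else 0
  have hb : ∀ α ∈ I, ∀ β ∈ J, (b α β : G → ℂ) = ind X W (a α β) - cf1 X := fun α hα β hβ => by
    simp only [b]
    rw [dif_pos ⟨Finset.mem_of_mem_erase hα, Finset.mem_of_mem_erase hβ⟩]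
  have ha1 : ∀ α ∈ I, ∀ β ∈ J, ip X (ind X W (a α β)) (cf1 X) = 1 := by
    intro α hα β hβ
    obtain ⟨n1, hα⟩ := Finset.mem_erase.1 hα
    obtain ⟨n2, hβ⟩ := Finset.mem_erase.1 hβ
    rw [ip_ind_left h.ti.le _ (cf1_mem_CF X), ← ip_res_right, res_cf1 h.ti.le,
      ← mul_cf1 (cf1_mem_CF W)]
    simp only [a, ip_add_left, ip_sub_left, h.dprod.ip_mul_irrKer hα o1 hβ o2,
      h.dprod.ip_mul_irrKer hα o1 o2 o2, h.dprod.ip_mul_irrKer o1 o1 hβ o2,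
      h.dprod.ip_mul_irrKer o1 o1 o2 o2]
    simp [n1, n2]
  have hb1 : ∀ α ∈ I, ∀ β ∈ J, ip X (b α β) (cf1 X) = 0 := fun α hα β hβ => by
    rw [hb α hα β hβ, ip_sub_left, ha1 α hα β hβ, ip_cf1_cf1, sub_self]
  have hbb : ∀ α ∈ I, ∀ β ∈ J, ∀ α' ∈ I, ∀ β' ∈ J, ip X (b α β) (b α' β') =
      (1 + if α = α' then 1 else 0) * (1 + if β = β' then 1 else 0) - 1 := by
    intro α hα β hβ α' hα' β' hβ'
    have k1 : ip X (cf1 X) (ind X W (a α' β')) = 1 := by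
      rw [← conj_ip, ha1 α' hα' β' hβ', map_one]
    rw [hb α' hα' β' hβ', ip_sub_right, hb1 α hα β hβ, sub_zero, hb α hα β hβ, ip_sub_left, k1]
    simp only [a]
    obtain ⟨n1, hα⟩ := Finset.mem_erase.1 hα
    obtain ⟨n2, hβ⟩ := Finset.mem_erase.1 hβ
    obtain ⟨n3, hα'⟩ := Finset.mem_erase.1 hα'
    obtain ⟨n4, hβ'⟩ := Finset.mem_erase.1 hβ'
    rw [h.ti.ip_ind (h.sub_mul_sub_mem hα o1 hβ o2) (h.sub_mul_sub_mem hα' o1 hβ' o2)]
    have k := fun {α α' β β' : G → ℂ} (hα : α ∈ irrKer W W₂) (hβ : β ∈ irrKer W W₁)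
      (hα' : α' ∈ irrKer W W₂) (hβ' : β' ∈ irrKer W W₁) => h.dprod.ip_mul_irrKer hα hα' hβ hβ'
    simp only [ip_add_left, ip_sub_left, ip_add_right, ip_sub_right, k hα hβ hα' hβ',
      k hα hβ hα' o2, k hα hβ o1 hβ', k hα hβ o1 o2, k hα o2 hα' hβ', k hα o2 hα' o2,
      k hα o2 o1 hβ', k hα o2 o1 o2, k o1 hβ hα' hβ', k o1 hβ hα' o2, k o1 hβ o1 hβ',
      k o1 hβ o1 o2, k o1 o2 hα' hβ', k o1 o2 hα' o2, k o1 o2 o1 hβ', k o1 o2 o1 o2]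
    by_cases e1 : α = α' <;> by_cases e2 : β = β' <;>
      simp [e1, e2, n1, n2, n3, n4, n3.symm, n4.symm] <;> norm_num
  have hd : ∀ α ∈ I, ∀ β ∈ J, (b α β : G → ℂ) 1 = -1 := fun α hα β hβ => by
    have k1 : a α β 1 = 0 := (h.sub_mul_sub_mem (Finset.mem_of_mem_erase hα)
      o1 (Finset.mem_of_mem_erase hβ) o2).2 1 h.ti.one_notMem
    rw [hb α hα β hβ, Pi.sub_apply, ind_one h.ti.le, k1]
    simp
  have h33 : ∀ α ∈ I, ∀ β ∈ J, zform X (b α β) (b α β) = 3 := fun α hα β hβ =>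
    zform_eq.2 (by rw [hbb α hα β hβ α hα β hβ]; simp; norm_num)
  let u : VChar X := ⟨cf1 X, cf1_mem_VChar X⟩
  obtain ⟨e, e1, e2, e3⟩ := (lat X).grid' (I := I) (J := J) (β := b)
    (by rw [Finset.card_erase_of_mem o1, hc1]; omega)
    (by rw [Finset.card_erase_of_mem o2, hc2]; obtain ⟨k, hk⟩ := ho; omega)
    (fun i hi j hj j' hj' jj => adj_of (h33 i hi j hj) (h33 i hi j' hj')
      (zform_eq.2 (by rw [hbb i hi j hj i hi j' hj']; simp [jj]))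
      (by rw [hd i hi j hj, hd i hi j' hj']))
    (fun j hj i hi i' hi' ii => adj_of (h33 i hi j hj) (h33 i' hi' j hj)
      (zform_eq.2 (by rw [hbb i hi j hj i' hi' j hj]; simp [ii]))
      (by rw [hd i hi j hj, hd i' hi' j hj]))
    (fun i hi i' hi' j hj j' hj' ii jj =>
      zform_eq.2 (by rw [hbb i hi j hj i' hi' j' hj']; simp [ii, jj]))
    (Finset.notMem_erase (cf1 W) _) (Finset.notMem_erase (cf1 W) _) (u := u)
    (zform_eq.2 (by simp [u])) fun i hi j hj => zform_eq.2 (by simpa using hb1 i hi j hj)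
  simp only [I, J, Finset.insert_erase o1, Finset.insert_erase o2] at e2
  refine ⟨fun α β => e α β, congrArg Subtype.val e1, fun α _ β _ => (e α β).2, ?_, ?_⟩
  · intro α hα β hβ α' hα' β' hβ'
    rw [← zform_cast, e2 α hα β hβ α' hα' β' hβ']
    split_ifs <;> simp
  · intro α hα β hβ
    by_cases i1 : α = cf1 W
    · simp [i1]
    by_cases j1 : β = cf1 W
    · simp [j1]
    have h1 := congrArg Subtype.val (e3 α (Finset.mem_erase.2 ⟨i1, hα⟩) β (Finset.mem_erase.2 ⟨j1, hβ⟩))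
    simp only [Submodule.coe_add, Submodule.coe_sub] at h1
    rw [h1, hb α (Finset.mem_erase.2 ⟨i1, hα⟩) β (Finset.mem_erase.2 ⟨j1, hβ⟩)]
    simp [u, a]

theorem exists_isCycIso (h : CycTI X W₁ W₂ W) (h5 : 5 ≤ 𝐨(W₁)) :
    ∃ σ, IsCycIso X W (hatSet W₁ W₂) σ := by
  classical
  obtain ⟨e, e1, e2, e3, e4⟩ := exists_family h h5
  have key : ∀ ω, ∃ φ, ∀ α ∈ irrKer W W₂, ∀ β ∈ irrKer W W₁, ω = α * β → φ = e α β := fun ω => by
    by_cases hω : ω ∈ Irr W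
    · obtain ⟨α, hα, β, hβ, rfl⟩ := h.dprod.exists_mul hω
      refine ⟨e α β, fun α' hα' β' hβ' h1 => ?_⟩
      obtain ⟨rfl, rfl⟩ := (h.dprod.mul_eq_mul_iff hα hα' hβ hβ').1 h1
      rfl
    · exact ⟨0, fun α hα β hβ h1 => absurd (h1 ▸ h.dprod.mul_mem_Irr hα hβ) hω⟩
  choose f hf using key
  obtain ⟨σ, hσ⟩ := exists_linear_of_orth (H := W) (S := Irr W)
    (fun χ hχ => by rw [nsq_irr hχ]; exact one_ne_zero) (fun χ hχ ψ hψ => ip_irr_of_ne hχ hψ) f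
  have hσ' : ∀ α ∈ irrKer W W₂, ∀ β ∈ irrKer W W₁, σ (α * β) = e α β := fun α hα β hβ =>
    (hσ _ (h.dprod.mul_mem_Irr hα hβ)).trans (hf _ α hα β hβ rfl)
  have o1 := one_mem₁ h
  have o2 := one_mem₂ h
  refine ⟨σ, fun φ hφ ψ hψ => iso_of_irr (fun χ hχ ψ hψ => ?_) hφ hψ, ?_, fun ω hω => ?_,
    fun φ hφ => ?_⟩
  · obtain ⟨α, hα, β, hβ, rfl⟩ := h.dprod.exists_mul hχ
    obtain ⟨α', hα', β', hβ', rfl⟩ := h.dprod.exists_mul hψ
    rw [hσ' α hα β hβ, hσ' α' hα' β' hβ', e3 α hα β hβ α' hα' β' hβ']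
    simp only [h.dprod.mul_eq_mul_iff hα hα' hβ hβ']
  · rw [← e1, ← hσ' _ o1 _ o2, mul_cf1 (cf1_mem_CF W)]
  · obtain ⟨α, hα, β, hβ, rfl⟩ := h.dprod.exists_mul hω
    rw [hσ' α hα β hβ]
    exact dirr_of_nsq_one (e2 α hα β hβ) (nsq_eq_one_iff.2 (by rw [e3 α hα β hβ α hα β hβ]; simp))
  · rw [eq_sum_basis h hφ, map_sum, map_sum]
    refine Finset.sum_congr rfl fun α hα => ?_
    rw [map_sum, map_sum]
    refine Finset.sum_congr rfl fun β hβ => ?_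
    rw [map_smul, map_smul, ← e4 α hα β hβ, map_add, map_sub, map_sub, hσ' α hα β hβ,
      hσ' α hα _ o2, hσ' _ o1 β hβ, hσ' _ o1 _ o2]

end PF03

/-- PF (3.2). -/
theorem CycTI.isCycIso (h : CycTI X W₁ W₂ W) : IsCycIso X W (hatSet W₁ W₂) (cycσ X W₁ W₂) := by
  have key : ∃ σ, IsCycIso X W (hatSet W₁ W₂) σ := by
    obtain ⟨-, -, h1, h2, ⟨k, hk⟩, ⟨l, hl⟩, h3, -⟩ := h.basic
    by_cases h5 : 5 ≤ 𝐨(W₁)
    · exact PF03.exists_isCycIso h h5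
    · exact hatSet_comm W₁ W₂ ▸ PF03.exists_isCycIso h.symm (by omega)
  rw [cycσ, h.dprod.sup]
  exact Classical.epsilon_spec key

end Cfsg.Agent.FT
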