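/-
PF section 3, second part: properties of the isometry.
-/
import Cfsg.Agent.FT.P.PF03_2

set_option autoImplicit false

namespace Cfsg.Agent.FT

open Subgroup Cfsg Cfsg.Agent
open scoped commutatorElement ComplexConjugate

universe u

variable {G : Type u} [Group G] [Finite G]

variable {X W₁ W₂ W : Subgroup G}

theorem CycTI.σ_mem_CF (h : CycTI X W₁ W₂ W) {φ : G → ℂ} (hφ : φ ∈ CF W) :
    cycσ X W₁ W₂ φ ∈ CF X := by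
  rw [eq_sum_irr hφ, map_sum]
  refine Submodule.sum_mem _ fun χ hχ => ?_
  rw [map_smul]
  exact Submodule.smul_mem _ _ (h.isCycIso.dirr χ hχ).mem_CF

theorem CycTI.σ_vchar (h : CycTI X W₁ W₂ W) {φ : G → ℂ} (hφ : φ ∈ VChar W) :
    cycσ X W₁ W₂ φ ∈ VChar X :=
  map_mem_of_mem_Zs (fun χ hχ => (h.isCycIso.dirr χ hχ).mem_VChar) hφ

theorem CycTI.σ_dirr (h : CycTI X W₁ W₂ W) {ω : G → ℂ} (hω : ω ∈ Irr W) :
    Dirr X (cycσ X W₁ W₂ ω) :=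
  h.isCycIso.dirr ω hω

theorem CycTI.σ_cf1 (h : CycTI X W₁ W₂ W) : cycσ X W₁ W₂ (cf1 W) = cf1 X :=
  h.isCycIso.one

theorem CycTI.ip_σ (h : CycTI X W₁ W₂ W) {ω ω' : G → ℂ} (hω : ω ∈ Irr W) (hω' : ω' ∈ Irr W) :
    ip X (cycσ X W₁ W₂ ω) (cycσ X W₁ W₂ ω') = if ω = ω' then 1 else 0 := by
  rw [h.isCycIso.iso _ (irr_mem_CF hω) _ (irr_mem_CF hω'), ip_irr hω hω']

theorem CycTI.ip_σ_mul (h : CycTI X W₁ W₂ W) {α α' β β' : G → ℂ} (hα : α ∈ irrKer W W₂)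
    (hα' : α' ∈ irrKer W W₂) (hβ : β ∈ irrKer W W₁) (hβ' : β' ∈ irrKer W W₁) :
    ip X (cycσ X W₁ W₂ (α * β)) (cycσ X W₁ W₂ (α' * β')) = if α = α' ∧ β = β' then 1 else 0 := by
  rw [h.isCycIso.iso _ (irr_mem_CF (h.dprod.mul_mem_Irr hα hβ)) _
    (irr_mem_CF (h.dprod.mul_mem_Irr hα' hβ')), h.dprod.ip_mul_irrKer hα hα' hβ hβ']

theorem CycTI.on_image_σ (h : CycTI X W₁ W₂ W) :
    ON X ((Irr W).image (cycσ X W₁ W₂)) ∧ Set.InjOn (cycσ X W₁ W₂) (Irr W) := by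
  refine ⟨⟨fun α hα => ?_, fun α hα β hβ hne => ?_⟩, fun ω hω ω' hω' e => ?_⟩
  · obtain ⟨ω, hω, rfl⟩ := Finset.mem_image.1 hα
    exact (h.σ_dirr hω).ip_self
  · obtain ⟨ω, hω, rfl⟩ := Finset.mem_image.1 hα
    obtain ⟨ω', hω', rfl⟩ := Finset.mem_image.1 hβ
    rw [h.ip_σ hω hω', if_neg fun e => hne (by rw [e])]
  · by_contra hne
    have h1 := h.ip_σ hω hω'
    rw [if_neg hne, e, (h.σ_dirr hω').ip_self] at h1
    exact one_ne_zero h1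

/-- PF (3.2)(c). -/
theorem CycTI.σ_restrict (h : CycTI X W₁ W₂ W) {φ : G → ℂ} (hφ : φ ∈ CF W) {x : G}
    (hx : x ∈ hatSet W₁ W₂) : cycσ X W₁ W₂ φ x = φ x := by
  have h1 := h.σ_mem_CF hφ
  have := eq_zero_on_of_orth_CFon (H := W) h.ti.subset h.ti.norm (ψ := cycσ X W₁ W₂ φ - φ)
    (fun g hg y => by rw [Pi.sub_apply, Pi.sub_apply, CF_conj h1 (h.ti.le hg), CF_conj hφ hg])
    (fun α hα => by
      rw [ip_sub_right, ← ip_ind_left h.ti.le _ h1, ← h.isCycIso.ind α hα,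
        h.isCycIso.iso _ hα.1 _ hφ, sub_self]) x hx
  exact sub_eq_zero.1 this

/-- PF (3.2)(d). -/
theorem CycTI.vanish_of_orth (h : CycTI X W₁ W₂ W) {ψ : G → ℂ} (hψ : ψ ∈ CF X)
    (ho : ∀ ω ∈ Irr W, ip X ψ (cycσ X W₁ W₂ ω) = 0) : ∀ x ∈ hatSet W₁ W₂, ψ x = 0 := by
  refine eq_zero_on_of_orth_CFon (H := W) h.ti.subset h.ti.norm
    (fun g hg y => CF_conj hψ (h.ti.le hg) y) fun α hα => ?_
  rw [← ip_ind_left h.ti.le _ hψ, ← h.isCycIso.ind α hα, eq_sum_irr hα.1, map_sum, ip_sum_left]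
  refine Finset.sum_eq_zero fun ω hω => ?_
  rw [map_smul, ip_smul_left, ip_eq_zero_symm (ho ω hω), mul_zero]

/-- PF (3.7). -/
theorem CycTI.ip_exchange (h : CycTI X W₁ W₂ W) {φ : G → ℂ} (hφ : φ ∈ CF X)
    (h0 : ∀ x ∈ hatSet W₁ W₂, φ x = 0) {α α' β β' : G → ℂ} (hα : α ∈ irrKer W W₂)
    (hα' : α' ∈ irrKer W W₂) (hβ : β ∈ irrKer W W₁) (hβ' : β' ∈ irrKer W W₁) :
    ip X φ (cycσ X W₁ W₂ (α * β)) + ip X φ (cycσ X W₁ W₂ (α' * β')) =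
      ip X φ (cycσ X W₁ W₂ (α * β')) + ip X φ (cycσ X W₁ W₂ (α' * β)) := by
  have h1 := h.sub_mul_sub_mem hα hα' hβ hβ'
  have h2 : ip X φ (cycσ X W₁ W₂ (α * β - α * β' - α' * β + α' * β')) = 0 := by
    rw [h.isCycIso.ind _ h1, ip_ind_right h.ti.le hφ]
    refine ip_eq_zero_of_disjoint fun x _ => ?_
    by_cases hx : x ∈ hatSet W₁ W₂
    · exact Or.inl (h0 x hx)
    · exact Or.inr (h1.2 x hx)
  simp only [map_add, map_sub, ip_add_right, ip_sub_right] at h2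
  linear_combination h2

theorem CycTI.NC_eq_zero_iff (h : CycTI X W₁ W₂ W) {φ : G → ℂ} :
    cycNC X W₁ W₂ φ = 0 ↔ ∀ ω ∈ Irr W, ip X φ (cycσ X W₁ W₂ ω) = 0 := by
  simp [cycNC, h.dprod.sup, Finset.filter_eq_empty_iff]

theorem cycNC_add_le (X W₁ W₂ : Subgroup G) (φ ψ : G → ℂ) :
    cycNC X W₁ W₂ (φ + ψ) ≤ cycNC X W₁ W₂ φ + cycNC X W₁ W₂ ψ := by
  refine le_trans (Finset.card_le_card fun ω hω => ?_) (Finset.card_union_le _ _)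
  simp only [Finset.mem_union, Finset.mem_filter, ip_add_left] at hω ⊢
  by_cases h1 : ip X φ (cycσ X W₁ W₂ ω) = 0
  · rw [h1, zero_add] at hω
    exact Or.inr hω
  · exact Or.inl ⟨hω.1, h1⟩

theorem cycNC_smul_le (X W₁ W₂ : Subgroup G) (c : ℂ) (φ : G → ℂ) :
    cycNC X W₁ W₂ (c • φ) ≤ cycNC X W₁ W₂ φ := by
  refine Finset.card_le_card fun ω hω => ?_
  simp only [Finset.mem_filter, ip_smul_left] at hω ⊢
  exact ⟨hω.1, right_ne_zero_of_mul hω.2⟩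

theorem cycNC_sub_le (X W₁ W₂ : Subgroup G) (φ ψ : G → ℂ) :
    cycNC X W₁ W₂ (φ - ψ) ≤ cycNC X W₁ W₂ φ + cycNC X W₁ W₂ ψ := by
  rw [sub_eq_add_neg, ← neg_one_smul ℂ ψ]
  exact (cycNC_add_le _ _ _ _ _).trans (Nat.add_le_add_left (cycNC_smul_le _ _ _ _ _) _)

namespace PF03

theorem bessel (h : CycTI X W₁ W₂ W) (φ : G → ℂ) :
    ∑ ω ∈ Irr W, ‖ip X φ (cycσ X W₁ W₂ ω)‖ ^ 2 ≤ nsq X φ := by
  have := h.on_image_σ.1.bessel φ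
  rwa [Finset.sum_image h.on_image_σ.2] at this

open Classical in
theorem NC_eq (h : CycTI X W₁ W₂ W) (φ : G → ℂ) :
    cycNC X W₁ W₂ φ = ∑ α ∈ irrKer W W₂, ∑ β ∈ irrKer W W₁,
      if ip X φ (cycσ X W₁ W₂ (α * β)) ≠ 0 then 1 else 0 := by
  rw [cycNC, h.dprod.sup, Finset.card_filter]
  exact h.dprod.sum_Irr fun ω => if ip X φ (cycσ X W₁ W₂ ω) ≠ 0 then 1 else 0

section comb

variable {ι κ : Type*} {I : Finset ι} {J : Finset κ} {c : ι → κ → ℂ}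

open Classical in
theorem comb_row [DecidableEq ι]
    (hx : ∀ i ∈ I, ∀ i' ∈ I, ∀ j ∈ J, ∀ j' ∈ J, c i j + c i' j' = c i j' + c i' j)
    (hN : ∑ i ∈ I, ∑ j ∈ J, (if c i j ≠ 0 then 1 else 0) < 2 * J.card) {i₀ : ι} {j₀ : κ}
    (hi₀ : i₀ ∈ I) (hj₀ : j₀ ∈ J) (hne : c i₀ j₀ ≠ 0) {i₁ : ι} (hi₁ : i₁ ∈ I)
    (hz : ∀ j ∈ J, c i₁ j = 0) : ∀ i ∈ I, ∀ j ∈ J, c i j = if i = i₀ then c i₀ j₀ else 0 := by
  have hc : ∀ i ∈ I, ∀ j ∈ J, ∀ j' ∈ J, c i j = c i j' := fun i hi j hj j' hj' => by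
    have := hx i hi i₁ hi₁ j hj j' hj'
    rwa [hz j hj, hz j' hj', add_zero, add_zero] at this
  have hs : ∀ i ∈ I, c i j₀ ≠ 0 → ∑ j ∈ J, (if c i j ≠ 0 then 1 else 0) = J.card := by
    intro i hi h1
    rw [Finset.card_eq_sum_ones]
    exact Finset.sum_congr rfl fun j hj => if_pos (by rwa [hc i hi j hj j₀ hj₀])
  intro i hi j hj
  split_ifs with e
  · rw [e, hc i₀ hi₀ j hj j₀ hj₀]
  · by_contra h1
    rw [hc i hi j hj j₀ hj₀] at h1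
    have h2 := Finset.sum_le_sum_of_subset (f := fun i => ∑ j ∈ J, if c i j ≠ 0 then 1 else 0)
      (s := {i, i₀}) (t := I) (by simp [Finset.insert_subset_iff, hi, hi₀])
    rw [Finset.sum_pair e, hs i hi h1, hs i₀ hi₀ hne] at h2
    omega

open Classical in
theorem comb [DecidableEq ι] [DecidableEq κ]
    (hx : ∀ i ∈ I, ∀ i' ∈ I, ∀ j ∈ J, ∀ j' ∈ J, c i j + c i' j' = c i j' + c i' j)
    (hN : ∑ i ∈ I, ∑ j ∈ J, (if c i j ≠ 0 then 1 else 0) < 2 * min I.card J.card)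
    (hIJ : I.card + 2 ≤ J.card ∨ J.card + 2 ≤ I.card) (hJ : 2 ≤ J.card) {i₀ : ι} {j₀ : κ}
    (hi₀ : i₀ ∈ I) (hj₀ : j₀ ∈ J) (hne : c i₀ j₀ ≠ 0) :
    (∀ i ∈ I, ∀ j ∈ J, c i j = if j = j₀ then c i₀ j₀ else 0) ∨
      ∀ i ∈ I, ∀ j ∈ J, c i j = if i = i₀ then c i₀ j₀ else 0 := by
  by_cases hr : ∃ i₁ ∈ I, ∀ j ∈ J, c i₁ j = 0
  · obtain ⟨i₁, hi₁, hz⟩ := hr
    exact Or.inr (comb_row hx (by omega) hi₀ hj₀ hne hi₁ hz)
  by_cases hc : ∃ j₁ ∈ J, ∀ i ∈ I, c i j₁ = 0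
  · obtain ⟨j₁, hj₁, hz⟩ := hc
    refine Or.inl fun i hi j hj => comb_row (c := fun j i => c i j) (I := J) (J := I)
      (fun j hj j' hj' i hi i' hi' => ?_) ?_ hj₀ hi₀ hne hj₁ hz j hj i hi
    · rw [hx i hi i' hi' j hj j' hj', add_comm]
    · rw [Finset.sum_comm]
      omega
  exfalso
  push Not at hr hc
  simp only [← Finset.card_filter] at hN
  have h1 : ∀ i ∈ I, 1 ≤ (J.filter fun j => c i j ≠ 0).card := fun i hi => by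
    obtain ⟨j, hj, h⟩ := hr i hi
    exact Finset.card_pos.2 ⟨j, Finset.mem_filter.2 ⟨hj, h⟩⟩
  obtain ⟨i₁, hi₁, h2⟩ : ∃ i₁ ∈ I, (J.filter fun j => c i₁ j ≠ 0).card < 2 := by
    refine Finset.exists_lt_of_sum_lt (g := fun _ => 2) ?_
    rw [Finset.sum_const, smul_eq_mul]
    omega
  obtain ⟨j₁, hj₁⟩ := Finset.card_eq_one.1 (le_antisymm (Nat.le_of_lt_succ h2) (h1 i₁ hi₁))
  have h3 : ∀ j ∈ J, j ≠ j₁ → c i₁ j = 0 := fun j hj n => by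
    by_contra h
    exact n (Finset.mem_singleton.1 (hj₁ ▸ Finset.mem_filter.2 ⟨hj, h⟩))
  obtain ⟨j₂, hj₂, n₂⟩ := Finset.exists_mem_ne (s := J) (by omega) j₁
  obtain ⟨i₂, hi₂, h4⟩ := hc j₂ hj₂
  have h5 : J.card - 1 ≤ (J.filter fun j => c i₂ j ≠ 0).card := by
    refine le_trans (Finset.pred_card_le_card_erase (a := j₁)) (Finset.card_le_card fun j hj => ?_)
    obtain ⟨n, hj⟩ := Finset.mem_erase.1 hj
    have := hx i₂ hi₂ i₁ hi₁ j hj j₂ hj₂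
    rw [h3 j hj n, h3 j₂ hj₂ n₂, add_zero, add_zero] at this
    exact Finset.mem_filter.2 ⟨hj, this ▸ h4⟩
  have h6 := Finset.card_nsmul_le_sum (I.erase i₂) _ 1 fun i hi => h1 i (Finset.mem_of_mem_erase hi)
  rw [← Finset.add_sum_erase _ _ hi₂] at hN
  rw [Finset.card_erase_of_mem hi₂, smul_eq_mul] at h6
  omega

end comb

end PF03

theorem CycTI.NC_le_nsq (h : CycTI X W₁ W₂ W) {φ : G → ℂ} (hφ : φ ∈ VChar X) :
    (cycNC X W₁ W₂ φ : ℝ) ≤ nsq X φ := by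
  refine le_trans ?_ (PF03.bessel h φ)
  rw [cycNC, h.dprod.sup, Finset.card_filter, Nat.cast_sum]
  refine Finset.sum_le_sum fun ω hω => ?_
  split_ifs with h1
  · obtain ⟨n, hn⟩ := vchar_ip_int hφ (h.σ_dirr hω).mem_VChar
    rw [hn] at h1 ⊢
    have h2 : n ≠ 0 := by exact_mod_cast h1
    rw [Complex.norm_intCast, sq_abs]
    exact_mod_cast (one_le_sq_iff_one_le_abs n).2 (Int.one_le_abs h2)
  · simp

theorem CycTI.NC_dirr (h : CycTI X W₁ W₂ W) {φ : G → ℂ} (hφ : Dirr X φ) :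
    cycNC X W₁ W₂ φ ≤ 1 := by
  have := h.NC_le_nsq hφ.mem_VChar
  rw [hφ.nsq] at this
  exact_mod_cast this

/-- PF (3.8). -/
theorem CycTI.small_NC (h : CycTI X W₁ W₂ W) {φ : G → ℂ} (hφ : φ ∈ CF X)
    (h0 : ∀ x ∈ hatSet W₁ W₂, φ x = 0) (hNC : cycNC X W₁ W₂ φ < 2 * min 𝐨(W₁) 𝐨(W₂))
    {α₀ β₀ : G → ℂ} (hα₀ : α₀ ∈ irrKer W W₂) (hβ₀ : β₀ ∈ irrKer W W₁)
    (hne : ip X φ (cycσ X W₁ W₂ (α₀ * β₀)) ≠ 0) :
    (∀ α ∈ irrKer W W₂, ∀ β ∈ irrKer W W₁, ip X φ (cycσ X W₁ W₂ (α * β)) =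
        if β = β₀ then ip X φ (cycσ X W₁ W₂ (α₀ * β₀)) else 0) ∨
      (∀ α ∈ irrKer W W₂, ∀ β ∈ irrKer W W₁, ip X φ (cycσ X W₁ W₂ (α * β)) =
        if α = α₀ then ip X φ (cycσ X W₁ W₂ (α₀ * β₀)) else 0) := by
  obtain ⟨-, -, h1, h2, ⟨k, hk⟩, ⟨l, hl⟩, h3, c1, c2, -⟩ := h.basic
  rw [PF03.NC_eq h, ← c1, ← c2] at hNC
  exact PF03.comb (c := fun α β => ip X φ (cycσ X W₁ W₂ (α * β)))
    (fun α hα α' hα' β hβ β' hβ' => h.ip_exchange hφ h0 hα hα' hβ hβ') hNC (by omega) (by omega)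
    hα₀ hβ₀ hne

/-- PF (3.8), consequence. -/
theorem CycTI.NC_min (h : CycTI X W₁ W₂ W) {φ : G → ℂ} (hφ : φ ∈ CF X)
    (h0 : ∀ x ∈ hatSet W₁ W₂, φ x = 0) (hNC : cycNC X W₁ W₂ φ < min 𝐨(W₁) 𝐨(W₂)) :
    ∀ ω ∈ Irr W, ip X φ (cycσ X W₁ W₂ ω) = 0 := by
  classical
  intro ω hω
  by_contra hne
  obtain ⟨α₀, hα₀, β₀, hβ₀, rfl⟩ := h.dprod.exists_mul hω
  obtain ⟨-, -, -, -, -, -, -, c1, c2, -⟩ := h.basic
  have h1 := h.small_NC hφ h0 (by omega) hα₀ hβ₀ hne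
  rw [PF03.NC_eq h] at hNC
  rcases h1 with h1 | h1
  · have := Finset.card_nsmul_le_sum (irrKer W W₂) (fun α => ∑ β ∈ irrKer W W₁,
      if ip X φ (cycσ X W₁ W₂ (α * β)) ≠ 0 then 1 else 0) 1 fun α hα =>
        le_trans (by rw [h1 α hα β₀ hβ₀, if_pos rfl, if_pos hne])
          (Finset.single_le_sum (f := fun β => if ip X φ (cycσ X W₁ W₂ (α * β)) ≠ 0 then 1 else 0)
            (fun _ _ => Nat.zero_le _) hβ₀)
    rw [smul_eq_mul] at this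
    omega
  · rw [Finset.sum_comm] at hNC
    have := Finset.card_nsmul_le_sum (irrKer W W₁) (fun β => ∑ α ∈ irrKer W W₂,
      if ip X φ (cycσ X W₁ W₂ (α * β)) ≠ 0 then 1 else 0) 1 fun β hβ =>
        le_trans (by rw [h1 α₀ hα₀ β hβ, if_pos rfl, if_pos hne])
          (Finset.single_le_sum (f := fun α => if ip X φ (cycσ X W₁ W₂ (α * β)) ≠ 0 then 1 else 0)
            (fun _ _ => Nat.zero_le _) hα₀)
    rw [smul_eq_mul] at this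
    omega

namespace PF03

theorem col_bound (h : CycTI X W₁ W₂ W) {φ : G → ℂ} (hφ : φ ∈ CF X)
    (h0 : ∀ x ∈ hatSet W₁ W₂, φ x = 0) (hNC : cycNC X W₁ W₂ φ < 2 * min 𝐨(W₁) 𝐨(W₂))
    {α β β' : G → ℂ} (hα : α ∈ irrKer W W₂) (hβ : β ∈ irrKer W W₁) (hβ' : β' ∈ irrKer W W₁)
    (hne : β' ≠ β) {m n : ℤ} (hm : ip X φ (cycσ X W₁ W₂ (α * β)) = m)
    (hn : ip X φ (cycσ X W₁ W₂ (α * β')) = n) (h1 : m ≠ 0) (h2 : m ≠ n) :
    n = 0 ∧ 3 * (m : ℝ) ^ 2 ≤ nsq X φ := by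
  rcases h.small_NC hφ h0 hNC hα hβ (by rw [hm]; exact_mod_cast h1) with h3 | h3
  · refine ⟨by exact_mod_cast hn.symm.trans ((h3 α hα β' hβ').trans (if_neg hne)),
      le_trans ?_ (bessel h φ)⟩
    rw [h.dprod.sum_Irr fun ω => ‖ip X φ (cycσ X W₁ W₂ ω)‖ ^ 2]
    have := Finset.card_nsmul_le_sum (irrKer W W₂) (fun α => ∑ β ∈ irrKer W W₁,
      ‖ip X φ (cycσ X W₁ W₂ (α * β))‖ ^ 2) ((m : ℝ) ^ 2) fun α' hα' =>
        le_trans (by rw [h3 α' hα' β hβ, if_pos rfl, hm, Complex.norm_intCast, sq_abs])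
          (Finset.single_le_sum (f := fun β => ‖ip X φ (cycσ X W₁ W₂ (α' * β))‖ ^ 2)
            (fun _ _ => sq_nonneg _) hβ)
    refine le_trans ?_ this
    rw [nsmul_eq_mul, h.basic.2.2.2.2.2.2.2.1]
    exact mul_le_mul_of_nonneg_right (by exact_mod_cast h.basic.2.2.1) (sq_nonneg _)
  · have := h3 α hα β' hβ'
    rw [if_pos rfl, hm, hn] at this
    exact absurd (by exact_mod_cast this.symm) h2

end PF03

/-- PF (3.8), consequence used in (4.8), (10.5), (10.10), (11.8). -/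
theorem CycTI.eq_signed_sub (h : CycTI X W₁ W₂ W) {φ : G → ℂ} (hφ : φ ∈ VChar X)
    (h2 : nsq X φ = 2) {ε : ℤ} (hε : ε = 1 ∨ ε = -1) {α β β' : G → ℂ} (hα : α ∈ irrKer W W₂)
    (hβ : β ∈ irrKer W W₁) (hβ' : β' ∈ irrKer W W₁) (hne : β ≠ β')
    (hV : ∀ x ∈ hatSet W₁ W₂, φ x = ε * ((α * β) x - (α * β') x)) :
    φ = (ε : ℂ) • (cycσ X W₁ W₂ (α * β) - cycσ X W₁ W₂ (α * β')) := by
  have i1 := h.dprod.mul_mem_Irr hα hβ
  have i2 := h.dprod.mul_mem_Irr hα hβ'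
  have d1 := h.σ_dirr i1
  have d2 := h.σ_dirr i2
  set θ := (ε : ℂ) • (cycσ X W₁ W₂ (α * β) - cycσ X W₁ W₂ (α * β')) with hθ
  have hψ : φ - θ ∈ VChar X := sub_mem hφ (vchar_int_smul (sub_mem d1.mem_VChar d2.mem_VChar) ε)
  have h0 : ∀ x ∈ hatSet W₁ W₂, (φ - θ) x = 0 := fun x hx => by
    rw [Pi.sub_apply, hV x hx, hθ, Pi.smul_apply, Pi.sub_apply, h.σ_restrict (irr_mem_CF i1) hx,
      h.σ_restrict (irr_mem_CF i2) hx, smul_eq_mul, sub_self]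
  have hNC : cycNC X W₁ W₂ (φ - θ) < 2 * min 𝐨(W₁) 𝐨(W₂) := by
    have k1 := cycNC_sub_le X W₁ W₂ φ θ
    have k2 : cycNC X W₁ W₂ θ ≤ _ := (cycNC_smul_le X W₁ W₂ _ _).trans (cycNC_sub_le X W₁ W₂ _ _)
    have k3 := h.NC_dirr d1
    have k4 := h.NC_dirr d2
    have k5 : cycNC X W₁ W₂ φ ≤ 2 := by exact_mod_cast (h.NC_le_nsq hφ).trans_eq h2
    obtain ⟨-, -, k6, k7, -⟩ := h.basic
    omega
  obtain ⟨m, hm⟩ := vchar_ip_int hψ d1.mem_VChar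
  obtain ⟨n, hn⟩ := vchar_ip_int hψ d2.mem_VChar
  have hq : nsq X θ = 2 := by
    rw [hθ, nsq_int_smul, nsq_sub, d1.nsq, d2.nsq, h.ip_σ_mul hα hα hβ hβ', if_neg (by tauto)]
    rcases hε with rfl | rfl <;> norm_num
  have hs : nsq X (φ - θ) = -2 * (ε * (m - n)) := by
    have k := nsq_add X (φ - θ) θ
    rw [sub_add_cancel, h2, hq] at k
    have k2 : ip X (φ - θ) θ = ((ε * (m - n) : ℤ) : ℂ) := by
      conv_lhs => rw [hθ]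
      rw [ip_smul_right, ip_sub_right, ← hθ, hm, hn]
      simp
    rw [k2, Complex.intCast_re] at k
    push_cast at k
    linarith
  refine sub_eq_zero.1 (eq_zero_of_nsq (vchar_mem_CF hψ) ?_)
  by_cases e : m = n
  · rw [hs, e]; simp
  exfalso
  by_cases e1 : m = 0
  · obtain ⟨-, k⟩ := PF03.col_bound h (vchar_mem_CF hψ) h0 hNC hα hβ' hβ hne hn hm (by omega)
      (Ne.symm e)
    rw [hs, e1] at k
    have k' : 3 * n ^ 2 ≤ -2 * (ε * (0 - n)) := by exact_mod_cast k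
    have : 1 ≤ n ∨ n ≤ -1 := by omega
    rcases hε with rfl | rfl <;> rcases this with _ | _ <;> nlinarith
  · obtain ⟨e2, k⟩ := PF03.col_bound h (vchar_mem_CF hψ) h0 hNC hα hβ hβ' hne.symm hm hn e1 e
    rw [hs, e2] at k
    have k' : 3 * m ^ 2 ≤ -2 * (ε * (m - 0)) := by exact_mod_cast k
    have : 1 ≤ m ∨ m ≤ -1 := by omega
    rcases hε with rfl | rfl <;> rcases this with _ | _ <;> nlinarith

/-- PF (3.9)(a). -/
theorem CycTI.eq_σ_of_eqOn (h : CycTI X W₁ W₂ W) {φ ω : G → ℂ} (hφ : Dirr X φ) (hω : ω ∈ Irr W)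
    (hV : ∀ x ∈ hatSet W₁ W₂, φ x = ω x) : φ = cycσ X W₁ W₂ ω := by
  have d := h.σ_dirr hω
  have h1 := h.NC_min (sub_mem hφ.mem_CF d.mem_CF)
    (fun x hx => by rw [Pi.sub_apply, hV x hx, h.σ_restrict (irr_mem_CF hω) hx, sub_self]) (by
      have k1 := cycNC_sub_le X W₁ W₂ φ (cycσ X W₁ W₂ ω)
      have k3 := h.NC_dirr hφ
      have k4 := h.NC_dirr d
      obtain ⟨-, -, k6, k7, -⟩ := h.basic
      omega) ω hω
  rw [ip_sub_left, d.ip_self, sub_eq_zero] at h1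
  exact hφ.eq_of_ip_eq_one d h1

/-- PF (3.9)(a). -/
theorem CycTI.cfAut_σ (h : CycTI X W₁ W₂ W) (u : ℂ →+* ℂ) {φ : G → ℂ} (hφ : φ ∈ CF W) :
    cfAut u (cycσ X W₁ W₂ φ) = cycσ X W₁ W₂ (cfAut u φ) := by
  rw [eq_sum_irr hφ, map_sum, cfAut_sum, cfAut_sum, map_sum]
  refine Finset.sum_congr rfl fun ω hω => ?_
  rw [map_smul, cfAut_smul, cfAut_smul, map_smul,
    h.eq_σ_of_eqOn ((h.σ_dirr hω).cfAut u) (cfAut_mem_Irr u hω) fun x hx => by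
      rw [cfAut_apply, cfAut_apply, h.σ_restrict (irr_mem_CF hω) hx]]

theorem CycTI.star_σ (h : CycTI X W₁ W₂ W) {φ : G → ℂ} (hφ : φ ∈ CF W) :
    star (cycσ X W₁ W₂ φ) = cycσ X W₁ W₂ (star φ) := by
  rw [← cfAut_conj, ← cfAut_conj, h.cfAut_σ _ hφ]

/-- PF (3.9)(b); `a` is any multiple of the order of `ω`. -/
theorem CycTI.σ_aut_exists (h : CycTI X W₁ W₂ W) {ω : G → ℂ} (hω : ω ∈ Irr W) {a k : ℕ}
    (ha : 0 < a) (hωa : ∀ x ∈ W, ω x ^ a = 1) (hk0 : 0 < k) (hk : k.Coprime a) :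
    (∃ u : ℂ →+* ℂ, ω ^ k = cfAut u ω ∧ cycσ X W₁ W₂ (ω ^ k) = cfAut u (cycσ X W₁ W₂ ω)) ∧
      ∀ x : G, (orderOf x).Coprime a → cycσ X W₁ W₂ (ω ^ k) x = cycσ X W₁ W₂ ω x := by
  obtain ⟨u, h1, -, h2⟩ := exists_aut_pi (G := G) ha hk
  have h3 : ω ^ k = cfAut u ω := by
    funext x
    rw [Pi.pow_apply, cfAut_apply]
    by_cases hx : x ∈ W
    · rw [h1 _ (hωa x hx)]
    · rw [CF_off (irr_mem_CF hω) hx, map_zero, zero_pow hk0.ne']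
  have h4 : cycσ X W₁ W₂ (ω ^ k) = cfAut u (cycσ X W₁ W₂ ω) := by
    rw [h3, h.cfAut_σ u (irr_mem_CF hω)]
  exact ⟨⟨u, h3, h4⟩, fun x hx => by
    rw [h4, cfAut_apply, h2 X _ (h.σ_dirr hω).mem_VChar x hx]⟩

/-- PF (3.9)(c). -/
theorem CycTI.σ_int_of_coprime (h : CycTI X W₁ W₂ W) {ω : G → ℂ} (hω : ω ∈ Irr W) {a : ℕ}
    (ha : 0 < a) (hωa : ∀ x ∈ W, ω x ^ a = 1) {x : G} (hx : (orderOf x).Coprime a) :
    ∃ n : ℤ, cycσ X W₁ W₂ ω x = n := by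
  refine int_of_aut_fixed (vchar_isIntegral (h.σ_dirr hω).mem_VChar x) fun v => ?_
  obtain ⟨u, h1, -, h2⟩ := exists_aut_restrict (G := G) ha v
  have h3 : cfAut v ω = cfAut u ω := by
    funext y
    rw [cfAut_apply, cfAut_apply]
    by_cases hy : y ∈ W
    · rw [h1 _ (hωa y hy)]
    · rw [CF_off (irr_mem_CF hω) hy, map_zero, map_zero]
  rw [← cfAut_apply v, h.cfAut_σ v (irr_mem_CF hω), h3, ← h.cfAut_σ u (irr_mem_CF hω), cfAut_apply,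
    h2 X _ (h.σ_dirr hω).mem_VChar x hx]

theorem PF03.pow_card (h : CycTI X W₁ W₂ W) : ∀ α ∈ irrKer W W₂, ∀ x ∈ W, α x ^ 𝐨(W₁) = 1 := by
  intro α hα x hx
  obtain ⟨a, ha, b, hb, rfl⟩ := h.dprod.mem_iff.1 hx
  have l := h.isLin (mem_irrKer.1 hα).1
  rw [l.2.2 a (h.dprod.le_left ha) b (h.dprod.le_right hb), PF03.apply_ker h hα hb, mul_one,
    ← l.pow_apply (h.dprod.le_left ha),
    show a ^ 𝐨(W₁) = 1 from congrArg Subtype.val (pow_card_eq_one' (x := (⟨a, ha⟩ : W₁))), l.2.1]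

theorem CycTI.pow_card_of_mem_irrKer (h : CycTI X W₁ W₂ W) :
    (∀ α ∈ irrKer W W₂, ∀ x ∈ W, α x ^ 𝐨(W₁) = 1) ∧ ∀ β ∈ irrKer W W₁, ∀ x ∈ W, β x ^ 𝐨(W₂) = 1 :=
  ⟨PF03.pow_card h, PF03.pow_card h.symm⟩

theorem CycTI.etaCol_eq (h : CycTI ⊤ W₁ W₂ W) (β : G → ℂ) :
    etaCol W₁ W₂ β = ∑ α ∈ irrKer W W₂, cycσ ⊤ W₁ W₂ (α * β) := by
  rw [etaCol, h.dprod.sup]

theorem CycTI.ip_etaCol (h : CycTI ⊤ W₁ W₂ W) {α β β' : G → ℂ} (hα : α ∈ irrKer W W₂)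
    (hβ : β ∈ irrKer W W₁) (hβ' : β' ∈ irrKer W W₁) :
    ip ⊤ (etaCol W₁ W₂ β) (cycσ ⊤ W₁ W₂ (α * β')) = (if β = β' then 1 else 0) ∧
      ip ⊤ (etaCol W₁ W₂ β) (etaCol W₁ W₂ β') = (if β = β' then (𝐨(W₁) : ℂ) else 0) ∧
      etaCol W₁ W₂ β ∈ VChar ⊤ ∧ star (etaCol W₁ W₂ β) = etaCol W₁ W₂ (star β) := by
  have k : ∀ α ∈ irrKer W W₂,
      ip ⊤ (etaCol W₁ W₂ β) (cycσ ⊤ W₁ W₂ (α * β')) = (if β = β' then 1 else 0) := fun α hα => by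
    rw [h.etaCol_eq, ip_sum_left, Finset.sum_eq_single_of_mem α hα fun α' hα' n => by
      rw [h.ip_σ_mul hα' hα hβ hβ', if_neg (by tauto)], h.ip_σ_mul hα hα hβ hβ']
    simp
  refine ⟨k α hα, ?_, ?_, ?_⟩
  · rw [h.etaCol_eq β', ip_sum_right, Finset.sum_congr rfl k, Finset.sum_const,
      h.basic.2.2.2.2.2.2.2.1]
    split_ifs <;> simp
  · rw [h.etaCol_eq]
    exact Submodule.sum_mem _ fun α hα => (h.σ_dirr (h.dprod.mul_mem_Irr hα hβ)).mem_VChar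
  · rw [h.etaCol_eq, h.etaCol_eq, star_sum]
    refine Finset.sum_nbij' star star (fun _ => star_mem_irrKer) (fun _ => star_mem_irrKer)
      (fun _ _ => star_star _) (fun _ _ => star_star _) fun α hα => ?_
    rw [h.star_σ (irr_mem_CF (h.dprod.mul_mem_Irr hα hβ)), star_mul']

end Cfsg.Agent.FT
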