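/-
General character-theoretic lemmas for PF (13.4), (13.9), (13.10).
-/
import Cfsg.Agent.FT.PF03

set_option autoImplicit false

namespace Cfsg.Agent.FT

open Subgroup Cfsg Cfsg.Agent
open scoped commutatorElement

universe u

variable {G : Type u} [Group G] [Finite G]

namespace PF13b

theorem sum_classSupp {A : Set G} {L : Subgroup G} (h : NormedTI A ⊤ L) {χ : G → ℂ}
    (hχ : χ ∈ CF ⊤) : (Nat.card G : ℝ)⁻¹ * ∑ g ∈ fs (classSupp A ⊤), ‖χ g‖ ^ 2 =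
      (𝐨(L) : ℝ)⁻¹ * ∑ x ∈ fs A, ‖χ x‖ ^ 2 := by
  have hD := h.dadeHyp
  have h1 := (hD.nsq_invDade_le_supp hχ).2.2 fun a _ u hu => by rw [mem_bot.1 hu, one_mul]
  rw [hD.dadeSupp_eq_classSupp fun a ha => by simpa using h.cent1_le ha] at h1
  rw [← h1, nsq_def, ← sum_fs_subset h.subset fun x _ hx => by
    rw [invDade_of_notMem χ hx]; simp]
  congr 1
  refine sum_fs_congr fun x hx => ?_
  rw [invDade_of_mem χ hx, coe_bot, sum_fs_singleton]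
  simp

/-- The norm of a class function, split along two disjoint TI-subsets. -/
theorem nsq_split {A B : Set G} {L M : Subgroup G} (hA : NormedTI A ⊤ L) (hB : NormedTI B ⊤ M)
    (hd : Disjoint (classSupp A ⊤) (classSupp B ⊤)) {χ : G → ℂ} (hχ : χ ∈ CF ⊤) :
    nsq ⊤ χ = (𝐨(L) : ℝ)⁻¹ * ∑ x ∈ fs A, ‖χ x‖ ^ 2 + (𝐨(M) : ℝ)⁻¹ * ∑ x ∈ fs B, ‖χ x‖ ^ 2 +
      (Nat.card G : ℝ)⁻¹ * ∑ x ∈ fs (classSupp A ⊤ ∪ classSupp B ⊤)ᶜ, ‖χ x‖ ^ 2 := by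
  rw [← sum_classSupp hA hχ, ← sum_classSupp hB hχ, nsq_def, card_top, coe_top,
    sum_fs_diff (Set.subset_univ (classSupp A ⊤ ∪ classSupp B ⊤)), sum_fs_union hd,
    ← Set.compl_eq_univ_diff]
  ring

theorem ncard_ne_zero_le {A : Set G} (hA : ∀ x ∈ A, ∀ k : ℕ, k.Coprime (orderOf x) → x ^ k ∈ A)
    {φ : G → ℂ} (hφ : φ ∈ VChar ⊤) :
    ({x | x ∈ A ∧ φ x ≠ 0}.ncard : ℝ) ≤ ∑ x ∈ fs A, ‖φ x‖ ^ 2 := by
  refine (ncard_le_sum_norm_sq hφ (A := {x | x ∈ A ∧ φ x ≠ 0})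
    (fun x hx k hk => ⟨hA x hx.1 k hk, ?_⟩) fun x hx => hx.2).trans
    (Finset.sum_le_sum_of_subset_of_nonneg (fs_subset fun x hx => hx.1) fun _ _ _ => by positivity)
  obtain ⟨u, hu⟩ := exists_aut_pow (orderOf_pos x) hk
  rw [← vchar_aut_apply hφ (orderOf_pos x) hu (mem_top x) (pow_orderOf_eq_one x)]
  exact (map_ne_zero u).2 hx.2

theorem ncard_le_two {A : Set G} (hA : ∀ x ∈ A, ∀ k : ℕ, k.Coprime (orderOf x) → x ^ k ∈ A)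
    {φ ψ : G → ℂ} (hφ : φ ∈ VChar ⊤) (hψ : ψ ∈ VChar ⊤) (h : ∀ x ∈ A, φ x ≠ 0 ∨ ψ x ≠ 0) :
    (A.ncard : ℝ) ≤ ∑ x ∈ fs A, ‖φ x‖ ^ 2 + ∑ x ∈ fs A, ‖ψ x‖ ^ 2 := by
  refine le_trans ?_ (add_le_add (ncard_ne_zero_le hA hφ) (ncard_ne_zero_le hA hψ))
  have : A.ncard ≤ {x | x ∈ A ∧ φ x ≠ 0}.ncard + {x | x ∈ A ∧ ψ x ≠ 0}.ncard :=
    (Set.ncard_le_ncard (fun x hx => (h x hx).imp (fun e => ⟨hx, e⟩) fun e => ⟨hx, e⟩)).trans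
      (Set.ncard_union_le _ _)
  exact_mod_cast this

theorem mem_classSupp_of_pow {H : Subgroup G} {x : G} {k : ℕ} (hk : k.Coprime (orderOf x))
    (h : x ^ k ∈ classSupp (sharp H) ⊤) : x ∈ classSupp (sharp H) ⊤ := by
  obtain ⟨a, ha, g, -, e⟩ := h
  obtain ⟨j, hj⟩ := mem_zpowers_iff.1 (mem_zpowers_pow_iff.2 hk)
  refine ⟨a ^ j, ⟨zpow_mem ha.1 j, fun h1 => ha.2 ?_⟩, g, mem_top g, by rw [← hj, e, conj_zpow]⟩
  rw [e, conj_zpow, h1, mul_one, mul_inv_cancel] at hj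
  rw [← hj, one_pow] at e
  simpa using e.symm

variable {W₁ W₂ W : Subgroup G}

theorem exists_ne_cf1 (h : CycTI ⊤ W₁ W₂ W) : ∃ β ∈ irrKer W W₁, β ≠ cf1 W :=
  Finset.exists_mem_ne (by have := h.basic; omega) _

theorem σ_mul_apply (h : CycTI ⊤ W₁ W₂ W) {α β : G → ℂ} (hα : α ∈ irrKer W W₂)
    (hβ : β ∈ irrKer W W₁) {x : G} (hx : x ∉ classSupp (hatSet W₁ W₂) ⊤) :
    cycσ ⊤ W₁ W₂ (α * β) x = cycσ ⊤ W₁ W₂ α x + cycσ ⊤ W₁ W₂ β x - 1 := by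
  have h1 := h.sub_mul_sub_mem hα (cf1_mem_irrKer h.dprod.le_right) hβ
    (cf1_mem_irrKer h.dprod.le_left)
  have h2 := (ind_mem_CFon ⊤ (H := W) (φ := α * β - α * cf1 W - cf1 W * β + cf1 W * cf1 W)
    fun y _ hy => CFon_off h1 hy).2 x hx
  rw [← h.isCycIso.ind _ h1, mul_cf1 (irr_mem_CF (irrKer_subset _ _ hα)),
    cf1_mul (irr_mem_CF (irrKer_subset _ _ hβ)), mul_cf1 (cf1_mem_CF W), map_add, map_sub, map_sub,
    h.σ_cf1] at h2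
  simp only [Pi.add_apply, Pi.sub_apply, cf1_top_apply] at h2
  linear_combination h2

/-- The core of PF (13.9)(a). -/
theorem etaCol_ne_zero_or (h : CycTI ⊤ W₁ W₂ W) (hq : 𝐨(W₁).Prime) {α β : G → ℂ}
    (hα : α ∈ irrKer W W₂) (hα1 : α ≠ cf1 W) (hβ : β ∈ irrKer W W₁) (x : G) :
    etaCol W₁ W₂ β x ≠ 0 ∨ cycσ ⊤ W₁ W₂ α x ≠ 0 := by
  have hαi := irrKer_subset _ _ hα
  by_cases hx : x ∈ classSupp (hatSet W₁ W₂) ⊤
  · obtain ⟨a, ha, g, -, rfl⟩ := hx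
    right
    rw [CF_conj (h.σ_mem_CF (irr_mem_CF hαi)) (mem_top g), h.σ_restrict (irr_mem_CF hαi) ha]
    exact (h.isLin hαi).ne_zero (h.ti.subset ha)
  rw [or_iff_not_imp_right, not_not]
  intro h0 h1
  have hrel : W₂.relIndex W = 𝐨(W₁) := h.dprod.symm.sdProd.relIndex_left
  have h2 : ∀ γ ∈ irrKer W W₂, γ ≠ cf1 W → cycσ ⊤ W₁ W₂ γ x = 0 := fun γ hγ hγ1 => by
    obtain ⟨u, rfl⟩ := (exists_aut_irrKer_prime h.dprod.normal_right (hrel ▸ hq) hα hα1 hγ hγ1).1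
    rw [← h.cfAut_σ u (irr_mem_CF hαi), cfAut_apply, h0, map_zero]
  rw [h.etaCol_eq, Finset.sum_apply, Finset.sum_congr rfl fun γ hγ => σ_mul_apply h hγ hβ hx] at h1
  simp only [add_sub_assoc, Finset.sum_add_distrib, Finset.sum_const, h.basic.2.2.2.2.2.2.2.1,
    nsmul_eq_mul] at h1
  rw [Finset.sum_eq_single_of_mem _ (cf1_mem_irrKer h.dprod.le_right) h2, h.σ_cf1,
    cf1_top_apply] at h1
  have h3 : IsIntegral ℤ (1 - cycσ ⊤ W₁ W₂ β x) :=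
    isIntegral_one.sub (vchar_isIntegral (h.σ_vchar (irr_mem_VChar (irrKer_subset _ _ hβ))) x)
  have hq0 := card_ne_zero_C W₁
  have h4 : 1 - cycσ ⊤ W₁ W₂ β x = ((𝐨(W₁) : ℚ)⁻¹ : ℚ) := by
    push_cast
    field_simp
    linear_combination -h1
  rw [h4] at h3
  obtain ⟨m, hm⟩ := int_of_isIntegral_rat h3
  have h5 : (𝐨(W₁) : ℤ) * m = 1 := by
    have : (𝐨(W₁) : ℂ) * m = 1 := by rw [← hm]; push_cast; field_simp
    exact_mod_cast this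
  exact hq.one_lt.ne' (by exact_mod_cast Int.eq_one_of_mul_eq_one_right (by positivity) h5)

theorem ip_etaCol_etaCol (h : CycTI ⊤ W₁ W₂ W) {α β : G → ℂ} (hα : α ∈ irrKer W W₂)
    (hβ : β ∈ irrKer W W₁) : ip ⊤ (etaCol W₁ W₂ β) (etaCol W₂ W₁ α) = 1 := by
  rw [h.symm.etaCol_eq α, ip_sum_right, Finset.sum_congr rfl fun γ hγ => by
    rw [cycσ_comm ⊤ W₂ W₁, mul_comm γ α, (h.ip_etaCol hα hβ hγ).1]]
  simp [hβ]

theorem ip_etaCol_eq_zero (h : CycTI ⊤ W₁ W₂ W) {φ β : G → ℂ} (hβ : β ∈ irrKer W W₁)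
    (h0 : ∀ ω ∈ Irr W, ip ⊤ φ (cycσ ⊤ W₁ W₂ ω) = 0) : ip ⊤ φ (etaCol W₁ W₂ β) = 0 := by
  rw [h.etaCol_eq, ip_sum_right]
  exact Finset.sum_eq_zero fun γ hγ => h0 _ (h.dprod.mul_mem_Irr hγ hβ)

end PF13b

end Cfsg.Agent.FT
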