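/-
BG section 4, part 1: 4.3 - 4.6, 4.8, 4.10, 4.15.
-/
import Cfsg.Agent.FT.BG03
import Cfsg.Agent.H7.Regular
import Cfsg.Agent.H5.MetaReg
import Cfsg.Agent.H2.Extraspecial
import Cfsg.Agent.S3771

set_option autoImplicit false

namespace Cfsg.Agent.FT

open Subgroup Cfsg Cfsg.Agent
open scoped commutatorElement

universe u

variable {G : Type u} [Group G] [Finite G]

namespace BG04

omit [Finite G] in
theorem reg_of_class {p : ℕ} (hp : p.Prime) (hp2 : p ≠ 2) {R : Subgroup G}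
    (hR : IsPGroup p R)
    (hc : R.lowerCentralSeries 2 = ⊥ ∨ (3 < p ∧ R.lowerCentralSeries 3 = ⊥)) :
    IsRegularPGroup p R := by
  haveI := Fact.mk hp
  apply H7.isRegular_of_class_lt hR
  have h2 := hp.two_le
  have : R.lowerCentralSeries (p - 1) = ⊥ := by
    rw [eq_bot_iff]
    rcases hc with hc | ⟨h3, hc⟩
    · rw [← hc]; exact R.lowerCentralSeries_antitone (by omega)
    · rw [← hc]; exact R.lowerCentralSeries_antitone (by omega)
  rw [← top_subtype_lowerCentralSeries] at this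
  exact (Subgroup.map_eq_bot_iff_of_injective _ R.subtype_injective).mp this

theorem omega_exp_of_regular {p : ℕ} (hp : p.Prime) {R : Subgroup G} (hR : IsRegularPGroup p R) :
    ∀ x ∈ omegaOne p R, x ^ p = 1 := by
  haveI := Fact.mk hp
  have h : omegaOne p R ≤ (H7.regularOmega hR 1).map R.subtype := by
    rw [omegaOne_le_iff]
    intro x hx h
    refine ⟨⟨x, hx⟩, ?_, rfl⟩
    show (⟨x, hx⟩ : R) ∈ H7.regularOmega hR 1
    rw [H7.mem_regularOmega, pow_one]
    exact Subtype.ext h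
  intro x hx
  obtain ⟨y, hy, rfl⟩ := h hx
  have hy' : y ∈ H7.regularOmega hR 1 := hy
  rw [H7.mem_regularOmega, pow_one] at hy'
  exact congrArg Subtype.val hy'

omit [Finite G] in
theorem metacyc_iff {R : Subgroup G} : Metacyc R ↔ IsMetacyclic R := by
  constructor
  · rintro ⟨K, hK, hc, hm⟩
    haveI := H1.normal_subgroupOf_of_le hK.2
    refine ⟨K.subgroupOf R, inferInstance, ?_, ?_⟩
    · exact isCyclic_of_surjective _ (subgroupOfEquivOfLe hK.1).symm.surjective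
    · have := (cycMod_iff_bar hK.1 le_rfl).mp hm
      rw [H1.bar_top] at this
      exact isCyclic_of_surjective _ topEquiv.surjective
  · rintro ⟨N, hN, hc, hq⟩
    refine ⟨N.map R.subtype, ⟨map_subtype_le _, ?_⟩, ?_, ?_⟩
    · intro r hr
      rw [mem_normalizer_iff]
      intro h
      constructor
      · rintro ⟨n, hn, rfl⟩
        exact ⟨_, hN.conj_mem n hn ⟨r, hr⟩, rfl⟩
      · rintro ⟨n, hn, h2⟩
        refine ⟨_, hN.conj_mem n hn ⟨r, hr⟩⁻¹, ?_⟩
        have h2' : (n : G) = r * h * r⁻¹ := h2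
        simp [h2', mul_assoc]
    · exact (isCyclic_map_iff R.subtype_injective).mpr hc
    · obtain ⟨g, hg⟩ := hq.exists_generator
      obtain ⟨x, rfl⟩ := QuotientGroup.mk_surjective g
      refine ⟨x, x.2, fun r hr => ?_⟩
      obtain ⟨n, hn⟩ := hg (QuotientGroup.mk ⟨r, hr⟩)
      have hn' : ((x ^ n : R) : R ⧸ N) = QuotientGroup.mk ⟨r, hr⟩ := by
        rw [← hn]; rfl
      rw [QuotientGroup.eq] at hn'
      have : r = (x : G) ^ n * (((x ^ n)⁻¹ * ⟨r, hr⟩ : R) : G) := by simp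
      rw [this]
      exact mul_mem_sup (zpow_mem (mem_zpowers _) n) ⟨_, hn', rfl⟩

/-- A group of order `p²` and exponent `p` is elementary abelian. -/
theorem isElem_two_of_card {p : ℕ} (hp : p.Prime) {K : Subgroup G} (hc : 𝐨(K) = p ^ 2)
    (he : ∀ x ∈ K, x ^ p = 1) : IsElem p 2 K := by
  haveI := Fact.mk hp
  exact ⟨⟨IsPGroup.isMulCommutative_of_card_eq_prime_sq hc, he⟩, hc⟩

theorem isMulComm_of_card_le_sq {p : ℕ} (hp : p.Prime) {K : Subgroup G} (hK : IsPGroup p K)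
    (hc : 𝐨(K) ≤ p ^ 2) : IsMulCommutative K := by
  haveI := Fact.mk hp
  obtain ⟨n, hn⟩ := exists_card_eq_pow hp hK
  have hn2 : n ≤ 2 := by
    rw [hn] at hc
    exact (Nat.pow_le_pow_iff_right hp.one_lt).mp hc
  interval_cases n
  · have : K = ⊥ := by rw [← card_eq_one]; simpa using hn
    rw [this]; infer_instance
  · exact isMulComm_of_isCyclic (isCyclic_of_card_prime (by rw [hn, pow_one]; exact hp))
  · exact IsPGroup.isMulCommutative_of_card_eq_prime_sq hn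

/-- In a nilpotent group, `[N, R] < N` for every nontrivial normal `N`. -/
theorem comm_lt_of_isNilpotent {N R : Subgroup G} (hR : Group.IsNilpotent R) (hN : N ⊲ R)
    (h1 : N ≠ ⊥) : ⁅N, R⁆ < N := by
  refine lt_of_le_of_ne (comm_le_left_iff.mpr hN.2) fun h => h1 ?_
  obtain ⟨n, hn⟩ := (isNilpotent_iff_lowerCentralSeries R).mp hR
  have : ∀ k, N ≤ R.lowerCentralSeries k := by
    intro k
    induction k with
    | zero => exact hN.1
    | succ k ih => rw [Subgroup.lowerCentralSeries_succ, ← h]; exact commutator_mono ih le_rfl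
  exact eq_bot_iff.mpr (hn ▸ this n)

/-- A normal subgroup of order at most `p` of a `p`-group is central. -/
theorem le_cent_of_card_le_prime {p : ℕ} (hp : p.Prime) {N R : Subgroup G} (hR : IsPGroup p R)
    (hN : N ⊲ R) (hc : 𝐨(N) ≤ p) : N ≤ 𝐂(R) := by
  by_cases h1 : N = ⊥
  · rw [h1]; exact bot_le
  have hlt := comm_lt_of_isNilpotent (isNilpotent_of_isPGroup hp hR) hN h1
  rw [← comm_eq_bot_iff]
  by_contra h2
  have h3 : p ∣ 𝐨(⁅N, R⁆) := prime_dvd_card_of_isPGroup hp (hR.to_le (hlt.le.trans hN.1)) h2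
  have h4 := Nat.le_of_dvd (Nat.card_pos) h3
  have h5 := H1.card_lt_of_lt hlt
  omega

/-- If `M < K` inside a `p`-group then `p |M| ≤ |K|`. -/
theorem mul_card_le_of_lt {p : ℕ} (hp : p.Prime) {M K : Subgroup G} (hK : IsPGroup p K)
    (h : M < K) : p * 𝐨(M) ≤ 𝐨(K) := by
  haveI := Fact.mk hp
  have h1 := H2.prime_le_relIndex_of_lt hK h
  rw [← H1.card_mul_relIndex h.le, mul_comm]
  exact Nat.mul_le_mul_left _ h1

end BG04

open BG04

/-- BG 4.3(a). -/
theorem omega_exponent_of_class {p : ℕ} (hp : p.Prime) (hp2 : p ≠ 2) {R : Subgroup G}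
    (hR : IsPGroup p R)
    (hc : R.lowerCentralSeries 2 = ⊥ ∨ (3 < p ∧ R.lowerCentralSeries 3 = ⊥)) :
    ∀ x ∈ omegaOne p R, x ^ p = 1 :=
  omega_exp_of_regular hp (reg_of_class hp hp2 hR hc)

/-- BG 4.3(b). -/
theorem mul_pow_of_class {p : ℕ} (hp : p.Prime) (hp2 : p ≠ 2) {R : Subgroup G}
    (hR : IsPGroup p R)
    (hc : R.lowerCentralSeries 2 = ⊥ ∨ (3 < p ∧ R.lowerCentralSeries 3 = ⊥))
    (hd : ⁅R, R⁆ ≤ omegaOne p R) {x y : G} (hx : x ∈ R) (hy : y ∈ R) :
    (x * y) ^ p = x ^ p * y ^ p := by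
  have hreg := reg_of_class hp hp2 hR hc
  have he := omega_exp_of_regular hp hreg
  obtain ⟨c, hc1, hc2⟩ := hreg.2 ⟨x, hx⟩ ⟨y, hy⟩ 1
  have hc3 : c = 1 := by
    rw [← mem_bot]
    refine H7.powerClosure_le_iff.mpr ?_ hc1
    intro z hz
    rw [mem_bot, pow_one]
    apply Subtype.ext
    apply he
    apply hd
    rw [← map_subtype_der]
    exact ⟨z, commutator_mono le_top le_top hz, rfl⟩
  rw [hc3, mul_one, pow_one] at hc2
  exact congrArg Subtype.val hc2

/-- BG 4.4(a): every abelian normal subgroup of a `p`-group lies in a member of `SCN`. -/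
theorem exists_scn_ge {p : ℕ} (hp : p.Prime) {R B : Subgroup G} (hR : IsPGroup p R) (hB : B ⊲ R)
    (hc : IsMulCommutative B) : ∃ A : Subgroup G, B ≤ A ∧ IsSCN R A := by
  haveI := isNilpotent_of_isPGroup hp hR
  haveI := H1.normal_subgroupOf_of_le hB.2
  have hc' : IsMulCommutative (B.subgroupOf R) := by
    rw [← isMulComm_map_iff R.subtype_injective, map_subgroupOf_eq_of_le hB.1]; exact hc
  obtain ⟨A, h1, h2, -, h4⟩ := H3.exists_selfCentralizing_normal_ge (B.subgroupOf R) hc'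
  refine ⟨A.map R.subtype, ?_, map_subtype_le _, ?_, ?_⟩
  · rw [← map_subgroupOf_eq_of_le hB.1]; exact map_mono h1
  · have h5 : (⊤ : Subgroup R).map R.subtype ≤ 𝐍(A.map R.subtype) :=
      (map_le_norm_iff R.subtype_injective).mpr (normal_iff_top_le.mp h2)
    rwa [← MonoidHom.range_eq_map, subtype_range] at h5
  · have h5 := map_inf_cent R.subtype_injective (⊤ : Subgroup R) A
    rw [← MonoidHom.range_eq_map, subtype_range, top_inf_eq, h4] at h5
    exact h5.symm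

/-- BG 4.4(b). -/
theorem scn_sylow_cent_dprod {p : ℕ} (hp : p.Prime) {R A H : Subgroup G} (hR : IsSyl p R H)
    (hA : IsSCN R A) : DProd (H2.pPrimeCoreOf p (H ⊓ 𝐂(A))) A (H ⊓ 𝐂(A)) := by
  have h1 : IsSyl p R (H ⊓ 𝐍(A)) := hR.of_le (le_inf hR.le hA.2.1) inf_le_left
  have h2 : (H ⊓ 𝐂(A)) ⊲ (H ⊓ 𝐍(A)) :=
    ⟨inf_le_inf_left _ (cent_le_norm A), H1.le_normalizer_inf (inf_le_left.trans (le_norm_self H))
      (H1.le_normalizer_centralizer inf_le_right)⟩
  have h3 := h1.inf_normal hp h2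
  have h4 : R ⊓ (H ⊓ 𝐂(A)) = A := by
    rw [← inf_assoc, inf_eq_left.mpr hR.le]; exact hA.2.2
  rw [h4] at h3
  have h5 : HasNPC p (H ⊓ 𝐂(A)) := burnside_npc hp h3 (inf_le_left.trans inf_le_right)
  have h6 := h5.sdProd hp h3
  exact ⟨h6.sup, cent_comm.mp ((pPrimeCoreOf_normal p _).1.trans inf_le_right), h6.disj⟩

/-- BG 4.10. -/
theorem metacyc_omega_elem2 {p : ℕ} (hp : p.Prime) (hp2 : p ≠ 2) {R : Subgroup G}
    (hR : IsPGroup p R) (hm : Metacyc R) (hnc : ¬ IsCyclic R) : IsElem p 2 (omegaOne p R) := by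
  haveI := Fact.mk hp
  have hm' := metacyc_iff.mp hm
  have hreg : IsRegularPGroup p R :=
    H5.isRegular_of_isCyclic_commutator hp2 hR (H5.isCyclic_commutator_of_isMetacyclic hm')
  have he := omega_exp_of_regular hp hreg
  have h1 : 𝐨(omegaOne p R) ≤ p ^ 2 := by
    have := H5.card_le_sq_of_isMetacyclic hp hm' (W := (omegaOne p R).subgroupOf R)
      (fun x hx => Subtype.ext (he x hx))
    rwa [Nat.card_congr (subgroupOfEquivOfLe (omegaOne_le p R)).toEquiv] at this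
  obtain ⟨E, hE, hE2⟩ := exists_normal_isElem_two hp hp2 hR hnc
  have h2 : E = omegaOne p R :=
    H1.eq_of_le_of_card_le (le_omegaOne_of_elemAb hE.1 hE2.elemAb) (hE2.card ▸ h1)
  exact h2 ▸ hE2

/-- BG 4.5(b). -/
theorem omega_of_cyclic_index_p {p : ℕ} (hp : p.Prime) (hp2 : p ≠ 2) {R C : Subgroup G}
    (hR : IsPGroup p R) (hnc : ¬ IsCyclic R) (hC : C ≤ R) (hCc : IsCyclic C)
    (hi : C.relIndex R = p) : IsElem p 2 (omegaOne p R) := by
  haveI := Fact.mk hp
  apply metacyc_omega_elem2 hp hp2 hR _ hnc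
  rw [metacyc_iff]
  have hn : (C.subgroupOf R).Normal := H3.normal_of_index_eq_prime hR hi
  refine ⟨C.subgroupOf R, hn, ?_, ?_⟩
  · exact isCyclic_of_surjective _ (subgroupOfEquivOfLe hC).symm.surjective
  · exact isCyclic_of_prime_card (p := p) hi

/-- BG 4.5(c). -/
theorem omega_center2 {p : ℕ} (hp : p.Prime) (hp2 : p ≠ 2) {R : Subgroup G}
    (hR : IsPGroup p R) (hnc : ¬ IsCyclic R) :
    ¬ IsCyclic (omegaOne p (center2 R)) ∧ ∀ x ∈ omegaOne p (center2 R), x ^ p = 1 := by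
  constructor
  · obtain ⟨E, hE, hE2⟩ := exists_normal_isElem_two hp hp2 hR hnc
    have h1 := comm_lt_of_isNilpotent (isNilpotent_of_isPGroup hp hR) hE (hE2.ne_bot hp two_ne_zero)
    have h2 := mul_card_le_of_lt hp hE2.pgrp h1
    rw [hE2.card, pow_two] at h2
    have h3 : ⁅E, R⁆ ≤ 𝐂(R) :=
      le_cent_of_card_le_prime hp hR ⟨h1.le.trans hE.1,
        H1.le_normalizer_commutator hE.2 (le_norm_self R)⟩ (Nat.le_of_mul_le_mul_left h2 hp.pos)
    have h4 : E ≤ omegaOne p (center2 R) :=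
      le_omegaOne_of_elemAb (le_center2_iff.mpr ⟨hE.1, h3⟩) hE2.elemAb
    exact fun h => hE2.not_isCyclic hp le_rfl (isCyclic_of_le h4 h)
  · apply omega_exponent_of_class hp hp2 (hR.to_le (center2_le R))
    left
    rw [Subgroup.lowerCentralSeries_succ, Subgroup.lowerCentralSeries_succ,
      Subgroup.lowerCentralSeries_zero, comm_eq_bot_iff]
    exact (commutator_mono le_rfl (center2_le R)).trans
      ((le_center2_iff.mp le_rfl).2.trans (cent_anti (center2_le R)))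

/-- BG 4.5(a) and 4.6. -/
theorem odd_normal_elem2_exists {p : ℕ} (hp : p.Prime) (hp2 : p ≠ 2) {R S : Subgroup G}
    (hR : IsPGroup p R) (hS : S ⊲ R) (hnc : ¬ IsCyclic S) :
    ∃ A : Subgroup G, A ≤ S ∧ A ⊲ R ∧ IsElem p 2 A := by
  obtain ⟨h1, h2⟩ := omega_center2 hp hp2 (hR.to_le hS.1) hnc
  have hWS : omegaOne p (center2 S) ≤ S := (omegaOne_le _ _).trans (center2_le S)
  have hW : omegaOne p (center2 S) ⊲ R :=
    ⟨hWS.trans hS.1, hS.2.trans ((norm_le_norm_center2 S).trans (norm_le_norm_omegaOne _ p))⟩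
  have hWp : IsPGroup p (omegaOne p (center2 S)) := hR.to_le hW.1
  obtain ⟨E, hE, hE2⟩ := exists_normal_isElem_two hp hp2 hWp h1
  obtain ⟨K, hK1, hK2, hK3⟩ := exists_normal_le_card_pow hp hR hW (r := 2)
    (hE2.card ▸ card_le_of_le hE.1)
  exact ⟨K, hK1.trans hWS, hK2, isElem_two_of_card hp hK3 fun x hx => h2 x (hK1 hx)⟩

/-- BG 4.8(a) (see S3771). -/
theorem rank2_exponent_p_card_le {p : ℕ} (hp : p.Prime) {R : Subgroup G} (hR : IsPGroup p R)
    (h : pRank p R ≤ 2) (he : ∀ x ∈ R, x ^ p = 1) : 𝐨(R) ≤ p ^ 3 := by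
  haveI := Fact.mk hp
  apply S3771.result hR _ (fun x => Subtype.ext (he x x.2))
  intro A hA hAe
  rw [← card_map_inj R.subtype_injective A]
  exact (pRank_le_iff hp).mp h _ (map_subtype_le _)
    ((isElemAb_map_iff R.subtype_injective).mpr ⟨hA, hAe⟩)

/-- BG 4.8(b). -/
theorem rank2_omega_exponent {p : ℕ} (hp : p.Prime) (hp3 : 3 < p) {R : Subgroup G}
    (hR : IsPGroup p R) (h : pRank p R ≤ 2) : ∀ x ∈ omegaOne p R, x ^ p = 1 := by
  haveI := Fact.mk hp
  induction R using H1.subgroup_strong_induction with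
  | h R ih =>
  have key : ∀ x ∈ R, ∀ y ∈ R, x ^ p = 1 → y ^ p = 1 → (x * y) ^ p = 1 := by
    intro x hx y hy hxp hyp
    set K := zpowers x ⊔ zpowers y with hK
    have hKR : K ≤ R := sup_le (zpowers_le.mpr hx) (zpowers_le.mpr hy)
    have hxK : x ∈ K := mem_sup_left (mem_zpowers x)
    have hyK : y ∈ K := mem_sup_right (mem_zpowers y)
    have hxy : x * y ∈ omegaOne p K := mul_mem (mem_omegaOne hxK hxp) (mem_omegaOne hyK hyp)
    rcases hKR.lt_or_eq with hlt | heq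
    · exact ih K hlt (hR.to_le hKR) ((pRank_mono hp hKR).trans h) _ hxy
    by_cases hxR : zpowers x = R
    · have hc : IsMulCommutative R := isMulComm_of_isCyclic (isCyclic_iff_zpowers.mpr ⟨x, hxR⟩)
      have : Commute x y := (isMulComm_iff_le_cent.mp hc hy x hx)
      rw [this.mul_pow, hxp, hyp, mul_one]
    have hlt : (zpowers x).subgroupOf R ≠ ⊤ := by
      rw [Ne, subgroupOf_eq_top]
      exact fun h => hxR (le_antisymm (zpowers_le.mpr hx) h)
    obtain ⟨M, hM, hxM⟩ := (eq_top_or_exists_le_coatom _).resolve_left hlt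
    haveI := isNilpotent_of_isPGroup hp hR
    have hMn := H3.normal_of_isCoatom hM
    set S := M.map R.subtype with hS
    have hSR : S < R := by
      refine lt_of_le_of_ne (map_subtype_le _) fun h => hM.1 ?_
      rw [eq_top_iff]
      intro r _
      have : (r : G) ∈ S := h.ge r.2
      obtain ⟨s, hs, h2⟩ := this
      exact (Subtype.ext h2 : s = r) ▸ hs
    have hSn : R ≤ 𝐍(S) := by
      have h5 : (⊤ : Subgroup R).map R.subtype ≤ 𝐍(M.map R.subtype) :=
        (map_le_norm_iff R.subtype_injective).mpr (normal_iff_top_le.mp hMn)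
      rwa [← MonoidHom.range_eq_map, subtype_range] at h5
    have hxS : x ∈ S := ⟨⟨x, hx⟩, hxM (mem_zpowers x), rfl⟩
    have hSp := hR.to_le hSR.le
    have hSr := (pRank_mono hp hSR.le).trans h
    have hWe := ih S hSR hSp hSr
    have hW3 : 𝐨(omegaOne p S) ≤ p ^ 3 :=
      rank2_exponent_p_card_le hp (isPGroup_omegaOne hSp) (by rwa [pRank_omegaOne hp]) hWe
    have hyn : zpowers y ≤ 𝐍(omegaOne p S) :=
      (zpowers_le.mpr hy).trans (hSn.trans (norm_le_norm_omegaOne _ p))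
    have hRle : R ≤ omegaOne p S ⊔ zpowers y := by
      rw [← heq]
      exact sup_le_sup_right (zpowers_le.mpr (mem_omegaOne hxS hxp)) _
    have hy1 : 𝐨(zpowers y) ≤ p := by
      rw [Nat.card_zpowers]; exact orderOf_le_of_pow_eq_one hp.pos hyp
    have hR4 : 𝐨(R) ≤ p ^ p := by
      have h1 := card_sup_mul_card_inf hyn
      have h2 : 0 < 𝐨(omegaOne p S ⊓ zpowers y) := Nat.card_pos
      calc 𝐨(R) ≤ 𝐨(omegaOne p S ⊔ zpowers y) := card_le_of_le hRle
        _ ≤ 𝐨(omegaOne p S ⊔ zpowers y) * 𝐨(omegaOne p S ⊓ zpowers y) :=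
          Nat.le_mul_of_pos_right _ h2
        _ ≤ p ^ 3 * p := h1 ▸ Nat.mul_le_mul hW3 hy1
        _ = p ^ 4 := by ring
        _ ≤ p ^ p := Nat.pow_le_pow_right hp.pos hp3
    exact omega_exp_of_regular hp (H5.isRegular_of_card_le hR hR4) _ (heq ▸ hxy)
  let W : Subgroup G :=
    { carrier := {x | x ∈ R ∧ x ^ p = 1}
      one_mem' := ⟨one_mem R, one_pow p⟩
      mul_mem' := fun {a b} ha hb => ⟨mul_mem ha.1 hb.1, key a ha.1 b hb.1 ha.2 hb.2⟩
      inv_mem' := fun {a} ha => ⟨inv_mem ha.1, by rw [inv_pow, ha.2, inv_one]⟩ }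
  have hW : omegaOne p R ≤ W := omegaOne_le_iff.mpr fun x hx h => ⟨hx, h⟩
  exact fun x hx => (hW hx).2

namespace BG04

/-- 4.15 in a more general form. -/
theorem cprod_of_card_comm_le {p : ℕ} (hp : p.Prime) {R S : Subgroup G} (hR : IsPGroup p R)
    (hS : S ≤ R) (hc : 𝐨(⁅S, R⁆) ≤ p) (hZ : S ⊓ 𝐂(S) ≤ 𝐂(R)) (hn : R ≤ 𝐍(S)) :
    CProd S (R ⊓ 𝐂(S)) R := by
  haveI := Fact.mk hp
  refine ⟨?_, inf_le_right⟩
  have h1 := H2.relIndex_centralizer_eq_of_card_commutator_le (hR.to_le hS) hR hc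
  have h2 : (𝐂(R)).relIndex S = (𝐂(S)).relIndex S := by
    rw [← inf_relIndex_left, ← inf_relIndex_left S (𝐂(S))]
    congr 1
    exact le_antisymm (inf_le_inf_left _ (cent_anti hS)) (le_inf inf_le_left hZ)
  have h3 : S ≤ 𝐍(R ⊓ 𝐂(S)) := H1.le_normalizer_inf (hS.trans (le_norm_self R))
    (H1.le_normalizer_centralizer (le_norm_self S))
  have h4 := relIndex_sup_of_norm h3
  have h5 : (R ⊓ 𝐂(S)).relIndex S = (𝐂(S)).relIndex S := by
    rw [← inf_relIndex_left, ← inf_assoc, inf_eq_left.mpr hS, inf_relIndex_left]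
  have hle : R ⊓ 𝐂(S) ⊔ S ≤ R := sup_le inf_le_left hS
  rw [sup_comm]
  apply H1.eq_of_le_of_card_le hle
  rw [← H1.card_mul_relIndex (le_sup_left : R ⊓ 𝐂(S) ≤ R ⊓ 𝐂(S) ⊔ S), h4, h5, ← h2, h1,
    ← inf_relIndex_left, H1.card_mul_relIndex inf_le_left]

end BG04

/-- BG 4.15. -/
theorem extraspecial_cprod {p : ℕ} (hp : p.Prime) {R S : Subgroup G} (hR : IsPGroup p R)
    (hS : S ≤ R) (hSe : IsExtraspecial p S) (h : ⁅S, R⁆ ≤ ⁅S, S⁆) : CProd S (R ⊓ 𝐂(S)) R := by
  have hn : R ≤ 𝐍(S) := comm_le_left_iff.mp (h.trans (der_le S))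
  have h1 : 𝐨(⁅S, S⁆) = p := by
    rw [← map_subtype_der, card_map_inj S.subtype_injective, hSe.1.2.2, hSe.2]
  have h2 : 𝐨(S ⊓ 𝐂(S)) = p := by
    rw [← map_subtype_center, card_map_inj S.subtype_injective, hSe.2]
  exact cprod_of_card_comm_le hp hR hS (h1 ▸ card_le_of_le h)
    (le_cent_of_card_le_prime hp hR ⟨inf_le_left.trans hS, hn.trans (norm_le_norm_center S)⟩ h2.le)
    hn

end Cfsg.Agent.FT
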