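/-
BG section 4, part 2: 4.7, 4.9, 4.11, 4.12.
-/
import Cfsg.Agent.FT.P.BG04_1

set_option autoImplicit false

namespace Cfsg.Agent.FT

open Subgroup Cfsg Cfsg.Agent
open scoped commutatorElement

universe u

variable {G : Type u} [Group G] [Finite G]

namespace BG04

omit [Finite G] in
theorem le_norm_map_subtype {R : Subgroup G} (M : Subgroup R) (hM : M.Normal) :
    R ≤ 𝐍(M.map R.subtype) := by
  have h5 : (⊤ : Subgroup R).map R.subtype ≤ 𝐍(M.map R.subtype) :=
    (map_le_norm_iff R.subtype_injective).mpr (normal_iff_top_le.mp hM)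
  rwa [← MonoidHom.range_eq_map, subtype_range] at h5

/-- A proper subgroup of a `p`-group lies in a proper normal subgroup. -/
theorem exists_normal_lt {p : ℕ} (hp : p.Prime) {R X : Subgroup G} (hR : IsPGroup p R)
    (h : X < R) : ∃ S : Subgroup G, X ≤ S ∧ S < R ∧ R ≤ 𝐍(S) := by
  have hlt : X.subgroupOf R ≠ ⊤ := by
    rw [Ne, subgroupOf_eq_top]
    exact fun h' => h.ne (le_antisymm h.le h')
  obtain ⟨M, hM, hxM⟩ := (eq_top_or_exists_le_coatom _).resolve_left hlt
  haveI := isNilpotent_of_isPGroup hp hR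
  have hMn := H3.normal_of_isCoatom hM
  refine ⟨M.map R.subtype, fun x hx => ⟨⟨x, h.le hx⟩, hxM hx, rfl⟩, ?_, le_norm_map_subtype M hMn⟩
  refine lt_of_le_of_ne (map_subtype_le _) fun h => hM.1 ?_
  rw [eq_top_iff]
  intro r _
  obtain ⟨s, hs, h2⟩ := h.ge r.2
  exact (Subtype.ext h2 : s = r) ▸ hs

/-- The standard minimal counterexample argument for the exponent of `Ω₁`. -/
theorem omega_exp_induction {p : ℕ} (hp : p.Prime) {R : Subgroup G} (hR : IsPGroup p R)
    (step : ∀ x ∈ R, ∀ y ∈ R, x ^ p = 1 → y ^ p = 1 → ∀ W : Subgroup G, x ∈ W → y ∈ 𝐍(W) →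
      (∀ w ∈ W, w ^ p = 1) → (x * y) ^ p = 1) : ∀ x ∈ omegaOne p R, x ^ p = 1 := by
  induction R using H1.subgroup_strong_induction with
  | h R ih =>
  have key : ∀ x ∈ R, ∀ y ∈ R, x ^ p = 1 → y ^ p = 1 → (x * y) ^ p = 1 := by
    intro x hx y hy hxp hyp
    by_cases hxR : zpowers x = R
    · have hc : IsMulCommutative R := isMulComm_of_isCyclic (isCyclic_iff_zpowers.mpr ⟨x, hxR⟩)
      have : Commute x y := (isMulComm_iff_le_cent.mp hc hy x hx)
      rw [this.mul_pow, hxp, hyp, mul_one]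
    obtain ⟨S, hxS, hSR, hSn⟩ := exists_normal_lt hp hR
      (lt_of_le_of_ne (zpowers_le.mpr hx) hxR)
    have hWe := ih S hSR (hR.to_le hSR.le) fun x hx y hy => step x (hSR.le hx) y (hSR.le hy)
    exact step x hx y hy hxp hyp (omegaOne p S) (mem_omegaOne (hxS (mem_zpowers x)) hxp)
      (norm_le_norm_omegaOne _ p (hSn hy)) hWe
  let W : Subgroup G :=
    { carrier := {x | x ∈ R ∧ x ^ p = 1}
      one_mem' := ⟨one_mem R, one_pow p⟩
      mul_mem' := fun {a b} ha hb => ⟨mul_mem ha.1 hb.1, key a ha.1 b hb.1 ha.2 hb.2⟩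
      inv_mem' := fun {a} ha => ⟨inv_mem ha.1, by rw [inv_pow, ha.2, inv_one]⟩ }
  have hW : omegaOne p R ≤ W := omegaOne_le_iff.mpr fun x hx h => ⟨hx, h⟩
  exact fun x hx => (hW hx).2

theorem aut_pow_comm {A : Type*} [CommGroup A] {p : ℕ} (hp : p.Prime) (hp2 : p ≠ 2)
    (hA : IsPGroup p A) (σ : MulAut A) (hσ : σ ^ p = 1) (h : ∀ a : A, a ^ p = 1 → σ a = a)
    (a : A) : (a * (σ a)⁻¹) ^ p = 1 := by
  obtain ⟨i, hi⟩ := hA a
  induction i generalizing a with
  | zero => rw [pow_zero, pow_one] at hi; simp [hi]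
  | succ i ih =>
    set b := a * (σ a)⁻¹ with hb
    have hb1 : b ^ p ^ i = 1 := by
      have := h (a ^ p ^ i) (by rw [← pow_mul, ← pow_succ, hi])
      rw [hb, mul_pow, inv_pow, ← map_pow, this, mul_inv_cancel]
    have hc1 := ih b hb1
    set c := b * (σ b)⁻¹ with hc
    have hc2 := h c hc1
    have hσa : σ a = b⁻¹ * a := by rw [hb]; group
    have hσb : σ b = c⁻¹ * b := by rw [hc]; group
    have key : ∀ n : ℕ, (σ ^ n) a = a * (b ^ n)⁻¹ * c ^ n.choose 2 := by
      intro n
      induction n with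
      | zero => simp
      | succ n ihn =>
        rw [pow_succ', MulAut.mul_apply, ihn, map_mul, map_mul, map_inv, map_pow, map_pow, hc2,
          hσa, hσb, Nat.choose_succ_succ' n 1, Nat.choose_one_right, pow_add c, mul_pow,
          pow_succ b]
        simp only [mul_inv_rev, inv_pow, inv_inv, one_add_one_eq_two]
        simp only [mul_assoc, mul_comm, mul_left_comm]
    have h1 := key p
    obtain ⟨k, hk⟩ : p ∣ p.choose 2 := hp.dvd_choose_self two_ne_zero
      (lt_of_le_of_ne hp.two_le (Ne.symm hp2))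
    rw [hσ, hk, pow_mul, hc1, one_pow, mul_one, MulAut.one_apply] at h1
    simpa using h1

/-- An element of order `p` centralizing `Ω₁(A)`, `A` abelian, centralizes `A / Ω₁(A)`. -/
theorem comm_pow_eq_one {p : ℕ} (hp : p.Prime) (hp2 : p ≠ 2) {A : Subgroup G}
    (hA : IsPGroup p A) (hc : IsMulCommutative A) {x : G} (hx : x ∈ 𝐍(A)) (hxp : x ^ p = 1)
    (h : x ∈ 𝐂(omegaOne p A)) {a : G} (ha : a ∈ A) : ⁅a, x⁆ ∈ omegaOne p A := by
  letI : CommGroup A := { (inferInstance : Group A) with mul_comm := hc.is_comm.comm }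
  have h1 := aut_pow_comm hp hp2 hA (H1.conjAut (le_refl 𝐍(A)) ⟨x, hx⟩)
    (by rw [← map_pow, ← map_one (H1.conjAut (le_refl 𝐍(A)))]; congr 1; exact Subtype.ext hxp)
    (fun b hb => by
      apply Subtype.ext
      rw [H1.coe_conjAut]
      have := h b (mem_omegaOne b.2 (congrArg Subtype.val hb))
      simp only
      rw [← this, mul_inv_cancel_right]) ⟨a, ha⟩
  have h2 : ⁅a, x⁆ = ((⟨a, ha⟩ * (H1.conjAut (le_refl 𝐍(A)) ⟨x, hx⟩ ⟨a, ha⟩)⁻¹ : A) : G) := by
    rw [coe_mul, coe_inv, H1.coe_conjAut, commutatorElement_def]; group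
  rw [h2]
  exact mem_omegaOne (Subtype.prop _) (congrArg Subtype.val h1)

/-- Aschbacher 23.15/16: `Ω₁(C_R(Ω₁(A)))` has exponent `p` for `A ∈ SCN(R)`, `p` odd. -/
theorem omega_cent_exp {p : ℕ} (hp : p.Prime) (hp2 : p ≠ 2) {R A : Subgroup G}
    (hR : IsPGroup p R) (hA : IsSCN R A) :
    ∀ x ∈ omegaOne p (R ⊓ 𝐂(omegaOne p A)), x ^ p = 1 := by
  have hc : IsMulCommutative A := isMulComm_iff_le_cent.mpr (hA.2.2.ge.trans inf_le_right)
  set Z := omegaOne p A with hZ
  set X := omegaOne p (R ⊓ 𝐂(Z)) with hX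
  have hXle : X ≤ R ⊓ 𝐂(Z) := omegaOne_le _ _
  have h1 : X ≤ centMod A Z := by
    rw [hX, omegaOne_le_iff]
    intro x hx hxp
    exact mem_centMod.mpr ⟨cent_le_norm _ hx.2, fun a ha =>
      comm_pow_eq_one hp hp2 (hR.to_le hA.1) hc (hA.2.1 hx.1) hxp hx.2 ha⟩
  have h2 : ⁅⁅A, X⁆, X⁆ = ⊥ := by
    rw [comm_eq_bot_iff]
    exact (le_centMod_iff.mp h1).2.trans (cent_comm.mp (hXle.trans inf_le_right))
  have h3 : ⁅X, X⁆ ≤ A := by
    rw [← hA.2.2]
    refine le_inf ((der_le X).trans (hXle.trans inf_le_left)) ?_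
    rw [← comm_eq_bot_iff]
    exact commutator_commutator_eq_bot_of_rotate (by rwa [commutator_comm X A]) h2
  rw [hX, ← omegaOne_omegaOne]
  apply omega_exp_induction hp (isPGroup_omegaOne (hR.to_le inf_le_left))
  intro x hx y hy hxp hyp W hxW hyW hW
  have h4 : ⁅y, x⁆ ∈ W := by
    rw [commutatorElement_def]
    exact mul_mem ((mem_normalizer_iff.mp hyW x).mp hxW) (inv_mem hxW)
  have h5 : ⁅y, x⁆ ∈ Z := mem_omegaOne (h3 (commutator_mem_commutator hy hx)) (hW _ h4)
  rw [H1.mul_pow_of_central ((hXle hx).2 _ h5).symm ((hXle hy).2 _ h5).symm, hxp, hyp]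
  obtain ⟨k, hk⟩ : p ∣ p.choose 2 := hp.dvd_choose_self two_ne_zero
    (lt_of_le_of_ne hp.two_le (Ne.symm hp2))
  rw [hk, pow_mul, hW _ h4]; simp

/-- Normal subgroups of a `p`-group between two normal subgroups. -/
theorem exists_normal_between {p : ℕ} (hp : p.Prime) {R M N : Subgroup G} (hR : IsPGroup p R)
    (hM : R ≤ 𝐍(M)) (hN : N ⊲ R) (h : M < N) :
    ∃ K : Subgroup G, M ≤ K ∧ K ≤ N ∧ R ≤ 𝐍(K) ∧ 𝐨(K) = p * 𝐨(M) ∧ ⁅K, R⁆ ≤ M := by
  haveI := Fact.mk hp
  haveI := H1.normal_subgroupOf_of_le hM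
  haveI := H1.normal_subgroupOf_of_le hN.2
  have hMR := h.le.trans hN.1
  have hlt : M.subgroupOf R < N.subgroupOf R := by
    rw [← map_lt_map_iff_of_injective R.subtype_injective, map_subgroupOf_eq_of_le hMR,
      map_subgroupOf_eq_of_le hN.1]
    exact h
  obtain ⟨K, h1, h2, h3, h4, h5⟩ := H3.exists_normal_card_eq_mul hR hlt
  refine ⟨K.map R.subtype, ?_, ?_, le_norm_map_subtype K h1, ?_, ?_⟩
  · rw [← map_subgroupOf_eq_of_le hMR]; exact map_mono h2
  · rw [← map_subgroupOf_eq_of_le hN.1]; exact map_mono h3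
  · rw [card_map_inj R.subtype_injective, h4, Nat.card_congr (subgroupOfEquivOfLe hMR).toEquiv]
  · rw [commutator_le]
    rintro _ ⟨k, hk, rfl⟩ r hr
    exact h5 k hk ⟨r, hr⟩

/-- If `|K : Z| = p` and `Z` is central in `K`, then `K` is abelian. -/
theorem isMulComm_of_card_eq_mul {p : ℕ} (hp : p.Prime) {K Z : Subgroup G} (hZ : Z ≤ K)
    (hc : Z ≤ 𝐂(K)) (h : 𝐨(K) = p * 𝐨(Z)) : IsMulCommutative K := by
  haveI := Fact.mk hp
  haveI := H1.normal_subgroupOf_of_le ((cent_comm.mp hc).trans (cent_le_norm Z))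
  have h1 : Z.relIndex K = p := by
    have := H1.card_mul_relIndex hZ
    rw [h, mul_comm p] at this
    exact Nat.eq_of_mul_eq_mul_left Nat.card_pos this
  have h2 : CycMod K Z := by
    rw [cycMod_iff_bar hZ le_rfl]
    apply isCyclic_of_card_prime
    rw [H1.card_bar le_rfl, h1]; exact hp
  exact h2.isMulComm hc hZ

/-- A `p`-group acts on an elementary abelian group of order at most `p²` through a group of
order at most `p`. -/
theorem relIndex_cent_le {p : ℕ} (hp : p.Prime) {A E : Subgroup G} (hAp : IsPGroup p A)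
    (hE : IsElementaryAbelian p E) (hE2 : 𝐨(E) ≤ p ^ 2) (hA : A ≤ 𝐍(E)) :
    𝐂(E).relIndex A ≤ p := by
  have h1 := not_sq_dvd_relIndex_cent_elem2 hp hE hE2 hA
  obtain ⟨n, hn⟩ := exists_card_eq_pow hp hAp
  obtain ⟨k, -, hk⟩ := (Nat.dvd_prime_pow hp).mp (hn ▸ relIndex_dvd_card' 𝐂(E) A)
  rw [hk] at h1 ⊢
  have : k ≤ 1 := by
    by_contra h
    exact h1 (pow_dvd_pow p (by omega))
  calc p ^ k ≤ p ^ 1 := Nat.pow_le_pow_right hp.pos this
    _ = p := pow_one p

end BG04

open BG04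

/-- BG 4.7 and 5.1(a). -/
theorem rank3_scn3 {p : ℕ} (hp : p.Prime) (hp2 : p ≠ 2) {R : Subgroup G}
    (hR : IsPGroup p R) (h : 2 < pRank p R) : ∃ A : Subgroup G, IsSCN R A ∧ 2 < pRank p A := by
  by_contra hcon
  push Not at hcon
  have hnc : ¬ IsCyclic R := fun hc => by have := pRank_le_one_of_isCyclic hp hc; omega
  obtain ⟨Z, hZ, hZ2⟩ := exists_normal_isElem_two hp hp2 hR hnc
  obtain ⟨A, hZA, hA⟩ := exists_scn_ge hp hR hZ hZ2.comm
  have hc : IsMulCommutative A := isMulComm_iff_le_cent.mpr (hA.2.2.ge.trans inf_le_right)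
  have hZeq : omegaOne p A = Z := by
    symm
    apply H1.eq_of_le_of_card_le (le_omegaOne_of_elemAb hZA hZ2.elemAb)
    rw [(isElem_omegaOne_of_comm hp hc).card, hZ2.card]
    exact Nat.pow_le_pow_right hp.pos (hcon A hA)
  have he := omega_cent_exp hp hp2 hR hA
  rw [hZeq] at he
  set X := omegaOne p (R ⊓ 𝐂(Z)) with hX
  have hXle : X ≤ R ⊓ 𝐂(Z) := omegaOne_le _ _
  have hZX : Z ≤ X := le_omegaOne_of_elemAb (le_inf hZ.1 hZ2.le_cent) hZ2.elemAb
  have hXn : X ⊲ R := ⟨hXle.trans inf_le_left, (H1.le_normalizer_inf (le_norm_self R)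
    (H1.le_normalizer_centralizer hZ.2)).trans (norm_le_norm_omegaOne _ p)⟩
  rcases hZX.lt_or_eq with hlt | heq
  · obtain ⟨K, h1, h2, h3, h4, -⟩ := exists_normal_between hp hR hZ.2 hXn hlt
    have hKc : IsMulCommutative K :=
      isMulComm_of_card_eq_mul hp h1 (cent_comm.mp (h2.trans (hXle.trans inf_le_right))) h4
    obtain ⟨B, hKB, hB⟩ := exists_scn_ge hp hR ⟨h2.trans hXn.1, h3⟩ hKc
    have hK3 : IsElem p 3 K := ⟨⟨hKc, fun x hx => he x (h2 hx)⟩, by rw [h4, hZ2.card]; ring⟩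
    have := le_pRank hp hKB hK3
    have := hcon B hB
    omega
  · obtain ⟨E, hER, hE⟩ := (le_pRank_iff hp).mp (show 3 ≤ pRank p R from h)
    have h1 := relIndex_cent_le hp hE.pgrp hZ2.elemAb hZ2.card.le (hER.trans hZ.2)
    have h2 : 𝐂(Z) ⊓ E ≤ Z := by
      rw [heq]
      exact fun x hx => mem_omegaOne ⟨hER hx.2, heq ▸ hx.1⟩ (hE.elemAb.2 x hx.2)
    have h3 := H1.card_inf_mul_relIndex 𝐂(Z) E
    have h4 : 𝐂(Z) ⊓ E = Z := by
      apply H1.eq_of_le_of_card_le h2
      rw [hE.card] at h3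
      rw [hZ2.card]
      have : p ^ 2 * p ≤ 𝐨(𝐂(Z) ⊓ E) * p := by
        calc p ^ 2 * p = p ^ 3 := by ring
          _ ≤ _ := h3 ▸ Nat.mul_le_mul_left _ h1
      exact Nat.le_of_mul_le_mul_right this hp.pos
    have h5 : E ≤ 𝐂(Z) := hE.le_cent.trans (cent_anti (h4.ge.trans inf_le_right))
    have h6 : E ≤ Z := h4 ▸ le_inf h5 le_rfl
    have := hZ2.le_of_le hp hE h6
    omega

namespace BG04

/-- BG 4.9 for a normal subgroup of order `p`. -/
theorem card_omega_quotient_le {p : ℕ} (hp : p.Prime) (hp3 : 3 < p) (hG : IsPGroup p G)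
    (h : 𝐨(omegaOne p (⊤ : Subgroup G)) ≤ p ^ 2) (T : Subgroup G) [T.Normal] (hT : 𝐨(T) = p) :
    𝐨(omegaOne p (⊤ : Subgroup (G ⧸ T))) ≤ p ^ 2 := by
  haveI := Fact.mk hp
  by_contra hcon
  push Not at hcon
  have hQ : IsPGroup p (⊤ : Subgroup (G ⧸ T)) := (hG.to_quotient T).to_subgroup ⊤
  obtain ⟨W, hW3, hWe⟩ : ∃ W : Subgroup (G ⧸ T), 𝐨(W) = p ^ 3 ∧ ∀ w ∈ W, w ^ p = 1 := by
    by_cases hr : pRank p (⊤ : Subgroup (G ⧸ T)) ≤ 2
    · have he := rank2_omega_exponent hp hp3 hQ hr
      obtain ⟨n, hn⟩ := exists_card_eq_pow hp (isPGroup_omegaOne hQ)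
      have h3 : p ^ 3 ≤ 𝐨(omegaOne p (⊤ : Subgroup (G ⧸ T))) := by
        rw [hn] at hcon ⊢
        exact Nat.pow_le_pow_right hp.pos ((Nat.pow_lt_pow_iff_right hp.one_lt).mp hcon)
      obtain ⟨K, h1, -, h2⟩ := exists_normal_le_card_pow hp hQ (omegaOne_normal p ⊤) h3
      exact ⟨K, h2, fun w hw => he w (h1 hw)⟩
    · obtain ⟨E, -, hE⟩ := (le_pRank_iff hp).mp (show 3 ≤ pRank p (⊤ : Subgroup (G ⧸ T)) by omega)
      exact ⟨E, hE.card, hE.elemAb.2⟩
  set V := W.comap (QuotientGroup.mk' T) with hV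
  have hV4 : 𝐨(V) = p ^ 4 := by rw [hV, H3.card_comap_mk', hW3, hT]; ring
  have hreg : IsRegularPGroup p V :=
    H5.isRegular_of_card_le (hG.to_subgroup V) (hV4 ▸ Nat.pow_le_pow_right hp.pos hp3)
  have h1 := H5.card_eq_mul_ncard_pow hreg ⊤ le_top
  rw [card_top, hV4] at h1
  have h2 : 𝐨(H7.regularOmega hreg 1) ≤ p ^ 2 := by
    rw [← card_map_inj V.subtype_injective]
    refine le_trans (card_le_of_le ?_) h
    rintro _ ⟨x, hx, rfl⟩
    have hx' : x ∈ H7.regularOmega hreg 1 := hx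
    rw [H7.mem_regularOmega, pow_one] at hx'
    exact mem_omegaOne (mem_top _) (congrArg Subtype.val hx')
  have h3 : ((fun x : V => x ^ p) '' ((⊤ : Subgroup V) : Set V)).ncard ≤ p := by
    have hsub : (fun x : V => x ^ p) '' ((⊤ : Subgroup V) : Set V) ⊆ (T.subgroupOf V : Set V) := by
      rintro _ ⟨x, -, rfl⟩
      have := hWe _ x.2
      rw [← map_pow, QuotientGroup.mk'_apply, QuotientGroup.eq_one_iff] at this
      exact this
    refine (Set.ncard_le_ncard hsub (Set.toFinite _)).trans ?_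
    rw [← Nat.card_coe_set_eq, ← hT]
    have := card_map_inj V.subtype_injective (T.subgroupOf V)
    rw [subgroupOf_map_subtype] at this
    exact this.ge.trans (card_le_of_le inf_le_left)
  have h4 : p ^ 4 ≤ p ^ 2 * p := h1 ▸ Nat.mul_le_mul h2 h3
  rw [← pow_succ, Nat.pow_le_pow_iff_right hp.one_lt] at h4
  omega

theorem index_mho_le {p : ℕ} (hp : p.Prime) (hp3 : 3 < p) (n : ℕ) :
    ∀ (G : Type u) [Group G] [Finite G], Nat.card G = n → IsPGroup p G →
      𝐨(omegaOne p (⊤ : Subgroup G)) ≤ p ^ 2 → (powerClosure p 1 (⊤ : Subgroup G)).index ≤ p ^ 2 := by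
  haveI := Fact.mk hp
  induction n using Nat.strong_induction_on with
  | _ n ih =>
  intro G _ _ hn hG h
  by_cases h0 : powerClosure p 1 (⊤ : Subgroup G) = ⊥
  · rw [h0, index_bot, ← card_top]
    rwa [omegaOne_eq_self] at h
    intro a _
    have := H7.pow_mem_powerClosure (p := p) (n := 1) (mem_top a)
    rwa [h0, pow_one, mem_bot] at this
  obtain ⟨z, hz1, hz2, hz3⟩ := H3.exists_central_orderOf_eq_prime hG _ h0
  haveI := H3.zpowers_normal_of_mem_center hz2
  have hT : 𝐨(zpowers z) = p := by rw [Nat.card_zpowers, hz3]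
  have hlt : Nat.card (G ⧸ zpowers z) < n := by
    rw [← hn, card_eq_card_quotient_mul_card_subgroup (zpowers z), hT]
    exact lt_mul_of_one_lt_right Nat.card_pos hp.one_lt
  have h1 := ih _ hlt (G ⧸ zpowers z) rfl (hG.to_quotient _)
    (card_omega_quotient_le hp hp3 hG h _ hT)
  rw [← map_top_of_surjective _ (QuotientGroup.mk'_surjective (zpowers z)),
    ← H7.map_powerClosure, index_map, QuotientGroup.ker_mk', sup_eq_left.mpr (zpowers_le.mpr hz1),
    QuotientGroup.range_mk', index_top, mul_one] at h1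
  exact h1

/-- Huppert: for odd `p`, a `p`-group with `|G : ℧₁(G)| ≤ p²` is metacyclic. -/
theorem metacyc_of_index_mho_le {p : ℕ} (hp : p.Prime) (hp2 : p ≠ 2) (n : ℕ) :
    ∀ (G : Type u) [Group G] [Finite G], Nat.card G = n → IsPGroup p G →
      (powerClosure p 1 (⊤ : Subgroup G)).index ≤ p ^ 2 →
      ∃ a b : G, (zpowers a).Normal ∧ zpowers a ⊔ zpowers b = ⊤ := by
  haveI := Fact.mk hp
  induction n using Nat.strong_induction_on with
  | _ n ih =>
  intro G _ _ hn hG h
  set U := powerClosure p 1 (⊤ : Subgroup G) with hU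
  have hUF : U ≤ frattini G := by
    rw [hU, H7.powerClosure_le_iff]
    intro x _
    rw [pow_one]; exact H3.pow_mem_frattini hG x
  haveI := hG.isNilpotent
  by_cases hD : 𝐨(_root_.commutator G) ≤ p
  · have hDU : _root_.commutator G ≤ U := by
      have hq : IsMulCommutative (⊤ : Subgroup (G ⧸ U)) :=
        isMulComm_of_card_le_sq hp ((hG.to_quotient U).to_subgroup ⊤) (by rwa [card_top])
      rw [isMulComm_iff_comm_eq_bot, ← map_top_of_surjective _ (QuotientGroup.mk'_surjective U),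
        ← map_commutator, Subgroup.map_eq_bot_iff, QuotientGroup.ker_mk'] at hq
      exact hq
    have hDc : _root_.commutator G ≤ 𝐂((⊤ : Subgroup G)) :=
      le_cent_of_card_le_prime hp (hG.to_subgroup ⊤) (der_normal ⊤) hD
    have hDe : ∀ d ∈ _root_.commutator G, d ^ p = 1 := by
      intro d hd
      obtain ⟨k, hk⟩ := exists_card_eq_pow hp (hG.to_subgroup (_root_.commutator G))
      have hk1 : k ≤ 1 := by
        rw [hk] at hD
        exact (Nat.pow_le_pow_iff_right hp.one_lt).mp (hD.trans (pow_one p).ge)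
      have h1 := orderOf_dvd_card_of_mem hd
      rw [hk] at h1
      exact orderOf_dvd_iff_pow_eq_one.mp (h1.trans (by simpa using pow_dvd_pow p hk1))
    have hDcyc : IsCyclic (_root_.commutator G) :=
      H3.isCyclic_of_isElementaryAbelian_of_card_le
        ⟨isMulComm_iff_le_cent.mpr (hDc.trans (cent_anti le_top)), hDe⟩ hD
    let φ : G →* G := MonoidHom.mk' (fun x => x ^ p) fun x y =>
      H1.mul_pow_of_class_two (P := ⊤) (hp.odd_of_ne_two hp2) hDc
        (fun x hx y hy => hDe _ (commutator_mem_commutator hx hy)) (mem_top x) (mem_top y)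
    have hUφ : U ≤ φ.range := by
      rw [hU, H7.powerClosure_le_iff]
      intro x _
      exact ⟨x, by rw [pow_one]; rfl⟩
    obtain ⟨d, hd⟩ := isCyclic_iff_zpowers.mp hDcyc
    obtain ⟨x, hx, hmax⟩ := Set.exists_max_image {x : G | _root_.commutator G ≤ zpowers x}
      (fun x => orderOf x) (Set.toFinite _) ⟨d, hd.ge⟩
    have hxn : (zpowers x).Normal :=
      normal_iff_top_le.mpr (le_norm_of_der_le hx le_top)
    by_cases hxU : x ∈ U
    · obtain ⟨y, hy⟩ := hUφ hxU
      have hy' : y ^ p = x := hy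
      have hxy : zpowers x ≤ zpowers y := zpowers_le.mpr (hy' ▸ pow_mem (mem_zpowers y) p)
      have h1 : zpowers x = zpowers y := H1.eq_of_le_of_card_le hxy (by
        rw [Nat.card_zpowers, Nat.card_zpowers]; exact hmax y (le_trans hx hxy))
      have hy1 : y = 1 := by
        by_contra hy1
        have h2 : p ∣ orderOf y := by
          rw [← Nat.card_zpowers]
          exact prime_dvd_card_of_isPGroup hp (hG.to_subgroup _) (by simpa using hy1)
        have h3 : orderOf x = orderOf y := by rw [← Nat.card_zpowers, h1, Nat.card_zpowers]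
        rw [← hy', orderOf_pow_of_dvd hp.ne_zero h2] at h3
        exact absurd h3 (Nat.div_lt_self (orderOf_pos y) hp.one_lt).ne
      have hx1 : x = 1 := by rw [← hy', hy1, one_pow]
      refine ⟨x, x, hxn, eq_top_iff.mpr fun g _ => ?_⟩
      have h2 := hmax g (le_trans hx (zpowers_le.mpr (hx1 ▸ one_mem _)))
      simp only [hx1, orderOf_one] at h2
      have h3 : g = 1 := orderOf_eq_one_iff.mp (le_antisymm h2 (orderOf_pos g))
      rw [h3]; exact one_mem _
    · have hlt : U < zpowers x ⊔ U :=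
        lt_of_le_of_ne le_sup_right fun h => hxU (h ▸ mem_sup_left (mem_zpowers x))
      have h1 := H2.prime_le_relIndex_of_lt (hG.to_subgroup _) hlt
      have h2 := relIndex_mul_index hlt.le
      have h3 : (zpowers x ⊔ U).index ≤ p := by
        rw [← h2, pow_two] at h
        exact Nat.le_of_mul_le_mul_left ((Nat.mul_le_mul_right _ h1).trans h) hp.pos
      obtain ⟨b, hb⟩ : ∃ b : G, (zpowers x ⊔ U) ⊔ zpowers b = ⊤ := by
        by_cases ht : zpowers x ⊔ U = ⊤
        · exact ⟨1, by rw [ht, top_sup_eq]⟩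
        have h4 := H2.prime_le_relIndex_of_lt (hG.to_subgroup _) (lt_top_iff_ne_top.mpr ht)
        rw [relIndex_top_right] at h4
        have h5 := (H3.isCoatom_iff_index_eq hG).mpr (le_antisymm h3 h4)
        obtain ⟨b, -, hb⟩ := SetLike.exists_of_lt (lt_top_iff_ne_top.mpr ht)
        exact ⟨b, h5.2 _ (lt_of_le_of_ne le_sup_left fun h => hb (h ▸ mem_sup_right (mem_zpowers b)))⟩
      refine ⟨x, b, hxn, frattini_nongenerating (eq_top_iff.mpr ?_)⟩
      rw [← hb, sup_right_comm]
      exact sup_le_sup_left hUF _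
  · push Not at hD
    have hD1 : _root_.commutator G ≠ ⊥ := fun h => by
      rw [h, card_bot] at hD; exact absurd hD (not_lt.mpr hp.one_le)
    obtain ⟨z, hz1, hz2, hz3⟩ := H3.exists_central_orderOf_eq_prime hG _ hD1
    haveI := H3.zpowers_normal_of_mem_center hz2
    have hT : 𝐨(zpowers z) = p := by rw [Nat.card_zpowers, hz3]
    have hlt : Nat.card (G ⧸ zpowers z) < n := by
      rw [← hn, card_eq_card_quotient_mul_card_subgroup (zpowers z), hT]
      exact lt_mul_of_one_lt_right Nat.card_pos hp.one_lt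
    obtain ⟨a', b', hn', hab'⟩ := ih _ hlt (G ⧸ zpowers z) rfl (hG.to_quotient _) (by
      rw [← map_top_of_surjective _ (QuotientGroup.mk'_surjective (zpowers z)),
        ← H7.map_powerClosure]
      exact (Nat.le_of_dvd (Nat.pos_of_ne_zero index_ne_zero_of_finite)
        (index_map_dvd _ (QuotientGroup.mk'_surjective _))).trans h)
    obtain ⟨a, rfl⟩ := QuotientGroup.mk'_surjective _ a'
    obtain ⟨b, rfl⟩ := QuotientGroup.mk'_surjective _ b'
    have hN : (zpowers a ⊔ zpowers z).Normal := by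
      have := hn'.comap (QuotientGroup.mk' (zpowers z))
      rwa [← MonoidHom.map_zpowers, comap_map_eq, QuotientGroup.ker_mk'] at this
    have hab : zpowers a ⊔ zpowers b = ⊤ := by
      apply frattini_nongenerating
      have := congrArg (comap (QuotientGroup.mk' (zpowers z))) hab'
      rw [← MonoidHom.map_zpowers, ← MonoidHom.map_zpowers, ← Subgroup.map_sup, comap_map_eq,
        QuotientGroup.ker_mk', comap_top] at this
      rw [eq_top_iff, ← this]
      exact sup_le_sup_left (zpowers_le.mpr (H3.commutator_le_frattini hG hz1)) _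
    have hzc : ∀ g : G, Commute g z := fun g => mem_center_iff.mp hz2 g
    have hmem : ∀ g ∈ zpowers a ⊔ zpowers z, ∃ i j : ℕ, g = a ^ i * z ^ j := by
      intro g hg
      obtain ⟨u, hu, v, hv, rfl⟩ := (mem_sup_of_normal_right).mp hg
      obtain ⟨i, rfl⟩ := (mem_powers_iff_mem_zpowers.mpr hu)
      obtain ⟨j, rfl⟩ := (mem_powers_iff_mem_zpowers.mpr hv)
      exact ⟨i, j, rfl⟩
    have haN : a ∈ zpowers a ⊔ zpowers z := mem_sup_left (mem_zpowers a)
    set c := ⁅a, b⁆ with hc
    have hcN : c ∈ zpowers a ⊔ zpowers z := by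
      have := mul_mem haN (hN.conj_mem _ (inv_mem haN) b)
      rwa [hc, commutatorElement_def, mul_assoc, mul_assoc, ← mul_assoc b]
    obtain ⟨i, j, hij⟩ := hmem c hcN
    have hac : Commute a c := by
      rw [hij]; exact ((Commute.refl a).pow_right i).mul_right ((hzc a).pow_right j)
    have hDc : _root_.commutator G ≤ zpowers c := by
      have h1 : closure ({a, b} : Set G) = ⊤ := by
        rw [← hab, ← Set.singleton_union, Subgroup.closure_union, ← zpowers_eq_closure,
          ← zpowers_eq_closure]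
      rw [_root_.commutator_def, ← h1]
      apply H7.commutator_closure_pair_le _ _ (mem_zpowers _)
      · exact cent_le_norm _ (by rw [cent_zpowers]; exact mem_cent1.mpr hac.symm)
      · apply mem_norm_of_conj_le
        rw [← zpowers_conj, zpowers_le]
        obtain ⟨k, l, hkl⟩ := hmem _ (hN.conj_mem a haN b)
        have h2 : b * c * b⁻¹ = ⁅a ^ k * z ^ l, b⁆ := by
          rw [← hkl, hc, commutatorElement_def, commutatorElement_def]; group
        have h3 : ⁅a ^ k * z ^ l, b⁆ = ⁅a ^ k, b⁆ := by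
          have := ((hzc b).pow_right l).eq
          rw [commutatorElement_def, commutatorElement_def, mul_assoc (a ^ k), ← this]; group
        rw [h2, h3, H1.commutatorElement_pow_left_of_central hac]
        exact pow_mem (mem_zpowers _) k
    have hza : z ∈ zpowers a := by
      obtain ⟨k, hk⟩ := mem_powers_iff_mem_zpowers.mpr (hDc hz1)
      have hk' : c ^ k = z := hk
      by_cases hpk : p ∣ k
      · obtain ⟨m, rfl⟩ := hpk
        have h1 : z ^ p = 1 := by rw [← hz3, pow_orderOf_eq_one]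
        have h2 : c ^ p = a ^ (i * p) := by
          rw [hij, (((hzc a).pow_right j).pow_left i).mul_pow, ← pow_mul, ← pow_mul, mul_comm j,
            pow_mul z, h1, one_pow, mul_one]
        rw [← hk', pow_mul, h2]
        exact pow_mem (pow_mem (mem_zpowers a) _) _
      · exfalso
        obtain ⟨e, he⟩ := exists_card_eq_pow hp (hG.to_subgroup (zpowers c))
        rw [Nat.card_zpowers] at he
        have h1 : (orderOf c).Coprime k := by
          rw [he]; exact ((Nat.Prime.coprime_iff_not_dvd hp).mpr hpk).pow_left e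
        have h2 := h1.orderOf_pow
        rw [hk', hz3] at h2
        have h3 := card_le_of_le hDc
        rw [Nat.card_zpowers] at h3
        omega
    refine ⟨a, b, ?_, hab⟩
    rwa [sup_eq_left.mpr (zpowers_le.mpr hza)] at hN

end BG04

/-- BG 4.11 (Huppert; 4.9 is the quotient lemma used in its proof). -/
theorem metacyc_of_omega_le {p : ℕ} (hp : p.Prime) (hp3 : 3 < p) {R : Subgroup G}
    (hR : IsPGroup p R) (h : 𝐨(omegaOne p R) ≤ p ^ 2) : Metacyc R := by
  have h1 : 𝐨(omegaOne p (⊤ : Subgroup R)) ≤ p ^ 2 := by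
    rwa [← card_map_inj R.subtype_injective, ← omegaOne_map R.subtype_injective,
      ← MonoidHom.range_eq_map, subtype_range]
  obtain ⟨a, b, h2, h3⟩ := metacyc_of_index_mho_le hp (by omega) _ R rfl hR
    (index_mho_le hp hp3 _ R rfl hR h1)
  refine ⟨zpowers (a : G), ⟨zpowers_le.mpr a.2, ?_⟩, inferInstance, b, b.2, ?_⟩
  · have := le_norm_map_subtype _ h2
    rwa [MonoidHom.map_zpowers] at this
  · have := congrArg (map R.subtype) h3
    rw [← MonoidHom.range_eq_map, subtype_range, Subgroup.map_sup, MonoidHom.map_zpowers,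
      MonoidHom.map_zpowers, sup_comm] at this
    exact this.ge

end Cfsg.Agent.FT
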