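/-
BG section 4, part 3: 4.12, 4.13, 4.14, 4.16, 4.17.
-/
import Cfsg.Agent.FT.P.BG04_2
import Cfsg.Agent.H2.SL23

set_option autoImplicit false

namespace Cfsg.Agent.FT

open Subgroup Cfsg Cfsg.Agent
open scoped commutatorElement

universe u

variable {G : Type u} [Group G] [Finite G]

namespace BG04

theorem isCyclic_of_omega_le {p : ℕ} (hp : p.Prime) (hp2 : p ≠ 2) {X S : Subgroup G}
    (hX : IsPGroup p X) (hS : IsCyclic S) (h : omegaOne p X ≤ S) : IsCyclic X := by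
  apply isCyclic_of_pRank_le_one hp hp2 hX
  rw [← pRank_omegaOne hp]
  exact pRank_le_one_of_isCyclic hp (isCyclic_of_le h hS)

theorem metacyc_core {p : ℕ} (hp : p.Prime) (hp2 : p ≠ 2) {R A : Subgroup G}
    (hR : IsPGroup p R) (hd : IsCyclic ↥⁅R, R⁆) (hW : 𝐨(omegaOne p R) ≤ p ^ 2) (hA : A ≤ 𝐍(R))
    (hc : 𝐨(A).Coprime p) (hRA : ⁅R, A⁆ = R) : IsMulCommutative R := by
  haveI := Fact.mk hp
  by_contra hna
  have hD1 : ⁅R, R⁆ ≠ ⊥ := fun h => hna (isMulComm_iff_comm_eq_bot.mpr h)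
  obtain ⟨S, hS0, hS⟩ := Finite.exists_le_maximal
    (p := fun S : Subgroup G => S ≤ R ∧ IsCyclic S ∧ A ≤ 𝐍(S)) (a := ⁅R, R⁆)
    ⟨der_le R, hd, hA.trans (norm_le_norm_der R)⟩
  obtain ⟨hSR, hSc, hAS⟩ := hS.prop
  have hRS : R ≤ 𝐍(S) := le_norm_of_der_le hS0 hSR
  have hY : R ⊔ A ≤ 𝐍(S) := sup_le hRS hAS
  have hSc' : S ≤ 𝐂(R) := by
    rw [cent_comm, ← hRA]
    exact (commutator_mono le_sup_left le_sup_right).trans (der_le_cent_of_cyclic hSc hY)
  haveI := H1.normal_subgroupOf_of_le hY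
  have hnc : ¬ IsCyclic (H1.bar (R ⊔ A) S R) := fun h =>
    hna (((cycMod_iff_bar (hSR.trans le_sup_left) le_sup_left).mpr h).isMulComm hSc' hSR)
  have hab : IsMulCommutative (H1.bar (R ⊔ A) S R) := (H1.isMulCommutative_bar_iff le_sup_left).mpr hS0
  have hV := H3.sq_le_card_omegaOne_of_not_isCyclic (H1.isPGroup_bar hR) hab hnc
  have hWR : omegaOne p R ≤ R ⊔ A := (omegaOne_le _ _).trans le_sup_left
  have hUV : H1.bar (R ⊔ A) S (omegaOne p R) ≤ omegaOne p (H1.bar (R ⊔ A) S R) := by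
    rw [H1.bar_le_iff hWR, omegaOne_le_iff]
    intro x hx hxp
    refine H1.mem_unbar.mpr ⟨mem_sup_left hx, mem_omegaOne (H1.qmk_mem_bar hx) ?_⟩
    rw [← map_pow, H1.qmk_eq_one_iff]
    simp [hxp]
  have hU : 𝐨(H1.bar (R ⊔ A) S (omegaOne p R)) ≤ p := by
    rw [H1.card_bar hWR]
    have h1 := H1.card_inf_mul_relIndex S (omegaOne p R)
    have h2 : p ≤ 𝐨(S ⊓ omegaOne p R) := by
      have hS1 : S ≠ ⊥ := fun h => hD1 (eq_bot_iff.mpr (hS0.trans h.le))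
      exact (card_omegaOne_of_isCyclic hp hSc
        (prime_dvd_card_of_isPGroup hp (hR.to_le hSR) hS1)).ge.trans
        (card_le_of_le (le_inf (omegaOne_le _ _) (omegaOne_mono hSR)))
    rw [← h1, pow_two] at hW
    exact Nat.le_of_mul_le_mul_left ((Nat.mul_le_mul_right _ h2).trans hW) hp.pos
  obtain ⟨W', h1, h2, h3, h4⟩ := H1.exists_invariant_complement_of_isElementaryAbelian hp
    (elemAb_omegaOne hab) ((H1.bar_le_normalizer hA).trans (norm_le_norm_omegaOne _ p)) hUV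
    (H1.bar_le_normalizer (hA.trans (norm_le_norm_omegaOne _ p)))
    (H1.coprime_card_of_isPGroup (H1.isPGroup_bar (isPGroup_omegaOne hR))
      (hc.coprime_dvd_left (H1.card_bar_dvd A)))
  set X := H1.unbar (R ⊔ A) S W' with hX
  have hSX : S ≤ X := H1.le_unbar (hSR.trans le_sup_left) _
  have hXR : X ≤ R := by
    rw [← H1.unbar_bar_of_le hSR (le_sup_left : R ≤ R ⊔ A)]
    exact H1.unbar_mono (h1.trans (omegaOne_le _ _))
  have hXc : IsCyclic X := by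
    apply isCyclic_of_omega_le hp hp2 (hR.to_le hXR) hSc
    rw [← H1.bar_eq_bot_iff (Y := R ⊔ A) ((omegaOne_mono hXR).trans hWR), eq_bot_iff, ← h3]
    refine le_inf (H1.bar_mono (omegaOne_mono hXR)) ?_
    rw [← H1.bar_unbar W']
    exact H1.bar_mono (omegaOne_le _ _)
  have hXS : X ≤ S := hS.le_of_ge ⟨hXR, hXc, H1.le_normalizer_unbar le_sup_right h2⟩ hSX
  have hW' : W' = ⊥ := by
    rw [← H1.bar_unbar W', H1.bar_eq_bot_iff (H1.unbar_le _)]; exact hXS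
  rw [hW', sup_bot_eq] at h4
  rw [← h4] at hV
  have := hV.trans hU
  nlinarith [hp.one_lt]

end BG04

open BG04

/-- BG 4.12 (Huppert). -/
theorem coprime_metacyc {p : ℕ} (hp : p.Prime) (hp2 : p ≠ 2) {R A : Subgroup G}
    (hR : IsPGroup p R) (hm : Metacyc R) (hA : A ≤ 𝐍(R)) (hc : 𝐨(A).Coprime p) :
    IsMulCommutative ↥⁅R, A⁆ ∧ SdProd ⁅R, A⁆ (R ⊓ 𝐂(A)) R ∧
      (¬ IsMulCommutative R → ¬ A ≤ 𝐂(R) →
        ⁅R, A⁆ ≠ ⊥ ∧ IsCyclic ↥⁅R, A⁆ ∧ R ⊓ 𝐂(A) ≠ ⊥ ∧ IsCyclic ↥(R ⊓ 𝐂(A)) ∧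
          ⁅R, R⁆ ≤ ⁅R, A⁆) := by
  haveI := Fact.mk hp
  have hco := H1.coprime_card_of_isPGroup hR hc
  have hTR : ⁅R, A⁆ ≤ R := comm_le_left_iff.mpr hA
  have hAT : A ≤ 𝐍(⁅R, A⁆) := H1.le_normalizer_commutator_self
  have hTT := H1.commutator_commutator_eq hA hco
  have hd : IsCyclic ↥⁅R, R⁆ := by
    rw [← map_subtype_der, isCyclic_map_iff R.subtype_injective]
    exact H5.isCyclic_commutator_of_isMetacyclic (metacyc_iff.mp hm)
  have hW : 𝐨(omegaOne p R) ≤ p ^ 2 := by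
    by_cases hcyc : IsCyclic R
    · by_cases h1 : R = ⊥
      · rw [eq_bot_iff.mpr ((omegaOne_le p R).trans h1.le), card_bot]
        exact Nat.one_le_pow _ _ hp.pos
      · rw [card_omegaOne_of_isCyclic hp hcyc (prime_dvd_card_of_isPGroup hp hR h1)]
        nlinarith [hp.one_lt]
    · exact (metacyc_omega_elem2 hp hp2 hR hm hcyc).card.le
  have hT : IsMulCommutative ↥⁅R, A⁆ :=
    metacyc_core hp hp2 (hR.to_le hTR) (isCyclic_of_le (commutator_mono hTR hTR) hd)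
      ((card_le_of_le (omegaOne_mono hTR)).trans hW) hAT hc hTT
  have hRT : R ≤ 𝐍(⁅R, A⁆) := by rw [commutator_comm]; exact H1.le_normalizer_commutator_self
  have hsd : SdProd ⁅R, A⁆ (R ⊓ 𝐂(A)) R := by
    refine ⟨H1.commutator_sup_centralizer hA hco (Or.inr (H1.isSolvable_of_isPGroup hR)),
      inf_le_left.trans hRT, ?_⟩
    have := H1.centralizer_inf_commutator_eq_bot hT hAT (H1.coprime_of_le hco le_rfl hTR)
    rw [hTT] at this
    rw [eq_bot_iff, ← this]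
    exact le_inf (inf_le_right.trans inf_le_right) inf_le_left
  refine ⟨hT, hsd, fun hna hAR => ?_⟩
  have hT1 : ⁅R, A⁆ ≠ ⊥ := fun h => hAR (H1.commutator_eq_bot_iff_le_centralizer'.mp h)
  have hC1 : R ⊓ 𝐂(A) ≠ ⊥ := fun h => hna (by
    have := hsd.sup
    rw [h, sup_bot_eq] at this
    rwa [this] at hT)
  have hE := metacyc_omega_elem2 hp hp2 hR hm (fun h => hna (isMulComm_of_isCyclic h))
  have key : ∀ {X Y : Subgroup G}, X ≤ R → Y ≤ R → X ⊓ Y = ⊥ → Y ≠ ⊥ → IsCyclic X := by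
    intro X Y hX hY hXY hY1
    by_contra hnc
    obtain ⟨E, hE1, hE2⟩ := exists_normal_isElem_two hp hp2 (hR.to_le hX) hnc
    have h1 : E = omegaOne p R := hE.eq_of_le hE2 (le_omegaOne_of_elemAb (hE1.1.trans hX) hE2.elemAb)
    apply omegaOne_ne_bot hp (prime_dvd_card_of_isPGroup hp (hR.to_le hY) hY1)
    rw [eq_bot_iff, ← hXY]
    exact le_inf ((omegaOne_mono hY).trans (h1.ge.trans hE1.1)) (omegaOne_le _ _)
  have hCc : IsCyclic ↥(R ⊓ 𝐂(A)) := key inf_le_left hTR ((inf_comm _ _).trans hsd.disj) hT1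
  refine ⟨hT1, key hTR inf_le_left hsd.disj hC1, hC1, hCc, ?_⟩
  exact (hsd.cycMod_iff.mpr hCc).der_le hRT hTR

namespace BG04

omit [Finite G] in
theorem relIndex_dvd_of_norm {C Q D : Subgroup G} (hQ : Q ≤ D) (hn : Q ≤ 𝐍(C)) :
    C.relIndex Q ∣ C.relIndex D := by
  have h1 : C.relIndex Q = (D ⊓ C).relIndex Q := by
    rw [← inf_relIndex_left Q (D ⊓ C), ← inf_assoc, inf_eq_left.mpr hQ, inf_relIndex_left]
  rw [h1, ← inf_relIndex_left D,
    ← relIndex_sup_of_norm (H1.le_normalizer_inf (hQ.trans (le_norm_self D)) hn),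
    ← relIndex_mul_relIndex (D ⊓ C) (D ⊓ C ⊔ Q) D le_sup_left (sup_le inf_le_left hQ)]
  exact dvd_mul_right _ _

omit [Finite G] in
theorem le_of_coprime_relIndex {C Q D : Subgroup G} (hQ : Q ≤ D) (hn : Q ≤ 𝐍(C))
    (h : 𝐨(Q).Coprime (C.relIndex D)) : Q ≤ C := by
  rw [← relIndex_eq_one]
  exact Nat.eq_one_of_dvd_coprimes h (relIndex_dvd_card' C Q) (relIndex_dvd_of_norm hQ hn)

theorem exists_pgroup_not_le {q : ℕ} (hq : q.Prime) {C A : Subgroup G} (h : q ∣ C.relIndex A) :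
    ∃ Q : Subgroup G, Q ≤ A ∧ IsPGroup q Q ∧ ¬ Q ≤ C := by
  haveI := Fact.mk hq
  obtain ⟨Q, h1, h2, h3⟩ := H1.exists_sylow_le q A
  exact ⟨Q, h1, h2, fun h4 => h3 (h.trans (relIndex_dvd_of_le_left A h4))⟩

theorem dvd_sq_sub_one {p q : ℕ} (hp : p.Prime) (hq : q.Prime) (hqp : q ≠ p) {V Q : Subgroup G}
    (hV : IsPGroup p V) (hQ : IsPGroup q Q) (hn : Q ≤ 𝐍(V)) (h1 : ¬ V ≤ 𝐂(Q))
    (h2 : 𝐂(Q).relIndex V ≤ p ^ 2) : q ∣ p ^ 2 - 1 := by
  haveI := Fact.mk hq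
  have h3 := H2.card_modEq_card_inf_centralizer hQ hn
  have h4 := H1.card_inf_mul_relIndex 𝐂(Q) V
  rw [inf_comm] at h4
  obtain ⟨j, hj⟩ := exists_card_eq_pow hp (hV.to_le (inf_le_left : V ⊓ 𝐂(Q) ≤ V))
  obtain ⟨n, hn⟩ := exists_card_eq_pow hp hV
  obtain ⟨k, -, hk⟩ := (Nat.dvd_prime_pow hp).mp (hn ▸ relIndex_dvd_card' 𝐂(Q) V)
  rw [← h4, hj] at h3
  have h5 : 𝐂(Q).relIndex V ≡ 1 [MOD q] := by
    apply Nat.ModEq.cancel_left_of_coprime (c := p ^ j)
    · exact ((Nat.coprime_primes hq hp).mpr hqp).pow_right j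
    · rwa [mul_one]
  rw [← relIndex_eq_one, hk] at h1
  rw [hk] at h2 h5
  have hk2 : k ≤ 2 := (Nat.pow_le_pow_iff_right hp.one_lt).mp h2
  have : p ^ 2 ≡ 1 [MOD q] := by
    interval_cases k
    · exact absurd (pow_zero p) h1
    · simpa using h5.pow 2
    · exact h5
  exact (Nat.modEq_iff_dvd' (Nat.one_le_pow _ _ hp.pos)).mp this.symm

end BG04

/-- BG 4.13 and 4.14. -/
theorem pi_aut_rank2 {p q : ℕ} (hp : p.Prime) (hp2 : p ≠ 2) (hq : q.Prime) (hqp : q ≠ p)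
    {R A : Subgroup G} (hR : IsPGroup p R) (h : pRank p R ≤ 2) (hA : A ≤ 𝐍(R))
    (hd : q ∣ 𝐂(R).relIndex A) :
    q ∣ p ^ 2 - 1 ∧ q < p ∧ (q ∣ (p + 1) / 2 ∨ q ∣ (p - 1) / 2) := by
  have main : q ∣ p ^ 2 - 1 := by
    obtain ⟨Q, hQA, hQ, hQC⟩ := exists_pgroup_not_le hq hd
    have hR1 : R ≠ ⊥ := fun h => hQC (by rw [h, cent_bot]; exact le_top)
    obtain ⟨H, hHR, hn, hH1, -, he, hcrit⟩ := critical_odd hp hp2 hR hR1
    have hQp : 𝐨(Q).Coprime p := by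
      obtain ⟨n, hn⟩ := exists_card_eq_pow hq hQ
      rw [hn]; exact ((Nat.coprime_primes hq hp).mpr hqp).pow_left n
    have hHp := hR.to_le hHR
    have hQH : Q ≤ 𝐍(H) := hQA.trans (hA.trans hn)
    have hr := (pRank_mono hp hHR).trans h
    by_cases h0 : H ⊓ 𝐂(Q) = ⊥
    · have hZ1 := center_ne_bot (isNilpotent_of_isPGroup hp hHp) hH1
      refine dvd_sq_sub_one hp hq hqp (hHp.to_le inf_le_left) hQ (hQH.trans (norm_le_norm_center H))
        (fun h1 => hZ1 (eq_bot_iff.mpr (h0 ▸ le_inf inf_le_left h1))) ?_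
      refine (Nat.le_of_dvd Nat.card_pos (relIndex_dvd_card' _ _)).trans ?_
      exact (pRank_le_iff hp).mp hr _ inf_le_left ⟨isMulComm_center H, fun a ha => he a ha.1⟩
    · refine dvd_sq_sub_one hp hq hqp hHp hQ hQH
        (fun h1 => hQC (hcrit Q (hQA.trans hA) hQp (cent_comm.mp h1))) ?_
      have h1 := rank2_exponent_p_card_le hp hHp hr he
      have h2 := H1.card_inf_mul_relIndex 𝐂(Q) H
      have h3 : p ≤ 𝐨(𝐂(Q) ⊓ H) := Nat.le_of_dvd Nat.card_pos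
        (prime_dvd_card_of_isPGroup hp (hHp.to_le inf_le_right) (by rwa [inf_comm]))
      rw [← h2, pow_succ'] at h1
      exact Nat.le_of_mul_le_mul_left ((Nat.mul_le_mul_right _ h3).trans h1) hp.pos
  obtain ⟨k, rfl⟩ := hp.odd_of_ne_two hp2
  have hk : 1 ≤ k := by have := hp.two_le; omega
  have e1 : (2 * k + 1 + 1) / 2 = k + 1 := by omega
  have e2 : (2 * k + 1 - 1) / 2 = k := by omega
  have e3 : (2 * k + 1) ^ 2 - 1 = 2 * 2 * ((k + 1) * k) := by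
    rw [Nat.sub_eq_iff_eq_add (Nat.one_le_pow _ _ hp.pos)]; ring
  have h4 : q ∣ k + 1 ∨ q ∣ k := by
    rw [e3] at main
    rcases (Nat.Prime.dvd_mul hq).mp main with h1 | h1
    · have : q = 2 := (Nat.prime_dvd_prime_iff_eq hq Nat.prime_two).mp
        (((Nat.Prime.dvd_mul hq).mp h1).elim id id)
      subst this
      omega
    · exact (Nat.Prime.dvd_mul hq).mp h1
  rw [e1, e2]
  refine ⟨main, ?_, h4⟩
  rcases h4 with h4 | h4
  · have := Nat.le_of_dvd (by omega) h4; omega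
  · have := Nat.le_of_dvd (by omega) h4; omega

/-- BG 4.17. -/
theorem der_aut_rank2 {p : ℕ} (hp : p.Prime) (hp2 : p ≠ 2) {R A : Subgroup G}
    (hR : IsPGroup p R) (h : pRank p R ≤ 2) (hA : A ≤ 𝐍(R)) (hs : Group.IsSolvable A)
    (ho : Odd 𝐨(A)) : ∃ n : ℕ, 𝐂(R).relIndex ⁅A, A⁆ = p ^ n := by
  haveI := Fact.mk hp
  refine ⟨_, Nat.eq_prime_pow_of_unique_prime_dvd index_ne_zero_of_finite fun {q} hq hd => ?_⟩
  by_contra hqp
  obtain ⟨Q, hQA, hQ, hQC⟩ := exists_pgroup_not_le hq hd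
  have hR1 : R ≠ ⊥ := fun h => hQC (by rw [h, cent_bot]; exact le_top)
  obtain ⟨H, hHR, hn, hH1, -, he, hcrit⟩ := critical_odd hp hp2 hR hR1
  have hQp : 𝐨(Q).Coprime p := by
    obtain ⟨n, hn⟩ := exists_card_eq_pow hq hQ
    rw [hn]; exact ((Nat.coprime_primes hq hp).mpr hqp).pow_left n
  have hHp := hR.to_le hHR
  have hAH : A ≤ 𝐍(H) := hA.trans hn
  have hr := (pRank_mono hp hHR).trans h
  have hQA' : Q ≤ A := hQA.trans (der_le A)
  apply hQC
  apply hcrit Q (hQA'.trans hA) hQp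
  apply H1.le_centralizer_of_commutator_le_commutator (isNilpotent_of_isPGroup hp hHp)
    (hQA'.trans hAH) (H1.coprime_card_of_isPGroup hHp hQp)
  have hY : H ⊔ A ≤ 𝐍(⁅H, H⁆) := (sup_le (le_norm_self H) hAH).trans (norm_le_norm_der H)
  haveI := H1.normal_subgroupOf_of_le hY
  have hE : IsElementaryAbelian p (H1.bar (H ⊔ A) ⁅H, H⁆ H) := by
    refine ⟨(H1.isMulCommutative_bar_iff le_sup_left).mpr le_rfl, fun a ha => ?_⟩
    obtain ⟨y, hy, rfl⟩ := H1.mem_bar.mp ha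
    rw [← map_pow, H1.qmk_eq_one_iff]
    simp [he y hy]
  have hE2 : 𝐨(H1.bar (H ⊔ A) ⁅H, H⁆ H) ≤ p ^ 2 := by
    rw [H1.card_bar le_sup_left]
    by_cases h0 : ⁅H, H⁆ = ⊥
    · refine (Nat.le_of_dvd Nat.card_pos (relIndex_dvd_card' _ _)).trans ?_
      exact (pRank_le_iff hp).mp hr _ le_rfl ⟨isMulComm_iff_comm_eq_bot.mpr h0, he⟩
    · have h1 := rank2_exponent_p_card_le hp hHp hr he
      have h2 := H1.card_mul_relIndex (der_le H)
      have h3 : p ≤ 𝐨(⁅H, H⁆) := Nat.le_of_dvd Nat.card_pos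
        (prime_dvd_card_of_isPGroup hp (hHp.to_le (der_le H)) h0)
      rw [← h2, pow_succ'] at h1
      exact Nat.le_of_mul_le_mul_left ((Nat.mul_le_mul_right _ h3).trans h1) hp.pos
  have hn' := H1.bar_le_normalizer (Y := H ⊔ A) (N := ⁅H, H⁆) hAH
  obtain ⟨n, hn⟩ := gl2_der_pgroup hp hE hE2 hn' (H1.isSolvable_bar hs)
    (ho.of_dvd_nat ((relIndex_dvd_card' _ _).trans (H1.card_bar_dvd A)))
  rw [← H1.bar_commutator le_sup_right le_sup_right] at hn
  rw [commutator_comm, ← H1.bar_le_centralizer_iff (hQA'.trans le_sup_right) le_sup_left]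
  apply le_of_coprime_relIndex (H1.bar_mono hQA)
    (H1.le_normalizer_centralizer ((H1.bar_mono hQA').trans hn'))
  rw [hn]
  exact (hQp.coprime_dvd_left (H1.card_bar_dvd Q)).pow_right n

namespace BG04

theorem der_le_of_relIndex_le_sq {p : ℕ} (hp : p.Prime) {K N : Subgroup G} (hK : IsPGroup p K)
    (hN : K ≤ 𝐍(N)) (h : N.relIndex K ≤ p ^ 2) : ⁅K, K⁆ ≤ N := by
  haveI := H1.normal_subgroupOf_of_le hN
  rw [← H1.isMulCommutative_bar_iff (Y := K) le_rfl]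
  exact isMulComm_of_card_le_sq hp (H1.isPGroup_bar hK) (by rwa [H1.card_bar le_rfl])

/-- Nonabelian groups of order `p³`. -/
theorem center_of_card_cube {p : ℕ} (hp : p.Prime) {S : Subgroup G} (hS : 𝐨(S) = p ^ 3)
    (hna : ¬ IsMulCommutative S) : 𝐨(⁅S, S⁆) = p ∧ S ⊓ 𝐂(S) = ⁅S, S⁆ := by
  have hSp := isPGroup_of_card_eq hS
  have hS1 : S ≠ ⊥ := fun h => hna (by rw [h]; infer_instance)
  have hZ1 := center_ne_bot (isNilpotent_of_isPGroup hp hSp) hS1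
  obtain ⟨k, hk3, hk⟩ := (Nat.dvd_prime_pow hp).mp (hS ▸ card_dvd_of_le (inf_le_left : 𝐙(S) ≤ S))
  have hZ : 𝐨(S ⊓ 𝐂(S)) = p := by
    interval_cases k
    · exact absurd (card_eq_one.mp (by simpa using hk)) hZ1
    · simpa using hk
    · exact absurd (isMulComm_of_card_eq_mul hp inf_le_left inf_le_right (by rw [hS, hk]; ring)) hna
    · have := H1.eq_of_le_of_card_le (inf_le_left : 𝐙(S) ≤ S) (by rw [hS, hk])
      exact absurd (isMulComm_iff_le_cent.mpr (this.ge.trans inf_le_right)) hna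
  have h1 : ⁅S, S⁆ ≤ S ⊓ 𝐂(S) := by
    apply der_le_of_relIndex_le_sq hp hSp (center_normal S).2
    have := H1.card_mul_relIndex (inf_le_left : 𝐙(S) ≤ S)
    rw [hZ, hS, pow_succ'] at this
    exact (Nat.eq_of_mul_eq_mul_left hp.pos this).le
  have h2 := (eq_bot_or_eq_of_card_prime (hZ.symm ▸ hp) h1).resolve_left
    fun h => hna (isMulComm_iff_comm_eq_bot.mpr h)
  exact ⟨h2.symm ▸ hZ, h2.symm⟩

omit [Finite G] in
theorem comm_mul_left_of_commute {u t c : G} (h : Commute t c) : ⁅u * t, c⁆ = ⁅u, c⁆ := by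
  rw [commutatorElement_def, commutatorElement_def, mul_assoc u, h.eq]; group

omit [Finite G] in
theorem comm_mul_right_of_commute {u c d : G} (h : Commute d u) : ⁅u, c * d⁆ = ⁅u, c⁆ := by
  rw [← commutatorElement_inv, comm_mul_left_of_commute h, commutatorElement_inv]

omit [Finite G] in
theorem comm_pow_right_of_commute {u x : G} (h : Commute x ⁅u, x⁆) (n : ℕ) :
    ⁅u, x ^ n⁆ = ⁅u, x⁆ ^ n := by
  rw [← commutatorElement_inv, H1.commutatorElement_pow_left_of_central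
    (by rw [← commutatorElement_inv]; exact h.inv_right), ← inv_pow, commutatorElement_inv]

omit [Finite G] in
theorem exists_mul_pow {T : Subgroup G} {u t : G} (hu : u ∈ 𝐍(T)) (ht : t ∈ T) (n : ℕ) :
    ∃ t' ∈ T, (u * t) ^ n = u ^ n * t' := by
  induction n with
  | zero => exact ⟨1, one_mem _, by simp⟩
  | succ n ih =>
    obtain ⟨t', h1, h2⟩ := ih
    refine ⟨u⁻¹ * t' * u * t, mul_mem (H1.conj_mem_of_le_normalizer' le_rfl hu h1) ht, ?_⟩
    rw [pow_succ, h2, pow_succ]; group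

omit [Finite G] in
theorem comm_zpowers_le {x y : G} {D : Subgroup G} (hx : x ∈ 𝐍(D)) (hy : y ∈ 𝐍(D))
    (h : ⁅x, y⁆ ∈ D) : ⁅zpowers x, zpowers y⁆ ≤ D := by
  refine le_trans (commutator_mono ?_ ?_) (H7.commutator_closure_pair_le hx hy h)
  · exact zpowers_le.mpr (subset_closure (by simp))
  · exact zpowers_le.mpr (subset_closure (by simp))

theorem exists_pow_mul {y g : G} {T : Subgroup G} (hy : y ∈ 𝐍(T)) (hg : g ∈ zpowers y ⊔ T) :
    ∃ j : ℕ, ∃ t ∈ T, g = y ^ j * t := by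
  obtain ⟨u, hu, t, ht, rfl⟩ := (H1.mem_sup_iff_of_le_normalizer (zpowers_le.mpr hy)).mp hg
  obtain ⟨j, rfl⟩ := mem_powers_iff_mem_zpowers.mpr hu
  exact ⟨j, t, ht, rfl⟩

/-- The computation at the end of the proof of 4.16. -/
theorem blackburn_final {p : ℕ} (hp : p.Prime) {S T D : Subgroup G} {x y a : G}
    (hS : zpowers y ⊔ T = S) (hST : S ≤ 𝐍(T)) (hTc : T ≤ 𝐂(T)) (hD : ⁅S, S⁆ ≤ D)
    (hDc : D ≤ 𝐂(S)) (hDT : D ≤ T) (hDx : D ≤ zpowers x) (he : ∀ s ∈ S, s ^ p = 1)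
    (hx : x ∈ 𝐂(T)) (hSx : ∀ s ∈ S, ⁅s, x⁆ ∈ T) (hw : ⁅y, ⁅y, x⁆⁆ ≠ 1)
    (haS : a ∈ 𝐍(S)) (haT : a ∈ 𝐍(T)) (hax : a ∈ 𝐍(zpowers x)) (ha : Odd (orderOf a)) :
    a ∈ centMod S T := by
  have hTS : T ≤ S := hS ▸ le_sup_right
  have hy : y ∈ S := hS ▸ mem_sup_left (mem_zpowers y)
  obtain ⟨j, t, ht, hj⟩ := exists_pow_mul (hST hy) (hS ▸ (mem_normalizer_iff.mp haS y).mp hy)
  obtain ⟨i, hi⟩ := mem_powers_iff_mem_zpowers.mpr
    ((mem_normalizer_iff.mp hax x).mp (mem_zpowers x))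
  have hi' : a * x * a⁻¹ = x ^ i := hi.symm
  set z := ⁅y, x⁆ with hz
  have hzT : z ∈ T := hSx y hy
  set w := ⁅y, z⁆ with hwdef
  have hwD : w ∈ D := hD (commutator_mem_commutator hy (hTS hzT))
  have hconj : ∀ u v : G, a * ⁅u, v⁆ * a⁻¹ = ⁅a * u * a⁻¹, a * v * a⁻¹⁆ := by
    intro u v; simp only [commutatorElement_def]; group
  have h1 : ∀ n : ℕ, ∃ d ∈ D, ⁅y ^ n, x⁆ = z ^ n * d := by
    intro n
    induction n with
    | zero => exact ⟨1, one_mem _, by simp⟩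
    | succ n ih =>
      obtain ⟨d, hd, h⟩ := ih
      have h2 : ⁅y ^ (n + 1), x⁆ = ⁅y, ⁅y ^ n, x⁆⁆ * ⁅y ^ n, x⁆ * z := by
        rw [hz, pow_succ']; simp only [commutatorElement_def]; group
      have h3 : ⁅y, ⁅y ^ n, x⁆⁆ ∈ D :=
        hD (commutator_mem_commutator hy (hTS (hSx _ (pow_mem hy n))))
      refine ⟨⁅y, ⁅y ^ n, x⁆⁆ * d, mul_mem h3 hd, ?_⟩
      have c1 : Commute z ⁅y, ⁅y ^ n, x⁆⁆ := hDc h3 z (hTS hzT)
      have c2 : Commute z d := hDc hd z (hTS hzT)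
      rw [h2]
      generalize ⁅y, ⁅y ^ n, x⁆⁆ = e at c1
      rw [h, ← mul_assoc, ← (c1.pow_left n).eq, mul_assoc, mul_assoc, ← c2.eq, ← mul_assoc e,
        ← c1.eq, pow_succ]
      simp only [mul_assoc]
  obtain ⟨d, hd, hjd⟩ := h1 j
  have h2 : a * z * a⁻¹ = z ^ (j * i) * d ^ i := by
    have c1 : Commute t (x ^ i) := (show Commute t x from hx t ht).pow_right i
    have c2 : Commute x ⁅y ^ j, x⁆ := (show Commute _ x from hx _ (hSx _ (pow_mem hy j))).symm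
    have c3 : Commute (z ^ j) d := hDc hd _ (hTS (pow_mem hzT j))
    rw [hz, hconj, hj, hi', comm_mul_left_of_commute c1, comm_pow_right_of_commute c2, hjd,
      c3.mul_pow, ← pow_mul]
  have h3 : a * w * a⁻¹ = w ^ (j * (j * i)) := by
    have c1 : Commute t (z ^ (j * i) * d ^ i) :=
      hTc (mul_mem (pow_mem hzT _) (pow_mem (hDT hd) _)) t ht
    have c2 : Commute (d ^ i) (y ^ j) := (show Commute _ _ from hDc (pow_mem hd i) _ (pow_mem hy j)).symm
    have c3 : Commute y ⁅y, z ^ (j * i)⁆ :=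
      hDc (hD (commutator_mem_commutator hy (hTS (pow_mem hzT _)))) y hy
    have c4 : Commute z ⁅y, z⁆ := hDc hwD z (hTS hzT)
    rw [hwdef, hconj, hj, h2, comm_mul_left_of_commute c1, comm_mul_right_of_commute c2,
      H1.commutatorElement_pow_left_of_central c3, comm_pow_right_of_commute c4, ← pow_mul,
      mul_comm]
  have h4 : a * w * a⁻¹ = w ^ i := by
    obtain ⟨m, hm⟩ := mem_powers_iff_mem_zpowers.mpr (hDx hwD)
    have hm' : x ^ m = w := hm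
    rw [← hm', ← conj_pow, hi', ← pow_mul, ← pow_mul, mul_comm]
  haveI := Fact.mk hp
  have hwo : orderOf w = p := orderOf_eq_prime (he w (hTS (hDT hwD))) hw
  have hpi : ¬ p ∣ i := by
    intro h
    rw [← hwo, orderOf_dvd_iff_pow_eq_one, ← h4] at h
    exact hw (by simpa using h)
  have h5 : j * j ≡ 1 [MOD p] := by
    rw [h4, pow_eq_pow_iff_modEq, hwo] at h3
    apply Nat.ModEq.cancel_right_of_coprime (c := i)
    · exact (Nat.Prime.coprime_iff_not_dvd hp).mpr hpi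
    · rw [one_mul, mul_assoc]; exact h3.symm
  have h6 : y ^ (j * j) = y := by
    conv_rhs => rw [← pow_one y]
    rw [pow_eq_pow_iff_modEq]
    exact h5.of_dvd (orderOf_dvd_of_pow_eq_one (he y hy))
  have h7 : ⁅a ^ 2, y⁆ ∈ T := by
    obtain ⟨t', ht', h⟩ := exists_mul_pow (pow_mem (hST hy) j) ht j
    have : ⁅a ^ 2, y⁆ = y * (t' * (a * t * a⁻¹)) * y⁻¹ := by
      calc ⁅a ^ 2, y⁆ = a * (a * y * a⁻¹) * a⁻¹ * y⁻¹ := by
            rw [commutatorElement_def, pow_two]; group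
        _ = (a * y * a⁻¹) ^ j * (a * t * a⁻¹) * y⁻¹ := by
            conv_lhs => rw [hj]
            rw [conj_pow]; group
        _ = _ := by rw [hj, h, ← pow_mul, h6]; group
    rw [this]
    exact (mem_normalizer_iff.mp (hST hy) _).mp
      (mul_mem ht' ((mem_normalizer_iff.mp haT t).mp ht))
  have h8 : zpowers (a ^ 2) ≤ centMod S T := by
    have hn : zpowers (a ^ 2) ≤ 𝐍(T) := zpowers_le.mpr (pow_mem haT 2)
    rw [le_centMod_iff, commutator_comm, ← hS]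
    exact ⟨hn, comm_sup_le (zpowers_le.mpr (hST hy)) (le_norm_self T)
      (comm_zpowers_le (pow_mem haT 2) (hST hy) h7) (comm_le_right_iff.mpr hn)⟩
  exact h8 (mem_zpowers_pow_iff.mpr (Nat.coprime_two_left.mpr ha))

end BG04

/-- BG 4.16 (Blackburn). -/
theorem rank2_coprime_comm_cprod {p : ℕ} (hp : p.Prime) (hp2 : p ≠ 2) {R A : Subgroup G}
    (hR : IsPGroup p R) (hR1 : R ≠ ⊥) (h : pRank p R ≤ 2) (hA : A ≤ 𝐍(R))
    (hc : 𝐨(A).Coprime p) (ho : Odd 𝐨(A)) (hRA : ⁅R, A⁆ = R) :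
    3 < p ∧ (IsMulCommutative R ∨ ∃ S C : Subgroup G, CProd S C R ∧ ¬ IsMulCommutative S ∧
      𝐨(S) = p ^ 3 ∧ (∀ x ∈ S, x ^ p = 1) ∧ IsCyclic C ∧ omegaOne p C = ⁅S, S⁆) := by
  haveI := Fact.mk hp
  have hp3 : 3 < p := by
    have h1 : 𝐂(R).relIndex A ≠ 1 := fun h1 => hR1 (by
      rw [← hRA, H1.commutator_eq_bot_iff_le_centralizer']; exact relIndex_eq_one.mp h1)
    obtain ⟨q, hq, hd⟩ := Nat.exists_prime_and_dvd h1
    have hqA := hd.trans (relIndex_dvd_card' _ _)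
    have hqp : q ≠ p := fun h => (Nat.Prime.coprime_iff_not_dvd hp).mp hc.symm (h ▸ hqA)
    have h2 := (pi_aut_rank2 hp hp2 hq hqp hR h hA hd).2.1
    have h3 : q ≠ 2 := fun h => (Nat.not_even_iff_odd.mpr ho) (even_iff_two_dvd.mpr (h ▸ hqA))
    have := hq.two_le
    omega
  refine ⟨hp3, ?_⟩
  set S := omegaOne p R with hSdef
  by_cases hS2 : 𝐨(S) ≤ p ^ 2
  · left
    have := (coprime_metacyc hp hp2 hR (metacyc_of_omega_le hp hp3 hR hS2) hA hc).1
    rwa [hRA] at this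
  right
  have hSR : S ≤ R := omegaOne_le _ _
  have hNS : 𝐍(R) ≤ 𝐍(S) := norm_le_norm_omegaOne _ p
  have hRS : R ≤ 𝐍(S) := (le_norm_self R).trans hNS
  have hSp := hR.to_le hSR
  have he := rank2_omega_exponent hp hp3 hR h
  have hS3 : 𝐨(S) = p ^ 3 := by
    have h1 := rank2_exponent_p_card_le hp hSp ((pRank_mono hp hSR).trans h) he
    obtain ⟨n, hn⟩ := exists_card_eq_pow hp hSp
    rw [hn] at h1 hS2 ⊢
    rw [Nat.pow_le_pow_iff_right hp.one_lt] at h1 hS2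
    congr 1; omega
  have hna : ¬ IsMulCommutative S := fun hc => by
    have := le_pRank hp hSR (⟨⟨hc, he⟩, hS3⟩ : IsElem p 3 S)
    omega
  obtain ⟨hD, hZ⟩ := center_of_card_cube hp hS3 hna
  set D := ⁅S, S⁆ with hDdef
  have hDS : D ≤ S := der_le S
  have hDc : D ≤ 𝐂(S) := hZ.ge.trans inf_le_right
  have hND : 𝐍(R) ≤ 𝐍(D) := hNS.trans (norm_le_norm_der S)
  have hDcyc : IsCyclic D := isCyclic_of_card_prime (hD.symm ▸ hp)
  set C := R ⊓ 𝐂(S) with hCdef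
  have hDC : D ≤ C := le_inf (hDS.trans hSR) hDc
  have hC1 : omegaOne p C = D := by
    apply le_antisymm
    · rw [← hZ]
      exact le_inf (omegaOne_mono inf_le_left) ((omegaOne_le _ _).trans inf_le_right)
    · exact le_omegaOne_of_exp hDC fun a ha => he a (hDS ha)
  have hCc : IsCyclic C := isCyclic_of_omega_le hp hp2 (hR.to_le inf_le_left) hDcyc hC1.le
  set T := ⁅S, R⁆ with hTdef
  by_cases hTD : T ≤ D
  · refine ⟨S, C, cprod_of_card_comm_le hp hR hSR (hD ▸ card_le_of_le hTD) ?_ hRS, hna, hS3, he,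
      hCc, hC1⟩
    rw [hZ]
    exact le_cent_of_card_le_prime hp hR ⟨hDS.trans hSR, (le_norm_self R).trans hND⟩ hD.le
  exfalso
  have hDT : D ≤ T := commutator_mono le_rfl hSR
  have hTS : T < S := comm_lt_of_isNilpotent (isNilpotent_of_isPGroup hp hR) ⟨hSR, hRS⟩
    (fun h => hna (by rw [h]; infer_instance))
  have hNT : 𝐍(R) ≤ 𝐍(T) := H1.le_normalizer_commutator hNS le_rfl
  have hRT : R ≤ 𝐍(T) := (le_norm_self R).trans hNT
  have hbetween : ∀ U : Subgroup G, T ≤ U → U < S → 𝐨(U) = p ^ 2 := by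
    intro U h1 h2
    have h3 := mul_card_le_of_lt hp hSp h2
    have h4 := mul_card_le_of_lt hp (hSp.to_le h2.le)
      (lt_of_lt_of_le (lt_of_le_of_ne hDT fun h => hTD h.ge) h1)
    rw [hS3, pow_succ'] at h3
    rw [hD, ← pow_two] at h4
    exact le_antisymm (Nat.le_of_mul_le_mul_left h3 hp.pos) h4
  have hT2 : IsElem p 2 T :=
    isElem_two_of_card hp (hbetween T le_rfl hTS) fun x hx => he x (hTS.le hx)
  have hmaxT : ∀ U : Subgroup G, T ≤ U → U < S → U = T := fun U h1 h2 =>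
    (H1.eq_of_le_of_card_le h1 (by rw [hbetween U h1 h2, hT2.card])).symm
  set B := R ⊓ 𝐂(T) with hBdef
  have hNB : 𝐍(R) ≤ 𝐍(B) := H1.le_normalizer_inf le_rfl (H1.le_normalizer_centralizer hNT)
  have hTB : T ≤ B := le_inf (hTS.le.trans hSR) hT2.le_cent
  have hSB : ¬ S ≤ B := fun h => hTD (by
    rw [← hZ]; exact le_inf hTS.le (cent_comm.mp (h.trans inf_le_right)))
  have hBS : B ⊔ S = R := by
    have h1 := relIndex_cent_le hp hR hT2.elemAb hT2.card.le hRT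
    have hle : B ⊔ S ≤ R := sup_le inf_le_left hSR
    have h2 := mul_card_le_of_lt hp (hR.to_le hle)
      (lt_of_le_of_ne (le_sup_left : B ≤ B ⊔ S) fun h => hSB (h ▸ le_sup_right))
    apply H1.eq_of_le_of_card_le hle
    rw [← H1.card_mul_relIndex (inf_le_left : B ≤ R), hBdef, inf_relIndex_left, mul_comm]
    exact (Nat.mul_le_mul_right _ h1).trans h2
  have hBiS : B ⊓ S = T := hmaxT _ (le_inf hTB hTS.le)
    (lt_of_le_of_ne inf_le_right fun h => hSB (h.ge.trans inf_le_left))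
  have hNC : 𝐍(R) ≤ 𝐍(C) := H1.le_normalizer_inf le_rfl (H1.le_normalizer_centralizer hNS)
  have hYR : R ⊔ A ≤ 𝐍(R) := sup_le (le_norm_self R) hA
  haveI := H1.normal_subgroupOf_of_le (hYR.trans hNC)
  have hBY : B ≤ R ⊔ A := inf_le_left.trans le_sup_left
  have hCB : C ≤ B := inf_le_inf_left _ (cent_anti hTS.le)
  have hSBT : ⁅S, B⁆ ≤ T := commutator_mono le_rfl inf_le_left
  have hE : IsElementaryAbelian p (H1.bar (R ⊔ A) C B) := by
    refine ⟨(H1.isMulCommutative_bar_iff hBY).mpr ?_, fun a ha => ?_⟩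
    · refine le_inf ((der_le B).trans inf_le_left) ?_
      have h2 : ⁅⁅S, B⁆, B⁆ = ⊥ :=
        comm_eq_bot_iff.mpr (hSBT.trans (cent_comm.mp inf_le_right))
      rw [← comm_eq_bot_iff]
      exact commutator_commutator_eq_bot_of_rotate (by rwa [commutator_comm B S]) h2
    · obtain ⟨y, hy, rfl⟩ := H1.mem_bar.mp ha
      rw [← map_pow, H1.qmk_eq_one_iff, coe_pow]
      refine ⟨pow_mem hy.1 p, fun s hs => ?_⟩
      have h1 : ⁅s, (y : G)⁆ ∈ T := hSBT (commutator_mem_commutator hs hy)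
      rw [← commutatorElement_eq_one_iff_mul_comm,
        comm_pow_right_of_commute (show Commute _ _ from hy.2 _ h1).symm]
      exact he _ (hTS.le h1)
  obtain ⟨W', h1, h2, h3, h4⟩ := H1.exists_invariant_complement_of_isElementaryAbelian hp hE
    (H1.bar_le_normalizer (hA.trans hNB)) (H1.bar_mono hTB)
    (H1.bar_le_normalizer (hA.trans hNT))
    (H1.coprime_card_of_isPGroup (H1.isPGroup_bar hT2.pgrp)
      (hc.coprime_dvd_left (H1.card_bar_dvd A)))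
  set X := H1.unbar (R ⊔ A) C W' with hX
  have hCX : C ≤ X := H1.le_unbar (hCB.trans hBY) _
  have hTX : T ⊔ X = B := by
    rw [← H1.unbar_bar_of_le hCB hBY, ← h4, H1.unbar_sup,
      H1.unbar_bar (hCB.trans hBY) (hTB.trans hBY), sup_assoc, sup_eq_right.mpr hCX]
  have hXB : X ≤ B := hTX ▸ le_sup_right
  have hXc : IsCyclic X := by
    apply isCyclic_of_omega_le hp hp2 (hR.to_le (hXB.trans inf_le_left)) hCc
    have h5 : omegaOne p X ≤ T :=
      hBiS ▸ le_inf ((omegaOne_le _ _).trans hXB) (omegaOne_mono (hXB.trans inf_le_left))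
    rw [← H1.bar_eq_bot_iff (Y := R ⊔ A) (h5.trans (hTB.trans hBY)), eq_bot_iff, ← h3]
    refine le_inf (H1.bar_mono h5) ?_
    rw [← H1.bar_unbar W']
    exact H1.bar_mono (omegaOne_le _ _)
  obtain ⟨x, hx⟩ := isCyclic_iff_zpowers.mp hXc
  have hxB : x ∈ B := hXB (hx ▸ mem_zpowers x)
  obtain ⟨y, hy, hyT⟩ := SetLike.exists_of_lt hTS
  have hyS : zpowers y ⊔ T = S := by
    by_contra hne
    exact hyT (hmaxT _ le_sup_right (lt_of_le_of_ne (sup_le (zpowers_le.mpr hy) hTS.le) hne) ▸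
      mem_sup_left (mem_zpowers y))
  have hzT : ⁅y, x⁆ ∈ T := hSBT (commutator_mem_commutator hy hxB)
  have hRD : R ≤ 𝐍(D) := (le_norm_self R).trans hND
  have hzD : ⁅y, x⁆ ∉ D := by
    intro hz
    apply hTD
    have h5 : ⁅X, S⁆ ≤ D := by
      rw [← hyS, ← hx]
      refine comm_sup_le (zpowers_le.mpr (hRD (hSR hy))) (hTS.le.trans (hSR.trans hRD))
        (comm_zpowers_le (hRD hxB.1) (hRD (hSR hy)) ?_) ?_
      · rw [← commutatorElement_inv]; exact inv_mem hz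
      · rw [comm_eq_bot_iff.mpr (zpowers_le.mpr hxB.2)]; exact bot_le
    have h6 : R ≤ X ⊔ S := by
      rw [← hBS, ← hTX]
      exact sup_le (sup_le (hTS.le.trans le_sup_right) le_sup_left) le_sup_right
    refine (commutator_mono le_rfl h6).trans (comm_sup_le (hXB.trans (inf_le_left.trans hRD))
      (hSR.trans hRD) ?_ le_rfl)
    rwa [commutator_comm]
  have hw : ⁅y, ⁅y, x⁆⁆ ≠ 1 := by
    intro h5
    apply hzD
    rw [← hZ]
    refine ⟨hTS.le hzT, ?_⟩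
    rw [← hyS, cent_sup, cent_zpowers]
    exact ⟨mem_cent1.mpr (commutatorElement_eq_one_iff_mul_comm.mp h5), hT2.le_cent hzT⟩
  have hfin : A ≤ centMod S T := fun a ha =>
    blackburn_final hp hyS (hSR.trans hRT) hT2.le_cent le_rfl hDc hDT (hx ▸ hDC.trans hCX) he
      hxB.2 (fun s hs => hSBT (commutator_mem_commutator hs hxB)) hw (hNS (hA ha)) (hNT (hA ha))
      (hx ▸ H1.le_normalizer_unbar le_sup_right h2 ha)
      (ho.of_dvd_nat (orderOf_dvd_card_of_mem ha))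
  apply hSB
  refine hSR.trans ?_
  have h7 : ⁅A, B ⊔ S⁆ ≤ B := comm_sup_le (le_norm_self B) (hSR.trans ((le_norm_self R).trans hNB))
    (comm_le_right_iff.mpr (hA.trans hNB))
    (by rw [commutator_comm]; exact (le_centMod_iff.mp hfin).2.trans hTB)
  rwa [hBS, commutator_comm, hRA] at h7

end Cfsg.Agent.FT
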