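/-
BG section 4, part 4: 4.18 - 4.20.
-/
import Cfsg.Agent.FT.P.BG04_3

set_option autoImplicit false

namespace Cfsg.Agent.FT

open Subgroup Cfsg Cfsg.Agent
open scoped commutatorElement

universe u

variable {G : Type u} [Group G] [Finite G]

namespace BG04

theorem sup_eq_of_relIndex_dvd {p n : ℕ} (hp : p.Prime) {A P D : Subgroup G} (hA : A ≤ D)
    (h : A.relIndex D ∣ p ^ n) (hP : IsSyl p P D) : A ⊔ P = D := by
  refine le_antisymm (sup_le hA hP.le) (relIndex_eq_one.mp ?_)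
  refine Nat.eq_one_of_dvd_coprimes
    (((Nat.Prime.coprime_iff_not_dvd hp).mpr hP.ndvd).pow_left n)
    ((relIndex_dvd_of_le_left D le_sup_left).trans h) (relIndex_dvd_of_le_left D le_sup_right)

theorem relIndex_ppcore {p : ℕ} (hp : p.Prime) (H : Subgroup G) :
    ∃ n : ℕ, (H2.pPrimeCoreOf p H).relIndex (pPrimePCoreOf p H) = p ^ n := by
  obtain ⟨T, hT⟩ := exists_isSyl hp (pPrimePCoreOf p H)
  have h1 := ((hasNPC_pPrimePCoreOf hp H).sdProd hp hT).relIndex_left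
  rw [pPrimeCoreOf_pPrimePCoreOf hp] at h1
  rw [h1]
  exact exists_card_eq_pow hp hT.pgrp

theorem le_ppcore {p n : ℕ} (hp : p.Prime) {H X : Subgroup G} (hX : X ≤ H)
    (hn : H ≤ 𝐍(pPrimePCoreOf p H ⊔ X)) (h : (pPrimePCoreOf p H).relIndex X ∣ p ^ n) :
    X ≤ pPrimePCoreOf p H := by
  have hL := pPrimePCoreOf_normal p H
  have hK := pPrimeCoreOf_normal p H
  have hKL := pPrimeCoreOf_le_pPrimePCoreOf p H
  have hle : pPrimePCoreOf p H ⊔ X ≤ H := sup_le hL.1 hX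
  refine le_sup_right.trans (le_pPrimePCoreOf hp ⟨hle, hn⟩ ?_)
  refine hasNPC_of_normal hp (K := H2.pPrimeCoreOf p H) ⟨hKL.trans le_sup_left, ?_, ?_⟩
    (hle.trans hK.2)
  · exact (isPi_compl_singleton_iff' hp).mpr (not_dvd_card_pPrimeCoreOf hp H)
  · intro q hq hqp hd
    obtain ⟨m, hm⟩ := relIndex_ppcore hp H
    rw [← relIndex_mul_relIndex _ _ _ hKL le_sup_left, hm,
      relIndex_sup_of_norm (hX.trans hL.2)] at hd
    apply hqp
    have : q ∣ p ^ (m + n) := by rw [pow_add]; exact hd.trans (mul_dvd_mul_left _ h)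
    exact (Nat.prime_dvd_prime_iff_eq hq hp).mp (hq.dvd_of_dvd_pow this)

omit [Finite G] in
theorem ne_two_of_odd {p : ℕ} {H : Subgroup G} (ho : Odd 𝐨(H)) (h : p ∣ 𝐨(H)) : p ≠ 2 :=
  fun h2 => (Nat.not_even_iff_odd.mpr ho) (even_iff_two_dvd.mpr (h2 ▸ h))

omit [Finite G] in
theorem der_le_sup_der {J N H : Subgroup G} (h : J ⊔ N = H) (hn : N ≤ 𝐍(J)) :
    ⁅H, H⁆ ≤ J ⊔ ⁅N, N⁆ := by
  rw [← h]
  exact der_sup_le (le_sup_left.trans (le_norm_self _))
    (H1.le_normalizer_sup hn (der_normal N).2) ((der_le J).trans le_sup_left)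
    ((comm_le_left_iff.mpr hn).trans le_sup_left) le_sup_right

omit [Finite G] in
theorem relIndex_dvd_of_inf_le {A B D : Subgroup G} (h : D ⊓ A ≤ B) :
    B.relIndex D ∣ A.relIndex D := by
  rw [← inf_relIndex_left D A]
  exact relIndex_dvd_of_le_left D h

theorem der_le_ppcore {p : ℕ} (hp : p.Prime) {H : Subgroup G} (hs : Group.IsSolvable H)
    (ho : Odd 𝐨(H)) (h : pRank p H ≤ 2) : ⁅H, H⁆ ≤ pPrimePCoreOf p H := by
  by_cases hpH : p ∣ 𝐨(H)
  swap
  · exact (der_le H).trans (le_pPrimePCoreOf hp ⟨le_rfl, le_norm_self H⟩ (hasNPC_of_not_dvd hp hpH))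
  have hp2 := ne_two_of_odd ho hpH
  have hL := pPrimePCoreOf_normal p H
  obtain ⟨T, hT⟩ := exists_isSyl hp (pPrimePCoreOf p H)
  have h1 := hT.frattini hp hL
  set N := H ⊓ 𝐍(T) with hN
  have h2 := der_le_sup_der h1 (inf_le_left.trans hL.2)
  have hN' : ⁅N, N⁆ ≤ H := (der_le N).trans inf_le_left
  obtain ⟨n, hn⟩ := der_aut_rank2 hp hp2 hT.pgrp ((pRank_mono hp (hT.le.trans hL.1)).trans h)
    (inf_le_right : N ≤ 𝐍(T)) (H1.isSolvable_of_le inf_le_left hs)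
    (ho.of_dvd_nat (card_dvd_of_le inf_le_left))
  refine h2.trans (sup_le le_rfl (le_ppcore hp hN' (le_norm_of_der_le h2 (sup_le hL.1 hN')) (n := n) ?_))
  rw [← hn]
  exact relIndex_dvd_of_inf_le ((inf_le_inf_right _ hN').trans (solvable_p_constrained hp hs hT))

theorem sylow_le_ppcore {p : ℕ} (hp : p.Prime) {H P : Subgroup G} (hs : Group.IsSolvable H)
    (ho : Odd 𝐨(H)) (h : pRank p H ≤ 2) (hP : IsSyl p P H) : P ≤ pPrimePCoreOf p H := by
  obtain ⟨n, hn⟩ := exists_card_eq_pow hp hP.pgrp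
  exact le_ppcore hp hP.le (le_norm_of_der_le ((der_le_ppcore hp hs ho h).trans le_sup_left)
    (sup_le (pPrimePCoreOf_normal p H).1 hP.le)) (hn ▸ relIndex_dvd_card' _ _)

end BG04

open BG04

/-- BG 4.18(a). -/
theorem rank2_max_pdiv {p : ℕ} (hp : p.Prime) {H : Subgroup G} (hs : Group.IsSolvable H)
    (ho : Odd 𝐨(H)) (h : pRank p H ≤ 2) {q : ℕ} (hq : q.Prime)
    (hd : q ∣ (H2.pPrimeCoreOf p H).relIndex H) : q ≤ p := by
  by_cases hqp : q = p
  · exact hqp.le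
  by_cases hpH : p ∣ 𝐨(H)
  swap
  · rw [relIndex_eq_one.mpr (le_pPrimeCoreOf ⟨le_rfl, le_norm_self H⟩
      ((Nat.Prime.coprime_iff_not_dvd hp).mpr hpH).symm)] at hd
    exact absurd (Nat.dvd_one.mp hd) hq.ne_one
  have hp2 := ne_two_of_odd ho hpH
  have hL := pPrimePCoreOf_normal p H
  obtain ⟨T, hT⟩ := exists_isSyl hp (pPrimePCoreOf p H)
  have h1 := hT.frattini hp hL
  obtain ⟨m, hm⟩ := relIndex_ppcore hp H
  rw [← relIndex_mul_relIndex _ _ _ (pPrimeCoreOf_le_pPrimePCoreOf p H) hL.1, hm] at hd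
  have h2 : q ∣ (pPrimePCoreOf p H).relIndex H :=
    ((Nat.Prime.dvd_mul hq).mp hd).resolve_left fun h =>
      hqp ((Nat.prime_dvd_prime_iff_eq hq hp).mp (hq.dvd_of_dvd_pow h))
  have h3 := relIndex_sup_of_norm ((inf_le_left : H ⊓ 𝐍(T) ≤ H).trans hL.2)
  rw [h1] at h3
  rw [h3] at h2
  exact (pi_aut_rank2 hp hp2 hq hqp hT.pgrp ((pRank_mono hp (hT.le.trans hL.1)).trans h)
    (inf_le_right : H ⊓ 𝐍(T) ≤ 𝐍(T)) (h2.trans (relIndex_dvd_of_inf_le
      ((inf_le_inf_right _ inf_le_left).trans (solvable_p_constrained hp hs hT))))).2.1.le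

/-- BG 4.18(b). -/
theorem rank2_min_npc {p : ℕ} (hp : p.Prime) {H : Subgroup G} (hs : Group.IsSolvable H)
    (ho : Odd 𝐨(H)) (h : pRank p H ≤ 2)
    (hmin : p = 3 ∨ ∀ q : ℕ, q.Prime → q ∣ 𝐨(H) → p ≤ q) : HasNPC p H := by
  refine ⟨(pPrimeCoreOf_normal p H).1,
    (isPi_compl_singleton_iff' hp).mpr (not_dvd_card_pPrimeCoreOf hp H), fun q hq hqp hd => hqp ?_⟩
  have h1 := rank2_max_pdiv hp hs ho h hq hd
  have h2 := hd.trans (relIndex_dvd_card' _ _)
  show q = p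
  rcases hmin with h3 | h3
  · have := ne_two_of_odd ho h2
    have := hq.two_le
    omega
  · exact le_antisymm h1 (h3 q hq h2)

/-- BG 4.18(c),(e). -/
theorem rank2_der_npc {p : ℕ} (hp : p.Prime) {H : Subgroup G} (hs : Group.IsSolvable H)
    (ho : Odd 𝐨(H)) (h : pRank p H ≤ 2) :
    HasNPC p ⁅H, H⁆ ∧ ⁅H, H⁆ ≤ pPrimePCoreOf p H ∧ PLengthLE p 1 H := by
  have h1 := der_le_ppcore hp hs ho h
  obtain ⟨P, hP⟩ := exists_isSyl hp H
  exact ⟨(hasNPC_pPrimePCoreOf hp H).of_le hp h1, h1,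
    (pl1_iff_le hp hP).mpr (sylow_le_ppcore hp hs ho h hP)⟩

/-- BG 4.18(d). -/
theorem rank2_le_pPrimeCore_der {p : ℕ} (hp : p.Prime) {H L : Subgroup G}
    (hs : Group.IsSolvable H) (ho : Odd 𝐨(H)) (h : pRank p H ≤ 2) (hL : L ≤ ⁅H, H⁆)
    (hc : 𝐨(L).Coprime p) : L ≤ H2.pPrimeCoreOf p ⁅H, H⁆ :=
  (rank2_der_npc hp hs ho h).1.le_pPrimeCoreOf hp hL
    ((Nat.Prime.coprime_iff_not_dvd hp).mp hc.symm)

/-- BG 4.19. -/
theorem rank2_cent_chief {H K V U : Subgroup G} (hs : Group.IsSolvable H) (ho : Odd 𝐨(H))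
    (hK : K ⊲ H) {p : ℕ} (hp : p.Prime) (h : pRank p K ≤ 2) (hc : ChiefFactor H V U)
    (hU : U ≤ K) (hpU : p ∣ V.relIndex U) : ⁅U, ⁅H, H⁆⁆ ≤ V := by
  obtain ⟨r, hr, -, -, n, -, hn⟩ := chief_elem hs hc
  have hrp : p = r := (Nat.prime_dvd_prime_iff_eq hp hr).mp (hp.dvd_of_dvd_pow (hn ▸ hpU))
  subst hrp
  have hp2 := ne_two_of_odd ho (hpU.trans ((relIndex_dvd_card' _ _).trans (card_dvd_of_le hc.le)))
  obtain ⟨T, hT⟩ := exists_isSyl hp K
  have hTL := sylow_le_ppcore hp (H1.isSolvable_of_le hK.1 hs)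
    (ho.of_dvd_nat (card_dvd_of_le hK.1)) h hT
  have hLK := (pPrimePCoreOf_normal p K).1
  have hT' := hT.of_le hTL hLK
  have h1 := hT'.frattini hp ⟨hLK.trans hK.1, hK.2.trans (norm_le_norm_pPrimePCoreOf _ hp)⟩
  set N := H ⊓ 𝐍(T) with hN
  set J := H2.pPrimeCoreOf p K with hJ
  have hJK : J ≤ K := (pPrimeCoreOf_normal p K).1
  have hHJ : H ≤ 𝐍(J) := hK.2.trans (H2.normalizer_le_normalizer_pPrimeCoreOf p K)
  have h2 : J ⊔ N = H := by
    rw [← h1, ← pPrimePCoreOf_eq_sup hp hT', sup_assoc,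
      sup_eq_right.mpr (le_inf (hT.le.trans hK.1) (le_norm_self T) : T ≤ N)]
  have h3 := der_le_sup_der h2 (inf_le_left.trans hHJ)
  set C := centMod U V with hC
  have hJC : J ≤ C := by
    refine le_centMod_iff.mpr ⟨hJK.trans (hK.1.trans hc.normV), ?_⟩
    have h4 : ⁅U, J⁆ ≤ U ⊓ J := le_inf (comm_le_left_iff.mpr (hJK.trans (hK.1.trans hc.normU)))
      (comm_le_right_iff.mpr (hc.le.trans hHJ))
    refine h4.trans (le_of_coprime_relIndex inf_le_left (inf_le_left.trans (hc.le.trans hc.normV)) ?_)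
    rw [hn]
    exact (((Nat.Prime.coprime_iff_not_dvd hp).mpr fun h => not_dvd_card_pPrimeCoreOf hp K
      (h.trans (card_dvd_of_le inf_le_right))).symm).pow_right n
  have hUeq : V ⊔ (T ⊓ U) = U := sup_eq_of_relIndex_dvd hp hc.lt.le hn.dvd
    (hT.inf_normal hp ⟨hU, hK.1.trans hc.normU⟩)
  have hCT : H ⊓ 𝐂(T) ≤ C := by
    have h4 : H ⊓ 𝐂(T) ≤ 𝐍(V) := inf_le_left.trans hc.normV
    refine le_centMod_iff.mpr ⟨h4, ?_⟩
    rw [commutator_comm, ← hUeq]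
    refine comm_sup_le (le_norm_self V) (inf_le_right.trans (hc.le.trans hc.normV))
      (comm_le_right_iff.mpr h4) ?_
    rw [comm_eq_bot_iff.mpr (inf_le_right.trans (cent_anti inf_le_left))]
    exact bot_le
  have hN' : ⁅N, N⁆ ≤ H := (der_le N).trans inf_le_left
  obtain ⟨m, hm⟩ := der_aut_rank2 hp hp2 hT.pgrp ((pRank_mono hp hT.le).trans h)
    (inf_le_right : N ≤ 𝐍(T)) (H1.isSolvable_of_le inf_le_left hs)
    (ho.of_dvd_nat (card_dvd_of_le inf_le_left))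
  obtain ⟨P, hP⟩ := exists_isSyl hp ⁅N, N⁆
  have h4 : (⁅N, N⁆ ⊓ 𝐂(T)) ⊔ P = ⁅N, N⁆ := sup_eq_of_relIndex_dvd hp inf_le_left
    (by rw [inf_relIndex_left, hm]) hP
  have hPH : P ≤ H := hP.le.trans hN'
  have hDH : (H ⊓ C) ⊔ P ≤ H := sup_le inf_le_left hPH
  have h5 : ⁅H, H⁆ ≤ (H ⊓ C) ⊔ P := by
    refine h3.trans (sup_le ((le_inf (hJK.trans hK.1) hJC).trans le_sup_left) ?_)
    rw [← h4]
    exact sup_le_sup_right (le_inf (inf_le_left.trans hN') ((inf_le_inf_right _ hN').trans hCT)) _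
  have hW := hc.min (⁅U, (H ⊓ C) ⊔ P⁆ ⊔ V) le_sup_right
    (sup_le (comm_le_left_iff.mpr (hDH.trans hc.normU)) hc.lt.le)
    (H1.le_normalizer_sup (H1.le_normalizer_commutator hc.normU (le_norm_of_der_le h5 hDH)) hc.normV)
  rcases hW with hW | hW
  · exact (commutator_mono le_rfl h5).trans (le_sup_left.trans hW.le)
  exfalso
  haveI := H1.normal_subgroupOf_of_le hc.normV
  have hVH := hc.lt.le.trans hc.le
  have hUp : IsPGroup p (H1.bar H V U) := isPGroup_of_card_eq (by rw [H1.card_bar hc.le, hn])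
  have hPU := H1.bar_le_normalizer (Y := H) (N := V) (hPH.trans hc.normU)
  have hE := isPGroup_sup (H1.isPGroup_bar hP.pgrp) hUp hPU
  have hlt := comm_lt_of_isNilpotent (isNilpotent_of_isPGroup hp hE)
    ⟨le_sup_right, sup_le hPU (le_norm_self _)⟩
    (fun h => hc.lt.not_ge ((H1.bar_eq_bot_iff hc.le).mp h))
  have hCU : H1.bar H V (H ⊓ C) ≤ 𝐂(H1.bar H V U) := by
    rw [H1.bar_le_centralizer_iff inf_le_left hc.le, commutator_comm]
    exact (le_centMod_iff.mp inf_le_right).2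
  apply hlt.not_ge
  conv_lhs => rw [← hW]
  rw [H1.bar_sup_self hVH ((comm_le_left_iff.mpr (hDH.trans hc.normU)).trans hc.le),
    H1.bar_commutator hc.le hDH, H1.bar_sup inf_le_left hPH]
  refine comm_sup_le ((hCU.trans (cent_anti hlt.le)).trans (cent_le_norm _))
    (le_sup_left.trans H1.le_normalizer_commutator_self) ?_ (commutator_mono le_rfl le_sup_left)
  rw [comm_eq_bot_iff.mpr (cent_comm.mp hCU)]
  exact bot_le

/-- BG 4.20(a). -/
theorem rank2_der_le_fitting {H : Subgroup G} (hs : Group.IsSolvable H) (ho : Odd 𝐨(H))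
    (h : rank (fittingOf H) ≤ 2) : ⁅H, H⁆ ≤ fittingOf H := by
  refine le_fitting_of_cent_chief hs ⟨le_rfl, le_norm_self H⟩ (der_le H) fun V U hc hU => ?_
  obtain ⟨r, hr, -, -, n, hn0, hn⟩ := chief_elem hs hc
  exact rank2_cent_chief hs ho (fittingOf_normal H) hr (rank_le_iff.mp h r hr) hc hU
    (hn ▸ dvd_pow_self r hn0.ne')

/-- BG 4.20(b). -/
theorem rank2_char_sylow_normal {H S T : Subgroup G} (hs : Group.IsSolvable H) (ho : Odd 𝐨(H))
    (h : rank (fittingOf H) ≤ 2) {p : ℕ} (hp : p.Prime) (hS : IsSyl p S H)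
    (hT : H ⊓ 𝐍(S) ≤ 𝐍(T)) (hTS : T ≤ ⁅S, S⁆) :
    T ⊲ H := by
  have h1 := rank2_der_le_fitting hs ho h
  have hF := fittingOf_normal H
  have hFS : fittingOf H ⊔ S ≤ H := sup_le hF.1 hS.le
  have h2 := (hS.of_le le_sup_right hFS).frattini hp
    ⟨hFS, le_norm_of_der_le (h1.trans le_sup_left) hFS⟩
  have hSN : S ≤ 𝐍(T) := (le_inf hS.le (le_norm_self S)).trans hT
  have hTS' : T ≤ S := hTS.trans (der_le S)
  refine ⟨hTS'.trans hS.le, ?_⟩
  rw [← h2]
  refine sup_le (sup_le ?_ hSN) hT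
  have hnil : Group.IsNilpotent (fittingOf H) := H2.isNilpotent_fittingOf H
  rw [← (dProd_pCoreOf_of_isNilpotent hp hnil).sup]
  refine sup_le ?_ ?_
  · rw [pCoreOf_fittingOf hp]
    exact (hS.pCoreOf_le hp).trans hSN
  · refine (le_cent_of_coprime_of_isNilpotent hnil (pPrimeCoreOf_normal p _).1
      (hTS.trans ((commutator_mono hS.le hS.le).trans h1)) ?_).trans (cent_le_norm T)
    haveI := Fact.mk hp
    exact H1.coprime_card_of_isPGroup (hS.pgrp.to_le hTS')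
      ((Nat.Prime.coprime_iff_not_dvd hp).mpr (not_dvd_card_pPrimeCoreOf hp _)).symm

namespace BG04

theorem min_npc_of_rank_fitting {H : Subgroup G} (hs : Group.IsSolvable H) (ho : Odd 𝐨(H))
    (h : rank (fittingOf H) ≤ 2) {p : ℕ} (hp : p.Prime)
    (hmin : ∀ q : ℕ, q.Prime → q ∣ 𝐨(H) → p ≤ q) : HasNPC p H := by
  have h1 := rank2_der_le_fitting hs ho h
  have hF := fittingOf_normal H
  obtain ⟨E, hE⟩ := exists_hall hs ({p}ᶜ : Set ℕ)
  have hL : fittingOf H ⊔ E ≤ H := sup_le hF.1 (hall_le hE)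
  have h2 : pRank p (fittingOf H ⊔ E) ≤ 2 := by
    rw [← pRank_eq_of_not_dvd_relIndex hp le_sup_left]
    · exact rank_le_iff.mp h p hp
    · rw [relIndex_sup_of_norm ((hall_le hE).trans hF.2)]
      exact fun hd => (isPi_compl_singleton_iff' hp).mp (hall_isPi hE)
        (hd.trans (relIndex_dvd_card' _ _))
  have h3 := rank2_min_npc hp (H1.isSolvable_of_le hL hs) (ho.of_dvd_nat (card_dvd_of_le hL)) h2
    (Or.inr fun q hq hd => hmin q hq (hd.trans (card_dvd_of_le hL)))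
  refine hasNPC_of_normal hp (K := H2.pPrimeCoreOf p (fittingOf H ⊔ E))
    ⟨(hall_le h3).trans hL, hall_isPi h3, fun q hq hqp hd => ?_⟩
    ((le_norm_of_der_le (h1.trans le_sup_left) hL).trans
      (H2.normalizer_le_normalizer_pPrimeCoreOf p _))
  rw [← relIndex_mul_relIndex _ _ _ (hall_le h3) hL] at hd
  rcases (Nat.Prime.dvd_mul hq).mp hd with hd | hd
  · exact hall_not_dvd h3 hq hqp hd
  · exact hall_not_dvd hE hq hqp (hd.trans (relIndex_dvd_of_le_left H le_sup_right))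

end BG04

/-- BG 4.20(c). -/
theorem rank2_ge_core_hall {H : Subgroup G} (hs : Group.IsSolvable H) (ho : Odd 𝐨(H))
    (h : rank (fittingOf H) ≤ 2) (m : ℕ) :
    IsPiHallOf {q | m ≤ q} (piCoreOf {q | m ≤ q} H) H := by
  induction H using H1.subgroup_strong_induction with
  | h H ih =>
  by_cases hπ : IsPiSubgroup {q | m ≤ q} H
  · rw [piCoreOf_eq_self hπ]; exact hall_self hπ
  have h1 : 𝐨(H) ≠ 1 := fun h1 => hπ fun q hq hd => absurd (Nat.dvd_one.mp (h1 ▸ hd)) hq.ne_one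
  have hp := Nat.minFac_prime h1
  have hmin : ∀ q : ℕ, q.Prime → q ∣ 𝐨(H) → 𝐨(H).minFac ≤ q := fun q hq hd =>
    Nat.minFac_le_of_dvd hq.two_le hd
  have hpm : 𝐨(H).minFac < m := by
    by_contra hle
    exact hπ fun q hq hd => (not_lt.mp hle).trans (hmin q hq hd)
  have h2 := min_npc_of_rank_fitting hs ho h hp hmin
  have hK := pPrimeCoreOf_normal 𝐨(H).minFac H
  have hlt : H2.pPrimeCoreOf 𝐨(H).minFac H < H := lt_of_le_of_ne hK.1 fun heq =>
    not_dvd_card_pPrimeCoreOf hp H (by rw [heq]; exact Nat.minFac_dvd _)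
  have h3 := ih _ hlt (H1.isSolvable_of_le hK.1 hs) (ho.of_dvd_nat (card_dvd_of_le hK.1))
    ((rank_mono (fittingOf_le_of_normal hK)).trans h)
  refine hall_piCoreOf_of_normal (hall_trans h3 h2 ?_) (hK.2.trans (norm_le_norm_piCoreOf _ _))
  intro q hq hqp
  have h4 : m ≤ q := hq
  have h5 : q = 𝐨(H).minFac := hqp
  omega

end Cfsg.Agent.FT
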