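/-
BG section 5: narrow p-groups.
-/
import Cfsg.Agent.FT.BG04

set_option autoImplicit false

namespace Cfsg.Agent.FT

open Subgroup Cfsg Cfsg.Agent BG04
open scoped commutatorElement

universe u

variable {G : Type u} [Group G] [Finite G]

/-- BG 5.1(b). -/
theorem normal_elem2_scn3 {p : ℕ} (hp : p.Prime) (hp2 : p ≠ 2) {R E : Subgroup G}
    (hR : IsPGroup p R) (h : 2 < pRank p R) (hE : E ⊲ R) (hE2 : IsElem p 2 E) :
    ∃ A : Subgroup G, E ≤ A ∧ IsSCN R A ∧ 2 < pRank p A := by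
  obtain ⟨C, hC, hC3⟩ := rank3_scn3 hp hp2 hR h
  have hc : IsMulCommutative C := isMulComm_iff_le_cent.mpr (hC.2.2.ge.trans inf_le_right)
  have hV := isElem_omegaOne_of_comm hp hc
  set V := omegaOne p C with hVdef
  have hVR : V ≤ R := (omegaOne_le _ _).trans hC.1
  have hVn : R ≤ 𝐍(V) := hC.2.1.trans (norm_le_norm_omegaOne _ p)
  have hB : IsElementaryAbelian p (E ⊔ (V ⊓ 𝐂(E))) :=
    elemAb_sup hE2.elemAb (elemAb_of_le inf_le_left hV.elemAb) inf_le_right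
  obtain ⟨A, h1, h2⟩ := exists_scn_ge hp hR ⟨sup_le hE.1 (inf_le_left.trans hVR),
    H1.le_normalizer_sup hE.2 (H1.le_normalizer_inf hVn (H1.le_normalizer_centralizer hE.2))⟩ hB.1
  refine ⟨A, le_sup_left.trans h1, h2, ?_⟩
  by_contra hcon
  have h3 := (pRank_le_iff hp).mp (not_lt.mp hcon) _ h1 hB
  have h4 : E = E ⊔ (V ⊓ 𝐂(E)) := H1.eq_of_le_of_card_le le_sup_left (hE2.card ▸ h3)
  have h5 := relIndex_cent_le hp hV.pgrp hE2.elemAb hE2.card.le (hVR.trans hE.2)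
  have h6 := H1.card_inf_mul_relIndex 𝐂(E) V
  rw [inf_comm] at h6
  have h7 : V ⊓ 𝐂(E) = E := by
    apply H1.eq_of_le_of_card_le (le_sup_right.trans h4.ge)
    rw [hE2.card]
    apply Nat.le_of_mul_le_mul_right _ hp.pos
    calc p ^ 2 * p = p ^ 3 := by ring
      _ ≤ p ^ pRank p C := Nat.pow_le_pow_right hp.pos hC3
      _ = _ := by rw [← hV.card, ← h6]
      _ ≤ _ := Nat.mul_le_mul_left _ h5
  have h8 : V ≤ E := h7 ▸ le_inf le_rfl (hV.le_cent.trans (cent_anti (h7.ge.trans inf_le_left)))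
  have := hE2.le_of_le hp hV h8
  omega

namespace BG05

theorem not_normal_of_maxElem {p : ℕ} (hp : p.Prime) (hp2 : p ≠ 2) {R E : Subgroup G}
    (hR : IsPGroup p R) (h : 2 < pRank p R) (hE2 : IsElem p 2 E) (hE : IsMaxElem p E R) :
    ¬ R ≤ 𝐍(E) := by
  intro hn
  obtain ⟨A, h1, h2, h3⟩ := normal_elem2_scn3 hp hp2 hR h ⟨hE.1, hn⟩ hE2
  have h4 : A ≤ R ⊓ 𝐂(E) := le_inf h2.1 ((h2.2.2.ge.trans inf_le_right).trans (cent_anti h1))
  have h5 := pRank_mono hp h4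
  rw [hE.pRank_cent hp, hE2.pRank_eq hp] at h5
  omega

omit [Finite G] in
theorem elemAb_omega_center (p : ℕ) (R : Subgroup G) : IsElementaryAbelian p (omegaOne p 𝐙(R)) :=
  elemAb_omegaOne (isMulComm_center R)

theorem omega_center_ne_bot {p : ℕ} (hp : p.Prime) {R : Subgroup G} (hR : IsPGroup p R)
    (h : R ≠ ⊥) : omegaOne p 𝐙(R) ≠ ⊥ :=
  omegaOne_ne_bot hp (prime_dvd_card_of_isPGroup hp (hR.to_le inf_le_left)
    (center_ne_bot (isNilpotent_of_isPGroup hp hR) h))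

theorem ne_bot_of_pRank {p n : ℕ} (hp : p.Prime) {R : Subgroup G} (h : n < pRank p R) : R ≠ ⊥ :=
  ne_bot_of_prime_dvd hp ((pRank_pos_iff hp).mp (by omega))

theorem maxElem_sup {p : ℕ} (hp : p.Prime) {R S : Subgroup G}
    (hR : IsPGroup p R) (h : 2 < pRank p R) (hS : S ≤ R) (hSp : 𝐨(S) = p)
    (hr : pRank p (R ⊓ 𝐂(S)) ≤ 2) :
    IsElem p 2 (S ⊔ omegaOne p 𝐙(R)) ∧ IsMaxElem p (S ⊔ omegaOne p 𝐙(R)) R := by
  have hZ : omegaOne p 𝐙(R) ≤ R ⊓ 𝐂(R) := omegaOne_le _ _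
  have hd : S ⊓ omegaOne p 𝐙(R) = ⊥ := by
    refine (inf_eq_bot_or_le_of_card_prime (hSp.symm ▸ hp) _).resolve_right fun h1 => ?_
    rw [inf_eq_left.mpr (cent_comm.mp (h1.trans (hZ.trans inf_le_right)))] at hr
    omega
  obtain ⟨n, hn⟩ := elemAb_exists_isElem hp (elemAb_omega_center p R)
  have hn0 : n ≠ 0 := by
    rintro rfl
    exact omega_center_ne_bot hp hR (ne_bot_of_pRank hp h) (card_eq_one.mp (by simpa using hn.card))
  have hcS : omegaOne p 𝐙(R) ≤ 𝐂(S) := hZ.trans (inf_le_right.trans (cent_anti hS))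
  have h1 := ((isElem_one_iff hp).mpr hSp).sup hn hcS hd
  have h2 : S ⊔ omegaOne p 𝐙(R) ≤ R ⊓ 𝐂(S) :=
    le_inf (sup_le hS (hZ.trans inf_le_left)) (h1.le_cent.trans (cent_anti le_sup_left))
  have h3 := le_pRank hp h2 h1
  have h4 : 1 + n = 2 := by omega
  rw [h4] at h1
  refine ⟨h1, h2.trans inf_le_left, h1.elemAb, fun B hB hBe hle => ?_⟩
  exact (isMaxElem_of_pRank_le hp h2 h1 hr).2.2 B
    (le_inf hB ((isMulComm_iff_le_cent.mp hBe.1).trans (cent_anti (le_sup_left.trans hle)))) hBe hle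

end BG05

open BG05

/-- BG 5.2. Here `Z = Ω₁(Z(R))`, `W = Ω₁(Z₂(R))`, `T = C_R(W)`. -/
theorem omega_center2_maxElem2 {p : ℕ} (hp : p.Prime) (hp2 : p ≠ 2) {R E : Subgroup G}
    (hR : IsPGroup p R) (h : 2 < pRank p R) (hE2 : IsElem p 2 E) (hE : IsMaxElem p E R) :
    ¬ E ≤ 𝐂(omegaOne p (center2 R)) ∧ 𝐨(omegaOne p 𝐙(R)) = p ∧
      IsElem p 2 (omegaOne p (center2 R)) ∧
      (R ⊓ 𝐂(omegaOne p (center2 R))).relIndex R = p := by
  haveI := Fact.mk hp
  have hnn := not_normal_of_maxElem hp hp2 hR h hE2 hE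
  set Z := omegaOne p 𝐙(R) with hZdef
  set W := omegaOne p (center2 R) with hWdef
  have hZ : Z ≤ R ⊓ 𝐂(R) := omegaOne_le _ _
  have hZE : Z ≤ E := hE.le_of_cent (hZ.trans inf_le_left)
    (hZ.trans (inf_le_right.trans (cent_anti hE.1))) (elemAb_omega_center p R).2
  have hZp : 𝐨(Z) = p := hE2.card_eq_of_two hp hZE
    (omega_center_ne_bot hp hR (ne_bot_of_pRank hp h))
    (fun h1 => hnn ((cent_comm.mp (h1.ge.trans (hZ.trans inf_le_right))).trans (cent_le_norm E)))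
  have hnc : ¬ IsCyclic R := fun hc => by have := pRank_le_one_of_isCyclic hp hc; omega
  obtain ⟨hWnc, hWe⟩ := omega_center2 hp hp2 hR hnc
  have hW2 : W ≤ center2 R := omegaOne_le _ _
  have hWR : W ≤ R := hW2.trans (center2_le R)
  have hRW : R ≤ 𝐍(W) :=
    (le_norm_self R).trans ((norm_le_norm_center2 R).trans (norm_le_norm_omegaOne _ p))
  have hWZ : ⁅W, R⁆ ≤ Z := by
    have h1 := comm_le_left_iff.mpr hRW
    exact le_omegaOne_of_exp (le_inf (h1.trans hWR) (le_center2_iff.mp hW2).2)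
      fun a ha => hWe a (h1 ha)
  have hZW : Z ≤ W := omegaOne_mono (center_le_center2 R)
  have hC : W ⊓ 𝐂(E) ≤ E :=
    hE.le_of_cent (inf_le_left.trans hWR) inf_le_right fun x hx => hWe x hx.1
  have hC' : 𝐨(W ⊓ 𝐂(E)) = p := by
    refine hE2.card_eq_of_two hp hC (fun h1 => ?_) fun h1 => hnn ?_
    · apply ne_bot_of_card_prime (hZp.symm ▸ hp)
      rw [eq_bot_iff, ← h1]
      exact le_inf hZW (hZE.trans hE2.le_cent)
    · exact comm_le_left_iff.mp ((commutator_mono (h1.ge.trans inf_le_left) le_rfl).trans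
        (hWZ.trans hZE))
  have hWE : W ≤ 𝐍(E) := comm_le_right_iff.mp ((commutator_mono le_rfl hE.1).trans (hWZ.trans hZE))
  have h1 := relIndex_cent_le hp (hR.to_le hWR) hE2.elemAb hE2.card.le hWE
  have h2 := H1.card_inf_mul_relIndex 𝐂(E) W
  rw [inf_comm, hC'] at h2
  have hZlt : Z < W := lt_of_le_of_ne hZW fun h3 =>
    hWnc (isCyclic_of_le h3.ge (isCyclic_of_card_prime (hZp.symm ▸ hp)))
  have h3 := mul_card_le_of_lt hp (hR.to_le hWR) hZlt
  rw [hZp] at h3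
  have hW : IsElem p 2 W := isElem_two_of_card hp
    (le_antisymm (by rw [← h2, pow_two]; exact Nat.mul_le_mul_left _ h1) (by rwa [pow_two])) hWe
  have hEW : ¬ E ≤ 𝐂(W) := by
    intro h4
    rw [inf_eq_left.mpr (cent_comm.mp h4), hW.card] at hC'
    nlinarith [hp.one_lt]
  refine ⟨hEW, hZp, hW, le_antisymm ?_ ?_⟩
  · rw [inf_relIndex_left]
    exact relIndex_cent_le hp hR hW.elemAb hW.card.le hRW
  · exact H2.prime_le_relIndex_of_lt hR (lt_of_le_of_ne inf_le_left fun h4 =>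
      hEW (hE.1.trans (h4.ge.trans inf_le_right)))

/-- BG 5.3(d). -/
theorem narrow_cent_dprod {p : ℕ} (hp : p.Prime) (hp2 : p ≠ 2) {R S : Subgroup G}
    (hR : IsPGroup p R) (h : 2 < pRank p R) (hn : Narrow p R) (hS : S ≤ R) (hSp : 𝐨(S) = p)
    (hr : pRank p (R ⊓ 𝐂(S)) ≤ 2) :
    IsCyclic ↥(R ⊓ 𝐂(omegaOne p (center2 R)) ⊓ 𝐂(S)) ∧ S ⊓ ⁅R, R⁆ = ⊥ ∧
      S ⊓ 𝐂(omegaOne p (center2 R)) = ⊥ ∧
      DProd S (R ⊓ 𝐂(omegaOne p (center2 R)) ⊓ 𝐂(S)) (R ⊓ 𝐂(S)) := by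
  obtain ⟨hE2, hE⟩ := maxElem_sup hp hR h hS hSp hr
  obtain ⟨h1, -, -, h2⟩ := omega_center2_maxElem2 hp hp2 hR h hE2 hE
  set W := omegaOne p (center2 R) with hWdef
  have hWR : W ≤ R := (omegaOne_le _ _).trans (center2_le R)
  have hRW : R ≤ 𝐍(W) :=
    (le_norm_self R).trans ((norm_le_norm_center2 R).trans (norm_le_norm_omegaOne _ p))
  have hSW : S ⊓ 𝐂(W) = ⊥ := by
    refine (inf_eq_bot_or_le_of_card_prime (hSp.symm ▸ hp) _).resolve_right fun h3 => h1 ?_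
    exact sup_le h3 ((omegaOne_le _ _).trans (inf_le_right.trans (cent_anti hWR)))
  have hT : R ≤ 𝐍(R ⊓ 𝐂(W)) :=
    H1.le_normalizer_inf (le_norm_self R) (H1.le_normalizer_centralizer hRW)
  have hd : (R ⊓ 𝐂(W)) ⊓ S = ⊥ := by
    rw [eq_bot_iff, ← hSW]; exact le_inf inf_le_right (inf_le_left.trans inf_le_right)
  have hsd : SdProd (R ⊓ 𝐂(W)) S R := sdProd_of_card inf_le_left hS (hS.trans hT) hd
    (by rw [hSp, ← h2, H1.card_mul_relIndex inf_le_left])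
  have hSc : S ≤ 𝐂(S) :=
    isMulComm_iff_le_cent.mp (isMulComm_of_isCyclic (isCyclic_of_card_prime (hSp.symm ▸ hp)))
  have hsd2 := hsd.inf_of_le_right hSc (H1.le_normalizer_centralizer (le_norm_self S))
  have hdp : DProd S (R ⊓ 𝐂(W) ⊓ 𝐂(S)) (R ⊓ 𝐂(S)) :=
    ⟨(sup_comm _ _).trans hsd2.sup, inf_le_right, (inf_comm _ _).trans hsd2.disj⟩
  refine ⟨?_, ?_, hSW, hdp⟩
  · apply isCyclic_of_pRank_le_one hp hp2 (hR.to_le (inf_le_left.trans inf_le_left))
    have h3 := hdp.pRank_eq hp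
    rw [((isElem_one_iff hp).mpr hSp).pRank_eq hp] at h3
    omega
  · have h3 : ⁅R, R⁆ ≤ R ⊓ 𝐂(W) := der_le_of_relIndex_le_sq hp hR hT
      (by rw [h2]; nlinarith [hp.one_lt])
    rw [eq_bot_iff, ← hSW]
    exact inf_le_inf_left _ (h3.trans inf_le_right)

/-- BG 5.4. -/
theorem narrow_iff_cent {p : ℕ} (hp : p.Prime) (hp2 : p ≠ 2) {R : Subgroup G}
    (hR : IsPGroup p R) (h : 2 < pRank p R) :
    Narrow p R ↔ ∃ S : Subgroup G, S ≤ R ∧ 𝐨(S) = p ∧ pRank p (R ⊓ 𝐂(S)) ≤ 2 := by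
  constructor
  · intro hn
    obtain ⟨E, hE2, hE⟩ := hn h
    obtain ⟨-, hZp, -, -⟩ := omega_center2_maxElem2 hp hp2 hR h hE2 hE
    have hZ : omegaOne p 𝐙(R) ≤ R ⊓ 𝐂(R) := omegaOne_le _ _
    have hZE : omegaOne p 𝐙(R) ≤ E := hE.le_of_cent (hZ.trans inf_le_left)
      (hZ.trans (inf_le_right.trans (cent_anti hE.1))) (elemAb_omega_center p R).2
    obtain ⟨S, hS⟩ := exists_compl_of_elemAb hp hE2.elemAb hZE
    refine ⟨S, hS.le_right.trans hE.1, ?_, ?_⟩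
    · have := hS.card
      rw [hE2.card, hZp, pow_two] at this
      exact (Nat.eq_of_mul_eq_mul_left hp.pos this).symm
    · have h1 : R ⊓ 𝐂(S) ≤ R ⊓ 𝐂(E) := by
        rw [← hS.sup, cent_sup]
        exact le_inf inf_le_left (le_inf (inf_le_left.trans
          (cent_comm.mp (hZ.trans inf_le_right))) inf_le_right)
      have h2 := pRank_mono hp h1
      rwa [hE.pRank_cent hp, hE2.pRank_eq hp] at h2
  · rintro ⟨S, hS, hSp, hr⟩ _
    exact ⟨_, maxElem_sup hp hR h hS hSp hr⟩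

/-- BG 5.3(a): the structure of a narrow group of rank at least 3. -/
theorem narrow_structure {p : ℕ} (hp : p.Prime) (hp2 : p ≠ 2) {R : Subgroup G}
    (hR : IsPGroup p R) (h : 2 < pRank p R) (hn : Narrow p R) :
    ∃ S C : Subgroup G, S ≤ R ∧ 𝐨(S) = p ∧ IsCyclic C ∧ DProd S C (R ⊓ 𝐂(S)) := by
  obtain ⟨S, hS, hSp, hr⟩ := (narrow_iff_cent hp hp2 hR h).mp hn
  obtain ⟨h1, -, -, h2⟩ := narrow_cent_dprod hp hp2 hR h hn hS hSp hr
  exact ⟨S, _, hS, hSp, h1, h2⟩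

namespace BG05

/-- Action on a section of order at most `p`. -/
theorem act_section_le_prime {p : ℕ} (hp : p.Prime) {H M A : Subgroup G} (hH : IsPGroup p H)
    (hHM : H ≤ 𝐍(M)) (hAH : A ≤ 𝐍(H)) (hAM : A ≤ 𝐍(M)) (hi : M.relIndex H ≤ p) :
    ⁅H, ⁅A, A⁆⁆ ≤ M ∧ ∀ a ∈ A, ⁅H, zpowers (a ^ (p - 1))⁆ ≤ M := by
  haveI := H1.normal_subgroupOf_of_le (sup_le hHM hAM)
  obtain ⟨n, hn⟩ := exists_card_eq_pow hp (H1.isPGroup_bar (Y := H ⊔ A) (N := M) hH)
  have hn' := hn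
  rw [H1.card_bar le_sup_left] at hn'
  have hn1 : n ≤ 1 := by
    rw [hn'] at hi
    exact (Nat.pow_le_pow_iff_right hp.one_lt).mp (hi.trans (pow_one p).ge)
  interval_cases n
  · have h1 : H ≤ M := relIndex_eq_one.mp (by simpa using hn')
    exact ⟨(comm_le_left_iff.mpr ((der_le A).trans hAH)).trans h1, fun a ha =>
      (comm_le_left_iff.mpr (zpowers_le.mpr (hAH (pow_mem ha _)))).trans h1⟩
  rw [pow_one] at hn
  have hn2 := H1.bar_le_normalizer (Y := H ⊔ A) (N := M) hAH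
  constructor
  · have := der_le_cent_of_cyclic (isCyclic_of_card_prime (hn.symm ▸ hp)) hn2
    rwa [← H1.bar_commutator le_sup_right le_sup_right,
      H1.bar_le_centralizer_iff ((der_le A).trans le_sup_right) le_sup_left, commutator_comm] at this
  · intro a ha
    have h1 := relIndex_cent_dvd_of_prime (hn.symm ▸ hp) hn2
    rw [hn] at h1
    obtain ⟨k, hk⟩ := h1
    haveI := H1.normal_subgroupOf_of_le (H1.le_normalizer_centralizer hn2)
    have h2 := pow_index_mem (𝐂(H1.bar (H ⊔ A) M H).subgroupOf (H1.bar (H ⊔ A) M A))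
      ⟨H1.qmk (H ⊔ A) M ⟨a, mem_sup_right ha⟩, H1.qmk_mem_bar ha⟩
    have h3 : H1.qmk (H ⊔ A) M (⟨a, mem_sup_right ha⟩ ^ (p - 1)) ∈ 𝐂(H1.bar (H ⊔ A) M H) := by
      rw [map_pow, hk, pow_mul]
      exact pow_mem h2 k
    rw [commutator_comm, ← H1.bar_le_centralizer_iff (Y := H ⊔ A)
      (zpowers_le.mpr (pow_mem (mem_sup_right ha) _)) le_sup_left]
    have h4 := H1.bar_zpowers (N := M) ((⟨a, mem_sup_right ha⟩ : ↥(H ⊔ A)) ^ (p - 1))
    rw [coe_pow] at h4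
    rw [h4]
    exact zpowers_le.mpr h3

/-- The iterated commutators `[H, R, ..., R]`. -/
def iterComm (H R : Subgroup G) : ℕ → Subgroup G
  | 0 => H
  | n + 1 => ⁅iterComm H R n, R⁆

omit [Finite G] in
theorem le_norm_iterComm {H R A : Subgroup G} (hH : A ≤ 𝐍(H)) (hR : A ≤ 𝐍(R)) (n : ℕ) :
    A ≤ 𝐍(iterComm H R n) := by
  induction n with
  | zero => exact hH
  | succ n ih => exact H1.le_normalizer_commutator ih hR

omit [Finite G] in
theorem iterComm_le {H R : Subgroup G} (hH : R ≤ 𝐍(H)) (n : ℕ) : iterComm H R n ≤ H := by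
  induction n with
  | zero => exact le_rfl
  | succ n ih => exact (comm_le_left_iff.mpr (le_norm_iterComm hH (le_norm_self R) n)).trans ih

omit [Finite G] in
theorem iterComm_le_lcs {H R : Subgroup G} (hH : H ≤ R) (n : ℕ) :
    iterComm H R n ≤ R.lowerCentralSeries n := by
  induction n with
  | zero => exact hH
  | succ n ih => exact commutator_mono ih le_rfl

theorem narrow_chain {p : ℕ} (hp : p.Prime) (hp2 : p ≠ 2) {R A : Subgroup G}
    (hR : IsPGroup p R) (h : 2 < pRank p R) (hn : Narrow p R) (hA : A ≤ 𝐍(R)) {Q : Subgroup G}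
    (hQA : Q ≤ A) (hQ : 𝐨(Q).Coprime p)
    (hQ' : Q ≤ ⁅A, A⁆ ∨ ∃ a ∈ A, Q = zpowers (a ^ (p - 1))) : Q ≤ 𝐂(R) := by
  haveI := Fact.mk hp
  obtain ⟨H, hHR, hNH, -, hHZ, he, hcrit⟩ := critical_odd hp hp2 hR (ne_bot_of_pRank hp h)
  obtain ⟨S, hS, hSp, hr⟩ := (narrow_iff_cent hp hp2 hR h).mp hn
  obtain ⟨hE2, hE⟩ := maxElem_sup hp hR h hS hSp hr
  obtain ⟨-, hSR', -, -⟩ := narrow_cent_dprod hp hp2 hR h hn hS hSp hr
  have hRH : R ≤ 𝐍(H) := (le_norm_self R).trans hNH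
  have hSprime : 𝐨(S).Prime := hSp.symm ▸ hp
  set E := S ⊔ omegaOne p 𝐙(R) with hEdef
  have hCE : R ⊓ 𝐂(S) ≤ 𝐂(E) := by
    rw [hEdef, cent_sup]
    exact le_inf inf_le_right (inf_le_left.trans
      (cent_comm.mp ((omegaOne_le _ _).trans inf_le_right)))
  -- a subgroup of exponent `p` of `C_R(S)` meeting `S` trivially has order at most `p`
  have small : ∀ X : Subgroup G, X ≤ R ⊓ 𝐂(S) → (∀ x ∈ X, x ^ p = 1) → ¬ S ≤ X → 𝐨(X) ≤ p := by
    intro X h1 h2 h3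
    have h4 : X ≤ E := hE.le_of_cent (h1.trans inf_le_left) (h1.trans hCE) h2
    have h5 := mul_card_le_of_lt hp hE2.pgrp
      (lt_of_le_of_ne h4 fun h6 => h3 (le_sup_left.trans h6.ge))
    rw [hE2.card, pow_two] at h5
    exact Nat.le_of_mul_le_mul_left h5 hp.pos
  obtain ⟨v, hv⟩ := isCyclic_iff_zpowers.mp (isCyclic_of_card_prime hSprime)
  have hvS : v ∈ S := hv ▸ mem_zpowers v
  have hCv : 𝐂[v] = 𝐂(S) := by rw [← hv, cent_zpowers]
  have hSH : ¬ S ≤ H := by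
    intro hSH
    have h1 : ⁅H, R⁆ ≤ H := comm_le_left_iff.mpr hRH
    have h2 := small ⁅H, R⁆ (le_inf (h1.trans hHR) (hHZ.trans (inf_le_right.trans (cent_anti hSH))))
      (fun x hx => he x (h1 hx)) (fun h3 => ne_bot_of_card_prime hSprime (by
        rw [eq_bot_iff, ← hSR']; exact le_inf le_rfl (h3.trans (commutator_mono hHR le_rfl))))
    have h3 := H2.relIndex_centralizer_le_card (H := R) (N := ⁅H, R⁆) (x := v) fun g hg => by
      rw [commutator_comm]; exact commutator_mem_commutator hg (hSH hvS)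
    rw [hCv, ← inf_relIndex_left] at h3
    have h4 : R ≤ 𝐍(R ⊓ 𝐂(S)) := by
      rcases (inf_le_left : R ⊓ 𝐂(S) ≤ R).lt_or_eq with h5 | h5
      · have h6 := H2.prime_le_relIndex_of_lt hR h5
        have h7 : ((R ⊓ 𝐂(S)).subgroupOf R).Normal :=
          H3.normal_of_index_eq_prime hR (le_antisymm (h3.trans h2) h6)
        exact (normal_subgroupOf_iff_le_normalizer inf_le_left).mp h7
      · rw [h5]; exact le_norm_self R
    apply not_normal_of_maxElem hp hp2 hR h hE2 hE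
    have h5 : R ⊓ 𝐂(S) = R ⊓ 𝐂(E) :=
      le_antisymm (le_inf inf_le_left hCE) (inf_le_inf_left _ (cent_anti le_sup_left))
    rw [← hE.omegaOne_cent, ← h5]
    exact h4.trans (norm_le_norm_omegaOne _ p)
  have hstep : ∀ i, (iterComm H R (i + 1)).relIndex (iterComm H R i) ≤ p := by
    intro i
    have h1 := iterComm_le hRH i
    have h2 := small (𝐂(S) ⊓ iterComm H R i) (le_inf (inf_le_right.trans (h1.trans hHR)) inf_le_left)
      (fun x hx => he x (h1 hx.2)) fun h3 => hSH (h3.trans (inf_le_right.trans h1))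
    have h3 := H2.relIndex_centralizer_le_card (H := iterComm H R i) (N := iterComm H R (i + 1))
      (x := v) fun g hg => commutator_mem_commutator hg (hS hvS)
    rw [hCv] at h3
    have h4 := H1.card_inf_mul_relIndex 𝐂(S) (iterComm H R i)
    have h5 := H1.card_mul_relIndex (show iterComm H R (i + 1) ≤ iterComm H R i from
      comm_le_left_iff.mpr (le_norm_iterComm hRH (le_norm_self R) i))
    apply Nat.le_of_mul_le_mul_left _ (Nat.card_pos (α := iterComm H R (i + 1)))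
    rw [h5, ← h4, mul_comm]
    exact Nat.mul_le_mul h3 h2
  apply hcrit Q (hQA.trans hA) hQ
  obtain ⟨n, hn0⟩ := (isNilpotent_iff_lowerCentralSeries R).mp (isNilpotent_of_isPGroup hp hR)
  rw [← H1.commutator_eq_bot_iff_le_centralizer', eq_bot_iff, ← hn0]
  refine le_trans (H1.commutator_le_of_chain (hQA.trans (hA.trans hNH))
    (H1.coprime_card_of_isPGroup (hR.to_le hHR) hQ) (iterComm H R) le_rfl n fun i _ => ?_)
    (iterComm_le_lcs hHR n)
  have h1 := (iterComm_le hRH i).trans hHR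
  obtain ⟨h2, h3⟩ := act_section_le_prime hp (hR.to_le h1)
    (h1.trans (le_norm_iterComm hRH (le_norm_self R) (i + 1)))
    (le_norm_iterComm (hA.trans hNH) hA i) (le_norm_iterComm (hA.trans hNH) hA (i + 1)) (hstep i)
  rcases hQ' with h4 | ⟨a, ha, rfl⟩
  · exact (commutator_mono le_rfl h4).trans h2
  · exact h3 a ha

theorem coprime_of_isPGroup {p q : ℕ} (hp : p.Prime) (hq : q.Prime) (hqp : q ≠ p)
    {Q : Subgroup G} (hQ : IsPGroup q Q) : 𝐨(Q).Coprime p := by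
  obtain ⟨n, hn⟩ := exists_card_eq_pow hq hQ
  rw [hn]; exact ((Nat.coprime_primes hq hp).mpr hqp).pow_left n

end BG05

/-- BG 5.5(a),(b) for a non-faithful action. -/
theorem aut_narrow' {p : ℕ} (hp : p.Prime) (hp2 : p ≠ 2) {R A : Subgroup G}
    (hR : IsPGroup p R) (hn : Narrow p R) (hA : A ≤ 𝐍(R)) (hs : Group.IsSolvable A)
    (ho : Odd 𝐨(A)) :
    (∃ n : ℕ, 𝐂(R).relIndex ⁅A, A⁆ = p ^ n) ∧
    (2 < pRank p R → ∀ a ∈ A, (orderOf a).Coprime p → a ^ (p - 1) ∈ 𝐂(R)) := by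
  constructor
  · by_cases h : pRank p R ≤ 2
    · exact der_aut_rank2 hp hp2 hR h hA hs ho
    refine ⟨_, Nat.eq_prime_pow_of_unique_prime_dvd index_ne_zero_of_finite fun {q} hq hd => ?_⟩
    by_contra hqp
    obtain ⟨Q, hQA, hQ, hQC⟩ := exists_pgroup_not_le hq hd
    exact hQC (narrow_chain hp hp2 hR (not_le.mp h) hn hA (hQA.trans (der_le A))
      (coprime_of_isPGroup hp hq hqp hQ) (Or.inl hQA))
  · intro h a ha hap
    refine zpowers_le.mp (narrow_chain hp hp2 hR h hn hA (zpowers_le.mpr (pow_mem ha _)) ?_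
      (Or.inr ⟨a, ha, rfl⟩))
    rw [Nat.card_zpowers]
    exact hap.coprime_dvd_left (orderOf_pow_dvd _)

/-- BG 5.5. -/
theorem aut_narrow {p : ℕ} (hp : p.Prime) (hp2 : p ≠ 2) {R A : Subgroup G}
    (hR : IsPGroup p R) (hn : Narrow p R) (hA : A ≤ 𝐍(R)) (hs : Group.IsSolvable A)
    (ho : Odd 𝐨(A)) (hf : A ⊓ 𝐂(R) = ⊥) :
    (⁅A, A⁆ ≤ pCoreOf p A ∧ IsSyl p (pCoreOf p A) A) ∧
    (2 < pRank p R → ∀ a ∈ A, (orderOf a).Coprime p → orderOf a ∣ p - 1) ∧
    (𝐨(A).Prime → ¬ 𝐨(A) ∣ p * (p - 1) →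
      2 * 𝐨(A) ∣ p + 1 ∧ (⁅R, A⁆ = R → ¬ IsMulCommutative R → 𝐨(R) = p ^ 3)) := by
  obtain ⟨⟨n, h1⟩, h2⟩ := aut_narrow' hp hp2 hR hn hA hs ho
  have hidx : ∀ B : Subgroup G, B ≤ A → 𝐂(R).relIndex B = 𝐨(B) := by
    intro B hB
    rw [← inf_relIndex_left, eq_bot_iff.mpr ((inf_le_inf_right _ hB).trans hf.le), relIndex_bot_left]
  have hb : 2 < pRank p R → ∀ a ∈ A, (orderOf a).Coprime p → orderOf a ∣ p - 1 := by
    intro h a ha hap
    rw [orderOf_dvd_iff_pow_eq_one, ← mem_bot, ← hf]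
    exact ⟨pow_mem ha _, h2 h a ha hap⟩
  refine ⟨?_, hb, fun hq hnd => ?_⟩
  · rw [hidx _ (der_le A)] at h1
    have h3 := le_pCoreOf (der_normal A) (isPGroup_of_card_eq h1)
    obtain ⟨P, hP⟩ := exists_isSyl hp A
    refine ⟨h3, ?_⟩
    rwa [hP.pCoreOf_eq hp (le_norm_of_der_le (h3.trans (hP.pCoreOf_le hp)) hP.le)]
  have hqp : 𝐨(A) ≠ p := fun h => hnd (h ▸ dvd_mul_right _ _)
  have hco : 𝐨(A).Coprime p := (Nat.coprime_primes hq hp).mpr hqp
  have hr : pRank p R ≤ 2 := by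
    by_contra h
    obtain ⟨a, ha, hao⟩ := exists_mem_orderOf_eq_prime hq (dvd_refl 𝐨(A))
    exact hnd ((hao ▸ hb (not_le.mp h) a ha (hao ▸ hco)).trans (dvd_mul_left _ _))
  obtain ⟨-, -, h4⟩ := pi_aut_rank2 hp hp2 hq hqp hR hr hA (hidx A le_rfl).symm.dvd
  obtain ⟨k, hk⟩ := hp.odd_of_ne_two hp2
  constructor
  · rcases h4 with h4 | h4
    · have : p + 1 = 2 * ((p + 1) / 2) := by omega
      rw [this]; exact mul_dvd_mul_left 2 h4
    · exfalso
      have : p - 1 = 2 * ((p - 1) / 2) := by omega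
      exact hnd (this ▸ (h4.mul_left 2).mul_left p)
  · intro hRA hna
    have hR1 : R ≠ ⊥ := fun h => hna (by rw [h]; infer_instance)
    obtain ⟨hp3, h5⟩ := rank2_coprime_comm_cprod hp hp2 hR hR1 hr hA hco ho hRA
    obtain ⟨S, C, hSC, hSna, hS3, hSe, hC, -⟩ := h5.resolve_left hna
    have hSR : S ≤ R := hSC.sup ▸ le_sup_left
    have hCR : C ≤ R := hSC.sup ▸ le_sup_right
    have hS : S = omegaOne p R := H1.eq_of_le_of_card_le (le_omegaOne_of_exp hSR hSe)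
      (hS3 ▸ rank2_exponent_p_card_le hp (isPGroup_omegaOne hR) (by rwa [pRank_omegaOne hp])
        (rank2_omega_exponent hp hp3 hR hr))
    obtain ⟨hD, hZ⟩ := center_of_card_cube hp hS3 hSna
    have hZc : IsCyclic ↥𝐙(R) := by
      apply isCyclic_of_omega_le hp hp2 (hR.to_le inf_le_left)
        (isCyclic_of_card_prime (hD.symm ▸ hp))
      rw [← hZ]
      exact le_inf (hS ▸ omegaOne_mono inf_le_left)
        ((omegaOne_le _ _).trans (inf_le_right.trans (cent_anti hSR)))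
    obtain ⟨-, m, hm⟩ := cycMod_cent_of_cyclic_pgroup hp hp2 hZc (hR.to_le inf_le_left)
      (hA.trans (norm_le_norm_center R))
    have hAZ : A ≤ 𝐂(𝐙(R)) := by
      rw [← relIndex_eq_one]
      refine Nat.eq_one_of_dvd_coprimes ?_ (relIndex_dvd_card' _ _) hm
      exact (hco.pow_right m).mul_right ((Nat.Prime.coprime_iff_not_dvd hq).mpr
        fun h => hnd (h.mul_left p))
    have hCZ : C ≤ 𝐙(R) := by
      refine le_inf hCR ?_
      rw [← hSC.sup, cent_sup]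
      exact le_inf hSC.cent (isMulComm_iff_le_cent.mp (isMulComm_of_isCyclic hC))
    have hNS : 𝐍(R) ≤ 𝐍(S) := hS ▸ norm_le_norm_omegaOne _ p
    have h6 : ⁅A, S ⊔ C⁆ ≤ S := comm_sup_le (le_norm_self S) (hCR.trans ((le_norm_self R).trans hNS))
      (comm_le_right_iff.mpr (hA.trans hNS))
      (by rw [comm_eq_bot_iff.mpr (hAZ.trans (cent_anti hCZ))]; exact bot_le)
    rw [hSC.sup, commutator_comm, hRA] at h6
    rw [le_antisymm h6 hSR, hS3]

/-- BG 5.6. -/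
theorem narrow_der_npc {p : ℕ} (hp : p.Prime) {H S : Subgroup G} (hs : Group.IsSolvable H)
    (ho : Odd 𝐨(H)) (hS : IsSyl p S H) (hn : Narrow p S)
    (hl : 2 < pRank p S → PLengthLE p 1 H) :
    HasNPC p ⁅H, H⁆ ∧ ⁅H, H⁆ ≤ pPrimePCoreOf p H ∧ PLengthLE p 1 H ∧
      ∀ q : ℕ, q.Prime → q ∣ (H2.pPrimeCoreOf p H).relIndex H → q ≤ p := by
  by_cases h : pRank p S ≤ 2
  · rw [hS.pRank_eq hp] at h
    obtain ⟨h1, h2, h3⟩ := rank2_der_npc hp hs ho h
    exact ⟨h1, h2, h3, fun q hq hd => rank2_max_pdiv hp hs ho h hq hd⟩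
  push Not at h
  have hp2 := ne_two_of_odd ho (((pRank_pos_iff hp).mp (by omega)).trans (card_dvd_of_le hS.le))
  have hL := pPrimePCoreOf_normal p H
  have hT : IsSyl p S (pPrimePCoreOf p H) := hS.of_le ((pl1_iff_le hp hS).mp (hl h)) hL.1
  have h1 := hT.frattini hp hL
  set N := H ⊓ 𝐍(S) with hN
  have h2 := der_le_sup_der h1 (inf_le_left.trans hL.2)
  have hN' : ⁅N, N⁆ ≤ H := (der_le N).trans inf_le_left
  obtain ⟨⟨n, hn⟩, hb⟩ := aut_narrow' hp hp2 hT.pgrp hn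
    (inf_le_right : N ≤ 𝐍(S)) (H1.isSolvable_of_le inf_le_left hs)
    (ho.of_dvd_nat (card_dvd_of_le inf_le_left))
  have h3 : ⁅H, H⁆ ≤ pPrimePCoreOf p H := by
    refine h2.trans (sup_le le_rfl
      (le_ppcore hp hN' (le_norm_of_der_le h2 (sup_le hL.1 hN')) (n := n) ?_))
    rw [← hn]
    exact relIndex_dvd_of_inf_le ((inf_le_inf_right _ hN').trans (solvable_p_constrained hp hs hT))
  refine ⟨(hasNPC_pPrimePCoreOf hp H).of_le hp h3, h3, hl h, fun q hq hd => ?_⟩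
  by_cases hqp : q = p
  · exact hqp.le
  obtain ⟨m, hm⟩ := relIndex_ppcore hp H
  rw [← relIndex_mul_relIndex _ _ _ (pPrimeCoreOf_le_pPrimePCoreOf p H) hL.1, hm] at hd
  have h4 : q ∣ (pPrimePCoreOf p H).relIndex H :=
    ((Nat.Prime.dvd_mul hq).mp hd).resolve_left fun h =>
      hqp ((Nat.prime_dvd_prime_iff_eq hq hp).mp (hq.dvd_of_dvd_pow h))
  have h5 := relIndex_sup_of_norm ((inf_le_left : N ≤ H).trans hL.2)
  rw [h1] at h5
  rw [h5] at h4
  obtain ⟨Q, hQN, hQ, hQC⟩ := exists_pgroup_not_le hq (h4.trans (relIndex_dvd_of_inf_le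
    ((inf_le_inf_right _ inf_le_left).trans (solvable_p_constrained hp hs hT))))
  by_contra hlt
  apply hQC
  intro a ha
  have h6 := hb h a (hQN ha)
    ((coprime_of_isPGroup hp hq hqp hQ).coprime_dvd_left (orderOf_dvd_card_of_mem ha))
  refine zpowers_le.mpr h6 (mem_zpowers_pow_iff.mpr ?_)
  obtain ⟨k, hk⟩ := exists_card_eq_pow hq hQ
  have h7 : (p - 1).Coprime q := ((Nat.Prime.coprime_iff_not_dvd hq).mpr fun h8 => by
    have := Nat.le_of_dvd (by have := hp.one_lt; omega) h8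
    omega).symm
  exact (h7.pow_right k).coprime_dvd_right (hk ▸ orderOf_dvd_card_of_mem ha)

namespace BG05

theorem cent_chief_of_le {p n : ℕ} (hp : p.Prime) {H V U P : Subgroup G} (hc : ChiefFactor H V U)
    (hn : V.relIndex U = p ^ n) (hP : IsPGroup p P) (hPH : P ≤ H)
    (h5 : ⁅H, H⁆ ≤ (H ⊓ centMod U V) ⊔ P) : ⁅U, ⁅H, H⁆⁆ ≤ V := by
  set C := centMod U V with hC
  have hDH : (H ⊓ C) ⊔ P ≤ H := sup_le inf_le_left hPH
  have hW := hc.min (⁅U, (H ⊓ C) ⊔ P⁆ ⊔ V) le_sup_right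
    (sup_le (comm_le_left_iff.mpr (hDH.trans hc.normU)) hc.lt.le)
    (H1.le_normalizer_sup (H1.le_normalizer_commutator hc.normU (le_norm_of_der_le h5 hDH)) hc.normV)
  rcases hW with hW | hW
  · exact (commutator_mono le_rfl h5).trans (le_sup_left.trans hW.le)
  exfalso
  haveI := H1.normal_subgroupOf_of_le hc.normV
  have hVH := hc.lt.le.trans hc.le
  have hUp : IsPGroup p (H1.bar H V U) := isPGroup_of_card_eq (by rw [H1.card_bar hc.le, hn])
  have hPU := H1.bar_le_normalizer (Y := H) (N := V) (hPH.trans hc.normU)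
  have hE := isPGroup_sup (H1.isPGroup_bar hP) hUp hPU
  have hlt := comm_lt_of_isNilpotent (isNilpotent_of_isPGroup hp hE)
    ⟨le_sup_right, sup_le hPU (le_norm_self _)⟩
    (fun h => hc.lt.not_ge ((H1.bar_eq_bot_iff hc.le).mp h))
  have hCU : H1.bar H V (H ⊓ C) ≤ 𝐂(H1.bar H V U) := by
    rw [H1.bar_le_centralizer_iff inf_le_left hc.le, commutator_comm]
    exact (le_centMod_iff.mp inf_le_right).2
  apply hlt.not_ge
  conv_lhs => rw [← hW]
  rw [H1.bar_sup_self hVH ((comm_le_left_iff.mpr (hDH.trans hc.normU)).trans hc.le),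
    H1.bar_commutator hc.le hDH, H1.bar_sup inf_le_left hPH]
  refine comm_sup_le ((hCU.trans (cent_anti hlt.le)).trans (cent_le_norm _))
    (le_sup_left.trans H1.le_normalizer_commutator_self) ?_ (commutator_mono le_rfl le_sup_left)
  rw [comm_eq_bot_iff.mpr (cent_comm.mp hCU)]
  exact bot_le

end BG05

/-- BG 5.7. -/
theorem rank_cent_fitting_der {p : ℕ} (hp : p.Prime) {H E : Subgroup G}
    (hs : Group.IsSolvable H) (ho : Odd 𝐨(H)) (hE : E ≤ fittingOf H)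
    (hEe : IsElementaryAbelian p E) (h : rank (fittingOf H ⊓ 𝐂(E)) ≤ 2) :
    ⁅H, H⁆ ≤ fittingOf H := by
  refine le_fitting_of_cent_chief hs ⟨le_rfl, le_norm_self H⟩ (der_le H) fun V U hc hU => ?_
  obtain ⟨q, hq, -, -, n, hn0, hn⟩ := chief_elem hs hc
  have hF := fittingOf_normal H
  by_cases hr : pRank q (fittingOf H) ≤ 2
  · exact rank2_cent_chief hs ho hF hq hr hc hU (hn ▸ dvd_pow_self q hn0.ne')
  have hnil : Group.IsNilpotent (fittingOf H) := H2.isNilpotent_fittingOf H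
  have hT := isSyl_pCoreOf_of_isNilpotent hq hnil
  set T := pCoreOf q (fittingOf H) with hTdef
  rw [← hT.pRank_eq hq, not_le] at hr
  have hqp : q = p := by
    by_contra hqp
    have h1 := le_cent_of_coprime_of_isNilpotent hnil hT.le hE
      (coprime_card_of_isPGroup hq hp hqp hT.pgrp (elemAb_isPGroup hEe))
    have h2 := (pRank_mono hq (le_inf hT.le h1)).trans ((pRank_le_rank hq _).trans h)
    omega
  subst hqp
  have hHT : H ≤ 𝐍(T) := hF.2.trans (hT.norm_le_of_isNilpotent hq hnil)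
  have hET : E ≤ T := hT.le_of_normal hq (hF.1.trans hHT) (elemAb_isPGroup hEe) hE
  obtain ⟨B, hB, hEB⟩ := exists_isMaxElem_ge hET hEe
  have hrB : pRank q (T ⊓ 𝐂(B)) ≤ 2 :=
    (pRank_mono hq (inf_le_inf hT.le (cent_anti hEB))).trans ((pRank_le_rank hq _).trans h)
  have hnar : Narrow q T := by
    intro _
    refine ⟨B, ?_, hB⟩
    have h1 := isElem_pRank_of_elemAb hq hB.2.1
    rw [hB.pRank_cent hq] at hrB
    by_contra h2
    have h3 : pRank q B ≤ 1 := by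
      by_contra h3
      exact h2 ((show pRank q B = 2 by omega) ▸ h1)
    have hZ : omegaOne q 𝐙(T) ≤ T ⊓ 𝐂(T) := omegaOne_le _ _
    have hZB : omegaOne q 𝐙(T) ≤ B := hB.le_of_cent (hZ.trans inf_le_left)
      (hZ.trans (inf_le_right.trans (cent_anti hB.1))) (elemAb_omega_center q T).2
    have h4 : omegaOne q 𝐙(T) = B := by
      apply H1.eq_of_le_of_card_le hZB
      rw [h1.card]
      refine (Nat.pow_le_pow_right hq.pos h3).trans ?_
      rw [pow_one]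
      exact Nat.le_of_dvd Nat.card_pos (prime_dvd_card_of_isPGroup hq
        (hT.pgrp.to_le (hZ.trans inf_le_left))
        (omega_center_ne_bot hq hT.pgrp (ne_bot_of_pRank hq hr)))
    have h5 := hB.pRank_cent hq
    rw [inf_eq_left.mpr (cent_comm.mp (h4.ge.trans (hZ.trans inf_le_right)))] at h5
    omega
  have hq2 := ne_two_of_odd ho
    (((pRank_pos_iff hq).mp (by omega)).trans (card_dvd_of_le (hT.le.trans hF.1)))
  obtain ⟨⟨m, hm⟩, -⟩ := aut_narrow' hq hq2 hT.pgrp hnar hHT hs ho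
  have hUeq : V ⊔ (T ⊓ U) = U := sup_eq_of_relIndex_dvd hq hc.lt.le hn.dvd
    (hT.inf_normal hq ⟨hU, hF.1.trans hc.normU⟩)
  have hCT : H ⊓ 𝐂(T) ≤ centMod U V := by
    have h4 : H ⊓ 𝐂(T) ≤ 𝐍(V) := inf_le_left.trans hc.normV
    refine le_centMod_iff.mpr ⟨h4, ?_⟩
    rw [commutator_comm, ← hUeq]
    refine comm_sup_le (le_norm_self V) (inf_le_right.trans (hc.le.trans hc.normV))
      (comm_le_right_iff.mpr h4) ?_
    rw [comm_eq_bot_iff.mpr (inf_le_right.trans (cent_anti inf_le_left))]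
    exact bot_le
  obtain ⟨P, hP⟩ := exists_isSyl hq ⁅H, H⁆
  have h4 : (⁅H, H⁆ ⊓ 𝐂(T)) ⊔ P = ⁅H, H⁆ := sup_eq_of_relIndex_dvd hq inf_le_left
    (by rw [inf_relIndex_left, hm]) hP
  refine cent_chief_of_le hq hc hn hP.pgrp (hP.le.trans (der_le H)) (h4.ge.trans ?_)
  exact sup_le_sup_right (le_inf (inf_le_left.trans (der_le H))
    ((inf_le_inf_right _ (der_le H)).trans hCT)) _

end Cfsg.Agent.FT
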