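/-
BG appendices A and B (p-stability, Puig subgroup) and section 6.
-/
import Cfsg.Agent.FT.BG05
import Cfsg.Agent.H2.Puig

set_option autoImplicit false
set_option linter.unusedSectionVars false

namespace Cfsg.Agent.FT

open Subgroup Cfsg Cfsg.Agent
open scoped commutatorElement

universe u

variable {G : Type u} [Group G] [Finite G]

namespace BG06

theorem puigAt_succ (D : Subgroup G) (n : ℕ) : puigAt D (n + 1) = H2.puigStep D (puigAt D n) := rfl

theorem puigAt_even_le (D : Subgroup G) (n : ℕ) : puigAt D (2 * n) ≤ H2.puigLow D := by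
  induction n with
  | zero => exact bot_le
  | succ n ih =>
    rw [show 2 * (n + 1) = 2 * n + 1 + 1 by ring, puigAt_succ, puigAt_succ, ← H2.puigStep_puig]
    exact H2.puigStep_mono le_rfl (H2.puigStep_mono le_rfl ih)

theorem puigAt_even_mono (D : Subgroup G) (n : ℕ) : puigAt D (2 * n) ≤ puigAt D (2 * (n + 1)) := by
  induction n with
  | zero => exact bot_le
  | succ n ih =>
    rw [show 2 * (n + 1 + 1) = 2 * (n + 1) + 1 + 1 by ring, puigAt_succ, puigAt_succ]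
    conv_lhs => rw [show 2 * (n + 1) = 2 * n + 1 + 1 by ring, puigAt_succ, puigAt_succ]
    exact H2.puigStep_mono le_rfl (H2.puigStep_mono le_rfl ih)

theorem exists_puigAt_eq (D : Subgroup G) : ∃ n, puigAt D (2 * n) = H2.puigLow D := by
  obtain ⟨X, ⟨n, rfl⟩, hX⟩ := exists_maximal_of_wellFoundedGT
    (fun X : Subgroup G => ∃ n, puigAt D (2 * n) = X) ⟨_, 0, rfl⟩
  refine ⟨n, le_antisymm (puigAt_even_le D n) (H2.puigLow_le_of ?_)⟩
  have := hX ⟨n + 1, rfl⟩ (puigAt_even_mono D n)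
  rwa [show 2 * (n + 1) = 2 * n + 1 + 1 by ring, puigAt_succ, puigAt_succ] at this

theorem puig_eq (D : Subgroup G) : puig D = H2.puig D := by
  obtain ⟨n, hn⟩ := exists_puigAt_eq D
  apply le_antisymm
  · refine (iInf_le _ n).trans ?_
    rw [puigAt_succ, hn]; exact le_rfl
  · refine le_iInf fun m => ?_
    rw [puigAt_succ]
    exact H2.puigStep_mono le_rfl (puigAt_even_le D m)

theorem center_puig_eq (D : Subgroup G) : 𝐙(puig D) = H2.zl D := by rw [puig_eq]; rfl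

theorem eq_bot_of_two_of_odd {H T : Subgroup G} (ho : Odd 𝐨(H)) (hT : T ≤ H)
    (h2 : IsPGroup 2 T) : T = ⊥ := by
  by_contra h
  exact (Nat.not_even_iff_odd.2 ho) (even_iff_two_dvd.2
    ((prime_dvd_card_of_isPGroup Nat.prime_two h2 h).trans (card_dvd_of_le hT)))

theorem comm_of_odd {H : Subgroup G} (ho : Odd 𝐨(H)) :
    ∀ T ≤ H, IsPGroup 2 T → IsMulCommutative T := by
  intro T hT h2
  rw [eq_bot_of_two_of_odd ho hT h2]
  infer_instance

theorem pPrimeCoreOf_two_of_odd {H : Subgroup G} (ho : Odd 𝐨(H)) : H2.pPrimeCoreOf 2 H = H :=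
  le_antisymm (pPrimeCoreOf_normal 2 H).1
    (le_pPrimeCoreOf ⟨le_rfl, le_norm_self H⟩ (Nat.coprime_two_right.2 ho))

/-- A `p'`-subgroup of `O_{p',p}(H)` lies in `O_{p'}(H)`. -/
theorem le_pPrimeCoreOf_of_le {p : ℕ} (hp : p.Prime) {H L : Subgroup G}
    (hL : L ≤ pPrimePCoreOf p H) (hc : 𝐨(L).Coprime p) : L ≤ H2.pPrimeCoreOf p H := by
  rw [← pPrimeCoreOf_pPrimePCoreOf hp]
  exact (hasNPC_pPrimePCoreOf hp H).le_pPrimeCoreOf hp hL
    ((Nat.Prime.coprime_iff_not_dvd hp).1 hc.symm)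

/-- A subgroup centralizing a Sylow `p`-subgroup of `O_{p',p}(H)` modulo `O_{p'}(H)` lies in
`O_{p',p}(H)`. -/
theorem le_pPrimePCoreOf_of_comm_le {p : ℕ} (hp : p.Prime) {H T C : Subgroup G}
    (hs : Group.IsSolvable H) (hT : IsSyl p T (pPrimePCoreOf p H)) (hC : C ≤ H)
    (h : ⁅T, C⁆ ≤ H2.pPrimeCoreOf p H) : C ≤ pPrimePCoreOf p H := by
  haveI := Fact.mk hp
  intro g hg
  have hTH : T ≤ H := hT.le.trans (pPrimePCoreOf_normal p H).1
  obtain ⟨n, hn, hng⟩ := H1.exists_mul_mem_centralizer (A := T) (N := H2.pPrimeCoreOf p H)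
    (hTH.trans (pPrimeCoreOf_normal p H).2)
    (H1.coprime_card_of_isPGroup hT.pgrp (H2.coprime_card_pPrimeCoreOf p H)).symm
    (Or.inl (H1.isSolvable_of_le hTH hs)) (g := g)
    (fun a ha => h (commutator_mem_commutator ha hg))
  have h1 : n * g ∈ pPrimePCoreOf p H := solvable_p_constrained hp hs hT
    (mem_inf.2 ⟨mul_mem ((pPrimeCoreOf_normal p H).1 hn) (hC hg), hng⟩)
  exact (mul_mem_cancel_left (pPrimeCoreOf_le_pPrimePCoreOf p H hn)).1 h1

end BG06

open BG06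

/-- BG A.4(a)/(A.3): solvable groups of odd order are `p`-stable. `A C / C ≤ O_p(N_H(P) / C_H(P))`
is written as: `A` lies in a subgroup `D` normal in `N_H(P)` with `D / C_D(P)` a `p`-group. -/
theorem odd_p_stable {p : ℕ} (hp : p.Prime) {H P A : Subgroup G} (hs : Group.IsSolvable H)
    (ho : Odd 𝐨(H)) (hP : IsPGroup p P) (hA : IsPGroup p A) (hAH : A ≤ H ⊓ 𝐍(P))
    (hq : ⁅⁅P, A⁆, A⁆ = ⊥) :
    ∃ D : Subgroup G, A ≤ D ∧ D ⊲ H ⊓ 𝐍(P) ∧ ∃ n : ℕ, 𝐂(P).relIndex D = p ^ n := by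
  haveI := Fact.mk hp
  by_cases hp2 : p = 2
  · subst hp2
    refine ⟨⊥, (eq_bot_of_two_of_odd ho (hAH.trans inf_le_left) hA).le,
      ⟨bot_le, by rw [norm_bot]; exact le_top⟩, 0, by simp⟩
  obtain ⟨M, hM⟩ : ∃ M, M = H ⊓ 𝐍(P) := ⟨_, rfl⟩
  rw [← hM] at hAH ⊢
  have hMP : M ≤ 𝐍(P) := hM ▸ inf_le_right
  haveI : ((𝐂(P)).subgroupOf M).Normal :=
    H1.normal_subgroupOf_of_le (H1.le_normalizer_centralizer hMP)
  have h := H2.snIn_sup_centralizer_of_quadratic hp2 (M := M) hP hMP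
    (fun T hT => comm_of_odd ho T (hT.trans (hM ▸ inf_le_left))) hAH hq
    (H1.qmk M 𝐂(P)) H1.qmk_surjective (fun m => H1.qmk_eq_one_iff)
  refine ⟨H1.unbar M 𝐂(P) (pCore p _), (H1.bar_le_iff hAH).1 h,
    ⟨H1.unbar_le _, H1.le_normalizer_unbar_of_normal _⟩, ?_⟩
  rw [← H1.card_bar (H1.unbar_le _), H1.bar_unbar]
  exact IsPGroup.iff_card.1 (L.isPGroup_pCore p)

/-- BG A.5(b). -/
theorem odd_abelian_gen_constrained {p : ℕ} (hp : p.Prime) {H P B : Subgroup G}
    (hs : Group.IsSolvable H) (ho : Odd 𝐨(H)) (hP : P ⊲ H) (hPp : IsPGroup p P)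
    (h1 : H2.pPrimeCoreOf p H = ⊥) (hC : pCoreOf p H ⊓ 𝐂(P) ≤ P) (hB : B ≤ H)
    (hBc : IsMulCommutative B) (hBp : IsPGroup p B) (hPB : P ≤ 𝐍(B)) : B ≤ pCoreOf p H := by
  haveI := Fact.mk hp
  obtain ⟨D, hBD, hD, n, hn⟩ := odd_p_stable hp hs ho hPp hBp (le_inf hB (hB.trans hP.2))
    (H2.commutator_commutator_eq_bot_of_le_normalizer hBc hPB)
  rw [inf_of_le_left hP.2] at hD
  have hO : IsPGroup p (pCoreOf p H) := H2.isPGroup_pCoreOf p H
  have hT : IsSyl p (pCoreOf p H) (pPrimePCoreOf p H) := by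
    rw [pPrimePCoreOf_eq_pCoreOf hp h1]
    exact ⟨le_rfl, hO, by rw [relIndex_self]; exact hp.not_dvd_one⟩
  have hc := solvable_p_constrained hp hs hT
  rw [pPrimePCoreOf_eq_pCoreOf hp h1] at hc
  have hCp : IsPGroup p ↥(𝐂(P) ⊓ D) := by
    refine H5.isPGroup_of_forall_coprime_eq_one fun x hx hxo => ?_
    have hcop : 𝐨(zpowers x).Coprime 𝐨(pCoreOf p H) := by
      rw [Nat.card_zpowers]; exact H1.coprime_card_of_isPGroup hO hxo
    have hxH : zpowers x ≤ H := zpowers_le.2 (hD.1 (mem_inf.1 hx).2)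
    have hPx : P ≤ 𝐂(zpowers x) := cent_comm.1 (zpowers_le.2 (mem_inf.1 hx).1)
    have h2 : zpowers x ≤ 𝐂(pCoreOf p H) :=
      H1.le_centralizer_of_centralizer_le hO.isNilpotent (hxH.trans (pCoreOf_normal p H).2) hcop
        (le_pCoreOf hP hPp) hPx (hC.trans hPx)
    have h3 := H1.inf_eq_bot_of_coprime' hcop
    exact mem_bot.1 (h3 ▸ mem_inf.2 ⟨mem_zpowers x, hc (le_inf hxH h2 (mem_zpowers x))⟩)
  obtain ⟨k, hk⟩ := exists_card_eq_pow hp hCp
  have hDp : IsPGroup p D := by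
    refine isPGroup_of_card_eq (n := k + n) ?_
    rw [← H1.card_inf_mul_relIndex 𝐂(P) D, hk, hn, pow_add]
  exact hBD.trans (le_pCoreOf hD hDp)

/-- BG 6.1 = A.4(b). -/
theorem solvable_p_abelian_constrained {p : ℕ} (hp : p.Prime) {H S A : Subgroup G}
    (hs : Group.IsSolvable H) (ho : Odd 𝐨(H)) (hS : IsSyl p S H) (hA : A ⊲ S)
    (hc : IsMulCommutative A) : A ≤ pPrimePCoreOf p H := by
  haveI := Fact.mk hp
  by_cases hp2 : p = 2
  · subst hp2
    rw [eq_bot_of_two_of_odd ho (hA.1.trans hS.le) (hS.pgrp.to_le hA.1)]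
    exact bot_le
  obtain ⟨f, hf⟩ : ∃ f, f = QuotientGroup.mk' (pPrimeCore p H) := ⟨_, rfl⟩
  have hfs : Function.Surjective f := hf ▸ QuotientGroup.mk'_surjective _
  have hst : H2.PStab p (H ⧸ pPrimeCore p H) := by
    refine H2.pStab_of_abelian_sylow_two hp2 fun T hT => ?_
    refine comm_of_odd (H := ⊤) ?_ T le_top hT
    rw [card_top]
    exact Odd.of_dvd_nat ho (card_quotient_dvd_card _)
  have hcc := L.centralizer_pCore_le hp (L.isPSolvable_of_isSolvable (G := H ⧸ pPrimeCore p H)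
    hp) (L.pPrimeCore_quotient_pPrimeCore hp)
  have hS' : IsPGroup p (S.subgroupOf H) := hS.pgrp.comap_subtype
  have hle : pCore p (H ⧸ pPrimeCore p H) ≤ (S.subgroupOf H).map f := by
    refine H1.le_sylow_of_le_normalizer le_top (hS'.map f) ?_ le_top (L.isPGroup_pCore p)
      (le_top.trans (normalizer_eq_top _).ge)
    rw [relIndex_top_right]
    exact fun h => hS.ndvd (h.trans (index_map_dvd _ hfs))
  have hAH : A ≤ H := hA.1.trans hS.le
  have hn : (S.subgroupOf H).map f ≤ 𝐍((A.subgroupOf H).map f) := by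
    refine (map_mono ?_).trans (le_normalizer_map f)
    exact (comap_mono hA.2).trans (le_normalizer_comap _)
  haveI : IsMulCommutative (A.subgroupOf H) := inferInstance
  have h := (H2.le_puigStep le_top inferInstance (hle.trans hn)).trans
    (hst.puigStep_le_pCore hcc (S := ⊤) le_rfl inf_le_left le_rfl)
  rw [← map_subgroupOf_eq_of_le hAH]
  refine map_mono ?_
  rw [map_le_iff_le_comap, hf] at h
  exact h

/-- BG A.4(c): an abelian normal subgroup `A` of a Sylow `p`-subgroup that is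
self-centralizing there: every `A`-invariant `p'`-subgroup of `H` lies in `O_{p'}(H)`.
(used for BG 7.5(b)) -/
theorem scn_normed_le_pPrimeCore {p : ℕ} (hp : p.Prime) {H S A Y : Subgroup G}
    (hs : Group.IsSolvable H) (ho : Odd 𝐨(H)) (hS : IsSyl p S H) (hA : IsSCN S A)
    (hY : Y ≤ H) (hc : 𝐨(Y).Coprime p) (hAY : A ≤ 𝐍(Y)) : Y ≤ H2.pPrimeCoreOf p H := by
  haveI := Fact.mk hp
  have hAc : IsMulCommutative A := isMulComm_iff_le_cent.2 (hA.2.2.ge.trans inf_le_right)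
  have hAp : IsPGroup p A := hS.pgrp.to_le hA.1
  have h1 := solvable_p_abelian_constrained hp hs ho hS ⟨hA.1, hA.2.1⟩ hAc
  rw [← H1.commutator_sup_centralizer hAY (H1.coprime_card_of_isPGroup hAp hc).symm
    (Or.inr (H1.isSolvable_of_le hY hs))]
  refine sup_le (le_pPrimeCoreOf_of_le hp ?_ ?_) ?_
  · exact (commutator_mono le_rfl h1).trans
      (comm_le_right_iff.2 (hY.trans (pPrimePCoreOf_normal p H).2))
  · exact Nat.Coprime.coprime_dvd_left (card_dvd_of_le (comm_le_left_iff.2 hAY)) hc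
  · have hd := scn_sylow_cent_dprod hp hS hA
    have hnpc : HasNPC p (H ⊓ 𝐂(A)) := (hd.sdProd.hall
      ((isPi_compl_singleton_iff hp).2 (H2.coprime_card_pPrimeCoreOf p _))
      (by rw [compl_compl]; exact (isPi_singleton_iff hp).2 hAp)).1
    refine (hnpc.le_pPrimeCoreOf hp (inf_le_inf_right _ hY) ?_).trans
      (pPrimeCore_cent_pgroup hp hs (hA.1.trans hS.le) hAp)
    exact fun h => (Nat.Prime.coprime_iff_not_dvd hp).1 hc.symm
      (h.trans (card_dvd_of_le inf_le_left))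

theorem puig_le (D : Subgroup G) : puig D ≤ D := by
  rw [puig_eq]; exact H2.puig_le D

theorem normalizer_le_normalizer_puig (D : Subgroup G) : 𝐍(D) ≤ 𝐍(puig D) := by
  rw [puig_eq]; exact H2.normalizer_le_normalizer_puig D

theorem puig_cj (D : Subgroup G) (g : G) : puig (D ^ᵍ g) = puig D ^ᵍ g := by
  rw [puig_eq, puig_eq]; exact (H2.conj_smul_puig g D).symm

/-- BG B.1(e): abelian normal subgroups lie in `L(D)`. -/
theorem le_puig_of_abelian_normal {A D : Subgroup G} (hA : A ⊲ D) (hc : IsMulCommutative A) :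
    A ≤ puig D := by
  rw [puig_eq]; exact (H2.le_puigLow hA.1 hc hA.2).trans (H2.puigLow_le_puig D)

/-- BG B.1(f). -/
theorem cent_puig_le {p : ℕ} (hp : p.Prime) {D : Subgroup G} (hD : IsPGroup p D) :
    D ⊓ 𝐂(puig D) ≤ puig D := by
  haveI := isNilpotent_of_isPGroup hp hD
  rw [puig_eq]
  exact ((inf_le_inf_left _ (cent_anti (H2.puigLow_le_puig D))).trans
    H2.inf_centralizer_puigLow_le).trans (H2.puigLow_le_puig D)

theorem center_puig_ne_bot {p : ℕ} (hp : p.Prime) {D : Subgroup G} (hD : IsPGroup p D)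
    (h1 : D ≠ ⊥) : 𝐙(puig D) ≠ ⊥ := by
  haveI := isNilpotent_of_isPGroup hp hD
  rw [center_puig_eq]; exact H2.zl_ne_bot h1

/-- BG B.2. -/
theorem puig_eq_of_le {D H : Subgroup G} (hH : H ≤ D) (h : puig D ≤ H) : puig H = puig D := by
  rw [puig_eq] at h
  rw [puig_eq, puig_eq]; exact H2.puig_eq_of_le h hH

/-- BG B.4(a). -/
theorem puig_factorisation {p : ℕ} (hp : p.Prime) {H S : Subgroup G} (hs : Group.IsSolvable H)
    (ho : Odd 𝐨(H)) (hS : IsSyl p S H) :
    H2.pPrimeCoreOf p H ⊔ (H ⊓ 𝐍(𝐙(puig S))) = H := by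
  haveI := Fact.mk hp
  refine le_antisymm (sup_le (pPrimeCoreOf_normal p H).1 inf_le_left) ?_
  by_cases hp2 : p = 2
  · subst hp2
    rw [pPrimeCoreOf_two_of_odd ho]; exact le_sup_left
  intro u hu
  obtain ⟨o, ho', n, hn, rfl⟩ := H2.exists_mul_normalizer_zl hp2 hs (comm_of_odd ho) hS.le
    hS.pgrp hS.ndvd hu
  rw [center_puig_eq]
  exact mul_mem_sup ho' hn

/-- BG B.4(b). -/
theorem puig_center_normal {p : ℕ} (hp : p.Prime) {H S : Subgroup G} (hs : Group.IsSolvable H)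
    (ho : Odd 𝐨(H)) (hS : IsSyl p S H) (h1 : H2.pPrimeCoreOf p H = ⊥) : H ≤ 𝐍(𝐙(puig S)) := by
  have := puig_factorisation hp hs ho hS
  rw [h1, bot_sup_eq] at this
  exact this.ge.trans inf_le_right

/-- BG 6.2 (with `L` in place of `J`). -/
theorem puig_center_pPrimeCore_normal {p : ℕ} (hp : p.Prime) {H S : Subgroup G}
    (hs : Group.IsSolvable H) (ho : Odd 𝐨(H)) (hS : IsSyl p S H) :
    H ≤ 𝐍(H2.pPrimeCoreOf p H ⊔ 𝐙(puig S)) := by
  have hZ : 𝐙(puig S) ≤ H := inf_le_left.trans ((puig_le S).trans hS.le)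
  conv_lhs => rw [← puig_factorisation hp hs ho hS]
  refine sup_le ?_ (H1.le_normalizer_sup (inf_le_left.trans (pPrimeCoreOf_normal p H).2)
    inf_le_right)
  refine comm_le_left_iff.1 (le_trans ?_ le_sup_left)
  exact comm_le_right_iff.2 ((sup_le (pPrimeCoreOf_normal p H).1 hZ).trans
    (pPrimeCoreOf_normal p H).2)

end Cfsg.Agent.FT
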