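/-
BG section 6.
-/
import Cfsg.Agent.FT.P.BG06_1

set_option autoImplicit false
set_option linter.unusedSectionVars false

namespace Cfsg.Agent.FT

open Subgroup Cfsg Cfsg.Agent
open scoped commutatorElement

universe u

variable {G : Type u} [Group G] [Finite G]

namespace BG06

/-- A solvable group generated by its derived subgroup and a normal subgroup `N` lies in `N`. -/
theorem le_of_le_der_sup {K N : Subgroup G} (hs : Group.IsSolvable K) (hN : N ⊲ K)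
    (h : K ≤ ⁅K, K⁆ ⊔ N) : K ≤ N := by
  haveI : (N.subgroupOf K).Normal := H1.normal_subgroupOf_of_le hN.2
  rw [← H1.bar_eq_bot_iff (Y := K) le_rfl]
  by_contra hne
  have h1 : H1.bar K N K ≤ ⁅H1.bar K N K, H1.bar K N K⁆ := by
    rw [← H1.bar_commutator le_rfl le_rfl]
    exact (H1.bar_le_bar_iff hN.1 le_rfl (der_le K)).2 h
  exact (Group.IsSolvable.commutator_lt_of_ne_bot hne).not_ge h1

end BG06

open BG06

/-- BG 6.3(a). -/
theorem coprime_der_sdprod {K H M : Subgroup G} (h : SdProd K H M) (hc : 𝐨(K).Coprime 𝐨(H))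
    (hs : Group.IsSolvable K) (hK : K ≤ ⁅M, M⁆) : ⁅K, H⁆ = K ∧ K ⊓ 𝐂(H) ≤ ⁅K, K⁆ := by
  have hKH : ⁅K, H⁆ ≤ K := comm_le_left_iff.2 h.norm
  have hn1 : K ≤ 𝐍(⁅K, H⁆) := by
    rw [commutator_comm]; exact H1.le_normalizer_commutator_self
  have hn2 : H ≤ 𝐍(⁅K, H⁆) := H1.le_normalizer_commutator_self
  obtain ⟨N, hN⟩ : ∃ N, N = ⁅K, K⁆ ⊔ ⁅K, H⁆ := ⟨_, rfl⟩
  have hNK : N ≤ K := hN ▸ sup_le (der_le K) hKH
  have hHN : H ≤ 𝐍(N) := hN ▸ H1.le_normalizer_sup (h.norm.trans (norm_le_norm_der K)) hn2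
  have hKN : K ≤ 𝐍(N) := le_norm_of_der_le (hN ▸ le_sup_left) hNK
  have hMN : M ≤ 𝐍(N ⊔ ⁅H, H⁆) := by
    rw [← h.sup]
    refine sup_le (comm_le_left_iff.1 ?_) (H1.le_normalizer_sup hHN (der_normal H).2)
    rw [commutator_comm]
    refine le_trans (comm_sup_le (le_norm_self N) ((der_le H).trans hHN) ?_ ?_) le_sup_left
    · exact comm_le_right_iff.2 hKN
    · exact (commutator_mono le_rfl (der_le H)).trans (hN ▸ le_sup_right)
  have h1 : ⁅M, M⁆ ≤ N ⊔ ⁅H, H⁆ := h.der_le hMN (le_trans (hN ▸ le_sup_left) le_sup_left)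
    (le_trans (hN ▸ le_sup_right) le_sup_left) le_sup_right
  have h2 : K ≤ N := by
    have := le_inf (hK.trans h1) (le_refl K)
    rw [sup_inf_of_le_left ((der_le H).trans hHN) hNK] at this
    refine this.trans (sup_le le_rfl ?_)
    exact le_trans (le_trans (inf_le_inf_right _ (der_le H)) (by rw [inf_comm, h.disj])) bot_le
  have h3 : ⁅K, H⁆ = K := le_antisymm hKH (le_of_le_der_sup hs ⟨hKH, hn1⟩ (hN ▸ h2))
  refine ⟨h3, fun x hx => ?_⟩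
  refine H1.mem_of_commutator_mem_of_abelian_section (der_le K) le_rfl h.norm
    (h.norm.trans (norm_le_norm_der K)) hc.symm (mem_sup_left (h3.ge (mem_inf.1 hx).1)) ?_
  intro a ha
  rw [commutatorElement_eq_one_iff_mul_comm.2 (mem_cent.1 (mem_inf.1 hx).2 a ha).symm]
  exact one_mem _

/-- BG 6.3(b). -/
theorem prime_nil_der_factor {M : Subgroup G} (hn : Group.IsNilpotent ↥⁅M, M⁆)
    (hp : ((⁅M, M⁆ : Subgroup G).relIndex M).Prime) :
    IsHallIn ⁅M, M⁆ M ∧ ∀ K : Subgroup G, SdProd ⁅M, M⁆ K M → ⁅M, K⁆ = ⁅M, M⁆ := by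
  obtain ⟨q, hq⟩ : ∃ q, q = (⁅M, M⁆ : Subgroup G).relIndex M := ⟨_, rfl⟩
  rw [← hq] at hp
  haveI := Fact.mk hp
  have hH : IsHallIn ⁅M, M⁆ M := by
    refine ⟨der_le M, ?_⟩
    rw [← hq]
    obtain ⟨N, hN⟩ : ∃ N, N = H2.pPrimeCoreOf q (⁅M, M⁆ : Subgroup G) := ⟨_, rfl⟩
    have hND : N ≤ ⁅M, M⁆ := hN ▸ (pPrimeCoreOf_normal q _).1
    have hMN : M ≤ 𝐍(N) := hN ▸ (der_normal M).2.trans (H2.normalizer_le_normalizer_pPrimeCoreOf q _)
    haveI : (N.subgroupOf M).Normal := H1.normal_subgroupOf_of_le hMN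
    have hd := (dProd_pCoreOf_of_isNilpotent hp hn).symm.sdProd
    rw [← hN] at hd
    obtain ⟨k, hk⟩ := exists_card_eq_pow hp (H2.isPGroup_pCoreOf q (⁅M, M⁆ : Subgroup G))
    have hD : H1.bar M N ⁅M, M⁆ = _root_.commutator (M ⧸ N.subgroupOf M) := by
      rw [H1.bar_commutator le_rfl le_rfl, H1.bar_top]; rfl
    have hi : (_root_.commutator (M ⧸ N.subgroupOf M)).index = q := by
      rw [← hD, ← relIndex_top_right, ← H1.bar_top,
        H1.relIndex_bar (hND.trans (der_le M)) (der_le M) le_rfl, sup_of_le_left hND,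
        sup_of_le_left (hND.trans (der_le M)), hq]
    have hP : IsPGroup q (M ⧸ N.subgroupOf M) := by
      refine IsPGroup.of_card (n := k + 1) ?_
      rw [← (_root_.commutator (M ⧸ N.subgroupOf M)).card_mul_index, hi, ← hD,
        H1.card_bar (der_le M), hd.relIndex_left, hk, pow_succ]
    have hcyc : IsCyclic (M ⧸ N.subgroupOf M) :=
      H3.isCyclic_of_isCyclic_quotient_commutator hP (isCyclic_of_prime_card (p := q) hi)
    have h1 : H1.bar M N ⁅M, M⁆ = ⊥ := by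
      rw [hD]
      exact (commutator_eq_bot_iff_center_eq_top _).2
        (by letI := hcyc.commGroup; exact CommGroup.center_eq_top)
    rw [le_antisymm ((H1.bar_eq_bot_iff (der_le M)).1 h1) hND, hN]
    exact H2.coprime_card_pPrimeCoreOf q _
  refine ⟨hH, fun K hK => le_antisymm (commutator_mono le_rfl hK.le_right) ?_⟩
  have := (coprime_der_sdprod hK (hK.relIndex_left ▸ hH.2) (isSolvable_of_isNilpotent hn) le_rfl).1
  exact this.ge.trans (commutator_mono (der_le M) le_rfl)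

/-- BG 6.5(a). -/
theorem pprod_focal_coprime {K U H M : Subgroup G} (hKU : K ⊔ U = M) (hK : M ≤ 𝐍(K))
    (hH : H ≤ U) (hc : 𝐨(H).Coprime 𝐨(K)) : H ⊓ ⁅M, M⁆ = H ⊓ ⁅U, U⁆ := by
  have hUM : U ≤ M := hKU ▸ le_sup_right
  have hKM : K ≤ M := hKU ▸ le_sup_left
  refine le_antisymm (fun x hx => mem_inf.2 ⟨(mem_inf.1 hx).1, ?_⟩)
    (inf_le_inf_left _ (commutator_mono hUM hUM))
  have hUK : ⁅U, U⁆ ≤ 𝐍(K) := (der_le U).trans (hUM.trans hK)
  have h1 : ⁅M, M⁆ ≤ K ⊔ ⁅U, U⁆ := by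
    rw [← hKU]
    refine der_sup_le (le_sup_left.trans (le_norm_self _))
      (H1.le_normalizer_sup (hUM.trans hK) (der_normal U).2)
      ((der_le K).trans le_sup_left) ((comm_le_left_iff.2 (hUM.trans hK)).trans le_sup_left)
      le_sup_right
  obtain ⟨k, hk, u, hu, rfl⟩ := (mem_sup_of_norm hUK).1 (h1 (mem_inf.1 hx).2)
  have hxU : k * u ∈ U := hH (mem_inf.1 hx).1
  have hkU : k ∈ U := (mul_mem_cancel_right (der_le U hu)).1 hxU
  haveI : ((⁅U, U⁆ : Subgroup G).subgroupOf U).Normal := H1.normal_subgroupOf_of_le (der_normal U).2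
  have e : H1.qmk U ⁅U, U⁆ ⟨k * u, hxU⟩ = H1.qmk U ⁅U, U⁆ ⟨k, hkU⟩ := by
    rw [show (⟨k * u, hxU⟩ : U) = ⟨k, hkU⟩ * ⟨u, der_le U hu⟩ from rfl, map_mul,
      (H1.qmk_eq_one_iff (y := ⟨u, der_le U hu⟩)).2 hu, mul_one]
  have h2 : H1.qmk U ⁅U, U⁆ ⟨k * u, hxU⟩ ∈ H1.bar U ⁅U, U⁆ H ⊓ H1.bar U ⁅U, U⁆ K :=
    mem_inf.2 ⟨H1.qmk_mem_bar (mem_inf.1 hx).1, e ▸ H1.qmk_mem_bar hk⟩
  rw [H1.inf_eq_bot_of_coprime' (H1.coprime_bar hc), mem_bot, H1.qmk_eq_one_iff] at h2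
  exact h2

/-- BG 6.5(c). -/
theorem pprod_trans_coprime {K U H M : Subgroup G} (hs : Group.IsSolvable M) (hKU : K ⊔ U = M)
    (hK : M ≤ 𝐍(K)) (hH : H ≤ U) (hc : 𝐨(H).Coprime 𝐨(K)) {g : G} (hg : g ∈ M)
    (hgH : H ^ᵍ g ≤ U) : ∃ u ∈ U, ∃ c ∈ K ⊓ 𝐂(H), g = u * c := by
  have hUM : U ≤ M := hKU ▸ le_sup_right
  have hUK : U ≤ 𝐍(K) := hUM.trans hK
  obtain ⟨u, hu, k, hk, rfl⟩ := (mem_sup_of_norm' hUK).1 (hKU.ge hg)
  have h1 : H ^ᵍ k ≤ U := by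
    rw [← conj_conj, conj_le_iff, conj_eq_of_mem (inv_mem hu)] at hgH
    exact hgH
  have h2 : H ^ᵍ k ≤ H ⊔ (K ⊓ U) := by
    rw [sup_comm, ← sup_inf_of_le_right (hH.trans hUK) hH]
    exact le_inf (conj_le_of_mem le_sup_right (mem_sup_left hk)) h1
  have hc' : 𝐨(H).Coprime 𝐨(K ⊓ U) := hc.coprime_dvd_right (card_dvd_of_le inf_le_left)
  obtain ⟨n, hn, hnH⟩ := H1.exists_conj_le_of_le_sup
    (H1.le_normalizer_inf (hH.trans hUK) (hH.trans (le_norm_self U))) hc'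
    (Or.inl (H1.isSolvable_of_le (hH.trans hUM) hs)) h2 (by rw [card_conj]; exact hc')
  rw [conj_conj] at hnH
  have h3 : n * k ∈ K ⊓ 𝐍(H) :=
    mem_inf.2 ⟨mul_mem (mem_inf.1 hn).1 hk, mem_norm_of_conj_le hnH⟩
  rw [H1.inf_normalizer_eq_inf_centralizer (hH.trans hUK) (H1.inf_eq_bot_of_coprime' hc)] at h3
  exact ⟨u * n⁻¹, mul_mem hu (inv_mem (mem_inf.1 hn).2), n * k, h3, by group⟩

/-- BG 6.5(b). -/
theorem pprod_norm_coprime {K U H M : Subgroup G} (hs : Group.IsSolvable M) (hKU : K ⊔ U = M)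
    (hK : M ≤ 𝐍(K)) (hH : H ≤ U) (hc : 𝐨(H).Coprime 𝐨(K)) :
    (K ⊓ 𝐂(H)) ⊔ (U ⊓ 𝐍(H)) = M ⊓ 𝐍(H) := by
  refine le_antisymm (sup_le (inf_le_inf (hKU ▸ le_sup_left) (cent_le_norm H))
    (inf_le_inf_right _ (hKU ▸ le_sup_right))) fun g hg => ?_
  obtain ⟨u, hu, c, hc', rfl⟩ := pprod_trans_coprime hs hKU hK hH hc (mem_inf.1 hg).1
    ((conj_eq_of_mem_norm (mem_inf.1 hg).2).le.trans hH)
  refine mul_mem (mem_sup_right (mem_inf.2 ⟨hu, ?_⟩)) (mem_sup_left hc')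
  exact (mul_mem_cancel_right (cent_le_norm H (mem_inf.1 hc').2)).1 (mem_inf.1 hg).2

/-- BG 6.6(a). -/
theorem pl1_frattini {p : ℕ} (hp : p.Prime) {H S : Subgroup G} (hl : PLengthLE p 1 H)
    (hS : IsSyl p S H) :
    H2.pPrimeCoreOf p H ⊔ S = pPrimePCoreOf p H ∧ H2.pPrimeCoreOf p H ⊔ (H ⊓ 𝐍(S)) = H := by
  have h1 := hS.of_le ((pl1_iff_le hp hS).1 hl) (pPrimePCoreOf_normal p H).1
  have h2 := pPrimePCoreOf_eq_sup hp h1
  refine ⟨h2, ?_⟩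
  have h3 := h1.frattini hp (pPrimePCoreOf_normal p H)
  rw [← h2, sup_assoc, sup_of_le_right (le_inf hS.le (le_norm_self S))] at h3
  exact h3

/-- BG 6.6(b). -/
theorem pl1_sylow_le_der {p : ℕ} (hp : p.Prime) {H S : Subgroup G} (hs : Group.IsSolvable H)
    (hl : PLengthLE p 1 H)
    (hS : IsSyl p S H) (h : S ≤ ⁅H, H⁆) : S ≤ ⁅H ⊓ 𝐍(S), H ⊓ 𝐍(S)⁆ := by
  haveI := Fact.mk hp
  have := pprod_focal_coprime (pl1_frattini hp hl hS).2 (pPrimeCoreOf_normal p H).2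
    (le_inf hS.le (le_norm_self S))
    (H1.coprime_card_of_isPGroup hS.pgrp (H2.coprime_card_pPrimeCoreOf p H)).symm
  exact (le_inf le_rfl h).trans (this.le.trans inf_le_right)

/-- BG 6.6(c). -/
theorem pl1_sylow_trans {p : ℕ} (hp : p.Prime) {H S : Subgroup G} (hs : Group.IsSolvable H)
    (hl : PLengthLE p 1 H)
    (hS : IsSyl p S H) {Y : Set G} (hY : Y ⊆ S) {x : G} (hx : x ∈ H)
    (hYx : ∀ y ∈ Y, x * y * x⁻¹ ∈ S) :
    ∃ g ∈ H ⊓ 𝐍(S), ∃ c ∈ H ⊓ centralizer Y, x = g * c := by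
  haveI := Fact.mk hp
  have hYS : closure Y ≤ S := (closure_le S).2 hY
  have hSN : S ≤ H ⊓ 𝐍(S) := le_inf hS.le (le_norm_self S)
  obtain ⟨u, hu, c, hc, e⟩ := pprod_trans_coprime hs (pl1_frattini hp hl hS).2
    (pPrimeCoreOf_normal p H).2 (hYS.trans hSN)
    (H1.coprime_card_of_isPGroup (hS.pgrp.to_le hYS) (H2.coprime_card_pPrimeCoreOf p H)).symm hx
    (le_trans (map_le_iff_le_comap.2 ((closure_le _).2 fun y hy => hYx y hy)) hSN)
  exact ⟨u, hu, c, mem_inf.2 ⟨(pPrimeCoreOf_normal p H).1 (mem_inf.1 hc).1,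
    centralizer_le Subgroup.subset_closure (mem_inf.1 hc).2⟩, e⟩

/-- BG 6.6(d). -/
theorem pl1_sylow_cj_le {p : ℕ} (hp : p.Prime) {H S Q : Subgroup G} (hs : Group.IsSolvable H)
    (hl : PLengthLE p 1 H)
    (hS : IsSyl p S H) (hQ : Q ≤ H) (hQp : IsPGroup p Q) :
    ∃ x ∈ H ⊓ 𝐂(Q ⊓ S), Q ^ᵍ x ≤ S := by
  obtain ⟨g, hg, hgQ⟩ := hS.exists_conj_le hp hQp hQ
  obtain ⟨n, hn, c, hc, rfl⟩ := pl1_sylow_trans hp hs hl hS (Y := ((Q ⊓ S : Subgroup G) : Set G))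
    (fun y hy => (mem_inf.1 hy).2) hg (fun y hy => hgQ (conj_mem_conj (mem_inf.1 hy).1 g))
  refine ⟨c, hc, ?_⟩
  rw [← conj_conj, conj_le_iff, conj_eq_of_mem_norm (inv_mem (mem_inf.1 hn).2)] at hgQ
  exact hgQ

/-- BG 6.7. -/
theorem pl1_norm_maxElem {p : ℕ} (hp : p.Prime) (hp2 : p ≠ 2) {H E L : Subgroup G}
    (hs : Group.IsSolvable H) (hl : PLengthLE p 1 H) (hE : IsMaxElem p E H) (hL : L ≤ H)
    (hc : 𝐨(L).Coprime p) (hEL : E ≤ 𝐍(L)) : L ≤ H2.pPrimeCoreOf p H := by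
  haveI := Fact.mk hp
  have hEp : IsPGroup p E := elemAb_isPGroup hE.2.1
  obtain ⟨S, hS, hES⟩ := exists_isSyl_ge hp hEp hE.1
  have hSO : S ≤ pPrimePCoreOf p H := (pl1_iff_le hp hS).1 hl
  rw [← H1.commutator_sup_centralizer hEL (H1.coprime_card_of_isPGroup hEp hc).symm
    (Or.inr (H1.isSolvable_of_le hL hs))]
  refine sup_le (le_pPrimeCoreOf_of_le hp ?_ ?_) (le_pPrimeCoreOf_of_le hp ?_ ?_)
  · exact (commutator_mono le_rfl (hES.trans hSO)).trans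
      (comm_le_right_iff.2 (hL.trans (pPrimePCoreOf_normal p H).2))
  · exact Nat.Coprime.coprime_dvd_left (card_dvd_of_le (comm_le_left_iff.2 hEL)) hc
  swap
  · exact Nat.Coprime.coprime_dvd_left (card_dvd_of_le inf_le_left) hc
  obtain ⟨C, hC⟩ : ∃ C, C = L ⊓ 𝐂(E) := ⟨_, rfl⟩
  rw [← hC]
  have hCH : C ≤ H := hC ▸ inf_le_left.trans hL
  refine le_pPrimePCoreOf_of_comm_le hp hs (hS.of_le hSO (pPrimePCoreOf_normal p H).1) hCH ?_
  obtain ⟨O, hO⟩ : ∃ O, O = H2.pPrimeCoreOf p H := ⟨_, rfl⟩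
  have hHS : H ≤ 𝐍(O ⊔ S) := hO ▸ (pl1_iff_sylow hp hS).1 hl
  have hOS : O ⊓ S = ⊥ := hO ▸ H1.inf_eq_bot_of_coprime'
    (H1.coprime_card_of_isPGroup hS.pgrp (H2.coprime_card_pPrimeCoreOf p H))
  have hOH : O ⊲ H := hO ▸ pPrimeCoreOf_normal p H
  rw [← hO]
  haveI : (O.subgroupOf H).Normal := H1.normal_subgroupOf_of_le hOH.2
  rw [commutator_comm, ← H1.bar_le_centralizer_iff hCH hS.le]
  refine coprime_odd_faithful_cent_abelem hp hp2 (H1.isPGroup_bar hS.pgrp) (H1.bar_mono hES)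
    ?_ ?_ ?_ ?_
  · refine ⟨H1.isMulCommutative_bar hE.2.1.1, ?_⟩
    intro z hz
    obtain ⟨y, hy, rfl⟩ := H1.mem_bar.1 hz
    have : y ^ p = 1 := Subtype.ext (hE.2.1.2 y hy)
    rw [← map_pow, this, map_one]
  · rw [← H1.bar_sup_self hOH.1 hS.le, sup_comm]
    exact H1.bar_le_normalizer (hCH.trans hHS)
  · exact Nat.Coprime.coprime_dvd_left ((H1.card_bar_dvd C).trans
      (card_dvd_of_le (hC ▸ inf_le_left))) hc
  · intro z hz hzp
    obtain ⟨y, hy, rfl⟩ := H1.mem_bar.1 (mem_inf.1 hz).1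
    have h1 := (H1.qmk_mem_centralizer_bar_iff hE.1).1 (mem_inf.1 hz).2
    rw [← map_pow, H1.qmk_eq_one_iff] at hzp
    have hyE : (y : G) ∈ E := by
      refine (isMaxElem_iff.1 hE).2.2 y y.2 (mem_cent.2 fun e he => ?_) ?_
      · have : ⁅(y : G), e⁆ ∈ O ⊓ S := mem_inf.2 ⟨h1 e he, der_le S
          (commutator_mem_commutator hy (hES he))⟩
        rw [hOS, mem_bot, commutatorElement_eq_one_iff_mul_comm] at this
        exact this.symm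
      · have : (y : G) ^ p ∈ O ⊓ S := mem_inf.2 ⟨hzp, pow_mem hy p⟩
        rwa [hOS, mem_bot] at this
    refine (H1.qmk_mem_centralizer_bar_iff hCH).2 fun k hk => ?_
    rw [hC] at hk
    rw [commutatorElement_eq_one_iff_mul_comm.2 (mem_cent.1 (mem_inf.1 hk).2 (y : G) hyE)]
    exact one_mem _

end Cfsg.Agent.FT
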