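/-
BG section 7 (transitivity).
-/
import Cfsg.Agent.FT.BG06

set_option autoImplicit false
set_option linter.unusedSectionVars false

namespace Cfsg.Agent.FT

open Subgroup Cfsg Cfsg.Agent
open scoped commutatorElement

universe u

variable {G : Type u} [Group G] [Finite G] [MinOdd G]

namespace BG07

omit [MinOdd G] in
theorem piOf_eq_singleton {p : ℕ} (hp : p.Prime) {A : Subgroup G} (hA : IsPGroup p A)
    (h1 : A ≠ ⊥) : piOf A = {p} := by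
  ext q
  refine ⟨fun h => eq_of_prime_dvd_card_of_isPGroup hp h.1 hA h.2, ?_⟩
  rintro rfl
  exact ⟨hp, prime_dvd_card_of_isPGroup hp hA h1⟩

omit [MinOdd G] in
theorem isPGroup_of_max {A Q : Subgroup G} {q : ℕ} (hq : q.Prime) (h : MaxNormedPi A {q} Q) :
    IsPGroup q Q := (isPi_singleton_iff hq).1 h.1.2.1

omit [MinOdd G] in
theorem isPi_compl_of_isPGroup {π : Set ℕ} {Q : Subgroup G} {q : ℕ} (hq : q.Prime) (hqA : q ∉ π)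
    (h : IsPGroup q Q) : IsPiSubgroup πᶜ Q := isPi_of_isPGroup hq h hqA

omit [MinOdd G] in
theorem max_eq {A Q R : Subgroup G} {q : ℕ} (hq : q.Prime) (h : MaxNormedPi A {q} Q)
    (hR : IsPGroup q R) (hA : A ≤ 𝐍(R)) (hQR : Q ≤ R) : R = Q :=
  h.2 R ⟨le_top, (isPi_singleton_iff hq).2 hR, hA⟩ hQR

omit [MinOdd G] in
theorem normal_of_relIndex_dvd {p : ℕ} (hp : p.Prime) {P Q : Subgroup G} (hQ : IsPGroup p Q)
    (hPQ : P ≤ Q) (h : P.relIndex Q ∣ p) : Q ≤ 𝐍(P) := by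
  haveI := Fact.mk hp
  rcases (Nat.dvd_prime hp).1 h with h | h
  · exact (relIndex_eq_one.1 h).trans (le_norm_self P)
  · exact (normal_subgroupOf_iff_le_normalizer hPQ).1 (H3.normal_of_index_eq_prime hQ h)

end BG07

open BG07

/-- Remark after Hypothesis 7.1: `O_{π'}(C_G(A))` is the set of all `π'`-elements of `C_G(A)`. -/
theorem NormedConstrained.mem_core {A : Subgroup G} (hA : NormedConstrained A) {b : G}
    (hb : b ∈ 𝐂(A)) (hπ : IsPiElt (piOf A)ᶜ b) : b ∈ piCoreOf (piOf A)ᶜ 𝐂(A) := by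
  have h1 : zpowers b ≤ 𝐂(A) := zpowers_le.2 hb
  have h2 := hA.le_core 𝐍(A) (zpowers b) (le_norm_self A) (norm_ne_top hA.ne_bot hA.ne_top)
    ⟨h1.trans (cent_le_norm A), isPi_zpowers.2 hπ, (cent_comm.1 h1).trans (cent_le_norm _)⟩
  exact piCoreOf_inf_le _ (cent_le_norm A) (mem_inf.2 ⟨h2 (mem_zpowers b), hb⟩)

theorem BG07.meet_trans_aux {A : Subgroup G} (hA : NormedConstrained A) {q : ℕ}
    (hq : q.Prime) (hqA : q ∉ piOf A) (m : ℕ) : ∀ {Q₁ Q₂ H : Subgroup G},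
    Nat.card G - 𝐨(Q₁ ⊓ Q₂) = m → MaxNormedPi A {q} Q₁ →
    MaxNormedPi A {q} Q₂ → H ≠ ⊤ → A ≤ H → H ⊓ Q₁ ≠ ⊥ → H ⊓ Q₂ ≠ ⊥ →
    ∃ k ∈ piCoreOf (piOf A)ᶜ 𝐂(A), Q₂ = Q₁ ^ᵍ k := by
  haveI := Fact.mk hq
  induction m using Nat.strong_induction_on with | _ m ih =>
  intro Q₁ Q₂ H₀ hm h₁ h₂ hH₀ hAH₀ hH₁ hH₂
  by_cases hne : Q₁ = Q₂
  · exact ⟨1, one_mem _, by rw [conj_one, hne]⟩
  have p₁ := isPGroup_of_max hq h₁
  have p₂ := isPGroup_of_max hq h₂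
  have l₁ : Q₁ ⊓ Q₂ < Q₁ := inf_lt_left.2 fun h => hne (max_eq hq h₁ p₂ h₂.1.2.2 h).symm
  have l₂ : Q₁ ⊓ Q₂ < Q₂ := inf_lt_right.2 fun h => hne (max_eq hq h₂ p₁ h₁.1.2.2 h)
  obtain ⟨H, hH, hAH, d₁, d₂⟩ : ∃ H : Subgroup G, H ≠ ⊤ ∧ A ≤ H ∧ Q₁ ⊓ Q₂ < Q₁ ⊓ H ∧
      Q₁ ⊓ Q₂ < Q₂ ⊓ H := by
    by_cases hD : Q₁ ⊓ Q₂ = ⊥
    · refine ⟨H₀, hH₀, hAH₀, ?_, ?_⟩
      · rw [hD, inf_comm]; exact bot_lt_iff_ne_bot.2 hH₁
      · rw [hD, inf_comm]; exact bot_lt_iff_ne_bot.2 hH₂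
    · exact ⟨𝐍(Q₁ ⊓ Q₂), norm_ne_top_of_isPGroup hq (p₁.to_le inf_le_left) hD,
        H1.le_normalizer_inf h₁.1.2.2 h₂.1.2.2,
        lt_inf_norm_of_isNilpotent (isNilpotent_of_isPGroup hq p₁) l₁,
        lt_inf_norm_of_isNilpotent (isNilpotent_of_isPGroup hq p₂) l₂⟩
  obtain ⟨L, hL⟩ : ∃ L, L = piCoreOf (piOf A)ᶜ H := ⟨_, rfl⟩
  have hLH : L ⊲ H := hL ▸ piCoreOf_normal _ H
  have hLπ : IsPiSubgroup (piOf A)ᶜ L := hL ▸ isPi_piCoreOf _ H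
  have hc : 𝐨(A).Coprime 𝐨(L) := isPi_coprime (isPi_piOf A) hLπ
  have hs : Group.IsSolvable A ∨ Group.IsSolvable L := Or.inl (isSolvable_of_ne_top hA.ne_top)
  have key : ∀ Q, MaxNormedPi A {q} Q → ∃ R, IsSyl q R L ∧ Q ⊓ H ≤ R ∧ A ≤ 𝐍(R) := by
    intro Q hQ
    have pQ : IsPGroup q ↥(Q ⊓ H) := (isPGroup_of_max hq hQ).to_le inf_le_left
    have nQ : A ≤ 𝐍(Q ⊓ H) := H1.le_normalizer_inf hQ.1.2.2 (hAH.trans (le_norm_self H))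
    exact exists_invariant_isSyl hq (hAH.trans hLH.2) hc hs pQ
      (hL ▸ hA.le_core H _ hAH hH ⟨inf_le_right, isPi_compl_of_isPGroup hq hqA pQ, nQ⟩) nQ
  obtain ⟨R₁, s₁, r₁, n₁⟩ := key Q₁ h₁
  obtain ⟨R₂, s₂, r₂, n₂⟩ := key Q₂ h₂
  obtain ⟨h, hh, hR⟩ := H1.invariant_sylow_conj (hAH.trans hLH.2) hc hs s₂.le s₂.pgrp s₂.ndvd n₂
    s₁.le s₁.pgrp s₁.ndvd n₁
  have hK : h ∈ piCoreOf (piOf A)ᶜ 𝐂(A) :=
    hA.mem_core (mem_inf.1 hh).2 (isPiElt_of_mem hLπ (mem_inf.1 hh).1)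
  obtain ⟨Q₃, h₃, r₃⟩ := exists_maxNormedPi_ge ((isPi_singleton_iff hq).2 s₂.pgrp) n₂
  have h₁' := h₁.conj_of_mem_norm (cent_le_norm A (mem_inf.1 hh).2)
  have a1 : (Q₁ ⊓ H) ^ᵍ h ≤ R₂ := hR ▸ conj_mono r₁ h
  have hG : ∀ X : Subgroup G, 𝐨(X) ≤ Nat.card G := fun X => card_le_card_group X
  have b1 : Q₁ ⊓ H ≠ ⊥ := ne_bot_of_gt d₁
  have b2 : Q₂ ⊓ H ≠ ⊥ := ne_bot_of_gt d₂
  have hR₂H : R₂ ≤ H := s₂.le.trans hLH.1
  obtain ⟨k₁, hk₁, e₁⟩ := ih _ (by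
      have c1 := H1.card_lt_of_lt d₁
      have c2 : 𝐨((Q₁ ⊓ H) ^ᵍ h) ≤ 𝐨(Q₁ ^ᵍ h ⊓ Q₃) :=
        card_le_of_le (le_inf (conj_mono inf_le_left h) (a1.trans r₃))
      rw [card_conj] at c2
      have := hG (Q₁ ^ᵍ h ⊓ Q₃)
      omega) rfl h₁' h₃ hH hAH
    (ne_bot_of_le_ne_bot (mt conj_eq_bot_iff.1 b1)
      (le_inf (a1.trans hR₂H) (conj_mono inf_le_left h)))
    (ne_bot_of_le_ne_bot b2 (le_inf inf_le_right (r₂.trans r₃)))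
  obtain ⟨k₂, hk₂, e₂⟩ := ih _ (by
      have c1 := H1.card_lt_of_lt d₂
      have c2 : 𝐨(Q₂ ⊓ H) ≤ 𝐨(Q₃ ⊓ Q₂) := card_le_of_le (le_inf (r₂.trans r₃) inf_le_left)
      have := hG (Q₃ ⊓ Q₂)
      omega) rfl h₃ h₂ hH hAH
    (ne_bot_of_le_ne_bot b2 (le_inf inf_le_right (r₂.trans r₃))) (by rwa [inf_comm])
  exact ⟨k₂ * (k₁ * h), mul_mem hk₂ (mul_mem hk₁ hK), by rw [e₂, e₁, conj_conj, conj_conj,
    mul_assoc]⟩

/-- BG 7.1. -/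
theorem NormedConstrained.meet_trans {A : Subgroup G} (hA : NormedConstrained A) {q : ℕ}
    (hq : q.Prime) (hqA : q ∉ piOf A) {Q₁ Q₂ H : Subgroup G} (h₁ : MaxNormedPi A {q} Q₁)
    (h₂ : MaxNormedPi A {q} Q₂) (hH : H ≠ ⊤) (hAH : A ≤ H) (hH₁ : H ⊓ Q₁ ≠ ⊥) (hH₂ : H ⊓ Q₂ ≠ ⊥) :
    ∃ k ∈ piCoreOf (piOf A)ᶜ 𝐂(A), Q₂ = Q₁ ^ᵍ k := by
  exact meet_trans_aux hA hq hqA _ rfl h₁ h₂ hH hAH hH₁ hH₂

omit [MinOdd G] in
theorem BG07.coprime_of_max {A B Q : Subgroup G} {q : ℕ} (hq : q.Prime) (hqA : q ∉ piOf A)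
    (hB : B ≤ A) (h : MaxNormedPi A {q} Q) : 𝐨(B).Coprime 𝐨(Q) :=
  isPi_coprime (isPi_of_le hB (isPi_piOf A)) (isPi_compl_of_isPGroup hq hqA (isPGroup_of_max hq h))

/-- BG 7.2. -/
theorem NormedConstrained.rank3_trans {A : Subgroup G} (hA : NormedConstrained A) {q : ℕ}
    (hq : q.Prime) (hqA : q ∉ piOf A) (h : 3 ≤ rank 𝐙(A)) :
    TransOn (piCoreOf (piOf A)ᶜ 𝐂(A)) A q := by
  obtain ⟨p, hp, B, hB, hB3⟩ := le_rank_iff'.1 h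
  have hBA : B ≤ A := hB.trans inf_le_left
  intro Q₁ Q₂ h₁ h₂
  by_cases e₁ : Q₁ = ⊥
  · exact ⟨1, one_mem _, by
      rw [conj_one]; exact max_eq hq h₁ (isPGroup_of_max hq h₂) h₂.1.2.2 (e₁ ▸ bot_le)⟩
  by_cases e₂ : Q₂ = ⊥
  · exact ⟨1, one_mem _, by
      rw [conj_one]; exact (max_eq hq h₂ (isPGroup_of_max hq h₁) h₁.1.2.2 (e₂ ▸ bot_le)).symm⟩
  obtain ⟨C, hCB, hCi, hC⟩ : ∃ C, C ≤ B ∧ C.relIndex B = p ∧ Q₁ ⊓ 𝐂(C) ≠ ⊥ := by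
    by_contra hcon
    push Not at hcon
    exact e₁ (eq_bot_iff.2 (H1.le_of_forall_hyperplane hp hB3.elemAb (hB3.ne_bot hp (by norm_num))
      (hBA.trans h₁.1.2.2) (coprime_of_max hq hqA hBA h₁) fun C a b => (hcon C a b).le))
  have hC2 : IsElem p 2 C := by
    refine ⟨elemAb_of_le hCB hB3.elemAb, ?_⟩
    have := H1.card_mul_relIndex hCB
    rw [hCi, hB3.card, pow_succ] at this
    exact Nat.eq_of_mul_eq_mul_right hp.pos this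
  obtain ⟨z, hz, hz1, hzQ⟩ := H1.exists_centralizer_ne_bot hC2.comm (hC2.not_isCyclic hp le_rfl)
    ((hCB.trans hBA).trans h₂.1.2.2) (coprime_of_max hq hqA (hCB.trans hBA) h₂) e₂
  refine hA.meet_trans hq hqA h₁ h₂ (cent1_ne_top hz1)
    (mem_cent_iff_cent1.1 (mem_inf.1 (hB (hCB hz))).2) ?_ (by rwa [inf_comm])
  exact ne_bot_of_le_ne_bot hC (le_inf (inf_le_right.trans (cent_le_cent1 hz)) inf_le_left)

/-- BG 7.3. -/
theorem NormedConstrained.rank2_trans {A : Subgroup G} (hA : NormedConstrained A) {q : ℕ}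
    (hq : q.Prime) (hqA : q ∉ piOf A) (hqC : q ∣ 𝐨(𝐂(A))) (h : 2 ≤ rank 𝐙(A)) :
    TransOn (piCoreOf (piOf A)ᶜ 𝐂(A)) A q := by
  obtain ⟨p, hp, B, hB, hB2⟩ := le_rank_iff'.1 h
  have hBA : B ≤ A := hB.trans inf_le_left
  obtain ⟨R₀, hR₀, hc₀⟩ := exists_le_card_eq_prime hq hqC
  obtain ⟨R, hR, hR₀R⟩ := exists_maxNormedPi_ge (A := A)
    ((isPi_singleton_iff hq).2 (isPGroup_of_card_prime hc₀))
    ((cent_comm.1 hR₀).trans (cent_le_norm _))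
  have hR₀1 : R₀ ≠ ⊥ := ne_bot_of_card_prime (hc₀ ▸ hq)
  have key : ∀ Q, MaxNormedPi A {q} Q → ∃ k ∈ piCoreOf (piOf A)ᶜ 𝐂(A), Q = R ^ᵍ k := by
    intro Q hQ
    have e : Q ≠ ⊥ := fun e => hR₀1 (eq_bot_iff.2 (hR₀R.trans
      ((max_eq hq hQ (isPGroup_of_max hq hR) hR.1.2.2 (e ▸ bot_le)).le.trans e.le)))
    obtain ⟨z, hz, hz1, hzQ⟩ := H1.exists_centralizer_ne_bot hB2.comm (hB2.not_isCyclic hp le_rfl)
      (hBA.trans hQ.1.2.2) (coprime_of_max hq hqA hBA hQ) e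
    refine hA.meet_trans hq hqA hR hQ (cent1_ne_top hz1)
      (mem_cent_iff_cent1.1 (mem_inf.1 (hB hz)).2) ?_ (by rwa [inf_comm])
    exact ne_bot_of_le_ne_bot hR₀1 (le_inf (hR₀.trans (cent_le_cent1 (hBA hz))) hR₀R)
  intro Q₁ Q₂ h₁ h₂
  obtain ⟨k₁, hk₁, e₁⟩ := key Q₁ h₁
  obtain ⟨k₂, hk₂, e₂⟩ := key Q₂ h₂
  exact ⟨k₂ * k₁⁻¹, mul_mem hk₂ (inv_mem hk₁), by rw [e₁, e₂, conj_conj, inv_mul_cancel_right]⟩

theorem BG07.max_of_ne_bot {A : Subgroup G} (hA : NormedConstrained A) {q : ℕ}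
    (hq : q.Prime) (hqA : q ∉ piOf A) {B P Q : Subgroup G} (hAB : A ≤ B) (hBP : B ≤ P)
    (hP : P ≠ ⊤) (hPπ : IsPiSubgroup (piOf A) P) (hQ : MaxNormedPi P {q} Q) (h1 : Q ≠ ⊥) :
    MaxNormedPi B {q} Q := by
  have pQ := isPGroup_of_max hq hQ
  refine ⟨⟨le_top, hQ.1.2.1, hBP.trans hQ.1.2.2⟩, fun R hR hQR => ?_⟩
  by_contra hne
  have pR : IsPGroup q R := (isPi_singleton_iff hq).1 hR.2.1
  have hlt := lt_inf_norm_of_isNilpotent (isNilpotent_of_isPGroup hq pR)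
    (lt_of_le_of_ne hQR (Ne.symm hne))
  have hN : 𝐍(Q) ≠ ⊤ := norm_ne_top_of_isPGroup hq pQ h1
  have hAN : A ≤ 𝐍(Q) := hAB.trans (hBP.trans hQ.1.2.2)
  have h2 := hA.le_core 𝐍(Q) (R ⊓ 𝐍(Q)) hAN hN ⟨inf_le_right,
    isPi_compl_of_isPGroup hq hqA (pR.to_le inf_le_left),
    H1.le_normalizer_inf (hAB.trans hR.2.2) (H1.le_normalizer_normalizer hAN)⟩
  obtain ⟨T, hT, hQT, hPT⟩ := exists_invariant_isSyl hq
    (hQ.1.2.2.trans (piCoreOf_normal (piOf A)ᶜ 𝐍(Q)).2)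
    (isPi_coprime hPπ (isPi_piCoreOf _ _)) (Or.inl (isSolvable_of_ne_top hP)) pQ
    (hlt.le.trans h2) hQ.1.2.2
  rw [max_eq hq hQ hT.pgrp hPT hQT] at hT
  exact hlt.ne' (hT.eq_of_le hq hlt.le h2 (pR.to_le inf_le_left))

theorem BG07.trans_step {A : Subgroup G} (hA : NormedConstrained A) {q : ℕ}
    (hq : q.Prime) (hqA : q ∉ piOf A) {B P : Subgroup G} (hAB : A ≤ B) (hBP : B ≤ P)
    (hn : P ≤ 𝐍(B)) (hP : P ≠ ⊤) (hPπ : IsPiSubgroup (piOf A) P)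
    (htr : TransOn (piCoreOf (piOf A)ᶜ 𝐂(B)) B q) :
    TransOn (piCoreOf (piOf A)ᶜ 𝐂(P)) P q ∧ ∀ Q, MaxNormedPi P {q} Q → MaxNormedPi B {q} Q := by
  have hPK : P ≤ 𝐍(piCoreOf (piOf A)ᶜ 𝐂(B)) :=
    (H1.le_normalizer_centralizer hn).trans (norm_le_norm_piCoreOf _ _)
  have hc : 𝐨(P).Coprime 𝐨(piCoreOf (piOf A)ᶜ 𝐂(B)) := isPi_coprime hPπ (isPi_piCoreOf _ _)
  have hs : Group.IsSolvable P ∨ Group.IsSolvable (piCoreOf (piOf A)ᶜ 𝐂(B)) :=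
    Or.inl (isSolvable_of_ne_top hP)
  have h2 : ∀ Q, MaxNormedPi P {q} Q → MaxNormedPi B {q} Q := by
    intro Q hQ
    by_cases h1 : Q = ⊥
    swap
    · exact max_of_ne_bot hA hq hqA hAB hBP hP hPπ hQ h1
    obtain ⟨R, hR, -⟩ := exists_maxNormedPi_ge (A := B) (isPi_bot {q})
      (by rw [norm_bot]; exact le_top)
    obtain ⟨g, hg, hgR⟩ := H1.exists_conj_invariant hPK hc hs R fun a ha =>
      htr R _ hR (hR.conj_of_mem_norm (hn ha))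
    have hR' := hR.conj_of_mem_norm (cent_le_norm B ((piCoreOf_normal _ _).1 hg))
    rwa [max_eq hq hQ (isPGroup_of_max hq hR') hgR (h1 ▸ bot_le)] at hR'
  refine ⟨fun Q₁ Q₂ h₁ h₂ => ?_, h2⟩
  obtain ⟨k, hk, e⟩ := htr Q₁ Q₂ (h2 _ h₁) (h2 _ h₂)
  obtain ⟨c, hc', e'⟩ := H1.exists_centralizer_conj hPK hc hs h₁.1.2.2 hk (e ▸ h₂.1.2.2)
  exact ⟨c, piCoreOf_inf_le _ (cent_anti hBP) hc', e.trans e'.symm⟩

/-- BG 7.4. -/
theorem NormedConstrained.trans_superset {A : Subgroup G} (hA : NormedConstrained A) {q : ℕ}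
    (hq : q.Prime) (hqA : q ∉ piOf A) {P : Subgroup G} (hP : P ≠ ⊤)
    (hPπ : IsPiSubgroup (piOf A) P) (hsn : H2.SnIn P A)
    (htr : TransOn (piCoreOf (piOf A)ᶜ 𝐂(A)) A q) :
    piCoreOf (piOf A)ᶜ 𝐂(A) ⊓ 𝐂(P) = piCoreOf (piOf A)ᶜ 𝐂(P) ∧
      TransOn (piCoreOf (piOf A)ᶜ 𝐂(P)) P q ∧
      (∀ Q, MaxNormedPi P {q} Q → MaxNormedPi A {q} Q) ∧
      ∀ Q, MaxNormedPi P {q} Q →
        P ⊓ ⁅𝐍(P), 𝐍(P)⁆ ≤ ⁅𝐍(Q), 𝐍(Q)⁆ ∧
        piCoreOf (piOf A)ᶜ 𝐂(P) ⊔ (𝐍(P) ⊓ 𝐍(Q)) = 𝐍(P) := by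
  have key : ∀ B, H2.SnIn P B → A ≤ B → TransOn (piCoreOf (piOf A)ᶜ 𝐂(B)) B q →
      TransOn (piCoreOf (piOf A)ᶜ 𝐂(P)) P q ∧
        ∀ Q, MaxNormedPi P {q} Q → MaxNormedPi B {q} Q := by
    intro B hB
    induction hB with
    | refl => exact fun _ h => ⟨h, fun _ h => h⟩
    | step B C h1 h2 h3 ih =>
      intro hAB ht
      obtain ⟨t1, t2⟩ := trans_step hA hq hqA hAB h1 h2 (fun e => hP (eq_top_iff.2 (e ▸ h3.le)))
        (isPi_of_le h3.le hPπ) ht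
      obtain ⟨t3, t4⟩ := ih (hAB.trans h1) t1
      exact ⟨t3, fun Q hQ => t2 Q (t4 Q hQ)⟩
  obtain ⟨t1, t2⟩ := key A hsn le_rfl htr
  have hK := piCoreOf_normal (piOf A)ᶜ 𝐂(P)
  refine ⟨le_antisymm (piCoreOf_inf_le _ (cent_anti hsn.le)) (le_inf (fun x hx => ?_) hK.1),
    t1, t2, fun Q hQ => ?_⟩
  · exact hA.mem_core (cent_anti hsn.le (hK.1 hx)) (isPiElt_of_mem (isPi_piCoreOf _ _) hx)
  have e : piCoreOf (piOf A)ᶜ 𝐂(P) ⊔ (𝐍(P) ⊓ 𝐍(Q)) = 𝐍(P) := by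
    refine le_antisymm (sup_le (hK.1.trans (cent_le_norm P)) inf_le_left) fun g hg => ?_
    obtain ⟨k, hk, e⟩ := t1 Q _ hQ (hQ.conj_of_mem_norm hg)
    have h1 : k⁻¹ * g ∈ 𝐍(Q) := by
      rw [← conj_eq_self_iff, ← conj_conj, e, conj_conj_inv]
    have h2 : k⁻¹ * g ∈ 𝐍(P) := mul_mem (inv_mem (cent_le_norm P (hK.1 hk))) hg
    rw [show g = k * (k⁻¹ * g) by group]
    exact mul_mem_sup hk (mem_inf.2 ⟨h2, h1⟩)
  refine ⟨?_, e⟩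
  rw [pprod_focal_coprime e ((H1.normalizer_le_normalizer_centralizer P).trans
    (norm_le_norm_piCoreOf _ _)) (le_inf (le_norm_self P) hQ.1.2.2)
    (isPi_coprime hPπ (isPi_piCoreOf _ _))]
  exact inf_le_right.trans (commutator_mono inf_le_right inf_le_right)

/-- BG 7.5(a). -/
theorem pl1_normedConstrained {p : ℕ} (hp : p.Prime) {A : Subgroup G} (hA1 : A ≠ ⊥)
    (hA : IsMaxElem p A ⊤) (h : ∀ M : Subgroup G, M ≠ ⊤ → PLengthLE p 1 M) :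
    NormedConstrained A := by
  have pA : IsPGroup p A := elemAb_isPGroup hA.2.1
  refine ⟨hA1, ne_top_of_isPGroup hp pA, fun X Y hAX hX hY => ?_⟩
  rw [piOf_eq_singleton hp pA hA1] at hY ⊢
  rw [← pPrimeCoreOf_eq hp]
  exact pl1_norm_maxElem hp (ne_two_of_isPGroup hp pA hA1) (isSolvable_of_ne_top hX) (h X hX)
    (hA.of_le hAX le_top) hY.1 ((isPi_compl_singleton_iff hp).1 hY.2.1) hY.2.2

omit [MinOdd G] in
/-- BG 1.15(b) for elements. -/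
theorem BG07.inf_pPrimeCoreOf_cent1_le {p : ℕ} (hp : p.Prime) {X : Subgroup G}
    (hs : Group.IsSolvable X) {b : G} (hb : b ∈ X) (hbp : IsPGroup p (zpowers b)) :
    H2.pPrimeCoreOf p 𝐂[b] ⊓ X ≤ H2.pPrimeCoreOf p X := by
  refine le_trans ?_ (pPrimeCore_cent_pgroup hp hs (zpowers_le.2 hb) hbp)
  rw [cent_zpowers]
  exact le_trans (le_inf inf_le_left (le_inf inf_le_right
    (inf_le_left.trans (pPrimeCoreOf_normal p _).1))) (H2.pPrimeCoreOf_inf_le p inf_le_right)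

/-- BG 7.5(b). -/
theorem scn_normedConstrained {p : ℕ} (hp : p.Prime) {P A : Subgroup G} (hP : IsSyl p P ⊤)
    (hA : IsSCN P A) (h : 2 ≤ pRank p A) : NormedConstrained A := by
  haveI := Fact.mk hp
  have pA : IsPGroup p A := hP.pgrp.to_le hA.1
  have hnc : ¬ IsCyclic A := fun hc => by have := pRank_le_one_of_isCyclic hp hc; omega
  have hA1 : A ≠ ⊥ := by rintro rfl; exact hnc inferInstance
  have hp2 := ne_two_of_isPGroup hp pA hA1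
  have hAc : A ≤ 𝐂(A) := hA.2.2.ge.trans inf_le_right
  obtain ⟨B, hBA, hBP, hB⟩ := odd_normal_elem2_exists hp hp2 hP.pgrp ⟨hA.1, hA.2.1⟩ hnc
  obtain ⟨z, hz, hz1⟩ := sharp_nonempty.2 (center_ne_bot
    (isNilpotent_of_isPGroup hp hP.pgrp) (ne_bot_of_le_ne_bot hA1 hA.1))
  have hZA : 𝐙(P) ≤ A := (inf_le_inf_left _ (cent_anti hA.1)).trans hA.2.2.le
  have pZ : IsPGroup p ↥𝐙(P) := hP.pgrp.to_le inf_le_left
  have key : ∀ b ∈ B, b ≠ 1 → ∀ Y : Subgroup G, Y ≤ 𝐂[b] → 𝐨(Y).Coprime p → A ≤ 𝐍(Y) →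
      Y ≤ H2.pPrimeCoreOf p 𝐂[b] := by
    intro b hb hb1 Y hY hYc hAY
    have hs : Group.IsSolvable 𝐂[b] := isSolvable_of_ne_top (cent1_ne_top hb1)
    obtain ⟨P₂, hP₂, h12⟩ := exists_isSyl_ge hp (hP.pgrp.to_le (inf_le_left : P ⊓ 𝐂[b] ≤ P))
      inf_le_right
    have hn : P₂ ≤ 𝐍(P ⊓ 𝐂[b]) := by
      refine normal_of_relIndex_dvd hp hP₂.pgrp h12 ?_
      have e1 := H1.card_mul_relIndex h12
      have e2 := H1.card_inf_mul_relIndex 𝐂[b] P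
      rw [inf_comm] at e2
      have d1 := hP.card_dvd hp hP₂.pgrp le_top
      rw [← e1, ← e2] at d1
      have d2 := Nat.dvd_of_mul_dvd_mul_left Nat.card_pos d1
      refine d2.trans ?_
      obtain ⟨n, hn⟩ := exists_card_eq_pow hp hP.pgrp
      obtain ⟨k, -, hk⟩ := (Nat.dvd_prime_pow hp).1 (hn ▸ relIndex_dvd_card' 𝐂[b] P)
      have d3 : ¬ p ^ 2 ∣ p ^ k := fun h => not_sq_dvd_relIndex_cent_elem2 hp hB.elemAb hB.card.le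
        hBP.2 ((hk ▸ h).trans (relIndex_dvd_of_le_left P (cent_le_cent1 hb)))
      rw [Nat.pow_dvd_pow_iff_le_right hp.one_lt] at d3
      rw [hk]
      exact (pow_dvd_pow p (by omega : k ≤ 1)).trans (by rw [pow_one])
    have h1 := solvable_p_abelian_constrained hp hs (odd_card _) hP₂
      ⟨inf_le_left.trans h12, hn.trans (norm_le_norm_center _)⟩ (isMulComm_center _)
    have h2 : 𝐙(P) ≤ pPrimePCoreOf p 𝐂[b] := by
      refine le_trans (le_inf (le_inf inf_le_left ?_) ?_) h1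
      · exact inf_le_right.trans (cent_le_cent1 (hBP.1 hb))
      · exact inf_le_right.trans (cent_anti inf_le_left)
    rw [← H1.commutator_sup_centralizer (hZA.trans hAY) (H1.coprime_card_of_isPGroup pZ hYc).symm
      (Or.inr (H1.isSolvable_of_le hY hs))]
    refine sup_le (BG06.le_pPrimeCoreOf_of_le hp ?_ ?_) ?_
    · exact (commutator_mono le_rfl h2).trans
        (comm_le_right_iff.2 (hY.trans (pPrimePCoreOf_normal p _).2))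
    · exact Nat.Coprime.coprime_dvd_left (card_dvd_of_le (comm_le_left_iff.2 (hZA.trans hAY))) hYc
    have hPz : P ≤ 𝐂[z] := mem_cent_iff_cent1.1 (mem_inf.1 hz).2
    have h3 := scn_normed_le_pPrimeCore (Y := Y ⊓ 𝐂(𝐙(P))) hp
      (isSolvable_of_ne_top (cent1_ne_top hz1)) (odd_card _) (hP.of_le hPz le_top) hA
      (inf_le_right.trans (cent_le_cent1 hz))
      (hYc.coprime_dvd_left (card_dvd_of_le inf_le_left))
      (H1.le_normalizer_inf hAY (H1.le_normalizer_centralizer (hA.1.trans (center_normal P).2)))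
    exact (le_inf h3 (inf_le_left.trans hY)).trans (inf_pPrimeCoreOf_cent1_le hp hs
      (mem_cent1_comm.1 (hPz (hBP.1 hb))) (pZ.to_le (zpowers_le.2 hz)))
  refine ⟨hA1, ne_top_of_isPGroup hp pA, fun X Y hAX hX hY => ?_⟩
  rw [piOf_eq_singleton hp pA hA1] at hY ⊢
  rw [← pPrimeCoreOf_eq hp]
  have hYc := (isPi_compl_singleton_iff hp).1 hY.2.1
  refine H1.le_of_forall_centralizer_le hB.comm (hB.not_isCyclic hp le_rfl) (hBA.trans hY.2.2)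
    (H1.coprime_card_of_isPGroup hB.pgrp hYc).symm fun b hb hb1 => ?_
  have h1 := key b hb hb1 (Y ⊓ 𝐂[b]) inf_le_right
    (hYc.coprime_dvd_left (card_dvd_of_le inf_le_left))
    (H1.le_normalizer_inf hY.2.2 ((hAc.trans (cent_le_cent1 (hBA hb))).trans (le_norm_self _)))
  exact (le_inf h1 (inf_le_left.trans hY.1)).trans (inf_pPrimeCoreOf_cent1_le hp
    (isSolvable_of_ne_top hX) (hAX (hBA hb)) (hB.pgrp.to_le (zpowers_le.2 hb)))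

/-- BG 7.6 (Thompson transitivity theorem). -/
theorem thompson_transitivity {p q : ℕ} (hp : p.Prime) (hq : q.Prime) (hqp : q ≠ p)
    {P A : Subgroup G} (hP : IsSyl p P ⊤) (hA : IsSCN P A) (h : 3 ≤ pRank p A) :
    TransOn (H2.pPrimeCoreOf p 𝐂(A)) A q := by
  have hc := scn_normedConstrained hp hP hA (by omega)
  have e := piOf_eq_singleton hp (hP.pgrp.to_le hA.1) hc.ne_bot
  have hAc : A ≤ 𝐂(A) := hA.2.2.ge.trans inf_le_right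
  have := hc.rank3_trans hq (by rw [e]; exact hqp)
    (by rw [inf_of_le_left hAc]; exact h.trans (pRank_le_rank hp A))
  rwa [e, ← pPrimeCoreOf_eq hp] at this

end Cfsg.Agent.FT
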