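/-
BG section 8 (Fitting subgroup of a maximal subgroup).
-/
import Cfsg.Agent.FT.BG07
import Cfsg.Agent.FT.B.helper1_Core
import Cfsg.Agent.H3.FTAux

set_option autoImplicit false

namespace Cfsg.Agent.FT

open Subgroup Cfsg Cfsg.Agent
open scoped commutatorElement

universe u

variable {G : Type u} [Group G] [Finite G]

namespace BG08

theorem le_pCoreOf_of_nil {q : ℕ} (hq : q.Prime) {H X : Subgroup G} (hH : Group.IsNilpotent H)
    (hX : X ≤ H) (hXq : IsPGroup q X) : X ≤ pCoreOf q H :=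
  (isSyl_pCoreOf_of_isNilpotent hq hH).le_of_normal hq (pCoreOf_normal q H).2 hXq hX

theorem pCoreOf_le_of_normal {q : ℕ} {K H : Subgroup G} (h : K ⊲ H) : pCoreOf q K ≤ pCoreOf q H :=
  le_pCoreOf ⟨(pCoreOf_normal q K).1.trans h.1,
    h.2.trans (H2.normalizer_le_normalizer_pCoreOf q K)⟩ (H2.isPGroup_pCoreOf q K)

theorem fitting_le_of_pCore {K L : Subgroup G}
    (h : ∀ q : ℕ, q.Prime → q ∣ 𝐨(fittingOf K) → pCoreOf q K ≤ L) : fittingOf K ≤ L :=
  le_of_forall_exists_isSyl_le fun q hq hd =>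
    ⟨_, isSyl_pCoreOf_of_isNilpotent hq (H2.isNilpotent_fittingOf K),
      (pCoreOf_fittingOf hq K).le.trans (h q hq hd)⟩

theorem coprime_pPrimeCoreOf {q : ℕ} (hq : q.Prime) {Z : Subgroup G} (hZ : IsPGroup q Z)
    (M : Subgroup G) : 𝐨(H2.pPrimeCoreOf q M).Coprime 𝐨(Z) := by
  haveI := Fact.mk hq
  exact H1.coprime_card_of_isPGroup hZ
    ((Nat.Prime.coprime_iff_not_dvd hq).mpr (not_dvd_card_pPrimeCoreOf hq M)).symm

theorem pPrimeCoreOf_le_cent {q : ℕ} (hq : q.Prime) {Z M : Subgroup G} (hZ : Z ⊲ M)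
    (hZq : IsPGroup q Z) : H2.pPrimeCoreOf q M ≤ 𝐂(Z) :=
  le_cent_of_norm_of_coprime ((pPrimeCoreOf_normal q M).1.trans hZ.2)
    (hZ.1.trans (pPrimeCoreOf_normal q M).2) (coprime_pPrimeCoreOf hq hZq M).symm

theorem core_inf_le {q : ℕ} (hq : q.Prime) {M X Z : Subgroup G} (hZ : Z ⊲ M) (hZq : IsPGroup q Z)
    (hC : 𝐂(Z) ≤ M) (hZX : Z ≤ X) (hs : Group.IsSolvable X) :
    H2.pPrimeCoreOf q M ⊓ X ≤ H2.pPrimeCoreOf q X := by
  refine le_trans (le_pPrimeCoreOf ⟨le_inf inf_le_right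
    (inf_le_left.trans (pPrimeCoreOf_le_cent hq hZ hZq)), ?_⟩ ?_)
    (pPrimeCore_cent_pgroup hq hs hZX hZq)
  · exact H1.le_normalizer_inf (inf_le_right.trans (hC.trans (pPrimeCoreOf_normal q M).2))
      (inf_le_left.trans (le_norm_self X))
  · exact ((Nat.Prime.coprime_iff_not_dvd hq).mpr fun h =>
      not_dvd_card_pPrimeCoreOf hq M (h.trans (card_dvd_of_le inf_le_left))).symm

theorem le_piCore_compl {π : Set ℕ} {X Y : Subgroup G} (hY : Y ≤ X)
    (h : ∀ q : ℕ, q.Prime → q ∈ π → Y ≤ H2.pPrimeCoreOf q X) : Y ≤ piCoreOf πᶜ X := by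
  refine (H2.le_nclIn X Y).trans (le_piCoreOf ⟨H2.nclIn_le hY, H2.le_normalizer_nclIn X Y⟩ ?_)
  intro q hq hd hπ
  exact not_dvd_card_pPrimeCoreOf hq X (hd.trans (card_dvd_of_le
    (H2.nclIn_le_of_normal (h q hq hπ) (pPrimeCoreOf_normal q X).2)))

theorem pCoreOf_le_pPrimeCoreOf {q r : ℕ} (hq : q.Prime) (hr : r.Prime) (h : r ≠ q)
    (M : Subgroup G) : pCoreOf r M ≤ H2.pPrimeCoreOf q M :=
  le_pPrimeCoreOf (pCoreOf_normal r M) (BG05.coprime_of_isPGroup hq hr h (H2.isPGroup_pCoreOf r M))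

variable [MinOdd G]

theorem eq_bot_of_normed {M A : Subgroup G} (hM : IsCoatom M) (hA : NormedConstrained A)
    (hAF : A ≤ fittingOf M) (hπ : IsPiSubgroup (piOf A) (fittingOf M)) (h3 : 3 ≤ rank 𝐙(A))
    (hK : piCoreOf (piOf A)ᶜ 𝐂(A) = ⊥) {q : ℕ} (hq : q.Prime) (hqA : q ∉ piOf A)
    {X : Subgroup G} (hX : IsPGroup q X) (hAX : A ≤ 𝐍(X)) : X = ⊥ := by
  have htr := hA.rank3_trans hq hqA h3
  have hF := fittingOf_normal M
  obtain ⟨-, -, h1, -⟩ := hA.trans_superset hq hqA (ne_top_of_le_mmax hM hF.1) hπ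
    (A3.snIn_of_isNilpotent (H2.isNilpotent_fittingOf M) hAF) htr
  have huniq : ∀ Q₁ Q₂, MaxNormedPi A {q} Q₁ → MaxNormedPi A {q} Q₂ → Q₂ = Q₁ := by
    intro Q₁ Q₂ h₁ h₂
    obtain ⟨k, hk, h⟩ := htr Q₁ Q₂ h₁ h₂
    rw [hK, mem_bot] at hk
    rw [h, hk, conj_one]
  obtain ⟨R, hR, hXR⟩ := exists_maxNormedPi_ge ((isPi_singleton_iff hq).mpr hX) hAX
  obtain ⟨Q, hQ, -⟩ := exists_maxNormedPi_ge (A := fittingOf M) (isPi_bot {q})
    (by rw [norm_bot]; exact le_top)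
  have hQq : IsPGroup q Q := (isPi_singleton_iff hq).mp hQ.1.2.1
  have hMQ : M ≤ 𝐍(Q) := fun g hg =>
    conj_eq_self_iff.mp (huniq _ _ (h1 _ hQ) (h1 _ (hQ.conj_of_mem_norm (hF.2 hg))))
  rw [eq_bot_iff]
  refine hXR.trans ((huniq _ _ (h1 _ hQ) hR).le.trans (le_of_eq ?_))
  by_contra hQ1
  have h2 := mmax_norm_eq hM hQ1 (ne_top_of_isPGroup hq hQq) hMQ
  have h4 : Q ≤ fittingOf M :=
    le_fittingOf ⟨h2 ▸ le_norm_self Q, hMQ⟩ (isNilpotent_of_isPGroup hq hQq)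
  exact hqA (hπ q hq ((prime_dvd_card_of_isPGroup hq hQq hQ1).trans (card_dvd_of_le h4)))

end BG08

open BG08

variable [MinOdd G]

/-- BG 8.1(a). -/
theorem non_pcore_fitting_uniq {p : ℕ} (hp : p.Prime) {M A₀ : Subgroup G} (hM : IsCoatom M)
    (hF : ¬ IsPGroup p (fittingOf M)) (hA₀ : IsMaxElem p A₀ (fittingOf M))
    (h3 : 3 ≤ pRank p A₀) : InU (fittingOf M ⊓ 𝐂(A₀)) := by
  set F := fittingOf M with hFdef
  set A := F ⊓ 𝐂(A₀) with hAdef
  have hFM : F ⊲ M := fittingOf_normal M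
  have nilF : Group.IsNilpotent F := H2.isNilpotent_fittingOf M
  have hAF : A ≤ F := inf_le_left
  have nilA : Group.IsNilpotent A := isNilpotent_of_le hAF nilF
  have hsM := mmax_isSolvable hM
  have hA₀A : A₀ ≤ A := le_inf hA₀.1 (isMulComm_iff_le_cent.mp hA₀.2.1.1)
  -- the subgroups `Z q`
  let Z : ℕ → Subgroup G := fun q => pCoreOf q M ⊓ 𝐂(F)
  have hOF : ∀ q : ℕ, q.Prime → pCoreOf q M ≤ F := fun q hq =>
    (pCoreOf_fittingOf hq M).ge.trans (pCoreOf_normal q F).1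
  have hZM : ∀ q, Z q ⊲ M := fun q => ⟨inf_le_left.trans (pCoreOf_normal q M).1,
    H1.le_normalizer_inf (pCoreOf_normal q M).2 (H1.le_normalizer_centralizer hFM.2)⟩
  have hZq : ∀ q, IsPGroup q (Z q) := fun q => (H2.isPGroup_pCoreOf q M).to_le inf_le_left
  have hZA : ∀ q : ℕ, q.Prime → Z q ≤ A := fun q hq =>
    le_inf (inf_le_left.trans (hOF q hq)) (inf_le_right.trans (cent_anti hA₀.1))
  have hZ1 : ∀ q : ℕ, q.Prime → q ∣ 𝐨(F) → Z q ≠ ⊥ := by
    intro q hq hd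
    refine inf_center_ne_bot nilF ⟨hOF q hq, hFM.1.trans (pCoreOf_normal q M).2⟩ ?_
    rw [← pCoreOf_fittingOf hq]
    exact (isSyl_pCoreOf_of_isNilpotent hq nilF).ne_bot hq hd
  have hCZ : ∀ q : ℕ, q.Prime → q ∣ 𝐨(F) → 𝐂(Z q) ≤ M := fun q hq hd =>
    cent_le_mmax_of_normal hM (hZM q) (hZ1 q hq hd)
  have hCA : ∀ q : ℕ, q.Prime → q ∣ 𝐨(F) → 𝐂(pCoreOf q A) ≤ M := fun q hq hd =>
    (cent_anti (le_pCoreOf_of_nil hq nilA (hZA q hq) (hZq q))).trans (hCZ q hq hd)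
  have hπ : IsPiSubgroup (piOf A) F := fun q hq hd =>
    ⟨hq, (prime_dvd_card_of_isPGroup hq (hZq q) (hZ1 q hq hd)).trans (card_dvd_of_le (hZA q hq))⟩
  have hpF : p ∣ 𝐨(F) := ((pRank_pos_iff hp).mp (by omega)).trans (card_dvd_of_le hA₀.1)
  have hCAM : 𝐂(A) ≤ M := (cent_anti (pCoreOf_normal p A).1).trans (hCA p hp hpF)
  have hπC : IsPiSubgroup (piOf A) 𝐂(A) := by
    intro q hq hd
    by_contra hqA
    obtain ⟨X, hX, hXq⟩ := exists_le_card_eq_prime hq hd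
    have h1 : X ≤ 𝐂(F) := H1.le_centralizer_of_centralizer_le nilF (hX.trans (hCAM.trans hFM.2))
      (hXq ▸ (Nat.Prime.coprime_iff_not_dvd hq).mpr fun h => hqA (hπ q hq h)) hAF (cent_comm.mp hX)
      ((inf_le_inf_left _ (cent_anti hA₀A)).trans (cent_comm.mp hX))
    have h2 : X ≤ F := (le_inf (hX.trans hCAM) h1).trans (cent_fittingOf_le hsM)
    exact hqA (hπ q hq (hXq ▸ card_dvd_of_le h2))
  have halt : ∀ q : ℕ, ∃ r : ℕ, r.Prime ∧ r ∣ 𝐨(F) ∧ r ≠ q := by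
    intro q
    by_cases hq : p = q
    · by_contra hcon
      push Not at hcon
      exact hF ((isPi_singleton_iff hp).mp fun r hr hd => (hcon r hr hd).trans hq.symm)
    · exact ⟨p, hp, hpF, hq⟩
  have hNZ : ∀ q : ℕ, q.Prime → q ∣ 𝐨(F) → ∀ X : Subgroup G, A ≤ X → X ≠ ⊤ →
      H2.pPrimeCoreOf q M ⊓ X ≤ H2.pPrimeCoreOf q X := fun q hq hd X hX hX' =>
    core_inf_le hq (hZM q) (hZq q) (hCZ q hq hd) ((hZA q hq).trans hX) (isSolvable_of_ne_top hX')
  have hAr : ∀ q r : ℕ, q.Prime → r.Prime → q ∣ 𝐨(F) → r ≠ q → ∀ X : Subgroup G, A ≤ X → X ≠ ⊤ →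
      pCoreOf r A ≤ H2.pPrimeCoreOf q X := by
    intro q r hq hr hd hrq X hX hX'
    refine le_trans (le_inf ?_ ((pCoreOf_normal r A).1.trans hX)) (hNZ q hq hd X hX hX')
    refine le_trans ?_ (pCoreOf_le_pPrimeCoreOf hq hr hrq M)
    rw [← pCoreOf_fittingOf hr M]
    exact le_pCoreOf_of_nil hr nilF ((pCoreOf_normal r A).1.trans hAF) (H2.isPGroup_pCoreOf r A)
  have hcstr : NormedConstrained A := by
    refine ⟨ne_bot_of_prime_dvd hp (hπ p hp hpF).2, ne_top_of_le_mmax hM (hAF.trans hFM.1), ?_⟩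
    rintro X Y hX hX' ⟨hYX, hYπ, hAY⟩
    have hYM : Y ⊓ M = ⊥ := by
      apply eq_bot_of_isPi_of_isPi_compl _ (isPi_of_le inf_le_left hYπ)
      refine isPi_of_le ?_ hπC
      rw [← comm_eq_bot_iff, eq_bot_iff, ← isPi_disjoint hπ hYπ]
      refine le_inf ((commutator_mono inf_le_right hAF).trans (comm_le_right_iff.mpr hFM.2)) ?_
      exact (commutator_mono inf_le_left le_rfl).trans (comm_le_left_iff.mpr hAY)
    refine le_piCore_compl hYX fun q hq hqA => ?_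
    obtain ⟨r, hr, hrF, hrq⟩ := halt q
    have hqF : q ∣ 𝐨(F) := hqA.2.trans (card_dvd_of_le hAF)
    have h1 := H1.commutator_sup_centralizer ((pCoreOf_normal r A).1.trans hAY)
      (isPi_coprime (isPi_of_le ((pCoreOf_normal r A).1.trans hAF) hπ) hYπ)
      (Or.inr (H1.isSolvable_of_le hYX (isSolvable_of_ne_top hX')))
    rw [← h1]
    refine sup_le ((commutator_mono hYX (hAr q r hq hr hqF hrq X hX hX')).trans
      (comm_le_right_iff.mpr (pPrimeCoreOf_normal q X).2)) ?_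
    exact ((inf_le_inf_left _ (hCA r hr hrF)).trans hYM.le).trans bot_le
  have hrank : 3 ≤ rank 𝐙(A) :=
    h3.trans ((pRank_mono hp (le_inf hA₀A (cent_comm.mp inf_le_right))).trans (pRank_le_rank hp _))
  have hK : piCoreOf (piOf A)ᶜ 𝐂(A) = ⊥ := piCoreOf_eq_bot (by rwa [compl_compl])
  refine ⟨M, uniqMax_of_forall hM (hAF.trans hFM.1) fun H hH hAH => ?_⟩
  have hsH := mmax_isSolvable hH
  have hAD : ∀ q r : ℕ, q.Prime → r.Prime → r ≠ q → pCoreOf r A ≤ 𝐂(pCoreOf q H) := by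
    intro q r hq hr hrq
    by_cases hqA : q ∈ piOf A
    · exact (hAr q r hq hr (hqA.2.trans (card_dvd_of_le hAF)) hrq H hAH hH.1).trans
        (pPrimeCoreOf_le_cent hq (pCoreOf_normal q H) (H2.isPGroup_pCoreOf q H))
    · rw [eq_bot_of_normed hM hcstr hAF hπ hrank hK hq hqA (H2.isPGroup_pCoreOf q H)
        (hAH.trans (pCoreOf_normal q H).2), cent_bot]
      exact le_top
  have hApH : pCoreOf p A ≤ H := (pCoreOf_normal p A).1.trans hAH
  have hAp1 : pCoreOf p A ≠ ⊥ := (isSyl_pCoreOf_of_isNilpotent hp nilA).ne_bot hp (hπ p hp hpF).2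
  have hDp : pCoreOf p H ≠ ⊥ := by
    intro h0
    have h1 : fittingOf H ≤ 𝐂(pCoreOf p A) := fitting_le_of_pCore fun q hq _ => by
      by_cases hqp : p = q
      · rw [← hqp, h0]; exact bot_le
      · exact cent_comm.mp (hAD q p hq hp hqp)
    have h2 := (le_inf hApH (cent_comm.mp h1)).trans (cent_fittingOf_le hsH)
    exact not_dvd_card_fittingOf hp h0
      ((prime_dvd_card_of_isPGroup hp (H2.isPGroup_pCoreOf p A) hAp1).trans (card_dvd_of_le h2))
  obtain ⟨r, hr, hrF, hrp⟩ := halt p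
  have hDM : pCoreOf p H ≤ M := (cent_comm.mp (hAD p r hp hr hrp)).trans (hCA r hr hrF)
  have hCD : 𝐂(pCoreOf p H) ≤ H := cent_le_mmax_of_normal hH (pCoreOf_normal p H) hDp
  have hne : ∀ {q : ℕ} {L : Subgroup G}, q ∣ 𝐨(fittingOf (H2.pPrimeCoreOf p L)) → q ≠ p := by
    rintro q L hd rfl
    exact not_dvd_card_pPrimeCoreOf hp L (hd.trans (card_dvd_of_le (fittingOf_normal _).1))
  have h1 : H2.pPrimeCoreOf p H ≤ M := by
    refine (cent_comm.mp (coprime_cent_fitting (hApH.trans (pPrimeCoreOf_normal p H).2)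
      (coprime_pPrimeCoreOf hp (H2.isPGroup_pCoreOf p A) H).symm
      (H1.isSolvable_of_le (pPrimeCoreOf_normal p H).1 hsH) ?_)).trans (hCA p hp hpF)
    rw [cent_comm]
    exact fitting_le_of_pCore fun q hq hd => (pCoreOf_le_of_normal (pPrimeCoreOf_normal p H)).trans
      (cent_comm.mp (hAD q p hq hp (hne hd).symm))
  have h2 : H2.pPrimeCoreOf p H ≤ H2.pPrimeCoreOf p M := (le_inf le_rfl h1).trans
    (core_inf_le hp (pCoreOf_normal p H) (H2.isPGroup_pCoreOf p H) hCD hDM hsM)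
  have h4 : H2.pPrimeCoreOf p M ≤ H := by
    refine (cent_comm.mp (coprime_cent_fitting (hDM.trans (pPrimeCoreOf_normal p M).2)
      (coprime_pPrimeCoreOf hp (H2.isPGroup_pCoreOf p H) M).symm
      (H1.isSolvable_of_le (pPrimeCoreOf_normal p M).1 hsM) ?_)).trans hCD
    rw [cent_comm]
    refine fitting_le_of_pCore fun q hq hd => (pCoreOf_le_of_normal (pPrimeCoreOf_normal p M)).trans
      (le_trans ?_ (hAD p q hp hq (hne hd)))
    refine le_pCoreOf_of_nil hq nilA (le_inf (hOF q hq) ?_) (H2.isPGroup_pCoreOf q M)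
    exact le_cent_of_coprime_of_isNilpotent nilF (hOF q hq) hA₀.1
      (coprime_card_of_isPGroup hq hp (hne hd) (H2.isPGroup_pCoreOf q M) (elemAb_isPGroup hA₀.2.1))
  have h5 : H2.pPrimeCoreOf p H = H2.pPrimeCoreOf p M :=
    le_antisymm h2 ((le_inf le_rfl h4).trans (hNZ p hp hpF H hAH hH.1))
  have h6 : H2.pPrimeCoreOf p M ≠ ⊥ := fun h0 => hZ1 r hr hrF
    (eq_bot_iff.mpr (inf_le_left.trans ((pCoreOf_le_pPrimeCoreOf hp hr hrp M).trans h0.le)))
  rw [← mmax_normal hM (pPrimeCoreOf_normal p M) h6, ← h5]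
  exact (pPrimeCoreOf_normal p H).2

/-- BG 8.1(b). -/
theorem scn_fitting_uniq {p : ℕ} (hp : p.Prime) {M P A : Subgroup G} (hM : IsCoatom M)
    (hF : IsPGroup p (fittingOf M)) (h3 : 3 ≤ pRank p (fittingOf M)) (hP : IsSyl p P M)
    (hA : IsSCN P A) (hA3 : 3 ≤ pRank p A) : IsSyl p P ⊤ ∧ A ≤ fittingOf M ∧ InU A := by
  set F := fittingOf M with hFdef
  have hFM : F ⊲ M := fittingOf_normal M
  have nilF : Group.IsNilpotent F := H2.isNilpotent_fittingOf M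
  have hsM := mmax_isSolvable hM
  have hc : IsMulCommutative A := isMulComm_iff_le_cent.mpr (hA.2.2.ge.trans inf_le_right)
  have hA1 : A ≠ ⊥ := BG05.ne_bot_of_pRank hp hA3
  have hAp : IsPGroup p A := hP.pgrp.to_le hA.1
  have hM1 : H2.pPrimeCoreOf p M = ⊥ := by
    by_contra h0
    have hK := pPrimeCoreOf_normal p M
    have h1 : fittingOf (H2.pPrimeCoreOf p M) = ⊥ := by
      rw [fittingOf_of_normal hK]
      exact H1.inf_eq_bot_of_coprime' (coprime_pPrimeCoreOf hp hF M).symm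
    have h2 := cent_fittingOf_le (H1.isSolvable_of_le hK.1 hsM)
    rw [h1, cent_bot, inf_top_eq] at h2
    exact h0 (eq_bot_iff.mpr h2)
  have hFeq : F = pCoreOf p M := fittingOf_eq_pCoreOf hp hM1
  have hFP : F ≤ P := hFeq ▸ hP.pCoreOf_le hp
  have hAF : A ≤ F := by
    rw [hFeq, ← pPrimePCoreOf_eq_pCoreOf hp hM1]
    exact solvable_p_abelian_constrained hp hsM (odd_card M) hP ⟨hA.1, hA.2.1⟩ hc
  have hCAM : 𝐂(A) ≤ M := by
    have h1 : 𝐙(F) ≤ A := hA.2.2 ▸ inf_le_inf hFP (cent_anti hAF)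
    exact (cent_anti h1).trans (cent_le_mmax_of_normal hM
      ⟨inf_le_left.trans hFM.1, hFM.2.trans (norm_le_norm_center F)⟩
      (center_ne_bot nilF fun h => hA1 (eq_bot_iff.mpr (hAF.trans h.le))))
  -- the Puig subgroup
  have hpuig : ∀ {H R : Subgroup G}, IsCoatom H → H2.pPrimeCoreOf p H = ⊥ → IsSyl p R H → R ≠ ⊥ →
      𝐍(𝐙(puig R)) = H := fun {H R} hH h1 hR hR1 =>
    mmax_normal hH ⟨inf_le_left.trans ((puig_le R).trans hR.le),
      puig_center_normal hp (mmax_isSolvable hH) (odd_card H) hR h1⟩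
      (center_puig_ne_bot hp hR.pgrp hR1)
  have hsylG : ∀ {H R : Subgroup G}, IsCoatom H → H2.pPrimeCoreOf p H = ⊥ → IsSyl p R H → R ≠ ⊥ →
      IsSyl p R ⊤ := fun {H R} hH h1 hR hR1 => by
    apply IsSyl.of_norm hp
    refine hR.of_le (le_inf le_top (le_norm_self R)) (inf_le_right.trans ?_)
    rw [← hpuig hH h1 hR hR1]
    exact (normalizer_le_normalizer_puig R).trans (norm_le_norm_center _)
  have hPG := hsylG hM hM1 hP fun h => hA1 (eq_bot_iff.mpr (hA.1.trans h.le))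
  refine ⟨hPG, hAF, M, uniqMax_of_forall hM (hAF.trans hFM.1) ?_⟩
  have hπA := A3.piOf_eq_singleton hp hAp hA1
  have hK : piCoreOf (piOf A)ᶜ 𝐂(A) = ⊥ := by
    rw [hπA, ← pPrimeCoreOf_eq hp]
    have hK := (pPrimeCoreOf_normal p 𝐂(A)).1
    have hco := coprime_pPrimeCoreOf hp hF 𝐂(A)
    have h1 : H2.pPrimeCoreOf p 𝐂(A) ≤ 𝐂(F) :=
      H1.le_centralizer_of_centralizer_le nilF (hK.trans (hCAM.trans hFM.2)) hco hAF
        (cent_comm.mp hK) (((inf_le_inf_right _ hFP).trans hA.2.2.le).trans (cent_comm.mp hK))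
    rw [eq_bot_iff, ← H1.inf_eq_bot_of_coprime' hco]
    exact le_inf le_rfl ((le_inf (hK.trans hCAM) h1).trans (cent_fittingOf_le hsM))
  have hrank : 3 ≤ rank 𝐙(A) := by
    rw [inf_eq_left.mpr (isMulComm_iff_le_cent.mp hc)]
    exact hA3.trans (pRank_le_rank hp A)
  have hH1 : ∀ H : Subgroup G, A ≤ H → H2.pPrimeCoreOf p H = ⊥ := by
    intro H hAH
    by_contra h0
    obtain ⟨q, hq, hd⟩ := exists_prime_dvd_card h0
    obtain ⟨Q, hQ, -, hAQ⟩ := exists_invariant_isSyl hq (hAH.trans (pPrimeCoreOf_normal p H).2)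
      (coprime_pPrimeCoreOf hp hAp H).symm (Or.inl (H1.isSolvable_of_isMulCommutative hc))
      (IsPGroup.of_bot) bot_le (by rw [norm_bot]; exact le_top)
    refine hQ.ne_bot hq hd (eq_bot_of_normed hM (scn_normedConstrained hp hPG hA (by omega)) hAF
      (hπA ▸ (isPi_singleton_iff hp).mpr hF) hrank hK hq ?_ hQ.pgrp hAQ)
    rw [hπA]
    rintro rfl
    exact not_dvd_card_pPrimeCoreOf hp H hd
  have key : ∀ R : Subgroup G, A ≤ R → R ≤ M → IsPGroup p R →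
      ∀ H : Subgroup G, IsCoatom H → R ≤ H → H = M := by
    intro R
    induction R using WellFoundedGT.induction with
    | ind R ih =>
    intro hAR hRM hR H hH hRH
    have hR1 : R ≠ ⊥ := fun h => hA1 (eq_bot_iff.mpr (hAR.trans h.le))
    obtain ⟨R₁, h1, h2⟩ := exists_isSyl_ge hp hR (le_inf hRH hRM)
    rcases h2.lt_or_eq with h2 | h2
    · exact ih R₁ h2 (hAR.trans h2.le) (h1.le.trans inf_le_right) h1.pgrp H hH
        (h1.le.trans inf_le_left)
    subst h2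
    have hRH' : IsSyl p R H := by
      obtain ⟨P₁, h4, h5⟩ := exists_isSyl_ge hp hR hRM
      rcases h5.lt_or_eq with h5 | h5
      · have h6 := lt_inf_norm_of_isNilpotent (isNilpotent_of_isPGroup hp h4.pgrp) h5
        obtain ⟨L, hL, hNL⟩ := mmax_exists (norm_ne_top_of_isPGroup hp hR hR1)
        have h7 := ih _ h6 (hAR.trans h6.le) (inf_le_left.trans h4.le) (h4.pgrp.to_le inf_le_left)
          L hL (inf_le_right.trans hNL)
        apply IsSyl.of_norm hp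
        exact h1.of_le (le_inf hRH (le_norm_self R)) (inf_le_inf_left _ (h7 ▸ hNL))
      · subst h5
        exact (hPG.of_card_eq hp le_top (h4.card_eq hp hP)).of_le hRH le_top
    have h4 := hH1 H (hAR.trans hRH)
    rw [← hpuig hH h4 hRH' hR1,
      hpuig hM hM1 ((hsylG hH h4 hRH' hR1).of_le hRM le_top) hR1]
  exact fun H hH hAH => (key A le_rfl (hAF.trans hFM.1) hAp H hH hAH).le

/-- BG 8.1, weak form. -/
theorem fitting_uniq {M : Subgroup G} (hM : IsCoatom M) (h3 : 3 ≤ rank (fittingOf M)) :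
    InU (fittingOf M) := by
  obtain ⟨p, hp, h⟩ := le_rank_iff.mp h3
  have hF := fittingOf_normal M
  have hne := ne_top_of_le_mmax hM hF.1
  by_cases hFp : IsPGroup p (fittingOf M)
  · obtain ⟨P, hP⟩ := exists_isSyl hp M
    obtain ⟨A, hA, hA3⟩ := rank3_scn3 hp (ne_two_of_pRank_pos hp (H := fittingOf M) (by omega))
      hP.pgrp (by rw [hP.pRank_eq hp]; exact h.trans (pRank_mono hp hF.1))
    obtain ⟨-, h1, h2⟩ := scn_fitting_uniq hp hM hFp h hP hA hA3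
    exact h2.mono h1 hne
  · obtain ⟨E, hE, hE3⟩ := (le_pRank_iff hp).mp h
    obtain ⟨A₀, hA₀, hEA⟩ := exists_isMaxElem_ge hE hE3.elemAb
    exact (non_pcore_fitting_uniq hp hM hFp hA₀ (le_pRank hp hEA hE3)).mono inf_le_left hne

end Cfsg.Agent.FT
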