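/-
BG section 9: the uniqueness theorem.
-/
import Cfsg.Agent.FT.BG08
import Cfsg.Agent.H3.FTAux

set_option autoImplicit false

namespace Cfsg.Agent.FT

open Subgroup Cfsg Cfsg.Agent
open scoped commutatorElement

universe u

variable {G : Type u} [Group G] [Finite G] [MinOdd G]

/-- BG 9.1(b). -/
theorem noncyclic_normed_le_uniq {p : ℕ} (hp : p.Prime) {M B : Subgroup G} (hM : IsCoatom M)
    (hB : B ≤ M) (hBe : IsElementaryAbelian p B) (hnc : ¬ IsCyclic B)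
    (h : ∀ Y : Subgroup G, 𝐨(Y).Coprime p → B ≤ 𝐍(Y) → Y ≤ M) : InU B := by
  by_contra hU
  obtain ⟨H₀, hH₀, hBH₀, hne₀⟩ := exists_mmax_ne_of_not_uniqMax hM hB fun h => hU h.inU
  obtain ⟨R, -, hRmax⟩ := Finite.exists_le_maximal (p := fun R : Subgroup G =>
    IsPGroup p R ∧ B ≤ R ∧ R ≤ M ∧ ∃ H, IsCoatom H ∧ H ≠ M ∧ R ≤ H)
    ⟨elemAb_isPGroup hBe, le_rfl, hB, H₀, hH₀, hne₀, hBH₀⟩
  obtain ⟨hR, hBR, hRM, H, hH, hne, hRH⟩ := hRmax.prop
  have hB1 : B ≠ ⊥ := by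
    rintro rfl
    exact hnc inferInstance
  have hR1 : R ≠ ⊥ := fun h => hB1 (eq_bot_iff.2 (hBR.trans h.le))
  have hsM := mmax_isSolvable hM
  obtain ⟨P, hP, hRP⟩ := exists_isSyl_ge hp hR hRM
  have hP1 : P ≠ ⊥ := fun h => hR1 (eq_bot_iff.2 (hRP.trans h.le))
  have hOH := pPrimeCoreOf_normal p H
  have hOM : H2.pPrimeCoreOf p H ≤ M :=
    h _ (H2.coprime_card_pPrimeCoreOf p H) ((hBR.trans hRH).trans hOH.2)
  have hNP : 𝐍(P) ≤ M := by
    have hO := pPrimeCoreOf_normal p M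
    by_cases h1 : H2.pPrimeCoreOf p M = ⊥
    · have h2 := puig_center_normal hp hsM (odd_card M) hP h1
      refine ((normalizer_le_normalizer_puig P).trans (norm_le_norm_center _)).trans ?_
      exact (mmax_normal hM ⟨inf_le_left.trans ((puig_le P).trans hP.le), h2⟩
        (center_puig_ne_bot hp hP.pgrp hP1)).le
    · obtain ⟨A, -, hA⟩ := exists_scn_ge hp hP.pgrp (B := ⊥) ⟨bot_le, by rw [norm_bot]; exact le_top⟩
        (isMulComm_iff_le_cent.2 bot_le)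
      intro x hx
      rw [← mmax_normal hM hO h1]
      refine mem_norm_of_conj_le ?_
      have hc : 𝐨(H2.pPrimeCoreOf p M ^ᵍ x).Coprime p := by
        rw [card_conj]
        exact H2.coprime_card_pPrimeCoreOf p M
      have hn : P ≤ 𝐍(H2.pPrimeCoreOf p M ^ᵍ x) := by
        rw [← conj_eq_of_mem_norm hx]
        exact conj_le_norm_iff.2 (hP.le.trans hO.2)
      exact scn_normed_le_pPrimeCore hp hsM (odd_card M) hP hA (h _ hc ((hBR.trans hRP).trans hn))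
        hc (hA.1.trans hn)
  have hNR : 𝐍(R) ≤ M := by
    rcases hRP.eq_or_lt with he | hlt
    · rw [he]; exact hNP
    obtain ⟨D, hD, hND⟩ := mmax_exists (norm_ne_top_of_isPGroup hp hR hR1)
    have hlt' := lt_inf_norm_of_isNilpotent (isNilpotent_of_isPGroup hp hP.pgrp) hlt
    by_contra hn
    refine hlt'.not_ge (hRmax.2 ⟨hP.pgrp.to_le inf_le_left, hBR.trans hlt'.le,
      inf_le_left.trans hP.le, D, hD, ?_, inf_le_right.trans hND⟩ hlt'.le)
    rintro rfl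
    exact hn hND
  have hRS : IsSyl p R H := by
    refine IsSyl.of_norm hp (isSyl_of_maximal hp (le_inf hRH (le_norm_self R)) hR
      fun Q hRQ hQ hQp => le_antisymm (hRmax.2 ⟨hQp, hBR.trans hRQ,
        hQ.trans (inf_le_right.trans hNR), H, hH, hne, hQ.trans inf_le_left⟩ hRQ) hRQ)
  have hF : fittingOf H ≤ R ⊔ H2.pPrimeCoreOf p H :=
    (H2.fittingOf_le_sup hp H).trans (sup_le_sup_right (hRS.pCoreOf_le hp) _)
  by_cases hr : 3 ≤ rank (fittingOf H)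
  · exact hne ((fitting_uniq hH hr).eq hH (H2.fittingOf_le H) hM (hF.trans (sup_le hRM hOM)))
  have hder := rank2_der_le_fitting (mmax_isSolvable hH) (odd_card H) (by omega)
  have hle : R ⊔ H2.pPrimeCoreOf p H ≤ H := sup_le hRH hOH.1
  have hfr := (hRS.of_le le_sup_left hle).frattini hp ⟨hle, le_norm_of_der_le (hder.trans hF) hle⟩
  exact hne (mmax_eq_of_le' hH hM (hfr.ge.trans
    (sup_le (sup_le hRM hOM) (inf_le_right.trans hNR))))

/-- BG 9.1(a). -/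
theorem noncyclic_cent1_le_uniq {p : ℕ} (hp : p.Prime) {M B : Subgroup G} (hM : IsCoatom M)
    (hB : B ≤ M) (hBe : IsElementaryAbelian p B) (hnc : ¬ IsCyclic B)
    (h : ∀ b ∈ B, b ≠ 1 → 𝐂[b] ≤ M) : InU B := by
  refine noncyclic_normed_le_uniq hp hM hB hBe hnc fun Y hY hn => ?_
  refine H1.le_of_forall_centralizer_le hBe.1 hnc hn ?_
    fun b hb hb1 => inf_le_right.trans (h b hb hb1)
  obtain ⟨n, hn⟩ := exists_card_eq_pow hp (elemAb_isPGroup hBe)
  rw [hn]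
  exact (hY.symm).pow_left n

namespace BG09

theorem InU.ne_bot {K : Subgroup G} (h : InU K) : K ≠ ⊥ := by
  rintro rfl
  obtain ⟨M, hM⟩ := h
  have h1 := hM.norm_le
  rw [norm_bot] at h1
  exact hM.max.1 (eq_top_iff.2 h1)

end BG09

/-- BG 9.2. -/
theorem cent_uniq_uniq {K L : Subgroup G} (hL : InU L) (hK : K ≤ 𝐂(L)) (h : 2 ≤ rank K) :
    InU K := by
  have hL1 := BG09.InU.ne_bot hL
  obtain ⟨H, hH⟩ := hL
  obtain ⟨p, hp, B, hB, hB2⟩ := le_rank_iff'.1 h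
  have hc : ∀ b ∈ B, b ≠ 1 → 𝐂[b] ≤ H := fun b hb hb1 =>
    hH.le_of_ne_top (mem_cent_iff_cent1.1 (hK (hB hb))) (cent1_ne_top hb1)
  refine (noncyclic_cent1_le_uniq hp hH.max (hB.trans (hK.trans hH.cent_le)) hB2.elemAb
    (hB2.not_isCyclic hp le_rfl) hc).mono hB ?_
  exact fun he => cent_ne_top hL1 (eq_top_iff.2 (he.ge.trans hK))

namespace BG09

omit [MinOdd G] in
theorem two_le_rank_cent {p : ℕ} (hp : p.Prime) {A D : Subgroup G} (hA : 3 ≤ pRank p A)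
    (hD : IsElem p 2 D) (hn : A ≤ 𝐍(D)) : 2 ≤ rank (A ⊓ 𝐂(D)) := by
  have h := pRank_le_add_of_normal hp (k := 1) (K := A ⊓ 𝐂(D)) (H := A)
    (H1.le_normalizer_inf (le_norm_self A) (H1.le_normalizer_centralizer hn)) (by
      rw [inf_relIndex_left]
      exact not_sq_dvd_relIndex_cent_elem2 hp hD.elemAb hD.card.le hn)
  have := pRank_le_rank hp (A ⊓ 𝐂(D))
  omega

end BG09

/-- BG 9.3. -/
theorem any_cent_rank3_uniq {p : ℕ} (hp : p.Prime) {A B : Subgroup G} (hA : IsPGroup p A)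
    (hAc : IsMulCommutative A) (hA3 : 3 ≤ pRank p A) (hAU : InU A) (hB : IsPGroup p B)
    (hnc : ¬ IsCyclic B) (hB3 : 3 ≤ pRank p 𝐂(B)) : InU B := by
  have hp2 : p ≠ 2 := ne_two_of_pRank_pos hp (H := A) (by omega)
  obtain ⟨C, hC, hC3⟩ := (le_pRank_iff hp).1 hB3
  obtain ⟨P, hP, hCP⟩ := exists_isSyl_ge hp hC3.pgrp le_top
  obtain ⟨x, -, hx⟩ := hP.exists_conj_le hp hA le_top
  have hPc : ¬ IsCyclic P := fun h => hC3.not_isCyclic hp (by norm_num) (isCyclic_of_le hCP h)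
  obtain ⟨D, hD, hD2⟩ := exists_normal_isElem_two hp hp2 hP.pgrp hPc
  have h1 : InU (A ^ᵍ x ⊓ 𝐂(D)) := cent_uniq_uniq (hAU.conj x)
    (inf_le_left.trans (isMulComm_iff_le_cent.1 ((isMulComm_map_iff (conj_injective x)).2 hAc)))
    (BG09.two_le_rank_cent hp (by rwa [pRank_conj hp]) hD2 (hx.trans hD.2))
  have h2 : InU D := cent_uniq_uniq h1 (cent_comm.1 inf_le_right)
    (by rw [rank_eq_pRank hp hD2.pgrp, hD2.pRank_eq hp])
  have h3 : InU (C ⊓ 𝐂(D)) := cent_uniq_uniq h2 inf_le_right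
    (BG09.two_le_rank_cent hp (hC3.pRank_eq hp).ge hD2 (hCP.trans hD.2))
  have h4 : InU C := cent_uniq_uniq h3 (hC3.le_cent.trans (cent_anti inf_le_left))
    (by rw [rank_eq_pRank hp hC3.pgrp, hC3.pRank_eq hp]; norm_num)
  exact cent_uniq_uniq h4 (cent_comm.1 hC)
    ((two_le_pRank_of_not_isCyclic hp hp2 hB hnc).trans (pRank_le_rank hp B))

namespace BG09

omit [Finite G] [MinOdd G] in
theorem scn_comm {P A : Subgroup G} (h : IsSCN P A) : IsMulCommutative A :=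
  isMulComm_iff_le_cent.2 (h.2.2.ge.trans inf_le_right)

/-- BG 9.4 for arbitrary `p`-groups. -/
theorem rank3_fitting_uniq {p : ℕ} (hp : p.Prime) {M A : Subgroup G} (hM : IsCoatom M)
    (hF : 3 ≤ pRank p (fittingOf M)) (hA : IsPGroup p A) (hA3 : 3 ≤ pRank p A) : InU A := by
  have hp2 : p ≠ 2 := ne_two_of_pRank_pos hp (H := A) (by omega)
  obtain ⟨B, hB, hB3⟩ := (le_pRank_iff hp).1 hA3
  refine InU.mono ?_ hB (ne_top_of_isPGroup hp hA)
  have hnc := hB3.not_isCyclic hp (by norm_num)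
  have hC := le_pRank hp hB3.le_cent hB3
  by_cases hFp : IsPGroup p (fittingOf M)
  · obtain ⟨P, hP, hFP⟩ := exists_isSyl_ge hp hFp (H2.fittingOf_le M)
    obtain ⟨A', hA', hA'3⟩ := rank3_scn3 hp hp2 hP.pgrp (hF.trans (pRank_mono hp hFP))
    exact any_cent_rank3_uniq hp (hP.pgrp.to_le hA'.1) (scn_comm hA') hA'3
      (scn_fitting_uniq hp hM hFp hF hP hA' hA'3).2.2 hB3.pgrp hnc hC
  · obtain ⟨E, hE, hE3⟩ := (le_pRank_iff hp).1 hF
    obtain ⟨A₀, hA₀, hEA⟩ := exists_isMaxElem_ge hE hE3.elemAb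
    have h3 := le_pRank hp hEA hE3
    have hU := non_pcore_fitting_uniq hp hM hFp hA₀ h3
    refine any_cent_rank3_uniq hp (elemAb_isPGroup hA₀.2.1) hA₀.2.1.1 h3
      (cent_uniq_uniq hU (cent_comm.1 inf_le_right) ?_) hB3.pgrp hnc hC
    have := pRank_le_rank hp A₀
    omega

end BG09

/-- BG 9.4. -/
theorem any_rank3_fitting_uniq {p : ℕ} (hp : p.Prime) {M A : Subgroup G} (hM : IsCoatom M)
    (hF : 3 ≤ pRank p (fittingOf M)) (hA : IsPGroup p A) (hAc : IsMulCommutative A)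
    (hA3 : 3 ≤ pRank p A) : InU A :=
  BG09.rank3_fitting_uniq hp hM hF hA hA3

namespace BG09

theorem uniqMax_pCore {q : ℕ} (hq : q.Prime) {M : Subgroup G} (hM : IsCoatom M)
    (hF : 3 ≤ pRank q (fittingOf M)) : UniqMax (pCoreOf q M) M :=
  (rank3_fitting_uniq hq hM hF (H2.isPGroup_pCoreOf q M)
    (by rwa [← pRank_fittingOf hq])).uniqMax hM (H2.pCoreOf_le q M)

omit [MinOdd G] in
/-- A solvable group of odd order whose Fitting subgroup has rank at most 2 has a nontrivial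
normal Sylow subgroup. -/
theorem exists_normal_sylow {E : Subgroup G} (hs : Group.IsSolvable E) (ho : Odd 𝐨(E))
    (hr : rank (fittingOf E) ≤ 2) (h1 : E ≠ ⊥) :
    ∃ p : ℕ, p.Prime ∧ p ∣ 𝐨(E) ∧ IsSyl p (pCoreOf p E) E := by
  obtain ⟨q, hq, hqd⟩ := exists_prime_dvd_card h1
  have hne : (𝐨(E)).primeFactors.Nonempty := ⟨q, Nat.mem_primeFactors.2 ⟨hq, hqd, card_ne_zero E⟩⟩
  obtain ⟨hp, hpd, -⟩ := Nat.mem_primeFactors.1 (Finset.max'_mem _ hne)
  set p := (𝐨(E)).primeFactors.max' hne with hpdef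
  have h := rank2_ge_core_hall hs ho hr p
  have hS : IsSyl p (piCoreOf {q | p ≤ q} E) E := by
    refine (isSyl_iff_hall hp).2 (hall_congr h ?_)
    intro r hr hrd
    have : r ≤ p := Finset.le_max' _ r (Nat.mem_primeFactors.2 ⟨hr, hrd, card_ne_zero E⟩)
    simp only [Set.mem_setOf_eq, Set.mem_singleton_iff]
    omega
  exact ⟨p, hp, hpd, by rw [hS.pCoreOf_eq hp (piCoreOf_normal _ E).2]; exact hS⟩

section scn

variable {p : ℕ} (hp : p.Prime) {P A : Subgroup G} (hP : IsSyl p P ⊤) (hA : IsSCN P A)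
  (hA3 : 3 ≤ pRank p A) (hU : ¬ InU A)

include hp hP hA hA3 hU

theorem pRank_fitting_le {M : Subgroup G} (hM : IsCoatom M) : pRank p (fittingOf M) ≤ 2 := by
  by_contra h
  exact hU (rank3_fitting_uniq hp hM (by omega) (hP.pgrp.to_le hA.1) hA3)

theorem norm_le_of_le {M R : Subgroup G} (hM : IsCoatom M) (hC : 𝐂(A) ≤ M) (hAR : A ≤ R)
    (hRP : R ≤ P) (hRM : R ≤ M) : 𝐍(R) ≤ M := by
  have hAp : IsPGroup p A := hP.pgrp.to_le hA.1
  have hA1 : A ≠ ⊥ := ne_bot_of_prime_dvd hp ((pRank_pos_iff hp).1 (by omega))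
  have hq : ∃ q : ℕ, q.Prime ∧ q ≠ p ∧ ∀ Q : Subgroup G, IsPGroup q Q → pCoreOf q M ≤ Q →
      𝐍(Q) ≤ M := by
    by_cases hr : rank (fittingOf M) ≤ 2
    · obtain ⟨q, hq, hd, hS⟩ := exists_normal_sylow (mmax_isSolvable hM) (odd_card M) hr
        (mmax_ne_bot hM)
      have hN := mmax_normal hM (pCoreOf_normal q M) (hS.ne_bot hq hd)
      have hSG : IsSyl q (pCoreOf q M) ⊤ := IsSyl.of_norm hq (by rw [top_inf_eq, hN]; exact hS)
      refine ⟨q, hq, ?_, fun Q hQ hle => ?_⟩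
      · rintro rfl
        have h1 := pRank_fitting_le hp hP hA hA3 hU hM
        rw [pRank_fittingOf hq, hSG.pRank_eq hq] at h1
        have h2 := pRank_mono hq (le_top : A ≤ ⊤)
        omega
      · rw [hSG.eq_of_le hq hle le_top hQ, hN]
    · obtain ⟨q, hq, h3⟩ := le_rank_iff.1 (show 3 ≤ rank (fittingOf M) by omega)
      refine ⟨q, hq, ?_, fun Q hQ hle => ?_⟩
      · rintro rfl
        have h1 := pRank_fitting_le hp hP hA hA3 hU hM
        omega
      · exact ((uniqMax_pCore hq hM h3).mono' hle (ne_top_of_isPGroup hq hQ)).norm_le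
  obtain ⟨q, hq, hqp, hNQ⟩ := hq
  obtain ⟨Q, hQ, hle⟩ := exists_maxNormedPi_ge
    ((isPi_singleton_iff hq).2 (H2.isPGroup_pCoreOf q M)) (hRM.trans (pCoreOf_normal q M).2)
  have hπ := A3.piOf_eq_singleton hp hAp hA1
  have hRp : IsPGroup p R := hP.pgrp.to_le hRP
  have htr := ((scn_normedConstrained hp hP hA (by omega)).trans_superset hq
    (by rw [hπ]; exact hqp) (ne_top_of_isPGroup hp hRp)
    (by rw [hπ]; exact (isPi_singleton_iff hp).2 hRp)
    (A3.snIn_of_isNilpotent (isNilpotent_of_isPGroup hp hRp) hAR)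
    (by rw [hπ, ← pPrimeCoreOf_eq hp]; exact thompson_transitivity hp hq hqp hP hA hA3)).2.1
  intro x hx
  obtain ⟨y, hy, he⟩ := htr Q _ hQ (hQ.conj_of_mem_norm hx)
  have hyM : y ∈ M := hC (cent_anti hAR (H2.piCoreOf_le _ _ hy))
  have h1 : y⁻¹ * x ∈ M := by
    refine hNQ Q ((isPi_singleton_iff hq).1 hQ.1.2.1) hle (conj_eq_self_iff.1 ?_)
    rw [← conj_conj, he, conj_conj_inv]
  simpa using mul_mem hyM h1

theorem norm_sylow_le {M : Subgroup G} (hM : IsCoatom M) (hC : 𝐂(A) ≤ M) : 𝐍(P) ≤ M := by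
  have h1 := norm_le_of_le hp hP hA hA3 hU hM hC le_rfl hA.1
    ((isMulComm_iff_le_cent.1 (scn_comm hA)).trans hC)
  exact norm_le_of_le hp hP hA hA3 hU hM hC hA.1 le_rfl (hA.2.1.trans h1)

omit hA3 in
theorem exists_cent1_not_le {M B : Subgroup G} (hM : IsCoatom M) (hC : 𝐂(A) ≤ M) (hBA : B ≤ A)
    (hB : IsElementaryAbelian p B) (hnc : ¬ IsCyclic B) :
    ∃ x ∈ B, ∃ L, IsCoatom L ∧ 𝐂[x] ≤ L ∧ L ≠ M := by
  have : ∃ x ∈ B, x ≠ 1 ∧ ¬ 𝐂[x] ≤ M := by
    by_contra hcon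
    push Not at hcon
    exact hU ((noncyclic_cent1_le_uniq hp hM
      (hBA.trans ((isMulComm_iff_le_cent.1 (scn_comm hA)).trans hC)) hB hnc hcon).mono hBA
      (ne_top_of_isPGroup hp (hP.pgrp.to_le hA.1)))
  obtain ⟨x, hx, hx1, hn⟩ := this
  obtain ⟨L, hL, hle⟩ := mmax_exists (cent1_ne_top hx1)
  exact ⟨x, hx, L, hL, hle, fun he => hn (he ▸ hle)⟩

theorem comm_le_cent {M : Subgroup G} (hM : IsCoatom M) (hC : 𝐂(A) ≤ M) :
    ⁅P, 𝐍(P)⁆ ≤ 𝐂(H2.pPrimeCoreOf p (fittingOf M)) := by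
  have hAc := scn_comm hA
  have hAM : A ≤ M := (isMulComm_iff_le_cent.1 hAc).trans hC
  have hD : H2.pPrimeCoreOf p (fittingOf M) ⊲ M :=
    ⟨(H2.pPrimeCoreOf_le _ _).trans (H2.fittingOf_le M),
      (fittingOf_normal M).2.trans (H2.normalizer_le_normalizer_pPrimeCoreOf p _)⟩
  have hDF : H2.pPrimeCoreOf p (fittingOf M) ≤ fittingOf M := H2.pPrimeCoreOf_le _ _
  set D := H2.pPrimeCoreOf p (fittingOf M) with hDdef
  have hDp : ¬ p ∣ 𝐨(D) := not_dvd_card_pPrimeCoreOf hp _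
  have hE := isElem_omegaOne_of_comm hp hAc
  have hE1 : omegaOne p A ≠ ⊥ := hE.ne_bot hp (by omega)
  rw [cent_comm]
  refine H1.le_of_forall_hyperplane hp hE.elemAb hE1 (((omegaOne_le p A).trans hAM).trans hD.2)
    (by rw [hE.card]; exact ((Nat.Prime.coprime_iff_not_dvd hp).2 hDp).pow_left _)
    fun B hB hi => ?_
  have hBe := elemAb_of_le hB hE.elemAb
  have hBA := hB.trans (omegaOne_le p A)
  have hnc : ¬ IsCyclic B := by
    intro hc
    have h1 := pRank_le_add_of_relIndex_le hp (k := 1) (K := B) (H := omegaOne p A)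
      (by rw [hi, pow_one])
    have h2 := pRank_le_one_of_isCyclic hp hc
    rw [hE.pRank_eq hp] at h1
    omega
  obtain ⟨x, hx, L, hL, hxL, hne⟩ := exists_cent1_not_le hp hP hA hU hM hC hBA hBe hnc
  have hCL : 𝐂(A) ≤ L := (cent_le_cent1 (hBA hx)).trans hxL
  have hN : 𝐍(P) ≤ L ⊓ M :=
    le_inf (norm_sylow_le hp hP hA hA3 hU hL hCL) (norm_sylow_le hp hP hA hA3 hU hM hC)
  have hder : ⁅P, 𝐍(P)⁆ ≤ ⁅L ⊓ M, L ⊓ M⁆ := commutator_mono ((le_norm_self P).trans hN) hN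
  have hr : rank (D ⊓ L) ≤ 2 := by
    by_contra hr
    obtain ⟨q, hq, E, hE, hE3⟩ := le_rank_iff'.1 (show 3 ≤ rank (D ⊓ L) by omega)
    have hEU := rank3_fitting_uniq hq hM (le_pRank hq (hE.trans (inf_le_left.trans hDF)) hE3)
      hE3.pgrp (hE3.pRank_eq hq).ge
    exact hne (hEU.eq hL (hE.trans inf_le_right) hM (hE.trans (inf_le_left.trans hD.1)))
  have hn : D ⊓ L ⊲ L ⊓ M := ⟨le_inf inf_le_right (inf_le_left.trans hD.1),
    H1.le_normalizer_inf (inf_le_right.trans hD.2) (inf_le_left.trans (le_norm_self L))⟩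
  have hs : Group.IsSolvable ↥(L ⊓ M) := isSolvable_of_le_mmax hM inf_le_right
  have hP0 : ⁅P, 𝐍(P)⁆ ≤ L ⊓ M := hder.trans (der_le _)
  have hcent : ⁅P, 𝐍(P)⁆ ≤ 𝐂(D ⊓ L) := by
    refine A3.le_cent_of_not_dvd_relIndex (π := {p}) (hP0.trans hn.2) le_rfl
      ((isPi_singleton_iff hp).2 (hP.pgrp.to_le (comm_le_left_iff.2 le_rfl))) ?_
    rintro r - rfl hd
    refine hDp ((stable_chief_pi hn hP0 (fun V U hch hUD => ?_) hp hd).trans
      (card_dvd_of_le inf_le_left))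
    obtain ⟨q, hq, -, -, n, hn0, hidx⟩ := chief_elem hs hch
    exact (commutator_mono le_rfl hder).trans (rank2_cent_chief hs (odd_card _) hn hq
      ((pRank_le_rank hq _).trans hr) hch hUD (hidx ▸ dvd_pow_self q hn0.ne'))
  exact (inf_le_inf_left D ((cent_le_cent1 hx).trans hxL)).trans (cent_comm.1 hcent)

omit hU in
theorem comm_ne_bot : ⁅P, 𝐍(P)⁆ ≠ ⊥ := by
  intro h
  refine not_hasNPC_top hp ?_ (burnside_npc hp hP ?_)
  · exact ((pRank_pos_iff hp).1 (show 0 < pRank p A by omega)).trans (card_subgroup_dvd_card A)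
  · exact inf_le_right.trans (cent_comm.1 (comm_eq_bot_iff.1 h))

theorem uniqMax_norm_comm {M : Subgroup G} (hM : IsCoatom M) (hC : 𝐂(A) ≤ M) :
    UniqMax 𝐍(⁅P, 𝐍(P)⁆) M := by
  have h0 := comm_ne_bot hp hP hA hA3
  have hle : ⁅P, 𝐍(P)⁆ ≤ P := comm_le_left_iff.2 le_rfl
  have hD := comm_le_cent hp hP hA hA3 hU hM hC
  by_cases hr : rank (fittingOf M) ≤ 2
  · have hN := norm_sylow_le hp hP hA hA3 hU hM hC
    have hPM : P ≤ M := (le_norm_self P).trans hN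
    have hder := rank2_der_le_fitting (mmax_isSolvable hM) (odd_card M) hr
    have hFP : fittingOf M ⊔ P ≤ M := sup_le (H2.fittingOf_le M) hPM
    have hfr := (hP.of_le le_sup_right le_top).frattini hp
      ⟨hFP, le_norm_of_der_le (hder.trans le_sup_left) hFP⟩
    have hNN : 𝐍(P) ≤ 𝐍(⁅P, 𝐍(P)⁆) := H1.le_normalizer_commutator_self
    have hn : M ≤ 𝐍(⁅P, 𝐍(P)⁆) := by
      refine hfr.ge.trans (sup_le (sup_le ?_ ((le_norm_self P).trans hNN)) (inf_le_right.trans hNN))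
      refine (dProd_pCoreOf_of_isNilpotent hp (H2.isNilpotent_fittingOf M)).sup.ge.trans
        (sup_le ?_ ((cent_comm.1 hD).trans (cent_le_norm _)))
      rw [pCoreOf_fittingOf hp]
      exact ((hP.of_le hPM le_top).pCoreOf_le hp).trans ((le_norm_self P).trans hNN)
    rw [mmax_normal hM ⟨hle.trans hPM, hn⟩ h0]
    exact uniqMax_self hM
  · obtain ⟨q, hq, h3⟩ := le_rank_iff.1 (show 3 ≤ rank (fittingOf M) by omega)
    have hqp : q ≠ p := by
      rintro rfl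
      have h1 := pRank_fitting_le hp hP hA hA3 hU hM
      omega
    refine (uniqMax_pCore hq hM h3).mono' ?_
      (norm_ne_top_of_isPGroup hp (hP.pgrp.to_le hle) h0)
    rw [← pCoreOf_fittingOf hq]
    exact (H2.pCoreOf_le_pPrimeCoreOf hq hp hqp _).trans ((cent_comm.1 hD).trans (cent_le_norm _))

end scn

end BG09

/-- BG 9.5. -/
theorem scn3_uniq {p : ℕ} (hp : p.Prime) {P A : Subgroup G} (hP : IsSyl p P ⊤) (hA : IsSCN P A)
    (hA3 : 3 ≤ pRank p A) : InU A := by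
  by_contra hU
  have hA1 : A ≠ ⊥ := ne_bot_of_prime_dvd hp ((pRank_pos_iff hp).1 (by omega))
  obtain ⟨M, hM, hC⟩ := mmax_exists (cent_ne_top hA1)
  have hE := isElem_omegaOne_of_comm hp (BG09.scn_comm hA)
  obtain ⟨x, hx, L, hL, hxL, hne⟩ := BG09.exists_cent1_not_le hp hP hA hU hM hC (omegaOne_le p A)
    hE.elemAb (hE.not_isCyclic hp (by omega))
  exact hne ((BG09.uniqMax_norm_comm hp hP hA hA3 hU hM hC).eq hL
    (BG09.uniqMax_norm_comm hp hP hA hA3 hU hL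
      ((cent_le_cent1 (omegaOne_le p A hx)).trans hxL)).le)

/-- BG 9.6, first case. -/
theorem rank3_uniq {K : Subgroup G} (hK : K ≠ ⊤) (h : 3 ≤ rank K) : InU K := by
  obtain ⟨p, hp, B, hB, hB3⟩ := le_rank_iff'.1 h
  refine InU.mono ?_ hB hK
  obtain ⟨P, hP, hBP⟩ := exists_isSyl_ge hp hB3.pgrp le_top
  obtain ⟨A, hA, hA3⟩ := rank3_scn3 hp (ne_two_of_dvd_card (hB3.prime_dvd (by norm_num))) hP.pgrp
    (le_pRank hp hBP hB3)
  exact any_cent_rank3_uniq hp (hP.pgrp.to_le hA.1) (BG09.scn_comm hA) hA3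
    (scn3_uniq hp hP hA hA3) hB3.pgrp (hB3.not_isCyclic hp (by norm_num))
    (le_pRank hp hB3.le_cent hB3)

/-- BG 9.6, second case. -/
theorem cent_rank3_uniq {K : Subgroup G} (h2 : 2 ≤ rank K) (h : 3 ≤ rank 𝐂(K)) : InU K :=
  cent_uniq_uniq (rank3_uniq (cent_ne_top (rank_pos_iff.1 (by omega))) h) (cent_comm.1 le_rfl) h2

/-- BG 9.6, last remark. -/
theorem nonmaxElem2_uniq {p : ℕ} (hp : p.Prime) {A : Subgroup G} (hA : IsElem p 2 A)
    (h : ¬ IsMaxElem p A ⊤) : InU A := by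
  refine cent_rank3_uniq (by rw [rank_eq_pRank hp hA.pgrp, hA.pRank_eq hp]) ?_
  obtain ⟨E, hE, hAE⟩ := exists_isMaxElem_ge le_top hA.elemAb
  obtain ⟨n, hn⟩ := elemAb_exists_isElem hp hE.2.1
  have h2 := hn.le_of_le hp hA hAE
  have h3 : n ≠ 2 := by
    rintro rfl
    exact h (hn.eq_of_le hA hAE ▸ hE)
  exact le_trans (by omega) ((le_pRank hp (hn.le_cent.trans (cent_anti hAE)) hn).trans
    (pRank_le_rank hp _))

end Cfsg.Agent.FT
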