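/-
BG section 10, part 1: Theorem 10.1 and Theorem 10.2.
-/
import Cfsg.Agent.FT.BG09

set_option autoImplicit false

namespace Cfsg.Agent.FT

open Subgroup Cfsg Cfsg.Agent
open scoped commutatorElement

universe u

variable {G : Type u} [Group G] [Finite G] [MinOdd G]

/-- For `p ∈ σ(M)`, every Sylow `p`-subgroup of `M` has its normalizer in `M` and is a Sylow
subgroup of `G`. -/
theorem sigma_sylow {M P : Subgroup G} {p : ℕ} (hp : p ∈ sig M) (hP : IsSyl p P M) :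
    𝐍(P) ≤ M ∧ IsSyl p P ⊤ := by
  obtain ⟨hpp, -, Q, hQ, hN⟩ := hp
  obtain ⟨g, hg, hgQ⟩ := hP.exists_conj_eq hpp hQ
  have h1 : 𝐍(P) ≤ M := by
    rw [← hgQ, norm_conj]
    exact conj_le_of_mem hN hg
  refine ⟨h1, IsSyl.of_norm hpp ?_⟩
  exact hP.of_le (le_inf le_top (le_norm_self P)) (inf_le_right.trans h1)

/-- BG 10.1(d). -/
theorem sigma_sylow_trans {M X : Subgroup G} (hM : IsCoatom M) {p : ℕ} (hp : p ∈ sig M)
    (hX : IsSyl p X M) {g : G} (hg : X ^ᵍ g ≤ M) : g ∈ M := by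
  have hpp : p.Prime := hp.1
  obtain ⟨h, hh, hle⟩ := hX.exists_conj_le hpp (hX.conj g).pgrp hg
  rw [conj_conj] at hle
  have h1 : h * g ∈ M := (sigma_sylow hp hX).1 (mem_norm_of_conj_le hle)
  simpa using M.mul_mem (M.inv_mem hh) h1

namespace BG10

omit [Finite G] [MinOdd G] in
theorem Conj.isCoatom {M L : Subgroup G} (h : Conj M L) (hM : IsCoatom M) : IsCoatom L := by
  obtain ⟨g, rfl⟩ := h
  exact isCoatom_conj hM g

omit [Finite G] [MinOdd G] in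
theorem Conj.sig_eq {M L : Subgroup G} (h : Conj M L) : sig L = sig M := by
  obtain ⟨g, rfl⟩ := h
  exact sig_conj M g

/-- `C(Y)` is transitive on the conjugates of `M` containing `Y`. -/
def TrM (M Y : Subgroup G) : Prop :=
  ∀ L₁ L₂ : Subgroup G, Conj M L₁ → Conj M L₂ → Y ≤ L₁ → Y ≤ L₂ → ∃ c ∈ 𝐂(Y), L₂ = L₁ ^ᵍ c

theorem TrM.norm {M Y L : Subgroup G} (hM : IsCoatom M) (h : TrM M Y) (hL : Conj M L)
    (hY : Y ≤ L) {n : G} (hn : n ∈ 𝐍(Y)) : ∃ c ∈ 𝐂(Y), ∃ m ∈ L, n = c * m := by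
  have h1 : Y ≤ L ^ᵍ n := by
    rw [← conj_eq_of_mem_norm hn]
    exact conj_mono hY n
  obtain ⟨c, hc, he⟩ := h L (L ^ᵍ n) hL (hL.trans (Conj.conj L n)) hY h1
  refine ⟨c, hc, c⁻¹ * n, ?_, by group⟩
  rw [← mmax_conj_eq_iff (Conj.isCoatom hL hM), ← conj_conj, he, conj_conj_inv]

theorem exists_conj_ge {M Y : Subgroup G} {p : ℕ} (hp : p ∈ sig M) (hY : IsPGroup p Y) :
    ∃ L, Conj M L ∧ Y ≤ L := by
  obtain ⟨S, hS⟩ := exists_isSyl hp.1 M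
  obtain ⟨g, -, hg⟩ := (sigma_sylow hp hS).2.exists_le_conj hp.1 hY le_top
  exact ⟨M ^ᵍ g, Conj.conj M g, hg.trans (conj_mono hS.le g)⟩

theorem trM {M : Subgroup G} (hM : IsCoatom M) {p : ℕ} (hp : p ∈ sig M) (X : Subgroup G) :
    IsPGroup p X → TrM M X := by
  have hpp : p.Prime := hp.1
  induction X using WellFoundedGT.induction with
  | ind X ih =>
  intro hX
  by_cases hX1 : X = ⊥
  · subst hX1
    intro L₁ L₂ h₁ h₂ _ _
    obtain ⟨g, hg⟩ := h₁.symm.trans h₂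
    exact ⟨g, by rw [cent_bot]; trivial, hg⟩
  by_cases hXS : IsSyl p X ⊤
  · intro L₁ L₂ h₁ h₂ hX₁ hX₂
    obtain ⟨g, rfl⟩ := h₁.symm.trans h₂
    have hp₁ : p ∈ sig L₁ := by rw [Conj.sig_eq h₁]; exact hp
    have hg : g⁻¹ ∈ L₁ := sigma_sylow_trans (Conj.isCoatom h₁ hM) hp₁ (hXS.of_le hX₁ le_top)
      (le_conj_iff.1 hX₂)
    refine ⟨1, one_mem _, ?_⟩
    rw [conj_one, conj_eq_of_mem ((Subgroup.inv_mem_iff _).1 hg)]
  -- `X` is not a Sylow subgroup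
  have hNt : 𝐍(X) ≠ ⊤ := norm_ne_top_of_isPGroup hpp hX hX1
  obtain ⟨P, hP, hXP⟩ := exists_isSyl_ge hpp hX (le_norm_self X)
  obtain ⟨L₀, hL₀, hPL₀⟩ := exists_conj_ge hp hP.pgrp
  have hXP' : X < P := by
    refine lt_of_le_of_ne hXP fun h => hXS ?_
    refine IsSyl.of_norm hpp ?_
    rw [top_inf_eq, h]
    rw [h] at hP
    exact hP
  have hA : ∀ L, Conj M L → X ≤ L → ∃ n ∈ 𝐍(X), L = L₀ ^ᵍ n := by
    intro L hL hXL
    obtain ⟨Y, hY, hXY⟩ := exists_isSyl_ge hpp hX (le_inf hXL (le_norm_self X))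
    have hXY' : X < Y := by
      refine lt_of_le_of_ne hXY fun h => hXS ?_
      have h1 : IsSyl p X L := IsSyl.of_norm hpp (by rw [← h] at hY; exact hY)
      exact (sigma_sylow (by rw [Conj.sig_eq hL]; exact hp) h1).2
    obtain ⟨n, hn, hle⟩ := hP.exists_conj_le hpp hY.pgrp (hY.le.trans inf_le_right)
    have hlt : X < Y ^ᵍ n := by
      rw [← conj_eq_of_mem_norm hn]
      exact conj_lt_conj_iff.2 hXY'
    obtain ⟨c, hc, he⟩ := ih _ hlt (hY.conj n).pgrp L₀ (L ^ᵍ n) hL₀ (hL.trans (Conj.conj L n))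
      (hle.trans hPL₀) (conj_mono (hY.le.trans inf_le_left) n)
    refine ⟨n⁻¹ * c, mul_mem (inv_mem hn) (cent_le_norm X (cent_anti hlt.le hc)), ?_⟩
    rw [← conj_conj, ← he, conj_conj_inv]
  have hB : ∀ n ∈ 𝐍(X), ∃ c ∈ 𝐂(X), L₀ ^ᵍ n = L₀ ^ᵍ c := by
    intro n hn
    have hL₀m := Conj.isCoatom hL₀ hM
    by_cases hr : 3 ≤ pRank p P
    · have hU : InU P := rank3_uniq (ne_top_of_isPGroup hpp hP.pgrp)
        (hr.trans (pRank_le_rank hpp P))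
      have h1 : 𝐍(X) ≤ L₀ := (hU.uniqMax hL₀m hPL₀).le_of_ne_top hP.le hNt
      exact ⟨1, one_mem _, by rw [conj_one, conj_eq_of_mem (h1 hn)]⟩
    · have hr2 : pRank p 𝐍(X) ≤ 2 := by rw [← hP.pRank_eq hpp]; omega
      have hl := (rank2_der_npc hpp (isSolvable_of_ne_top hNt) (odd_card _) hr2).2.2
      have hf := (pl1_frattini hpp hl hP).2
      have hO := pPrimeCoreOf_normal p 𝐍(X)
      have hn' := hn
      rw [← hf, mem_sup_of_norm (inf_le_left.trans hO.2)] at hn'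
      obtain ⟨o, ho, m, hm, rfl⟩ := hn'
      have hOC : H2.pPrimeCoreOf p 𝐍(X) ≤ 𝐂(X) := by
        refine le_cent_of_norm_of_coprime hO.1 ((le_norm_self X).trans hO.2) ?_
        obtain ⟨k, hk⟩ := exists_card_eq_pow hpp hX
        rw [hk]
        exact Nat.Coprime.pow_left _
          ((Nat.Prime.coprime_iff_not_dvd hpp).2 (not_dvd_card_pPrimeCoreOf hpp _))
      obtain ⟨c, hc, l, hl, rfl⟩ := (ih P hXP' hP.pgrp).norm hM hL₀ hPL₀ hm.2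
      refine ⟨o * c, mul_mem (hOC ho) (cent_anti hXP hc), ?_⟩
      rw [← mul_assoc, ← conj_conj L₀ (o * c) l, conj_eq_of_mem hl]
  intro L₁ L₂ h₁ h₂ hX₁ hX₂
  obtain ⟨n₁, hn₁, rfl⟩ := hA L₁ h₁ hX₁
  obtain ⟨n₂, hn₂, rfl⟩ := hA L₂ h₂ hX₂
  obtain ⟨c₁, hc₁, e₁⟩ := hB n₁ hn₁
  obtain ⟨c₂, hc₂, e₂⟩ := hB n₂ hn₂
  refine ⟨c₂ * c₁⁻¹, mul_mem hc₂ (inv_mem hc₁), ?_⟩
  rw [e₁, e₂, conj_conj, inv_mul_cancel_right]

end BG10

/-- BG 10.1(a). -/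
theorem sigma_group_trans {M X : Subgroup G} (hM : IsCoatom M) {p : ℕ} (hp : p ∈ sig M)
    (hX : IsPGroup p X) (hXM : X ≤ M) {g : G} (hg : X ^ᵍ g ≤ M) :
    ∃ m ∈ M, ∃ c ∈ 𝐂(X), g = m * c := by
  obtain ⟨c, hc, he⟩ := BG10.trM hM hp X hX M (M ^ᵍ g⁻¹) (Conj.refl M) (Conj.conj M _) hXM
    (conj_le_iff.1 hg)
  refine ⟨g * c, ?_, c⁻¹, inv_mem hc, by group⟩
  rw [← mmax_conj_eq_iff hM, ← conj_conj, ← he, conj_inv_conj]

/-- BG 10.1(b). -/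
theorem sigma_group_trans' {M X : Subgroup G} (hM : IsCoatom M) {p : ℕ} (hp : p ∈ sig M)
    (hX : IsPGroup p X) {g h : G} (hg : X ≤ M ^ᵍ g) (hh : X ≤ M ^ᵍ h) :
    ∃ c ∈ 𝐂(X), M ^ᵍ h = (M ^ᵍ g) ^ᵍ c :=
  BG10.trM hM hp X hX _ _ (Conj.conj M g) (Conj.conj M h) hg hh

/-- BG 10.1(c). -/
theorem sigma_norm_eq {M X : Subgroup G} (hM : IsCoatom M) {p : ℕ} (hp : p ∈ sig M)
    (hX : IsPGroup p X) (hXM : X ≤ M) : 𝐂(X) ⊔ (M ⊓ 𝐍(X)) = 𝐍(X) := by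
  refine le_antisymm (sup_le (cent_le_norm X) inf_le_right) fun n hn => ?_
  obtain ⟨c, hc, m, hm, rfl⟩ := (BG10.trM hM hp X hX).norm hM (Conj.refl M) hXM hn
  refine mul_mem (mem_sup_left hc) (mem_sup_right ⟨hm, ?_⟩)
  simpa using mul_mem (inv_mem (cent_le_norm X hc)) hn

/-- BG 10.1(e). -/
theorem sigma_mem_of_cent_le {M X : Subgroup G} (hM : IsCoatom M) {p : ℕ} (hp : p ∈ sig M)
    (hX : IsPGroup p X) (hXM : X ≤ M) (hC : 𝐂(X) ≤ M) {g : G} (hg : X ^ᵍ g ≤ M) : g ∈ M := by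
  obtain ⟨m, hm, c, hc, rfl⟩ := sigma_group_trans hM hp hX hXM hg
  exact mul_mem hm (hC hc)

theorem alp_subset_sig {M : Subgroup G} (hM : IsCoatom M) : alp M ⊆ sig M := by
  intro p hp
  obtain ⟨hpp, hr⟩ := hp
  obtain ⟨P, hP⟩ := exists_isSyl hpp M
  refine ⟨hpp, (pRank_pos_iff hpp).1 (by omega), P, hP, ?_⟩
  have hU : InU P := rank3_uniq (ne_top_of_isPGroup hpp hP.pgrp)
    (le_trans (by rw [hP.pRank_eq hpp]; omega) (pRank_le_rank hpp P))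
  exact (hU.uniqMax hM hP.le).norm_le

/-- `σ(M)'`-primes have rank at most 2. -/
theorem sigma'_pRank_le {M : Subgroup G} (hM : IsCoatom M) {p : ℕ} (hp : p.Prime)
    (hσ : p ∉ sig M) : pRank p M ≤ 2 := by
  by_contra h
  exact hσ (alp_subset_sig hM ⟨hp, by omega⟩)

end Cfsg.Agent.FT
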