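/-
BG section 10, part 2: Theorem 10.2 to Theorem 10.6.
-/
import Cfsg.Agent.FT.P.BG10_1
import Cfsg.Agent.H3.FTAux

set_option autoImplicit false

namespace Cfsg.Agent.FT

open Subgroup Cfsg Cfsg.Agent
open scoped commutatorElement

universe u

variable {G : Type u} [Group G] [Finite G] [MinOdd G]

namespace BG10

theorem sylow_le_der {M P : Subgroup G} (hM : IsCoatom M) {p : ℕ} (hp : p ∈ sig M)
    (hP : IsSyl p P M) : P ≤ ⁅M, M⁆ := by
  have hpp : p.Prime := hp.1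
  have h := focal_le hpp (sigma_sylow hp hP).2 (K := ⁅M, M⁆) ?_
  · rwa [der_top, inf_top_eq] at h
  intro x hx g _ hgx
  have hX : zpowers x ≤ P := (zpowers_le).2 hx
  obtain ⟨m, hm, c, hc, rfl⟩ := sigma_group_trans hM hp (hP.pgrp.to_le hX) (hX.trans hP.le)
    (g := g) (by rw [← zpowers_conj]; exact zpowers_le.2 (hP.le hgx))
  rw [cent_zpowers, mem_cent1_iff_conj] at hc
  have : x⁻¹ * (m * c * x * (m * c)⁻¹) = ⁅x⁻¹, m⁆ := by
    rw [commutatorElement_def, show m * c * x * (m * c)⁻¹ = m * (c * x * c⁻¹) * m⁻¹ by group, hc]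
    group
  rw [this]
  exact commutator_mem_commutator (inv_mem (hP.le hx)) hm

theorem pi_le_der {M H : Subgroup G} (hM : IsCoatom M) (hH : H ≤ M)
    (hπ : IsPiSubgroup (sig M) H) : H ≤ ⁅M, M⁆ := by
  refine le_of_forall_isSyl_le fun p hp P hP => ?_
  by_cases h1 : P = ⊥
  · rw [h1]; exact bot_le
  obtain ⟨Q, hQ, hPQ⟩ := exists_isSyl_ge hp hP.pgrp (hP.le.trans hH)
  exact hPQ.trans (sylow_le_der hM
    (mem_of_isPi_of_isPGroup hp hP.pgrp h1 (isPi_of_le hP.le hπ)) hQ)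

omit [MinOdd G] in
/-- `M' / O_π(M)` is nilpotent when the primes outside `π` have rank at most 2. -/
theorem nilMod_der_piCore {π : Set ℕ} {M : Subgroup G} (hs : Group.IsSolvable M) (ho : Odd 𝐨(M))
    (h : ∀ p : ℕ, p.Prime → p ∉ π → pRank p M ≤ 2) : NilMod ⁅M, M⁆ (piCoreOf π M) := by
  have hN := piCoreOf_normal π M
  haveI : ((piCoreOf π M).subgroupOf M).Normal := H1.normal_subgroupOf_of_le hN.2
  rw [nilMod_iff_bar (Y := M) (der_le M), H1.bar_commutator le_rfl le_rfl]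
  refine isNilpotent_of_le (rank2_der_le_fitting (H1.isSolvable_bar hs)
    (ho.of_dvd_nat (H1.card_bar_dvd M)) ?_) inferInstance
  rw [rank_le_iff]
  intro p hp
  rw [pRank_fittingOf hp]
  by_cases hπ : p ∈ π
  · have h1 := pCoreOf_normal p (H1.bar M (piCoreOf π M) M)
    have h2 : H1.unbar M _ (pCoreOf p (H1.bar M (piCoreOf π M) M)) ≤ piCoreOf π M := by
      refine le_piCoreOf (A3.unbar_normal _ (H1.bar_top.ge.trans h1.2))
        (A3.isPi_unbar hN.1 (isPi_piCoreOf π M)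
          (isPi_of_isPGroup hp (H2.isPGroup_pCoreOf p _) hπ))
    have h3 : pCoreOf p (H1.bar M (piCoreOf π M) M) = ⊥ := by
      rw [← H1.bar_unbar (pCoreOf p (H1.bar M (piCoreOf π M) M)),
        H1.bar_eq_bot_iff (H1.unbar_le _)]
      exact h2
    rw [h3, (isElem_zero_bot p).pRank_eq hp]
    omega
  · refine (pRank_mono hp (H2.pCoreOf_le p _)).trans ?_
    rw [A3.pRank_bar hp (fun hd => hπ (isPi_piCoreOf π M p hp hd)) le_rfl]
    exact h p hp hπ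

end BG10

/-- BG 10.2(d): `M' / M_α` is nilpotent (`r(M / M_α) ≤ 2` follows from the definition of `α`). -/
theorem Ma_quo_nil {M : Subgroup G} (hM : IsCoatom M) : NilMod ⁅M, M⁆ (Ma M) :=
  BG10.nilMod_der_piCore (mmax_isSolvable hM) (odd_card M) fun p hp h => by
    by_contra h'
    exact h ⟨hp, by omega⟩

/-- BG 10.2(c). -/
theorem Ma_le_Ms {M : Subgroup G} (hM : IsCoatom M) : Ma M ≤ Ms M :=
  piCoreOf_mono (alp_subset_sig hM) M

/-- BG 10.2(c). -/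
theorem Ms_le_der {M : Subgroup G} (hM : IsCoatom M) : Ms M ≤ ⁅M, M⁆ :=
  BG10.pi_le_der hM (Ms_le M) (isPi_Ms M)

namespace BG10

theorem hall_top {π : Set ℕ} {M H : Subgroup G} (hπ : π ⊆ sig M) (h : IsPiHallOf π H M) :
    IsPiHallOf π H ⊤ := by
  refine ⟨le_top, hall_isPi h, fun p hp hpπ => ?_⟩
  obtain ⟨P, hP⟩ := exists_isSyl hp H
  have h1 := (sigma_sylow (hπ hpπ) (hP.trans_hall hp h hpπ)).2
  intro hd
  exact h1.ndvd (hd.trans (Dvd.intro_left _ (relIndex_mul_relIndex P H ⊤ hP.le le_top)))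

theorem hall_piCore {π : Set ℕ} {M : Subgroup G} (hM : IsCoatom M) (h1 : alp M ⊆ π)
    (h2 : π ⊆ sig M) : IsPiHallOf π (piCoreOf π M) M := by
  obtain ⟨H, hH⟩ := exists_hall (mmax_isSolvable hM) π
  have hd : H ≤ ⁅M, M⁆ := pi_le_der hM (hall_le hH) (isPi_mono h2 (hall_isPi hH))
  refine hall_piCoreOf_of_normal hH ?_
  exact A3.le_norm_hall_of_nilMod (der_normal M).2 (Ma_normal M).2
    ((der_le M).trans (Ma_normal M).2) ((piCoreOf_mono h1 M).trans (piCoreOf_le_hall hH))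
    (hall_of_le hH hd (der_le M)) (Ma_quo_nil hM)

end BG10

/-- BG 10.2(a). -/
theorem Ma_hall {M : Subgroup G} (hM : IsCoatom M) :
    IsPiHallOf (alp M) (Ma M) M ∧ IsPiHallOf (alp M) (Ma M) ⊤ :=
  have h := BG10.hall_piCore hM subset_rfl (alp_subset_sig hM)
  ⟨h, BG10.hall_top (alp_subset_sig hM) h⟩

/-- BG 10.2(b). -/
theorem Ms_hall {M : Subgroup G} (hM : IsCoatom M) :
    IsPiHallOf (sig M) (Ms M) M ∧ IsPiHallOf (sig M) (Ms M) ⊤ :=
  have h := BG10.hall_piCore hM (alp_subset_sig hM) subset_rfl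
  ⟨h, BG10.hall_top subset_rfl h⟩

namespace BG10

omit [MinOdd G] in
/-- The largest prime divisor of a solvable group of odd order and rank at most 2 has a normal
Sylow subgroup. -/
theorem exists_normal_sylow {E : Subgroup G} (hs : Group.IsSolvable E) (ho : Odd 𝐨(E))
    (hr : rank E ≤ 2) (h1 : E ≠ ⊥) :
    ∃ p : ℕ, p.Prime ∧ p ∣ 𝐨(E) ∧ ∃ P, IsSyl p P E ∧ E ≤ 𝐍(P) := by
  obtain ⟨q, hq, hqd⟩ := exists_prime_dvd_card h1
  have hne : (𝐨(E)).primeFactors.Nonempty := ⟨q, Nat.mem_primeFactors.2 ⟨hq, hqd, card_ne_zero E⟩⟩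
  obtain ⟨hp, hpd, -⟩ := Nat.mem_primeFactors.1 (Finset.max'_mem _ hne)
  set p := (𝐨(E)).primeFactors.max' hne with hpdef
  have h := rank2_ge_core_hall hs ho ((rank_mono (H2.fittingOf_le E)).trans hr) p
  refine ⟨p, hp, hpd, piCoreOf {q | p ≤ q} E, (isSyl_iff_hall hp).2 (hall_congr h ?_),
    (piCoreOf_normal _ E).2⟩
  intro r hr hrd
  have : r ≤ p := Finset.le_max' _ r (Nat.mem_primeFactors.2 ⟨hr, hrd, card_ne_zero E⟩)
  simp only [Set.mem_setOf_eq, Set.mem_singleton_iff]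
  omega

end BG10

/-- BG 10.2(e). -/
theorem Ms_ne_bot {M : Subgroup G} (hM : IsCoatom M) : Ms M ≠ ⊥ := by
  intro h
  have hσ : IsPiSubgroup (sig M)ᶜ M := (hall_eq_bot_iff (Ms_hall hM).1).1 h
  have hr : rank M ≤ 2 := by
    rw [rank_le_iff]
    intro p hp
    by_cases hd : p ∣ 𝐨(M)
    · exact sigma'_pRank_le hM hp (hσ p hp hd)
    · rw [(pRank_eq_zero_iff hp).2 hd]; omega
  obtain ⟨p, hp, hd, P, hP, hn⟩ := BG10.exists_normal_sylow (mmax_isSolvable hM) (odd_card M) hr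
    (mmax_ne_bot hM)
  exact hσ p hp hd ⟨hp, hd, P, hP, (mmax_normal hM ⟨hP.le, hn⟩ (hP.ne_bot hp hd)).le⟩

/-- BG 10.3. -/
theorem cent_alpha'_uniq {M X : Subgroup G} (hM : IsCoatom M) (hX : X ≤ M)
    (hπ : IsPiSubgroup (alp M)ᶜ X) (h : 2 ≤ rank (Ma M ⊓ 𝐂(X))) : InU (M ⊓ 𝐂(X)) := by
  obtain ⟨p, hp, B, hB, hB2⟩ := le_rank_iff'.1 h
  have hne : M ⊓ 𝐂(X) ≠ ⊤ := ne_top_of_le_mmax hM inf_le_left
  have hBM : B ≤ M ⊓ 𝐂(X) := hB.trans (inf_le_inf_right _ (Ma_le M))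
  by_cases hmax : IsMaxElem p B ⊤
  swap
  · exact (nonmaxElem2_uniq hp hB2 hmax).mono hBM hne
  have hpα : p ∈ alp M := isPi_Ma M p hp
    ((hB2.prime_dvd (by norm_num)).trans (card_dvd_of_le (hB.trans inf_le_left)))
  have hc : 𝐨(X).Coprime 𝐨(Ma M) := (isPi_coprime (isPi_Ma M) hπ).symm
  obtain ⟨P, hP, hBP, hXP⟩ := exists_invariant_isSyl hp (hX.trans (Ma_normal M).2) hc
    (Or.inl (isSolvable_of_le_mmax hM hX)) hB2.pgrp (hB.trans inf_le_left)
    ((cent_comm.1 (hB.trans inf_le_right)).trans (cent_le_norm B))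
  have hXp : 𝐨(X).Coprime p := by
    rw [← isPi_compl_singleton_iff hp]
    intro q hq hd hqp
    rw [Set.mem_singleton_iff] at hqp
    exact hπ q hq hd (hqp ▸ hpα)
  have hcent : X ≤ 𝐂(P) := by
    refine coprime_odd_faithful_cent_abelem hp (ne_two_of_pRank_pos hp (H := M) ?_) hP.pgrp hBP
      hB2.elemAb hXP hXp fun x hx hxp => ?_
    · have := hpα.2
      omega
    · exact (hB.trans inf_le_right) ((isMaxElem_iff.1 hmax).2.2 x trivial hx.2 hxp)
  have hU : InU P := by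
    refine rank3_uniq (ne_top_of_isPGroup hp hP.pgrp) (le_trans ?_ (pRank_le_rank hp P))
    rw [(hP.trans_hall hp (Ma_hall hM).1 hpα).pRank_eq hp]
    exact hpα.2
  exact hU.mono (le_inf (hP.le.trans (Ma_le M)) (cent_comm.1 hcent)) hne

/-- BG 10.4(a). -/
theorem der_quo_sigma' {M : Subgroup G} (hM : IsCoatom M) {p : ℕ}
    (h : p ∣ (⁅M, M⁆ : Subgroup G).relIndex M) (hp : p.Prime) : p ∉ sig M := fun hσ =>
  hall_not_dvd (Ms_hall hM).1 hp hσ (h.trans (relIndex_dvd_of_le_left M (Ms_le_der hM)))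

/-- BG 10.4(b). -/
theorem cent1_sigma'_zgroup {M P : Subgroup G} (hM : IsCoatom M) {p : ℕ} (hp : p.Prime)
    (hσ : p ∉ sig M) (hP : IsSyl p P M) (hP1 : P ≠ ⊥) :
    ∃ x ∈ 𝐙(P), orderOf x = p ∧ ¬ UniqMax 𝐂[x] M ∧ IsZGroup ↥(Ma M ⊓ 𝐂[x]) := by
  have hd : p ∣ 𝐨(P) := prime_dvd_card_of_isPGroup hp hP.pgrp hP1
  have hN : ¬ 𝐍(P) ≤ M := fun h => hσ ⟨hp, hd.trans (card_dvd_of_le hP.le), P, hP, h⟩
  obtain ⟨t, ht, htM⟩ := SetLike.not_le_iff_exists.1 hN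
  have hx : ∃ x ∈ 𝐙(P), orderOf x = p ∧ ¬ UniqMax 𝐂[x] M := by
    by_contra hcon
    push Not at hcon
    obtain ⟨y, hy, hyp⟩ := exists_mem_orderOf_eq_prime hp (prime_dvd_card_of_isPGroup hp
      (hP.pgrp.to_le (center_normal P).1)
      (center_ne_bot (isNilpotent_of_isPGroup hp hP.pgrp) hP1))
    have h1 := hcon y hy hyp
    have h2 := hcon (t * y * t⁻¹) (H1.conj_mem_of_le_normalizer (norm_le_norm_center P) ht hy)
      (by rw [← hyp]; exact MulAut.conj t |>.orderOf_eq y)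
    rw [cent1_conj] at h2
    exact htM (h1.mem_of_conj_le h2.le)
  obtain ⟨x, hx, hxp, hxU⟩ := hx
  refine ⟨x, hx, hxp, hxU, (isZGroup_iff_rank_le_one (odd_card _)).2 ?_⟩
  by_contra hr
  have hxM : zpowers x ≤ M := zpowers_le.2 (hP.le hx.1)
  have hx1 : x ≠ 1 := by
    rintro rfl
    exact hp.one_lt.ne (by rw [← hxp, orderOf_one])
  have hU := cent_alpha'_uniq hM hxM (isPi_of_card_prime hp (by rw [Nat.card_zpowers, hxp])
    fun h => hσ (alp_subset_sig hM h)) (by rw [cent_zpowers]; omega)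
  rw [cent_zpowers] at hU
  exact hxU ((hU.uniqMax hM inf_le_left).mono' inf_le_right (cent1_ne_top hx1))

/-- BG 10.4(c), and 12.1(g). -/
theorem sigma'_rank2_max {M A : Subgroup G} (hM : IsCoatom M) {p : ℕ} (hp : p.Prime)
    (hσ : p ∉ sig M) (hA : A ≤ M) (hA2 : IsElem p 2 A) : IsMaxElem p A ⊤ ∧ p ∉ betG G := by
  have hmax : IsMaxElem p A ⊤ := by
    by_contra h
    obtain ⟨P, hP, hAP⟩ := exists_isSyl_ge hp hA2.pgrp hA
    exact hσ ⟨hp, (hA2.prime_dvd (by norm_num)).trans (card_dvd_of_le hA), P, hP,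
      (((nonmaxElem2_uniq hp hA2 h).uniqMax hM hA).mono hAP hP.le).norm_le⟩
  refine ⟨hmax, fun hβ => ?_⟩
  obtain ⟨S, hS, hAS⟩ := exists_isSyl_ge hp hA2.pgrp le_top
  exact hβ.2 S hS fun _ => ⟨A, hA2, hmax.of_le hAS le_top⟩

/-- BG 10.5. -/
theorem sigma'_norm_mmax_rank2 {M X : Subgroup G} (hM : IsCoatom M) {p : ℕ} (hp : p.Prime)
    (hσ : p ∉ sig M) (hX : IsPGroup p X) (hN : 𝐍(X) ≤ M) : pRank p M = 2 := by
  have hX1 : X ≠ ⊥ := by
    rintro rfl
    rw [norm_bot] at hN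
    exact hM.1 (eq_top_iff.2 hN)
  have hXM : X ≤ M := (le_norm_self X).trans hN
  have h2 := sigma'_pRank_le hM hp hσ
  by_contra h
  obtain ⟨P, hP, hXP⟩ := exists_isSyl_ge hp hX hXM
  have hc : IsCyclic P := isCyclic_of_pRank_le_one hp (ne_two_of_isPGroup hp hX hX1) hP.pgrp
    (by rw [hP.pRank_eq hp]; omega)
  exact hσ ⟨hp, (prime_dvd_card_of_isPGroup hp hX hX1).trans (card_dvd_of_le hXM), P, hP,
    (norm_le_norm_of_le_cyclic hc hXP).trans hN⟩

namespace BG10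

omit [MinOdd G] in
/-- A subgroup of order `p` of a group of `p`-rank at least 2 lies in an `E_{p²}`. -/
theorem exists_elem2_ge {p : ℕ} (hp : p.Prime) {M X : Subgroup G} (hX : 𝐨(X) = p) (hXM : X ≤ M)
    (h : 2 ≤ pRank p M) : ∃ A : Subgroup G, X ≤ A ∧ A ≤ M ∧ IsElem p 2 A := by
  have hX1 : IsElem p 1 X := (isElem_one_iff hp).2 hX
  obtain ⟨P, hP, hXP⟩ := exists_isSyl_ge hp hX1.pgrp hXM
  rw [← hP.pRank_eq hp] at h
  suffices hY : ∃ Y : Subgroup G, Y ≤ P ∧ IsElementaryAbelian p Y ∧ Y ≤ 𝐂(X) ∧ ¬ Y ≤ X by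
    obtain ⟨Y, hYP, hYe, hYX, hn⟩ := hY
    obtain ⟨n, hn'⟩ := elemAb_exists_isElem hp (elemAb_sup hX1.elemAb hYe hYX)
    have h2 : 2 ≤ n := by
      by_contra hlt
      have h1 : 1 ≤ n := hn'.le_of_le hp hX1 le_sup_left
      obtain rfl : n = 1 := by omega
      exact hn (le_sup_right.trans (hn'.eq_of_le hX1 le_sup_left).ge)
    obtain ⟨C, h1, h2, h3⟩ := hn'.exists_between hp hX1 le_sup_left (by norm_num : 1 ≤ 2) h2
    exact ⟨C, h1, h2.trans ((sup_le hXP hYP).trans hP.le), h3⟩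
  by_cases hc : P ≤ 𝐂(X)
  · obtain ⟨B, hB, hB2⟩ := (le_pRank_iff hp).1 h
    refine ⟨B, hB, hB2.elemAb, hB.trans hc, fun hle => ?_⟩
    have := hX1.le_of_le hp hB2 hle
    omega
  · have hP1 : P ≠ ⊥ := by
      rintro rfl
      exact hc bot_le
    have hZ := omegaOne_ne_bot hp (prime_dvd_card_of_isPGroup hp
      (hP.pgrp.to_le (center_normal P).1) (center_ne_bot (isNilpotent_of_isPGroup hp hP.pgrp) hP1))
    refine ⟨omegaOne p 𝐙(P), (omegaOne_le _ _).trans inf_le_left,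
      elemAb_omegaOne (isMulComm_center P),
      (omegaOne_le _ _).trans (inf_le_right.trans (cent_anti hXP)), fun hle => hc ?_⟩
    rcases eq_bot_or_eq_of_card_prime (hX ▸ hp) hle with h | h
    · exact absurd h hZ
    · rw [← h]
      exact cent_comm.1 ((omegaOne_le _ _).trans inf_le_right)

end BG10

/-- BG 10.5, last part. -/
theorem sigma'_elem1_le_elem2 {M X : Subgroup G} (hM : IsCoatom M) {p : ℕ} (hp : p.Prime)
    (hσ : p ∉ sig M) (hX : 𝐨(X) = p) (hN : 𝐍(X) ≤ M) :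
    ∃ A : Subgroup G, X ≤ A ∧ A ≤ M ∧ IsElem p 2 A :=
  BG10.exists_elem2_ge hp hX ((le_norm_self X).trans hN)
    (sigma'_norm_mmax_rank2 hM hp hσ (isPGroup_of_card_prime hX) hN).ge

/-- BG 10.6. -/
theorem proper_pl1 {p : ℕ} (hp : p.Prime) {H : Subgroup G} (hH : H ≠ ⊤) : PLengthLE p 1 H := by
  obtain ⟨M, hM, hHM⟩ := mmax_exists hH
  refine pl1_of_le hp hHM ?_
  have hs := mmax_isSolvable hM
  by_cases hr : pRank p M ≤ 2
  · exact (rank2_der_npc hp hs (odd_card M) hr).2.2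
  have hα : p ∈ alp M := ⟨hp, by omega⟩
  obtain ⟨K, hK⟩ := exists_hall hs (alp M)ᶜ
  have hsd := sdProd_of_hall (Ma_hall hM).1 hK (Ma_normal M).2
  have hc : 𝐨(Ma M).Coprime 𝐨(K) := isPi_coprime (isPi_Ma M) (hall_isPi hK)
  have hder : Ma M ≤ ⁅M, M⁆ := (Ma_le_Ms hM).trans (Ms_le_der hM)
  have hcomm := (coprime_der_sdprod hsd hc (isSolvable_of_le_mmax hM (Ma_le M)) hder).1
  have hlt : (⁅M, M⁆ : Subgroup G).relIndex M ≠ 1 := by
    rw [Ne, relIndex_eq_one]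
    intro hle
    haveI : Nontrivial M := (nontrivial_iff_ne_bot M).2 (mmax_ne_bot hM)
    have h1 := Group.IsSolvable.commutator_lt_top_of_nontrivial M
    have h2 : (⊤ : Subgroup M).map M.subtype ≤ (_root_.commutator M).map M.subtype := by
      rw [map_subtype_der, ← MonoidHom.range_eq_map, range_subtype]
      exact hle
    exact h1.not_ge ((map_le_map_iff_of_injective M.subtype_injective).1 h2)
  obtain ⟨q, hq, hqd⟩ := Nat.exists_prime_and_dvd hlt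
  have hqσ := der_quo_sigma' hM hqd hq
  have hqα : q ∈ (alp M)ᶜ := fun h => hqσ (alp_subset_sig hM h)
  obtain ⟨Q, hQ⟩ := exists_isSyl hq K
  have hQM := hQ.trans_hall hq hK hqα
  obtain ⟨x, hx, hxq, -, hZ⟩ := cent1_sigma'_zgroup hM hq hqσ hQM
    (hQM.ne_bot hq (hqd.trans (relIndex_dvd_card' _ _)))
  have hl := odd_sdprod_zgroup_plength1 (H := Ma M) (R := K) (R₀ := zpowers x)
    (by rw [hsd.sup]; exact hs) (odd_card _) hsd.norm hc (zpowers_le.2 (hQ.le hx.1))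
    (by rw [Nat.card_zpowers, hxq]; exact hq) (by rw [cent_zpowers]; exact hZ) hp
  rw [hcomm] at hl
  obtain ⟨P, hP⟩ := exists_isSyl hp (Ma M)
  rw [pl1_iff_le hp (hP.trans_hall hp (Ma_hall hM).1 hα)]
  refine ((pl1_iff_le hp hP).1 hl).trans (le_pPrimePCoreOf hp ⟨?_, ?_⟩ (hasNPC_pPrimePCoreOf hp _))
  · exact (pPrimePCoreOf_normal p _).1.trans (Ma_le M)
  · exact (Ma_normal M).2.trans (norm_le_norm_pPrimePCoreOf _ hp)

end Cfsg.Agent.FT
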