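/-
BG section 10, part 3: 10.7 to 10.10.
-/
import Cfsg.Agent.FT.P.BG10_2

set_option autoImplicit false

namespace Cfsg.Agent.FT

open Subgroup Cfsg Cfsg.Agent
open scoped commutatorElement

universe u

variable {G : Type u} [Group G] [Finite G] [MinOdd G]

namespace BG10

theorem exists_mmax_sylow {p : ℕ} (hp : p.Prime) {P : Subgroup G} (hP : IsSyl p P ⊤)
    (h1 : P ≠ ⊥) : ∃ M, IsCoatom M ∧ 𝐍(P) ≤ M ∧ p ∈ sig M ∧ IsSyl p P M := by
  obtain ⟨M, hM, hN⟩ := mmax_exists (norm_ne_top_of_isPGroup hp hP.pgrp h1)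
  have hPM : IsSyl p P M := hP.of_le ((le_norm_self P).trans hN) le_top
  exact ⟨M, hM, hN, ⟨hp, (prime_dvd_card_of_isPGroup hp hP.pgrp h1).trans (card_dvd_of_le hPM.le),
    P, hPM, hN⟩, hPM⟩

end BG10

/-- BG 10.7(a). -/
theorem sylow_le_der_norm {p : ℕ} (hp : p.Prime) {P : Subgroup G} (hP : IsSyl p P ⊤) :
    P ≤ ⁅𝐍(P), 𝐍(P)⁆ ∧ ∀ V : Subgroup G, SdProd P V 𝐍(P) → ⁅P, V⁆ = P := by
  have h1 : P ≤ ⁅𝐍(P), 𝐍(P)⁆ := by
    by_cases hP1 : P = ⊥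
    · exact hP1.le.trans bot_le
    obtain ⟨M, hM, hN, hσ, hPM⟩ := BG10.exists_mmax_sylow hp hP hP1
    have h := pl1_sylow_le_der hp (mmax_isSolvable hM) (proper_pl1 hp hM.1) hPM
      (BG10.sylow_le_der hM hσ hPM)
    rwa [inf_eq_right.2 hN] at h
  refine ⟨h1, fun V hV => ?_⟩
  refine (coprime_der_sdprod hV ?_ (isSolvable_of_ne_top (ne_top_of_isPGroup hp hP.pgrp)) h1).1
  rw [← hV.relIndex_left]
  exact hall_coprime ((isSyl_iff_hall hp).1 (hP.of_le (le_norm_self P) le_top))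

/-- BG 10.7(b). -/
theorem rank2_sylow_cprod {p : ℕ} (hp : p.Prime) {P : Subgroup G} (hP : IsSyl p P ⊤)
    (h : pRank p P ≤ 2) (hna : ¬ IsMulCommutative P) :
    ∃ S C : Subgroup G, CProd S C P ∧ ¬ IsMulCommutative S ∧ 𝐨(S) = p ^ 3 ∧
      (∀ x ∈ S, x ^ p = 1) ∧ IsCyclic C ∧ omegaOne p C = 𝐙(S) := by
  have hP1 : P ≠ ⊥ := by
    rintro rfl
    exact hna (isMulComm_iff_le_cent.2 bot_le)
  have hH := (isSyl_iff_hall hp).1 (hP.of_le (le_norm_self P) le_top)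
  obtain ⟨V, hV⟩ := exists_sdProd_of_hall (hall_isHallIn hH) le_rfl
  have hc : 𝐨(V).Coprime p := by
    rw [← hV.relIndex_left]
    exact ((Nat.Prime.coprime_iff_not_dvd hp).2 (hall_not_dvd hH hp rfl)).symm
  obtain ⟨-, h1 | ⟨S, C, h1, h2, h3, h4, h5, h6⟩⟩ := rank2_coprime_comm_cprod hp
    (ne_two_of_isPGroup hp hP.pgrp hP1) hP.pgrp hP1 h hV.norm hc (odd_card V)
    ((sylow_le_der_norm hp hP).2 V hV)
  · exact absurd h1 hna
  · exact ⟨S, C, h1, h2, h3, h4, h5, h6.trans (A3.center_eq_der_of_card_cube hp h3 h2).2⟩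

/-- BG 10.7(c). -/
theorem le_sylow_trans {p : ℕ} (hp : p.Prime) {P Q : Subgroup G} (hP : IsSyl p P ⊤) (hQ : Q ≤ P)
    {x : G} (hx : Q ^ᵍ x ≤ P) : ∃ y ∈ 𝐍(P), ∃ c ∈ 𝐂(Q), x = y * c := by
  by_cases hP1 : P = ⊥
  · subst hP1
    exact ⟨x, by rw [norm_bot]; trivial, 1, one_mem _, by simp⟩
  obtain ⟨M, hM, -, hσ, hPM⟩ := BG10.exists_mmax_sylow hp hP hP1
  obtain ⟨m, hm, c, hc, rfl⟩ := sigma_group_trans hM hσ (hP.pgrp.to_le hQ) (hQ.trans hPM.le)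
    (hx.trans hPM.le)
  rw [← conj_conj, conj_eq_of_mem_norm (cent_le_norm Q hc)] at hx
  obtain ⟨g, hg, c', hc', rfl⟩ := pl1_sylow_trans hp (mmax_isSolvable hM) (proper_pl1 hp hM.1) hPM
    (Y := Q) hQ hm fun y hy => hx (conj_mem_conj hy m)
  exact ⟨g, hg.2, c' * c, Subgroup.mul_mem _ hc'.2 hc, mul_assoc _ _ _⟩

/-- BG 10.7(d). -/
theorem subnorm_sylow {p : ℕ} (hp : p.Prime) {P Q : Subgroup G} (hP : IsSyl p P ⊤) (hQ : Q ≤ P) :
    IsSyl p (P ⊓ 𝐍(Q)) 𝐍(Q) := by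
  have hPQ : IsPGroup p ↥(P ⊓ 𝐍(Q)) := hP.pgrp.to_le inf_le_left
  obtain ⟨S, hS, hle⟩ := exists_isSyl_ge hp hPQ inf_le_right
  obtain ⟨x, -, hx⟩ := hP.exists_conj_le hp hS.pgrp le_top
  have hQS : Q ≤ S := (le_inf hQ (le_norm_self Q)).trans hle
  obtain ⟨y, hy, c, hc, rfl⟩ := le_sylow_trans hp hP hQ ((conj_mono hQS x).trans hx)
  rw [← conj_conj, conj_le_iff, conj_eq_of_mem_norm (inv_mem hy)] at hx
  refine hS.of_card_le hp hPQ inf_le_right ?_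
  rw [← card_conj S c]
  exact card_le_of_le (le_inf hx (conj_le_of_mem hS.le (cent_le_norm Q hc)))

/-- BG 10.7(e). -/
theorem sylow_normalI {p : ℕ} (hp : p.Prime) {P Q R : Subgroup G} (hP : IsSyl p P ⊤)
    (hR : IsPGroup p R) (hQ : Q ≤ P ⊓ R) (h : 𝐍(P) ≤ 𝐍(Q)) : 𝐍(R) ≤ 𝐍(Q) := by
  obtain ⟨x, -, hx⟩ := hP.exists_conj_le hp hR le_top
  have key : ∀ g : G, Q ^ᵍ g ≤ P → g ∈ 𝐍(Q) := by
    intro g hg
    obtain ⟨y, hy, c, hc, rfl⟩ := le_sylow_trans hp hP (hQ.trans inf_le_left) hg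
    exact mul_mem (h hy) (cent_le_norm Q hc)
  intro n hn
  have h1 := key x ((conj_mono (hQ.trans inf_le_right) x).trans hx)
  have h2 := key (x * n) (by
    rw [← conj_conj]
    exact (conj_mono (conj_le_of_mem_norm (hQ.trans inf_le_right) hn) x).trans hx)
  simpa using mul_mem (inv_mem h1) h2

/-- BG 10.8(c). -/
theorem beta_max_pdiv {M : Subgroup G} (hM : IsCoatom M) {p : ℕ} (hp : p.Prime)
    (hβ : p ∉ bet M) :
    HasNPC p ⁅M, M⁆ ∧ HasNPC p (Ms M) ∧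
      ∀ q : ℕ, q.Prime → q ∣ (H2.pPrimeCoreOf p M).relIndex M → q ≤ p := by
  obtain ⟨S, hS⟩ := exists_isSyl hp M
  have hn : Narrow p S := by
    by_cases hr : pRank p S ≤ 2
    · exact narrow_of_pRank_le hr
    have hα : p ∈ alp M := ⟨hp, by rw [← hS.pRank_eq hp]; omega⟩
    have hG : p ∉ betG G := fun h => hβ ⟨hα, h⟩
    have : ∃ P : Subgroup G, IsSyl p P ⊤ ∧ Narrow p P := by
      by_contra hcon
      exact hG ⟨hp, fun P hP hn => hcon ⟨P, hP, hn⟩⟩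
    obtain ⟨P, hP, hn⟩ := this
    obtain ⟨g, -, rfl⟩ := (sigma_sylow (alp_subset_sig hM hα) hS).2.exists_conj_eq hp hP
    exact (narrow_conj_iff hp).2 hn
  obtain ⟨h1, -, -, h2⟩ := narrow_der_npc hp (mmax_isSolvable hM) (odd_card M) hS hn
    fun _ => proper_pl1 hp hM.1
  exact ⟨h1, h1.of_le hp (Ms_le_der hM), h2⟩

/-- BG 10.8(b). -/
theorem beta'_der_nil {M H : Subgroup G} (hM : IsCoatom M) (hH : H ≤ ⁅M, M⁆)
    (hπ : IsPiSubgroup (bet M)ᶜ H) : Group.IsNilpotent H :=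
  A3.isNilpotent_of_forall_hasNPC fun p hp hd =>
    (beta_max_pdiv hM hp (hπ p hp hd)).1.of_le hp hH

namespace BG10

theorem bet_subset_sig {M : Subgroup G} (hM : IsCoatom M) : bet M ⊆ sig M :=
  (bet_subset_alp M).trans (alp_subset_sig hM)

theorem Mb_le_der {M : Subgroup G} (hM : IsCoatom M) : Mb M ≤ ⁅M, M⁆ :=
  (Mb_le_Ma M).trans ((Ma_le_Ms hM).trans (Ms_le_der hM))

end BG10

/-- BG 10.8(a). -/
theorem Mb_hall {M : Subgroup G} (hM : IsCoatom M) :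
    IsPiHallOf (bet M) (Mb M) M ∧ IsPiHallOf (bet M) (Mb M) ⊤ := by
  suffices h : IsPiHallOf (bet M) (Mb M) M from ⟨h, BG10.hall_top (BG10.bet_subset_sig hM) h⟩
  obtain ⟨H, hH⟩ := exists_hall (mmax_isSolvable hM) (bet M)
  refine hall_piCoreOf_of_normal hH fun g hg => mem_norm_of_conj_le ?_
  let K : Subgroup G := M ⊓ ⨅ q : {q : ℕ // q.Prime ∧ q ∉ bet M}, H2.pPrimeCoreOf q.1 ⁅M, M⁆
  have hle : ∀ Q : Subgroup G, Q ≤ M → IsPiSubgroup (bet M) Q → Q ≤ K := by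
    intro Q hQ hQπ
    refine le_inf hQ (le_iInf fun q => ?_)
    exact (beta_max_pdiv hM q.2.1 q.2.2).1.le_pPrimeCoreOf q.2.1
      (BG10.pi_le_der hM hQ (isPi_mono (BG10.bet_subset_sig hM) hQπ))
      fun hd => q.2.2 (hQπ _ q.2.1 hd)
  have hK : IsPiSubgroup (bet M) K := by
    intro q hq hd
    by_contra hne
    exact not_dvd_card_pPrimeCoreOf hq ⁅M, M⁆ (hd.trans (card_dvd_of_le (inf_le_right.trans
      (iInf_le _ (⟨q, hq, hne⟩ : {q : ℕ // q.Prime ∧ q ∉ bet M})))))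
  rw [← hall_eq_of_le hH (hle H (hall_le hH) (hall_isPi hH)) inf_le_left hK]
  exact hle _ (conj_le_of_mem inf_le_left hg) ((isPi_conj_iff _ g).2 hK)

namespace BG10

theorem Mb_sup_hall {M H : Subgroup G} (hM : IsCoatom M) (hH : IsPiHallOf (bet M)ᶜ H ⁅M, M⁆) :
    Mb M ⊔ H = ⁅M, M⁆ :=
  hall_sup_hall_compl (hall_of_le (Mb_hall hM).1 (Mb_le_der hM) (der_le M)) hH

end BG10

/-- BG 10.8(b): `M' / M_β` is nilpotent. -/
theorem Mb_quo_nil {M : Subgroup G} (hM : IsCoatom M) : NilMod ⁅M, M⁆ (Mb M) := by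
  obtain ⟨H, hH⟩ := exists_hall (isSolvable_of_le_mmax hM (der_le M)) (bet M)ᶜ
  rw [← BG10.Mb_sup_hall hM hH]
  exact A3.nilMod_sup (((hall_le hH).trans (der_le M)).trans (Mb_normal M).2)
    (nilMod_of_isNilpotent (beta'_der_nil hM (hall_le hH) (hall_isPi hH)) _)

namespace BG10

/-- `M = M_β N_M(X)` for a Sylow `q`-subgroup `X` of `M'`, `q ∉ β(M)`. -/
theorem Mb_sup_norm {M X : Subgroup G} (hM : IsCoatom M) {q : ℕ} (hq : q.Prime) (hqβ : q ∉ bet M)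
    (hX : IsSyl q X ⁅M, M⁆) : Mb M ⊔ (M ⊓ 𝐍(X)) = M := by
  have hs := isSolvable_of_le_mmax hM (der_le M)
  obtain ⟨H, hH, hXH⟩ := exists_hall_ge hs hX.le (isPi_of_isPGroup hq hX.pgrp (π := (bet M)ᶜ) hqβ)
  have hN : 𝐍(H) ≤ 𝐍(X) := IsSyl.norm_le_of_isNilpotent hq
    (beta'_der_nil hM (hall_le hH) (hall_isPi hH)) (hX.of_le hXH (hall_le hH))
  refine le_antisymm (sup_le (Mb_le M) inf_le_left) ?_
  refine (hall_frattini hs hH (der_normal M)).ge.trans (sup_le ?_ ?_)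
  · rw [← Mb_sup_hall hM hH]
    exact sup_le_sup_left (le_inf ((hall_le hH).trans (der_le M)) ((le_norm_self H).trans hN)) _
  · exact (inf_le_inf_left _ hN).trans le_sup_right

/-- The common core of 10.9(a): `X` centralizes a Sylow `p`-subgroup of `M'`. -/
theorem exists_cent_sylow_der {M X : Subgroup G} (hM : IsCoatom M) {p q : ℕ} (hp : p.Prime)
    (hq : q.Prime) (hpβ : p ∉ bet M) (hqβ : q ∉ bet M) (hX : IsPGroup q X)
    (h : (p ≠ q ∧ X ≤ ⁅M, M⁆) ∨ (p < q ∧ X ≤ M)) :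
    ∃ S : Subgroup G, IsSyl p S ⁅M, M⁆ ∧ X ≤ 𝐂(S) := by
  have hpq : p ≠ q := by
    rcases h with h | h
    · exact h.1
    · exact h.1.ne
  have hXM : X ≤ M := by
    rcases h with h | h
    · exact h.2.trans (der_le M)
    · exact h.2
  have hs := mmax_isSolvable hM
  obtain ⟨W, hW, hXW⟩ := exists_hall_ge hs hXM (isPi_of_isPGroup hq hX (π := (bet M)ᶜ) hqβ)
  have hW' := hall_inf_normal hW (der_normal M)
  have hnil := beta'_der_nil hM (hall_le hW') (hall_isPi hW')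
  have hS := isSyl_pCoreOf_of_isNilpotent hp hnil
  refine ⟨_, hS.trans_hall hp hW' hpβ, ?_⟩
  rcases h with h | h
  · exact le_cent_of_coprime_of_isNilpotent hnil (le_inf hXW h.2) hS.le
      (coprime_card_of_isPGroup hq hp hpq.symm hX hS.pgrp)
  · have hXn : X ≤ 𝐍(pCoreOf p (W ⊓ ⁅M, M⁆)) :=
      (H1.le_normalizer_inf (hXW.trans (le_norm_self W)) (hXM.trans (der_normal M).2)).trans
        (H2.normalizer_le_normalizer_pCoreOf p _)
    have hO := pPrimeCoreOf_normal p M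
    have hXO : X ≤ H2.pPrimeCoreOf p M := by
      obtain ⟨Q, hQ⟩ := exists_isSyl hq (H2.pPrimeCoreOf p M)
      have hQM := hQ.trans hq hO.1 fun hd => ((beta_max_pdiv hM hp hpβ).2.2 q hq hd).not_gt h.1
      obtain ⟨g, hg, hle⟩ := hQM.exists_le_conj hq hX hXM
      exact hle.trans (conj_le_of_mem_norm hQ.le (hO.2 hg))
    rw [cent_comm, ← comm_eq_bot_iff, eq_bot_iff]
    have hd : pCoreOf p (W ⊓ ⁅M, M⁆) ⊓ H2.pPrimeCoreOf p M = ⊥ :=
      isPi_disjoint ((isPi_singleton_iff hp).2 hS.pgrp)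
        ((isPi_compl_singleton_iff' hp).2 (not_dvd_card_pPrimeCoreOf hp M))
    rw [← hd]
    refine le_inf (comm_le_left_iff.2 hXn) ((commutator_mono le_rfl hXO).trans ?_)
    exact comm_le_right_iff.2 ((hS.le.trans (inf_le_right.trans (der_le M))).trans hO.2)

end BG10

/-- BG 10.9(a). -/
theorem beta'_cent_sylow {M X : Subgroup G} (hM : IsCoatom M) {p q : ℕ} (hp : p.Prime)
    (hq : q.Prime) (hpβ : p ∉ bet M) (hqβ : q ∉ bet M) (hX : IsPGroup q X)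
    (h : (p ≠ q ∧ X ≤ ⁅M, M⁆) ∨ (p < q ∧ X ≤ M)) :
    (∃ S : Subgroup G, IsSyl p S (Ms M) ∧ X ≤ 𝐂(S)) ∧ (p ∈ alp M → InU (M ⊓ 𝐂(X))) ∧
      (IsSyl q X ⁅M, M⁆ →
        ∃ S : Subgroup G, IsSyl p S ⁅M, M⁆ ∧ S ≤ ⁅M ⊓ 𝐍(X), M ⊓ 𝐍(X)⁆) := by
  obtain ⟨S, hS, hXS⟩ := BG10.exists_cent_sylow_der hM hp hq hpβ hqβ hX h
  have hSM : S ≤ M := hS.le.trans (der_le M)
  refine ⟨⟨S ⊓ Ms M, hS.inf_normal hp (normal_of_le (Ms_normal M) (Ms_le_der hM) (der_le M)),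
    hXS.trans (cent_anti inf_le_left)⟩, fun hα => ?_, fun hXs => ⟨S, hS, ?_⟩⟩
  · have h1 : IsSyl p S M := hS.trans hp (der_le M) fun hd =>
      der_quo_sigma' hM hd hp (alp_subset_sig hM hα)
    have hU : InU S := by
      refine rank3_uniq (ne_top_of_isPGroup hp hS.pgrp) (le_trans ?_ (pRank_le_rank hp S))
      rw [h1.pRank_eq hp]
      exact hα.2
    exact hU.mono (le_inf hSM (cent_comm.1 hXS)) (ne_top_of_le_mmax hM inf_le_left)
  · have h1 := pprod_focal_coprime (BG10.Mb_sup_norm hM hq hqβ hXs) (Mb_normal M).2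
      (le_inf hSM ((cent_comm.1 hXS).trans (cent_le_norm X)))
      (isPi_coprime (isPi_Mb M) (isPi_of_isPGroup hp hS.pgrp hpβ)).symm
    rw [inf_eq_left.2 hS.le] at h1
    exact h1.le.trans inf_le_right

/-- BG 10.9(b). -/
theorem nonuniq_norm_sylow_pprod {p : ℕ} (hp : p.Prime) {M H S : Subgroup G} (hM : IsCoatom M)
    (hH : IsCoatom H) (hne : H ≠ M) (hS : IsSyl p S ⊤) (hN : 𝐍(S) ≤ H ⊓ M) :
    Mb M ⊔ (H ⊓ M) = M ∧ alp M = bet M := by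
  have hS1 : S ≠ ⊥ := by
    rintro rfl
    rw [norm_bot] at hN
    exact hM.1 (eq_top_iff.2 (hN.trans inf_le_right))
  have hSHM : S ≤ H ⊓ M := (le_norm_self S).trans hN
  have hSM : IsSyl p S M := hS.of_le (hSHM.trans inf_le_right) le_top
  have hσ : p ∈ sig M := ⟨hp, (prime_dvd_card_of_isPGroup hp hS.pgrp hS1).trans
    (card_dvd_of_le hSM.le), S, hSM, hN.trans inf_le_right⟩
  have hα : p ∉ alp M := by
    intro hα
    have hU : InU S := by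
      refine rank3_uniq (ne_top_of_isPGroup hp hS.pgrp) (le_trans ?_ (pRank_le_rank hp S))
      rw [hSM.pRank_eq hp]
      exact hα.2
    exact hne (hU.eq hH (hSHM.trans inf_le_left) hM hSM.le)
  have hβ : p ∉ bet M := fun h => hα (bet_subset_alp M h)
  have hder := BG10.sylow_le_der hM hσ hSM
  refine ⟨le_antisymm (sup_le (Mb_le M) inf_le_right) ?_,
    Set.Subset.antisymm (fun q hq => ?_) (bet_subset_alp M)⟩
  · refine (BG10.Mb_sup_norm hM hp hβ (hSM.of_le hder (der_le M))).ge.trans ?_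
    exact sup_le_sup_left (inf_le_right.trans hN) _
  · by_contra hqβ
    have hU := (beta'_cent_sylow hM hq.1 hp hqβ hβ hS.pgrp
      (Or.inl ⟨fun h => hα (h ▸ hq), hder⟩)).2.1 hq
    exact hne (hU.eq hH (inf_le_right.trans ((cent_le_norm S).trans (hN.trans inf_le_left))) hM
      inf_le_left)

/-- BG 10.10. -/
theorem max_normed_elem2_signalizer {p q : ℕ} (hp : p.Prime) (hq : q.Prime) (hpq : p ≠ q)
    {A Q : Subgroup G} (hA2 : IsElem p 2 A) (hA : IsMaxElem p A ⊤) (hQ : MaxNormedPi A {q} Q)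
    (hqC : q ∣ 𝐨(𝐂(A))) :
    ∃ P : Subgroup G, IsSyl p P ⊤ ∧ A ≤ P ∧
      H2.pPrimeCoreOf p 𝐂(P) ⊔ (𝐍(P) ⊓ 𝐍(Q)) = 𝐍(P) ∧ P ≤ ⁅𝐍(Q), 𝐍(Q)⁆ ∧
      (Narrow q Q → P ≤ 𝐂(Q)) := by
  have hA1 : A ≠ ⊥ := hA2.ne_bot hp (by norm_num)
  have hc := pl1_normedConstrained hp hA1 hA fun M hM => proper_pl1 hp hM
  have hπ := A3.piOf_eq_singleton hp hA2.pgrp hA1
  have hqA : q ∉ piOf A := by
    rw [hπ]
    exact hpq.symm
  have htr := hc.rank2_trans hq hqA hqC (by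
    rw [inf_eq_left.2 hA2.le_cent, rank_eq_pRank hp hA2.pgrp, hA2.pRank_eq hp])
  have hsup : ∀ P : Subgroup G, IsSyl p P ⊤ → A ≤ P → _ := fun P hP hAP =>
    hc.trans_superset hq hqA (ne_top_of_isPGroup hp hP.pgrp)
      (by rw [hπ]; exact (isPi_singleton_iff hp).2 hP.pgrp)
      (A3.snIn_of_isNilpotent (isNilpotent_of_isPGroup hp hP.pgrp) hAP) htr
  obtain ⟨P₀, hP₀, hAP₀⟩ := exists_isSyl_ge hp hA2.pgrp le_top
  obtain ⟨Q₀, hQ₀, -⟩ := exists_maxNormedPi_ge (A := P₀) (isPi_bot {q}) (by rw [norm_bot]; exact le_top)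
  obtain ⟨k, hk, rfl⟩ := htr Q₀ Q ((hsup P₀ hP₀ hAP₀).2.2.1 Q₀ hQ₀) hQ
  have hkA : k ∈ 𝐂(A) := H2.piCoreOf_le _ _ hk
  have hP : IsSyl p (P₀ ^ᵍ k) ⊤ := hP₀.conj_of_mem_norm (by rw [norm_top]; trivial)
  have hAP : A ≤ P₀ ^ᵍ k := by
    rw [← conj_eq_of_mem_norm (cent_le_norm A hkA)]
    exact conj_mono hAP₀ k
  obtain ⟨h1, h2⟩ := (hsup _ hP hAP).2.2.2 _ (hQ₀.conj k)
  rw [inf_eq_left.2 (sylow_le_der_norm hp hP).1] at h1
  rw [hπ, ← pPrimeCoreOf_eq hp] at h2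
  refine ⟨_, hP, hAP, h2, h1, fun hn => ?_⟩
  by_cases hQ1 : Q₀ ^ᵍ k = ⊥
  · rw [hQ1, cent_bot]
    exact le_top
  have hQq : IsPGroup q ↥(Q₀ ^ᵍ k) := (isPi_singleton_iff hq).1 hQ.1.2.1
  obtain ⟨⟨n, hn⟩, -⟩ := aut_narrow' hq (ne_two_of_isPGroup hq hQq hQ1) hQq hn le_rfl
    (isSolvable_of_ne_top (norm_ne_top_of_isPGroup hq hQq hQ1)) (odd_card _)
  refine A3.le_cent_of_not_dvd_relIndex (der_le _) h1 ((isPi_singleton_iff hp).2 hP.pgrp) ?_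
  rintro r - rfl hd
  rw [hn] at hd
  exact hpq ((Nat.prime_dvd_prime_iff_eq hp hq).1 (hp.dvd_of_dvd_pow hd))

end Cfsg.Agent.FT
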