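/-
BG section 10, part 4: 10.11 to 10.14.
-/
import Cfsg.Agent.FT.P.BG10_3

set_option autoImplicit false

namespace Cfsg.Agent.FT

open Subgroup Cfsg Cfsg.Agent
open scoped commutatorElement

universe u

variable {G : Type u} [Group G] [Finite G] [MinOdd G]

namespace BG10

theorem InU.ne_bot {K : Subgroup G} (h : InU K) : K ≠ ⊥ := by
  rintro rfl
  obtain ⟨M, hM⟩ := h
  have h1 := hM.norm_le
  rw [norm_bot] at h1
  exact hM.max.1 (eq_top_iff.2 h1)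

theorem sigma'_rank_le {M K : Subgroup G} (hM : IsCoatom M) (hK : K ≤ M)
    (hπ : IsPiSubgroup (sig M)ᶜ K) : rank K ≤ 2 := by
  rw [rank_le_iff]
  intro p hp
  by_cases hd : p ∣ 𝐨(K)
  · exact (pRank_mono hp hK).trans (sigma'_pRank_le hM hp (hπ p hp hd))
  · rw [(pRank_eq_zero_iff hp).2 hd]; omega

end BG10

/-- BG 10.11(a). -/
theorem sigma'_not_uniq {M K : Subgroup G} (hM : IsCoatom M) (hK : K ≤ M)
    (hπ : IsPiSubgroup (sig M)ᶜ K) : ¬ InU K := by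
  intro hU
  obtain ⟨E, hE, hKE⟩ := exists_hall_ge (mmax_isSolvable hM) hK hπ
  have hEU := (hU.uniqMax hM hK).mono hKE (hall_le hE)
  obtain ⟨p, hp, hd, P, hP, hn⟩ := BG10.exists_normal_sylow (isSolvable_of_le_mmax hM (hall_le hE))
    (odd_card E) (BG10.sigma'_rank_le hM (hall_le hE) (hall_isPi hE)) (BG10.InU.ne_bot hEU.inU)
  have hσ := hall_isPi hE p hp hd
  exact hσ ⟨hp, hd.trans (card_dvd_of_le (hall_le hE)), P, hP.trans_hall hp hE hσ,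
    hEU.le_of_ne_top hn (norm_ne_top_of_isPGroup hp hP.pgrp (hP.ne_bot hp hd))⟩

/-- BG 10.11(b). -/
theorem sigma'_cent_rank1 {M K : Subgroup G} (hM : IsCoatom M) (hK : K ≤ M)
    (hπ : IsPiSubgroup (sig M)ᶜ K) : rank (K ⊓ 𝐂(Ms M)) ≤ 1 := by
  by_contra h
  obtain ⟨p, hp, A, hA, hA2⟩ := le_rank_iff'.1 (show 2 ≤ rank (K ⊓ 𝐂(Ms M)) by omega)
  have hAM : A ≤ M := hA.trans (inf_le_left.trans hK)
  have hAπ : IsPiSubgroup (sig M)ᶜ A := isPi_of_le (hA.trans inf_le_left) hπ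
  have hpσ : p ∉ sig M := hAπ p hp (hA2.prime_dvd (by norm_num))
  have hC : Ms M ≤ 𝐂(A) := cent_comm.1 (hA.trans inf_le_right)
  obtain ⟨q, hq, hqd⟩ := exists_prime_dvd_card (Ms_ne_bot hM)
  have hqσ : q ∈ sig M := isPi_Ms M q hq hqd
  obtain ⟨Q, hQ⟩ := exists_isSyl hq (Ms M)
  obtain ⟨hQN, hQG⟩ := sigma_sylow hqσ (hQ.trans_hall hq (Ms_hall hM).1 hqσ)
  have hQm : MaxNormedPi A {q} Q :=
    ⟨⟨le_top, (isPi_singleton_iff hq).2 hQ.pgrp,
      (cent_comm.1 (hQ.le.trans hC)).trans (cent_le_norm Q)⟩,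
      fun R hR hle => hQG.eq_of_le hq hle le_top ((isPi_singleton_iff hq).1 hR.2.1)⟩
  obtain ⟨P, hP, hAP, -, hPd, -⟩ := max_normed_elem2_signalizer hp hq
    (fun h => hpσ (h ▸ hqσ)) hA2 (sigma'_rank2_max hM hp hpσ hAM hA2).1 hQm
    (hqd.trans (card_dvd_of_le hC))
  have hPM' : P ≤ ⁅M, M⁆ := hPd.trans (commutator_mono hQN hQN)
  have hr : rank 𝐂(A) ≤ 2 := by
    by_contra hr
    refine sigma'_not_uniq hM hAM hAπ (cent_rank3_uniq ?_ (by omega))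
    rw [rank_eq_pRank hp hA2.pgrp, hA2.pRank_eq hp]
  have hMa : Ma M = ⊥ := by
    by_contra hne
    obtain ⟨r, hr', hrd⟩ := exists_prime_dvd_card hne
    have hα := isPi_Ma M r hr' hrd
    have h1 := hall_pRank_eq hr' (Ma_hall hM).1 hα
    have h2 := (pRank_mono hr' ((Ma_le_Ms hM).trans hC)).trans (pRank_le_rank hr' _)
    have h3 := hα.2
    omega
  have hnil : Group.IsNilpotent ↥⁅M, M⁆ := by
    rw [← nilMod_bot_iff, ← hMa]
    exact Ma_quo_nil hM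
  have hn : M ≤ 𝐍(P) := (der_normal M).2.trans
    (IsSyl.norm_le_of_isNilpotent hp hnil (hP.of_le hPM' le_top))
  have hPM : P ≤ M := hPM'.trans (der_le M)
  have hP1 : P ≠ ⊥ := fun h => hA2.ne_bot hp (by norm_num) (eq_bot_iff.2 (hAP.trans h.le))
  exact hpσ ⟨hp, (hA2.prime_dvd (by norm_num)).trans (card_dvd_of_le hAM), P,
    hP.of_le hPM le_top, (mmax_normal hM ⟨hPM, hn⟩ hP1).le⟩

/-- BG 10.11(c). -/
theorem sigma'_cent_cyclic {M K : Subgroup G} (hM : IsCoatom M) (hK : K ≤ M)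
    (hπ : IsPiSubgroup (sig M)ᶜ K) :
    IsCyclic ↥(K ⊓ 𝐂(Ms M) ⊓ ⁅M, M⁆) ∧ (K ⊓ 𝐂(Ms M) ⊓ ⁅M, M⁆) ⊲ M := by
  have hF := fittingOf_normal M
  have hFn : Group.IsNilpotent (fittingOf M) := inferInstance
  have hZ : piCoreOf (sig M)ᶜ (fittingOf M) ⊲ M :=
    ⟨(H2.piCoreOf_le _ _).trans hF.1, hF.2.trans (norm_le_norm_piCoreOf _ _)⟩
  have hZC : piCoreOf (sig M)ᶜ (fittingOf M) ≤ 𝐂(Ms M) :=
    (piCoreOf_le_of_normal _ hF).trans (piCoreOf_le_cent disjoint_compl_left M)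
  have hZc : IsCyclic (piCoreOf (sig M)ᶜ (fittingOf M)) := by
    refine isCyclic_of_rank_le_one (odd_card _) (isNilpotent_of_le (H2.piCoreOf_le _ _) hFn) ?_
    have h := sigma'_cent_rank1 hM hZ.1 (isPi_piCoreOf _ _)
    rwa [inf_eq_left.2 hZC] at h
  have hle : K ⊓ 𝐂(Ms M) ⊓ ⁅M, M⁆ ≤ piCoreOf (sig M)ᶜ (fittingOf M) := by
    refine le_piCoreOf_of_isNilpotent hFn ?_ (isPi_of_le (inf_le_left.trans inf_le_left) hπ)
    have := mmax_isSolvable hM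
    refine le_trans (le_inf (inf_le_right.trans (der_le M)) ?_) H2.inf_centralizer_fittingOf_le
    rw [← (dProd_piCoreOf_of_isNilpotent hFn (sig M)).sup, cent_sup]
    exact le_inf (inf_le_left.trans (inf_le_right.trans (cent_anti (piCoreOf_le_of_normal _ hF))))
      (inf_le_right.trans (der_le_cent_of_cyclic hZc hZ.2))
  exact ⟨isCyclic_of_le hle hZc, inf_le_right.trans (der_le M),
    hZ.2.trans (norm_le_norm_of_le_cyclic hZc hle)⟩

/-- BG 10.11(d). -/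
theorem comm_sigma'_elem1_cyclic {M K P : Subgroup G} (hM : IsCoatom M) (hK : K ≤ M)
    (hπ : IsPiSubgroup (sig M)ᶜ K) {p : ℕ} (hp : p.Prime) (hσ : p ∉ sig M) (hP : 𝐨(P) = p)
    (hPN : P ≤ M ⊓ 𝐍(K)) (hC : Ms M ⊓ 𝐂(P) = ⊥) (hKc : IsMulCommutative K)
    (hKp : 𝐨(K).Coprime p) :
    ⁅K, P⁆ ≤ 𝐂(Ms M) ∧ IsCyclic ↥⁅K, P⁆ ∧ ⁅K, P⁆ ⊲ M := by
  have hPM : P ≤ M := hPN.trans inf_le_left
  have hPK : P ≤ 𝐍(K) := hPN.trans inf_le_right
  have hle : ⁅K, P⁆ ≤ K := comm_le_left_iff.2 hPK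
  have hc : 𝐨(P).Coprime 𝐨(K) := by rw [hP]; exact hKp.symm
  have hn : P ≤ 𝐍(⁅K, P⁆) := H1.le_normalizer_commutator_self
  have hπ' := isPi_of_le hle hπ
  have h0 : (Ms M ⊔ ⁅K, P⁆) ⊓ 𝐂(P) = ⊥ := by
    rw [A3.sup_inf_cent_eq hn (hPM.trans (Ms_normal M).2) ((hle.trans hK).trans (Ms_normal M).2)
      (H1.coprime_of_le hc le_rfl hle) (Or.inl (isSolvable_of_le_mmax hM hPM)), hC, bot_sup_eq,
      inf_comm]
    exact H1.centralizer_inf_commutator_eq_bot hKc hPK hc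
  have hnil := nilpotent_of_prime_reg (H1.le_normalizer_sup (hPM.trans (Ms_normal M).2) hn)
    (hP ▸ hp) h0
  have hcent : ⁅K, P⁆ ≤ 𝐂(Ms M) := le_cent_of_coprime_of_isNilpotent hnil le_sup_right le_sup_left
    (isPi_coprime (isPi_Ms M) hπ').symm
  have h := sigma'_cent_cyclic hM (hle.trans hK) hπ'
  rw [inf_eq_left.2 hcent, inf_eq_left.2 (commutator_mono hK hPM)] at h
  exact ⟨hcent, h⟩

/-- BG 10.12. -/
theorem sigma_disjoint {M H : Subgroup G} (hM : IsCoatom M) (hH : IsCoatom H) (hn : ¬ Conj M H) :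
    Ma M ⊓ Ms H = ⊥ ∧ Disjoint (alp M) (sig H) ∧
      (Group.IsNilpotent (Ms M) → Ms M ⊓ Ms H = ⊥ ∧ Disjoint (sig M) (sig H)) := by
  have key : ∀ p, p ∈ sig M → p ∈ sig H → ∀ S, IsSyl p S M →
      ∃ L, IsCoatom L ∧ L ≠ M ∧ 𝐍(S) ≤ L := by
    intro p hpM hpH S hS
    obtain ⟨L, hL, hSL⟩ := BG10.exists_conj_ge hpH hS.pgrp
    refine ⟨L, BG10.Conj.isCoatom hL hH, ?_, (sigma_sylow (by rw [BG10.Conj.sig_eq hL]; exact hpH)
      ((sigma_sylow hpM hS).2.of_le hSL le_top)).1⟩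
    rintro rfl
    exact hn hL.symm
  have h1 : Disjoint (alp M) (sig H) := by
    rw [Set.disjoint_left]
    intro p hα hσ
    obtain ⟨S, hS⟩ := exists_isSyl hα.1 M
    obtain ⟨L, hL, hne, hN⟩ := key p (alp_subset_sig hM hα) hσ S hS
    have hU : InU S := by
      refine rank3_uniq (ne_top_of_isPGroup hα.1 hS.pgrp) (le_trans ?_ (pRank_le_rank hα.1 S))
      rw [hS.pRank_eq hα.1]
      exact hα.2
    exact hne (hU.eq hL ((le_norm_self S).trans hN) hM hS.le)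
  refine ⟨H1.inf_eq_bot_of_coprime' (isPi_coprime' (isPi_Ma M) (isPi_Ms H) h1), h1, fun hnil => ?_⟩
  have h2 : Disjoint (sig M) (sig H) := by
    rw [Set.disjoint_left]
    intro p hpM hpH
    obtain ⟨S, hS⟩ := exists_isSyl hpM.1 (Ms M)
    obtain ⟨L, hL, hne, hN⟩ := key p hpM hpH S (hS.trans_hall hpM.1 (Ms_hall hM).1 hpM)
    exact hne (mmax_eq_of_le' hM hL (((Ms_normal M).2.trans
      (IsSyl.norm_le_of_isNilpotent hpM.1 hnil hS)).trans hN)).symm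
  exact ⟨H1.inf_eq_bot_of_coprime' (isPi_coprime' (isPi_Ms M) (isPi_Ms H) h2), h2⟩

namespace BG10

omit [MinOdd G] in
theorem omega_center_le {p : ℕ} {A P : Subgroup G} (hA : IsMaxElem p A ⊤) (hAP : A ≤ P) :
    omegaOne p 𝐙(P) ≤ A :=
  hA.le_of_cent le_top ((omegaOne_le _ _).trans (inf_le_right.trans (cent_anti hAP)))
    (elemAb_omegaOne (isMulComm_center P)).2

omit [MinOdd G] in
theorem omega_center_ne_bot {p : ℕ} (hp : p.Prime) {P : Subgroup G} (hP : IsPGroup p P)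
    (h1 : P ≠ ⊥) : omegaOne p 𝐙(P) ≠ ⊥ :=
  omegaOne_ne_bot hp (prime_dvd_card_of_isPGroup hp (hP.to_le (center_normal P).1)
    (center_ne_bot (isNilpotent_of_isPGroup hp hP) h1))

omit [MinOdd G] in
theorem exists_elem1_ne {p : ℕ} (hp : p.Prime) {A Z : Subgroup G} (hA2 : IsElem p 2 A)
    (hZ : Z ≤ A) (hZp : 𝐨(Z) = p) : ∃ A₀ : Subgroup G, A₀ ≤ A ∧ 𝐨(A₀) = p ∧ A₀ ≠ Z := by
  obtain ⟨C, hC⟩ := exists_compl_of_elemAb hp hA2.elemAb hZ
  have hc := hC.card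
  rw [hA2.card, hZp, pow_two] at hc
  have hc' := (Nat.eq_of_mul_eq_mul_left hp.pos hc).symm
  refine ⟨C, hC.le_right, hc', ?_⟩
  rintro rfl
  exact ne_bot_of_card_prime (hc' ▸ hp) (by simpa using hC.disj)

/-- The structure of `C_S(A)` for a Sylow subgroup `S`. -/
theorem sylow_cent_structure {p : ℕ} (hp : p.Prime) {A S : Subgroup G} (hA2 : IsElem p 2 A)
    (hA : IsMaxElem p A ⊤) (hS : IsSyl p S ⊤) (hAS : A ≤ S) (hna : ¬ IsMulCommutative S) :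
    𝐨(omegaOne p 𝐙(S)) = p ∧ ∃ A₀ Y : Subgroup G, A₀ ≤ A ∧ IsCyclic Y ∧ omegaOne p 𝐙(S) ≤ Y ∧
      A₀ ⊔ Y = S ⊓ 𝐂(A) := by
  have hA1 : A ≠ ⊥ := hA2.ne_bot hp (by norm_num)
  have hp2 : p ≠ 2 := ne_two_of_isPGroup hp hA2.pgrp hA1
  have hS1 : S ≠ ⊥ := fun h => hA1 (eq_bot_iff.2 (hAS.trans h.le))
  have hZA := omega_center_le hA hAS
  have hZS : omegaOne p 𝐙(S) ≤ 𝐙(S) := omegaOne_le _ _
  by_cases hr : 2 < pRank p S
  · have hAS' : IsMaxElem p A S := hA.of_le hAS le_top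
    have hZ := (omega_center2_maxElem2 hp hp2 hS.pgrp hr hA2 hAS').2.1
    obtain ⟨A₀, h0, h0p, h0n⟩ := exists_elem1_ne hp hA2 hZA hZ
    have hd := hA2.sup_eq_of_two hp h0 hZA h0p hZ h0n
    have hC : S ⊓ 𝐂(A₀) = S ⊓ 𝐂(A) := by
      refine le_antisymm (le_inf inf_le_left ?_) (inf_le_inf_left _ (cent_anti h0))
      rw [← hd.sup, cent_sup]
      exact le_inf inf_le_right (inf_le_left.trans (cent_comm.1 (hZS.trans inf_le_right)))
    obtain ⟨h1, -, -, h2⟩ := narrow_cent_dprod hp hp2 hS.pgrp hr (fun _ => ⟨A, hA2, hAS'⟩)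
      (h0.trans hAS) h0p (by rw [hC, hAS'.pRank_cent hp, hA2.pRank_eq hp])
    refine ⟨hZ, A₀, _, h0, h1, le_inf (le_inf (hZS.trans inf_le_left) ?_) ?_, h2.sup.trans hC⟩
    · exact (hZS.trans inf_le_right).trans (cent_anti ((omegaOne_le _ _).trans (center2_le S)))
    · exact (hZS.trans inf_le_right).trans (cent_anti (h0.trans hAS))
  · obtain ⟨E, C, hcp, hE, hE3, hEp, hC, hω⟩ := rank2_sylow_cprod hp hS (by omega) hna
    have hES : E ≤ S := hcp.sup ▸ le_sup_left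
    have hCS : C ≤ S := hcp.sup ▸ le_sup_right
    have hCZ : C ≤ 𝐂(S) := by
      rw [← hcp.sup, cent_sup]
      exact le_inf hcp.cent (isMulComm_iff_le_cent.1 (isMulComm_of_isCyclic hC))
    have hnc : ¬ S ≤ 𝐂(A) := fun h =>
      hE (isMulComm_of_le (hA.le_of_cent le_top (hES.trans h) hEp) hA2.comm)
    have hZ : 𝐨(omegaOne p 𝐙(S)) = p := by
      refine hA2.card_eq_of_two hp hZA (omega_center_ne_bot hp hS.pgrp hS1) fun h => hnc ?_
      exact cent_comm.1 (h.ge.trans (hZS.trans inf_le_right))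
    have hZE := (A3.center_eq_der_of_card_cube hp hE3 hE).1
    have hZC : omegaOne p C = omegaOne p 𝐙(S) :=
      H1.eq_of_le_of_card_le (omegaOne_mono (le_inf hCS hCZ)) (by rw [hω, hZ, hZE])
    obtain ⟨A₀, h0, h0p, h0n⟩ := exists_elem1_ne hp hA2 hZA hZ
    have hd : A₀ ⊓ C = ⊥ := by
      rcases inf_eq_bot_or_le_of_card_prime (h0p ▸ hp) C with h | h
      · exact h
      · exact absurd ((eq_omegaOne_of_isCyclic hp hC h h0p).trans hZC) h0n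
    have hCA : C ≤ 𝐂(A) := hCZ.trans (cent_anti hAS)
    refine ⟨hZ, A₀, C, h0, hC, hZC.ge.trans (omegaOne_le _ _), H1.eq_of_le_of_card_le
      (sup_le (le_inf (h0.trans hAS) (h0.trans hA2.le_cent)) (le_inf hCS hCA)) ?_⟩
    have h1 := card_sup_mul_card_inf ((hCA.trans (cent_anti h0)).trans (cent_le_norm A₀))
    rw [hd, card_bot, mul_one, h0p] at h1
    have h2 := card_sup_mul_card_inf (hcp.cent.trans (cent_le_norm E))
    rw [hcp.sup, hE3] at h2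
    have h3 : p ≤ 𝐨(E ⊓ C) := by
      rw [← hZE]
      exact card_le_of_le (le_inf inf_le_left (hω.ge.trans (omegaOne_le _ _)))
    have h4 := H1.card_inf_mul_relIndex 𝐂(A) S
    rw [inf_comm] at h4
    have h5 : p ≤ 𝐂(A).relIndex S := by
      refine Nat.le_of_dvd (Nat.pos_of_ne_zero fun h => card_ne_zero S (by rw [← h4, h, mul_zero])) ?_
      obtain ⟨n, hn⟩ := exists_card_eq_pow hp hS.pgrp
      have hdv := relIndex_dvd_card' 𝐂(A) S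
      rw [hn] at hdv
      obtain ⟨k, -, hk⟩ := (Nat.dvd_prime_pow hp).1 hdv
      rw [hk]
      refine dvd_pow_self p ?_
      rintro rfl
      exact hnc (relIndex_eq_one.1 (by simpa using hk))
    rw [h1]
    have h6 : 𝐨(S ⊓ 𝐂(A)) * p * p ≤ p * 𝐨(C) * p * p := by
      calc 𝐨(S ⊓ 𝐂(A)) * p * p ≤ 𝐨(S ⊓ 𝐂(A)) * 𝐂(A).relIndex S * 𝐨(E ⊓ C) := by gcongr
        _ = p * 𝐨(C) * p * p := by rw [h4, h2]; ring
    exact Nat.le_of_mul_le_mul_right (Nat.le_of_mul_le_mul_right h6 hp.pos) hp.pos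

omit [Finite G] [MinOdd G] in
theorem conj_pow_eq {g a c : G} (h : g * a * g⁻¹ = c * a) (hc : Commute g c) (n : ℕ) :
    g ^ n * a * (g ^ n)⁻¹ = c ^ n * a := by
  induction n with
  | zero => simp
  | succ n ih =>
    have h1 : g * c ^ n * g⁻¹ = c ^ n := by
      rw [(hc.pow_right n).eq]; group
    calc g ^ (n + 1) * a * (g ^ (n + 1))⁻¹ = g * (g ^ n * a * (g ^ n)⁻¹) * g⁻¹ := by
          rw [pow_succ']; group
      _ = (g * c ^ n * g⁻¹) * (g * a * g⁻¹) := by rw [ih]; group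
      _ = c ^ (n + 1) * a := by rw [h1, h, pow_succ]; group

end BG10

/-- BG 10.13. -/
theorem basic_maxElem2_structure {p : ℕ} (hp : p.Prime) {A P : Subgroup G} (hA2 : IsElem p 2 A)
    (hA : IsMaxElem p A ⊤) (hP : IsPGroup p P) (hAP : A ≤ P) (hna : ¬ IsMulCommutative P) :
    (omegaOne p 𝐙(P) ≤ A ∧ 𝐨(omegaOne p 𝐙(P)) = p) ∧
      (∃ Y : Subgroup G, IsCyclic Y ∧ omegaOne p 𝐙(P) ≤ Y ∧
        ∀ A₀ : Subgroup G, A₀ ≤ A → 𝐨(A₀) = p → A₀ ≠ omegaOne p 𝐙(P) → DProd A₀ Y (P ⊓ 𝐂(A))) ∧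
      ∀ A₀ A₁ : Subgroup G, A₀ ≤ A → 𝐨(A₀) = p → A₀ ≠ omegaOne p 𝐙(P) →
        A₁ ≤ A → 𝐨(A₁) = p → A₁ ≠ omegaOne p 𝐙(P) → ∃ g ∈ P ⊓ 𝐍(A), A₁ = A₀ ^ᵍ g := by
  have hA1 : A ≠ ⊥ := hA2.ne_bot hp (by norm_num)
  obtain ⟨S, hS, hPS⟩ := exists_isSyl_ge hp hP le_top
  have hAS := hAP.trans hPS
  obtain ⟨hZ₁, B, Y, hB, hY, hZY, hBY⟩ := BG10.sylow_cent_structure hp hA2 hA hS hAS
    fun h => hna (isMulComm_of_le hPS h)
  have hYC : Y ≤ S ⊓ 𝐂(A) := hBY ▸ le_sup_right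
  have hab : IsMulCommutative ↥(S ⊓ 𝐂(A)) := by
    rw [← hBY]
    exact isMulComm_sup (isMulComm_of_le hB hA2.comm) (isMulComm_of_isCyclic hY)
      (hYC.trans (inf_le_right.trans (cent_anti hB)))
  have hnc : ¬ P ≤ 𝐂(A) := fun h => hna (isMulComm_of_le (le_inf hPS h) hab)
  have hZA := BG10.omega_center_le hA hAP
  have hZP : omegaOne p 𝐙(P) ≤ 𝐙(P) := omegaOne_le _ _
  have hP1 : P ≠ ⊥ := fun h => hA1 (eq_bot_iff.2 (hAP.trans h.le))
  have hZ : 𝐨(omegaOne p 𝐙(P)) = p :=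
    hA2.card_eq_of_two hp hZA (BG10.omega_center_ne_bot hp hP hP1) fun h =>
      hnc (cent_comm.1 (h.ge.trans (hZP.trans inf_le_right)))
  have hZZ : omegaOne p 𝐙(S) = omegaOne p 𝐙(P) := by
    refine H1.eq_of_le_of_card_le (le_omegaOne_of_elemAb (le_inf
      ((BG10.omega_center_le hA hAS).trans hAP)
      ((omegaOne_le _ _).trans (inf_le_right.trans (cent_anti hPS))))
      (elemAb_omegaOne (isMulComm_center S))) (by rw [hZ, hZ₁])
  rw [hZZ] at hZY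
  refine ⟨⟨hZA, hZ⟩, ⟨Y ⊓ P, isCyclic_of_le inf_le_left hY,
    le_inf hZY (hZP.trans inf_le_left), fun A₀ h0 h0p h0n => ⟨?_, ?_, ?_⟩⟩, ?_⟩
  · have hc : Y ≤ 𝐍(A₀) := (hYC.trans (inf_le_right.trans (cent_anti h0))).trans (cent_le_norm _)
    have h1 : A₀ ⊔ Y = S ⊓ 𝐂(A) := by
      refine le_antisymm (sup_le (le_inf (h0.trans hAS) (h0.trans hA2.le_cent)) hYC) ?_
      rw [← hBY]
      refine sup_le (hB.trans ?_) le_sup_right
      rw [← (hA2.sup_eq_of_two hp h0 hZA h0p hZ h0n).sup]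
      exact sup_le_sup_left hZY _
    rw [← sup_inf_of_le_left hc (h0.trans hAP), h1, inf_right_comm, inf_eq_right.2 hPS]
  · exact inf_le_left.trans (hYC.trans (inf_le_right.trans (cent_anti h0)))
  · rcases inf_eq_bot_or_le_of_card_prime (h0p ▸ hp) (Y ⊓ P) with h | h
    · exact h
    · exact absurd (eq_of_card_prime_of_isCyclic hp hY (h.trans inf_le_left) hZY h0p hZ) h0n
  intro A₀ A₁ h0 h0p h0n h1 h1p h1n
  -- an element of `N_P(A)` not centralizing `A`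
  have hlt : P ⊓ 𝐂(A) < P := lt_of_le_of_ne inf_le_left fun h => hnc (h.ge.trans inf_le_right)
  obtain ⟨g, hg, hgC⟩ := SetLike.exists_of_lt
    (lt_inf_norm_of_isNilpotent (isNilpotent_of_isPGroup hp hP) hlt)
  have hgA : g ∈ 𝐍(A) := by
    have h := norm_le_norm_omegaOne (P ⊓ 𝐂(A)) p hg.2
    rwa [(hA.of_le hAP le_top).omegaOne_cent] at h
  have hgN : g ∈ P ⊓ 𝐍(A) := ⟨hg.1, hgA⟩
  -- `[A, N_P(A)] ≤ Z`
  have hcomm : ⁅P ⊓ 𝐍(A), A⁆ ≤ omegaOne p 𝐙(P) := by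
    have hAN : A ≤ P ⊓ 𝐍(A) := le_inf hAP (le_norm_self A)
    have hZN : P ⊓ 𝐍(A) ≤ 𝐍(omegaOne p 𝐙(P)) :=
      (inf_le_left.trans (cent_comm.1 (hZP.trans inf_le_right))).trans (cent_le_norm _)
    have : ((omegaOne p 𝐙(P)).subgroupOf (P ⊓ 𝐍(A))).Normal := H1.normal_subgroupOf_of_le hZN
    rw [← H1.bar_le_centralizer_iff (Y := P ⊓ 𝐍(A)) le_rfl hAN]
    have hc : 𝐨(H1.bar (P ⊓ 𝐍(A)) (omegaOne p 𝐙(P)) A) = p := by
      have h := H1.card_mul_relIndex hZA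
      rw [hZ, hA2.card, pow_two] at h
      rw [H1.card_bar hAN]
      exact Nat.eq_of_mul_eq_mul_left hp.pos h
    have h := inf_center_ne_bot (isNilpotent_of_isPGroup hp (H1.isPGroup_bar
      (N := omegaOne p 𝐙(P)) (Y := P ⊓ 𝐍(A)) (hP.to_le (inf_le_left (b := 𝐍(A))))))
      ⟨H1.bar_mono hAN, H1.bar_le_normalizer inf_le_right⟩ (ne_bot_of_card_prime (by rw [hc]; exact hp))
    rcases inf_eq_bot_or_le_of_card_prime (by rw [hc]; exact hp) _ with h' | h'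
    · exact absurd h' h
    · exact cent_comm.1 h'
  have hd := hA2.sup_eq_of_two hp hZA h0 hZ h0p h0n.symm
  obtain ⟨x, hx, hx1⟩ := (A₁.bot_or_exists_ne_one).resolve_left (ne_bot_of_card_prime (h1p ▸ hp))
  obtain ⟨z, hz, a, ha, rfl⟩ := hd.mem_iff.1 (h1 hx)
  have ha1 : a ≠ 1 := by
    rintro rfl
    rw [mul_one] at hx hx1
    exact h1n ((zpowers_eq_of_card_prime (h1p ▸ hp) hx hx1).symm.trans
      (zpowers_eq_of_card_prime (by rw [hZ]; exact hp) hz hx1))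
  have hc : ⁅g, a⁆ ∈ omegaOne p 𝐙(P) := hcomm (commutator_mem_commutator hgN (h0 ha))
  have hc1 : ⁅g, a⁆ ≠ 1 := by
    intro h
    apply hgC
    refine ⟨hg.1, ?_⟩
    show g ∈ 𝐂(A)
    rw [← hd.sup, cent_sup]
    refine ⟨cent_comm.1 (hZP.trans inf_le_right) hg.1, ?_⟩
    show g ∈ 𝐂(A₀)
    rw [← cent1_eq_of_card_prime (h0p ▸ hp) ha ha1, mem_cent1]
    exact (commutatorElement_eq_one_iff_mul_comm.1 h).symm
  rw [← zpowers_eq_of_card_prime (by rw [hZ]; exact hp) hc hc1, ← mem_powers_iff_mem_zpowers] at hz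
  obtain ⟨n, rfl⟩ := hz
  refine ⟨g ^ n, pow_mem hgN n, ?_⟩
  rw [← zpowers_eq_of_card_prime (h0p ▸ hp) ha ha1, ← zpowers_conj,
    BG10.conj_pow_eq (c := ⁅g, a⁆) (by rw [commutatorElement_def]; group)
      (mem_cent.1 (hZP hc).2 g hg.1) n]
  exact (zpowers_eq_of_card_prime (h1p ▸ hp) hx hx1).symm

/-- BG 10.14(a). -/
theorem beta_not_narrow {p : ℕ} (hp : p ∈ betG G) {A : Subgroup G} (hA : IsElem p 2 A) :
    ¬ IsMaxElem p A ⊤ ∧ ∀ P : Subgroup G, IsSyl p P ⊤ → ¬ IsMaxElem p A P := by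
  have h : ∀ P : Subgroup G, IsSyl p P ⊤ → ¬ IsMaxElem p A P := fun P hP hm =>
    hp.2 P hP fun _ => ⟨A, hA, hm⟩
  refine ⟨fun hm => ?_, h⟩
  obtain ⟨P, hP, hAP⟩ := exists_isSyl_ge hp.1 hA.pgrp le_top
  exact h P hP (hm.of_le hAP le_top)

/-- BG 10.14(b). -/
theorem beta_noncyclic_uniq {p : ℕ} (hp : p ∈ betG G) {R : Subgroup G} (hR : IsPGroup p R)
    (h : 2 ≤ pRank p R) : InU R := by
  obtain ⟨A, hA, hA2⟩ := (le_pRank_iff hp.1).1 h
  exact (nonmaxElem2_uniq hp.1 hA2 (beta_not_narrow hp hA2).1).mono hA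
    (ne_top_of_isPGroup hp.1 hR)

/-- BG 10.14(c). -/
theorem beta_subnorm_uniq {p : ℕ} (hp : p ∈ betG G) {P X : Subgroup G} (hP : IsSyl p P ⊤)
    (hX : X ≤ P) : InU (P ⊓ 𝐍(X)) := by
  have hQ : IsPGroup p ↥(P ⊓ 𝐍(X)) := hP.pgrp.to_le inf_le_left
  refine beta_noncyclic_uniq hp hQ ?_
  by_contra h
  have hr : 2 < pRank p P := by
    by_contra hr
    exact hp.2 P hP (narrow_of_pRank_le (by omega))
  have hc : IsCyclic ↥(P ⊓ 𝐍(X)) := isCyclic_of_pRank_le_one hp.1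
    (ne_two_of_pRank_pos hp.1 (H := P) (by omega)) hQ (by omega)
  have hlt : P ⊓ 𝐍(X) < P := by
    refine lt_of_le_of_ne inf_le_left fun he => h ?_
    rw [he]
    omega
  exact (lt_inf_norm_of_isNilpotent (isNilpotent_of_isPGroup hp.1 hP.pgrp) hlt).not_ge
    (inf_le_inf_left _ (norm_le_norm_of_le_cyclic hc (le_inf hX (le_norm_self X))))

/-- BG 10.14(d). -/
theorem beta_norm_le_mmax {M Y : Subgroup G} (hM : IsCoatom M) (hY : Y ≤ M) (hY1 : Y ≠ ⊥)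
    (hπ : IsPiSubgroup (bet M) Y) : 𝐍(Y) ≤ M := by
  have := isSolvable_of_le_mmax hM hY
  obtain ⟨q, hq, hd⟩ := exists_prime_dvd_card (H2.fittingOf_ne_bot hY1)
  have hβ : q ∈ bet M := hπ q hq (hd.trans (card_dvd_of_le (H2.fittingOf_le Y)))
  have hX1 : pCoreOf q Y ≠ ⊥ := by
    rw [← pCoreOf_fittingOf hq]
    exact (isSyl_pCoreOf_of_isNilpotent hq inferInstance).ne_bot hq hd
  have hX := H2.isPGroup_pCoreOf q Y
  obtain ⟨P, hP, hXP⟩ := exists_isSyl_ge hq hX ((H2.pCoreOf_le q Y).trans hY)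
  have hU := beta_subnorm_uniq hβ.2 (sigma_sylow (BG10.bet_subset_sig hM hβ) hP).2 hXP
  exact (H2.normalizer_le_normalizer_pCoreOf q Y).trans
    ((hU.uniqMax hM (inf_le_left.trans hP.le)).le_of_ne_top inf_le_right
      (norm_ne_top_of_isPGroup hq hX hX1))

end Cfsg.Agent.FT
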