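/-
BG section 11: exceptional maximal subgroups.
-/
import Cfsg.Agent.FT.BG10

set_option autoImplicit false

namespace Cfsg.Agent.FT

open Subgroup Cfsg Cfsg.Agent
open scoped commutatorElement

universe u

variable {G : Type u} [Group G] [Finite G] [MinOdd G]

namespace BG11

variable {p : ℕ} {M A₀ A : Subgroup G}

theorem maxElem (h : Exceptional p M A₀ A) : IsMaxElem p A ⊤ :=
  (sigma'_rank2_max h.max h.prime h.not_sig h.le h.elem).1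

theorem pRank_eq (h : Exceptional p M A₀ A) : pRank p M = 2 :=
  sigma'_norm_mmax_rank2 h.max h.prime h.not_sig (isPGroup_of_card_prime h.card0) h.norm0

omit [Finite G] [MinOdd G] in
theorem ne_bot (h : Exceptional p M A₀ A) : A ≠ ⊥ := h.elem.ne_bot h.prime (by norm_num)

omit [Finite G] [MinOdd G] in
theorem cent_le (h : Exceptional p M A₀ A) : 𝐂(A) ≤ M :=
  (cent_anti h.le0).trans ((cent_le_norm A₀).trans h.norm0)

omit [MinOdd G] in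
theorem isPi (h : Exceptional p M A₀ A) {P : Subgroup G} (hP : IsPGroup p P) :
    IsPiSubgroup (sig M)ᶜ P := isPi_of_isPGroup h.prime hP h.not_sig

omit [MinOdd G] in
theorem coprime_Ms (h : Exceptional p M A₀ A) {P : Subgroup G} (hP : IsPGroup p P) :
    𝐨(P).Coprime 𝐨(Ms M) := (isPi_coprime (isPi_Ms M) (isPi h hP)).symm

omit [Finite G] [MinOdd G] in
theorem exists_norm_not_mem (h : Exceptional p M A₀ A) {P : Subgroup G} (hP : IsSyl p P M) :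
    ∃ g ∈ 𝐍(P), g ∉ M :=
  SetLike.not_le_iff_exists.1 fun hN => h.not_sig ⟨h.prime,
    (h.elem.prime_dvd (by norm_num)).trans (card_dvd_of_le h.le), P, hP, hN⟩

omit [Finite G] [MinOdd G] in
theorem le_conj {P : Subgroup G} (hAP : A ≤ P) (hPM : P ≤ M) {g : G} (hg : g ∈ 𝐍(P)) :
    A ≤ M ^ᵍ g := by
  refine hAP.trans ?_
  rw [← conj_eq_of_mem_norm hg]
  exact conj_mono hPM g

end BG11

/-- BG 11.1. -/
theorem Exceptional.ti_sigma_cj {p : ℕ} {M A₀ A : Subgroup G} (h : Exceptional p M A₀ A) {g : G}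
    (hg : g ∉ M) (hA : A ≤ M ^ᵍ g) {q : ℕ} (hq : q.Prime) {Q₁ Q₂ : Subgroup G}
    (h₁ : IsSyl q Q₁ (Ms M)) (hA₁ : A ≤ 𝐍(Q₁)) (h₂ : IsSyl q Q₂ (Ms M ^ᵍ g)) (hA₂ : A ≤ 𝐍(Q₂)) :
    Q₁ ⊓ Q₂ = ⊥ ∧ ∀ X : Subgroup G, X ≤ A → 𝐨(X) = p → Q₁ ⊓ 𝐂(X) = ⊥ ∨ Q₂ ⊓ 𝐂(X) = ⊥ := by
  by_cases hQ1 : Q₁ = ⊥
  · subst hQ1
    exact ⟨bot_inf_eq _, fun X _ _ => Or.inl (bot_inf_eq _)⟩
  have hM := h.max
  have hp := h.prime
  have hσ : q ∈ sig M := mem_of_isPi_of_isPGroup hq h₁.pgrp hQ1 (isPi_of_le h₁.le (isPi_Ms M))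
  have hS₁ := h₁.trans_hall hq (Ms_hall hM).2 hσ
  have hS₂ : IsSyl q Q₂ ⊤ := by
    have h' := hall_conj (Ms_hall hM).2 g
    rw [conj_top] at h'
    exact h₂.trans_hall hq h' hσ
  have hc := pl1_normedConstrained hp (BG11.ne_bot h) (BG11.maxElem h) fun M hM => proper_pl1 hp hM
  have hqA : q ∉ piOf A := by
    rw [A3.piOf_eq_singleton hp h.elem.pgrp (BG11.ne_bot h)]
    rintro rfl
    exact h.not_sig hσ
  have hmax : ∀ Q : Subgroup G, IsSyl q Q ⊤ → A ≤ 𝐍(Q) → MaxNormedPi A {q} Q := fun Q hQ hn =>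
    ⟨⟨le_top, (isPi_singleton_iff hq).2 hQ.pgrp, hn⟩,
      fun R hR hle => hQ.eq_of_le hq hle le_top ((isPi_singleton_iff hq).1 hR.2.1)⟩
  have key : ∀ H : Subgroup G, H ≠ ⊤ → A ≤ H → H ⊓ Q₁ ≠ ⊥ → H ⊓ Q₂ ≠ ⊥ → False := by
    intro H hH hAH e₁ e₂
    obtain ⟨k, hk, he⟩ := hc.meet_trans hq hqA (hmax Q₁ hS₁ hA₁) (hmax Q₂ hS₂ hA₂) hH hAH e₁ e₂
    have hkM : k ∈ M := BG11.cent_le h (H2.piCoreOf_le _ _ hk)
    have hQ₂M : Q₂ ≤ M := by
      rw [he]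
      exact conj_le_of_mem (h₁.le.trans (Ms_le M)) hkM
    exact hg ((Subgroup.inv_mem_iff _).1 (sigma_sylow_trans hM hσ (hS₂.of_le hQ₂M le_top)
      (le_conj_iff.1 (h₂.le.trans (conj_mono (Ms_le M) g)))))
  refine ⟨?_, fun X hX hXp => ?_⟩
  · by_contra hne
    refine key M hM.1 h.le ?_ fun he => hne ?_
    · rwa [inf_eq_right.2 (h₁.le.trans (Ms_le M))]
    · exact eq_bot_iff.2 ((inf_le_inf_right _ (h₁.le.trans (Ms_le M))).trans he.le)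
  · by_contra hne
    push Not at hne
    refine key 𝐂(X) (cent_ne_top (ne_bot_of_card_prime (hXp ▸ hp)))
      (h.elem.le_cent.trans (cent_anti hX)) ?_ ?_
    · rw [inf_comm]; exact hne.1
    · rw [inf_comm]; exact hne.2

/-- BG 11.2. -/
theorem Exceptional.ti_Ms_cj {p : ℕ} {M A₀ A : Subgroup G} (h : Exceptional p M A₀ A) {g : G}
    (hg : g ∉ M) (hA : A ≤ M ^ᵍ g) : Ms M ⊓ M ^ᵍ g = ⊥ ∧ Ms M ⊓ 𝐂(A₀ ^ᵍ g) = ⊥ := by
  have hM := h.max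
  have h1 : Ms M ⊓ M ^ᵍ g = ⊥ := by
    by_contra hne
    obtain ⟨q, hq, hd⟩ := exists_prime_dvd_card hne
    have hc := BG11.coprime_Ms h h.elem.pgrp
    have hs := isSolvable_of_le_mmax hM h.le
    have hn : A ≤ 𝐍(Ms M) := h.le.trans (Ms_normal M).2
    have hn' : A ≤ 𝐍(Ms M ^ᵍ g) := by
      rw [← Ms_conj]
      exact hA.trans (Ms_normal _).2
    obtain ⟨Q, hQ, -, hAQ⟩ := exists_invariant_isSyl hq
      (H1.le_normalizer_inf hn (hA.trans (le_norm_self _))) (H1.coprime_of_le hc le_rfl inf_le_left)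
      (Or.inl hs) IsPGroup.of_bot bot_le (by rw [norm_bot]; exact le_top)
    have hQ' : Q ≤ Ms M ^ᵍ g := by
      rw [← Ms_conj]
      refine le_piCoreOf_of_hall (Ms_hall (isCoatom_conj hM g)).1 (hQ.le.trans inf_le_right) ?_
      rw [sig_conj]
      exact isPi_of_le (hQ.le.trans inf_le_left) (isPi_Ms M)
    obtain ⟨Q₁, h₁, hQ₁, hA₁⟩ := exists_invariant_isSyl hq hn hc (Or.inl hs) hQ.pgrp
      (hQ.le.trans inf_le_left) hAQ
    obtain ⟨Q₂, h₂, hQ₂, hA₂⟩ := exists_invariant_isSyl hq hn' (by rw [card_conj]; exact hc)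
      (Or.inl hs) hQ.pgrp hQ' hAQ
    exact hQ.ne_bot hq hd (eq_bot_iff.2 ((le_inf hQ₁ hQ₂).trans
      (h.ti_sigma_cj hg hA hq h₁ hA₁ h₂ hA₂).1.le))
  refine ⟨h1, eq_bot_iff.2 (le_trans (inf_le_inf_left _ ?_) h1.le)⟩
  rw [cent_conj]
  exact conj_mono ((cent_le_norm A₀).trans h.norm0) g

/-- BG 11.3. -/
theorem Exceptional.sigma_nil {p : ℕ} {M A₀ A : Subgroup G} (h : Exceptional p M A₀ A) :
    Group.IsNilpotent (Ms M) := by
  obtain ⟨P, hP, hAP⟩ := exists_isSyl_ge h.prime h.elem.pgrp h.le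
  obtain ⟨g, hg, hgM⟩ := BG11.exists_norm_not_mem h hP
  refine nilpotent_of_prime_reg (R := A₀ ^ᵍ g) ?_ (by rw [card_conj, h.card0]; exact h.prime)
    (h.ti_Ms_cj hgM (BG11.le_conj hAP hP.le hg)).2
  exact ((conj_le_of_mem_norm (h.le0.trans hAP) hg).trans hP.le).trans (Ms_normal M).2

/-- BG 11.4. -/
theorem Exceptional.sigma_uniq {p : ℕ} {M A₀ A : Subgroup G} (h : Exceptional p M A₀ A)
    {H : Subgroup G} (hH : IsCoatom H) (hAH : A ≤ H) (hne : Ms H ⊓ Ms M ≠ ⊥) : H = M := by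
  have hc : Conj M H := by
    by_contra hn
    rw [inf_comm] at hne
    exact hne ((sigma_disjoint h.max hH hn).2.2 h.sigma_nil).1
  obtain ⟨g, rfl⟩ := hc
  refine conj_eq_of_mem ?_
  by_contra hg
  refine hne (eq_bot_iff.2 (le_trans ?_ (h.ti_Ms_cj hg hAH).1.le))
  rw [inf_comm]
  exact inf_le_inf_left _ (Ms_le _)

namespace BG11

omit [MinOdd G] in
theorem exists_cent_ne_bot {p : ℕ} (hp : p.Prime) {A Q : Subgroup G} (hA : IsElem p 2 A)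
    (hn : A ≤ 𝐍(Q)) (hc : 𝐨(A).Coprime 𝐨(Q)) (h1 : Q ≠ ⊥) :
    ∃ X : Subgroup G, X ≤ A ∧ 𝐨(X) = p ∧ Q ⊓ 𝐂(X) ≠ ⊥ := by
  obtain ⟨a, ha, ha1, hne⟩ := H1.exists_centralizer_ne_bot hA.comm (hA.not_isCyclic hp le_rfl)
    hn hc h1
  refine ⟨zpowers a, zpowers_le.2 ha, ?_, by rwa [cent_zpowers]⟩
  rw [Nat.card_zpowers, elemAb_orderOf hp hA.elemAb ha ha1]

end BG11

/-- BG 11.5. -/
theorem Exceptional.sylow_abelian {p : ℕ} {M A₀ A : Subgroup G} (h : Exceptional p M A₀ A)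
    {P : Subgroup G} (hP : IsSyl p P M) : IsMulCommutative P := by
  have hp := h.prime
  have hM := h.max
  obtain ⟨S, hS, hAS⟩ := exists_isSyl_ge hp h.elem.pgrp h.le
  suffices hc : IsMulCommutative S by
    obtain ⟨m, -, rfl⟩ := hP.exists_conj_eq hp hS
    exact (isMulComm_map_iff (conj_injective m)).2 hc
  clear hP P
  by_contra hna
  obtain ⟨g, hg, hgM⟩ := BG11.exists_norm_not_mem h hS
  obtain ⟨q, hq, hd⟩ := exists_prime_dvd_card (Ms_ne_bot hM)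
  have hc := BG11.coprime_Ms h hS.pgrp
  obtain ⟨Q, hQ, -, hSQ⟩ := exists_invariant_isSyl hq (hS.le.trans (Ms_normal M).2) hc
    (Or.inl (isSolvable_of_le_mmax hM hS.le)) IsPGroup.of_bot bot_le
    (by rw [norm_bot]; exact le_top)
  have hQ1 := hQ.ne_bot hq hd
  have hSQ' : S ≤ 𝐍(Q ^ᵍ g) := by
    rw [← conj_eq_of_mem_norm hg]
    exact conj_le_norm_iff.2 hSQ
  have hcQ : 𝐨(A).Coprime 𝐨(Q) := H1.coprime_of_le hc hAS hQ.le
  obtain ⟨X₁, hX₁, hX₁p, e₁⟩ := BG11.exists_cent_ne_bot hp h.elem (hAS.trans hSQ) hcQ hQ1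
  obtain ⟨X₂, hX₂, hX₂p, e₂⟩ := BG11.exists_cent_ne_bot hp h.elem (hAS.trans hSQ')
    (by rw [card_conj]; exact hcQ) (fun he => hQ1 (conj_eq_bot_iff.1 he))
  have hreg := (h.ti_sigma_cj hgM (BG11.le_conj hAS hS.le hg) hq hQ (hAS.trans hSQ) (hQ.conj g)
    (hAS.trans hSQ')).2
  obtain ⟨⟨hZA, hZ⟩, -, htr⟩ := basic_maxElem2_structure hp h.elem (BG11.maxElem h) hS.pgrp hAS hna
  have hZg : omegaOne p 𝐙(S) ^ᵍ g = omegaOne p 𝐙(S) :=
    conj_eq_of_mem_norm (norm_le_norm_omegaOne _ p (norm_le_norm_center S hg))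
  have hiff : Q ^ᵍ g ⊓ 𝐂(omegaOne p 𝐙(S)) = ⊥ ↔ Q ⊓ 𝐂(omegaOne p 𝐙(S)) = ⊥ := by
    conv_lhs => rw [← hZg, cent_conj, ← conj_inf, conj_eq_bot_iff]
  have hZ1 : Q ⊓ 𝐂(omegaOne p 𝐙(S)) = ⊥ := (hreg _ hZA hZ).elim id hiff.1
  obtain ⟨x, hx, rfl⟩ := htr X₁ X₂ hX₁ hX₁p (fun he => e₁ (he ▸ hZ1)) hX₂ hX₂p
    (fun he => e₂ (he ▸ hiff.2 hZ1))
  refine e₁ ?_
  have h2 := (hreg _ hX₂ hX₂p).resolve_right e₂
  rwa [← conj_eq_of_mem_norm (hSQ hx.1), cent_conj, ← conj_inf, conj_eq_bot_iff] at h2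

/-- BG 11.6. -/
theorem Exceptional.structure {p : ℕ} {M A₀ A : Subgroup G} (h : Exceptional p M A₀ A) :
    (∀ P : Subgroup G, IsSyl p P M → A ≤ P → omegaOne p P = A) ∧ Ms M ⊓ 𝐂(A) = ⊥ ∧
      ∃ A₁ A₂ : Subgroup G, A₁ ≤ A ∧ 𝐨(A₁) = p ∧ A₂ ≤ A ∧ 𝐨(A₂) = p ∧ A₁ ≠ A₂ ∧
        Ms M ⊓ 𝐂(A₁) = ⊥ ∧ Ms M ⊓ 𝐂(A₂) = ⊥ := by
  have hp := h.prime
  have h1 : ∀ P : Subgroup G, IsSyl p P M → A ≤ P → omegaOne p P = A := by
    intro P hP hAP
    have hc := h.sylow_abelian hP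
    exact (BG11.maxElem h).2.2 _ le_top (elemAb_omegaOne hc) (le_omegaOne_of_elemAb hAP h.elem.elemAb)
  obtain ⟨P, hP, hAP⟩ := exists_isSyl_ge hp h.elem.pgrp h.le
  obtain ⟨g, hg, hgM⟩ := BG11.exists_norm_not_mem h hP
  have hgA : ∀ x ∈ 𝐍(P), A₀ ^ᵍ x ≤ A := fun x hx => conj_le_of_mem_norm h.le0 (by
    rw [← h1 P hP hAP]
    exact norm_le_norm_omegaOne P p hx)
  have hgM' : g⁻¹ ∉ M := fun hh => hgM ((Subgroup.inv_mem_iff _).1 hh)
  have e₁ := (h.ti_Ms_cj hgM (BG11.le_conj hAP hP.le hg)).2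
  have e₂ := (h.ti_Ms_cj hgM' (BG11.le_conj hAP hP.le (inv_mem hg))).2
  refine ⟨h1, eq_bot_iff.2 ((inf_le_inf_left _ (cent_anti (hgA g hg))).trans e₁.le),
    A₀ ^ᵍ g, A₀ ^ᵍ g⁻¹, hgA g hg, by rw [card_conj, h.card0], hgA _ (inv_mem hg),
    by rw [card_conj, h.card0], fun he => hgM ?_, e₁, e₂⟩
  have h2 : g * g ∈ M := by
    refine h.norm0 (conj_eq_self_iff.1 ?_)
    rw [← conj_conj, he, conj_inv_conj]
  obtain ⟨k, hk⟩ := odd_orderOf g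
  have h3 : g = ((g * g) ^ k)⁻¹ := by
    rw [eq_inv_iff_mul_eq_one, ← pow_two, ← pow_mul, ← pow_succ', ← hk, pow_orderOf_eq_one]
  rw [h3]
  exact inv_mem (pow_mem h2 k)

namespace BG11

/-- `A` centralizes every `A`-invariant Sylow `q`-subgroup of `M` for `q ∈ σ(M)'`, `q ≠ p`. -/
theorem le_cent_sylow {p : ℕ} {M A₀ A : Subgroup G} (h : Exceptional p M A₀ A) {q : ℕ}
    (hq : q.Prime) (hqp : p ≠ q) (hσ : q ∉ sig M) {Q : Subgroup G} (hQ : IsSyl q Q M)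
    (hn : A ≤ 𝐍(Q)) : A ≤ 𝐂(Q) := by
  have hp := h.prime
  have hM := h.max
  by_cases hQ1 : Q = ⊥
  · rw [hQ1, cent_bot]; exact le_top
  have hZQ : 𝐙(Q) ≤ Q := inf_le_left
  have hnZ : A ≤ 𝐍(𝐙(Q)) := hn.trans (norm_le_norm_center Q)
  have hc : 𝐨(A).Coprime 𝐨(Q) := coprime_card_of_isPGroup hp hq hqp h.elem.pgrp hQ.pgrp
  have hZ1 : 𝐙(Q) ⊓ 𝐂(A) ≠ ⊥ := by
    intro h0
    obtain ⟨-, -, A₁, A₂, h₁, h₁p, h₂, h₂p, hne, e₁, e₂⟩ := h.structure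
    have hcomm := H1.commutator_sup_centralizer hnZ (H1.coprime_of_le hc le_rfl hZQ)
      (Or.inl (isSolvable_of_le_mmax hM h.le))
    rw [h0, sup_bot_eq] at hcomm
    have hi : ∀ X : Subgroup G, X ≤ A → 𝐨(X) = p → Ms M ⊓ 𝐂(X) = ⊥ → ⁅𝐙(Q), X⁆ ⊲ M :=
      fun X hX hXp e => (comm_sigma'_elem1_cyclic hM (hZQ.trans hQ.le)
        (isPi_of_isPGroup hq (hQ.pgrp.to_le hZQ) hσ) hp h.not_sig hXp
        (le_inf (hX.trans h.le) (hX.trans hnZ)) e (isMulComm_center Q) (by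
          rw [← hXp]
          exact (H1.coprime_of_le hc hX hZQ).symm)).2.2
    have n₁ := hi A₁ h₁ h₁p e₁
    have n₂ := hi A₂ h₂ h₂p e₂
    have hnn := H1.le_normalizer_sup n₁.2 n₂.2
    have he : ⁅𝐙(Q), A₁⁆ ⊔ ⁅𝐙(Q), A₂⁆ = 𝐙(Q) := by
      refine le_antisymm (sup_le (comm_le_left_iff.2 (h₁.trans hnZ))
        (comm_le_left_iff.2 (h₂.trans hnZ))) (hcomm.ge.trans ?_)
      rw [← (h.elem.sup_eq_of_two hp h₁ h₂ h₁p h₂p hne).sup]
      exact comm_sup_le ((h₁.trans h.le).trans hnn) ((h₂.trans h.le).trans hnn) le_sup_left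
        le_sup_right
    rw [he] at hnn
    exact hσ ⟨hq, (prime_dvd_card_of_isPGroup hq hQ.pgrp hQ1).trans (card_dvd_of_le hQ.le), Q, hQ,
      (norm_le_norm_center Q).trans (mmax_normal hM ⟨hZQ.trans hQ.le, hnn⟩
        (center_ne_bot (isNilpotent_of_isPGroup hq hQ.pgrp) hQ1)).le⟩
  have hd : q ∣ 𝐨(𝐙(Q) ⊓ 𝐂(A)) :=
    prime_dvd_card_of_isPGroup hq (hQ.pgrp.to_le (inf_le_left.trans hZQ)) hZ1
  by_cases hcyc : IsCyclic Q
  · refine H1.le_centralizer_of_abelian_of_prime_order (isMulComm_of_isCyclic hcyc) hn hc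
      fun v hv hvp => ?_
    obtain ⟨X, hX, hXq⟩ := exists_le_card_eq_prime hq hd
    have hvq : orderOf v = q := eq_of_prime_dvd_card_of_isPGroup hq hvp hQ.pgrp
      (orderOf_dvd_card_of_mem hv)
    have := eq_of_card_prime_of_isCyclic hq hcyc (zpowers_le.2 hv) (hX.trans (inf_le_left.trans hZQ))
      (by rw [Nat.card_zpowers, hvq]) hXq
    exact (hX.trans inf_le_right) (this ▸ mem_zpowers v)
  · obtain ⟨B, hB, hB2⟩ := (le_pRank_iff hq).1 (two_le_pRank_of_not_isCyclic hq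
      (ne_two_of_isPGroup hq hQ.pgrp hQ1) hQ.pgrp hcyc)
    obtain ⟨R, hR, hQR⟩ := exists_maxNormedPi_ge ((isPi_singleton_iff hq).2 hQ.pgrp) hn
    obtain ⟨P, -, hAP, -, -, hc⟩ := max_normed_elem2_signalizer hp hq hqp h.elem (maxElem h) hR
      (hd.trans (card_dvd_of_le inf_le_right))
    exact hAP.trans ((hc fun _ => ⟨B, hB2,
      (sigma'_rank2_max hM hq hσ (hB.trans hQ.le) hB2).1.of_le (hB.trans hQR) le_top⟩).trans
        (cent_anti hQR))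

end BG11

/-- BG 11.7. -/
theorem Exceptional.mul_sigma_normal {p : ℕ} {M A₀ A : Subgroup G} (h : Exceptional p M A₀ A) :
    M ≤ 𝐍(Ms M ⊔ A) := by
  have hp := h.prime
  have hM := h.max
  obtain ⟨P, hP, hAP⟩ := exists_isSyl_ge hp h.elem.pgrp h.le
  obtain ⟨E, hE, hPE⟩ := exists_hall_ge (mmax_isSolvable hM) hP.le (BG11.isPi h hP.pgrp)
  have hEM := hall_le hE
  have hs := isSolvable_of_le_mmax hM hEM
  suffices hn : E ≤ 𝐍(A) by
    refine (hall_sup_hall_compl (Ms_hall hM).1 hE).ge.trans (sup_le ?_ ?_)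
    · exact le_sup_left.trans (le_norm_self _)
    · exact H1.le_normalizer_sup (hEM.trans (Ms_normal M).2) hn
  have hr := (rank_mono (H2.fittingOf_le E)).trans (BG10.sigma'_rank_le hM hEM (hall_isPi hE))
  have hK := rank2_ge_core_hall hs (odd_card E) hr (p + 1)
  have hL := rank2_ge_core_hall hs (odd_card E) hr p
  have hKL : piCoreOf {q | p + 1 ≤ q} E ≤ piCoreOf {q | p ≤ q} E :=
    piCoreOf_mono (fun q (hq : p + 1 ≤ q) => show p ≤ q by omega) E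
  have hPL : P ≤ piCoreOf {q | p ≤ q} E :=
    le_piCoreOf_of_hall hL hPE (isPi_of_isPGroup hp hP.pgrp (show p ≤ p from le_rfl))
  have hPL' := hP.of_le hPL ((hall_le hL).trans hEM)
  have hK' : IsPiHallOf {p}ᶜ (piCoreOf {q | p + 1 ≤ q} E) (piCoreOf {q | p ≤ q} E) := by
    refine hall_congr (hall_of_le hK hKL (hall_le hL)) fun r hr hd => ?_
    have : p ≤ r := hall_isPi hL r hr hd
    simp only [Set.mem_setOf_eq, Set.mem_compl_iff, Set.mem_singleton_iff]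
    omega
  have hsup := hall_sup_hall_compl ((isSyl_iff_hall hp).1 hPL') hK'
  have hA := h.structure.1 P hP hAP
  have hKA : piCoreOf {q | p + 1 ≤ q} E ≤ 𝐂(A) := by
    refine le_of_forall_exists_isSyl_le fun q hq hd => ?_
    have hq' : p + 1 ≤ q := hall_isPi hK q hq hd
    obtain ⟨Q, hQ, -, hAQ⟩ := exists_invariant_isSyl hq
      ((hAP.trans hPE).trans (piCoreOf_normal _ E).2)
      (isPi_coprime ((isPi_singleton_iff hp).2 h.elem.pgrp) (hall_isPi hK'))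
      (Or.inl (isSolvable_of_le_mmax hM h.le)) IsPGroup.of_bot bot_le
      (by rw [norm_bot]; exact le_top)
    have hσ : q ∈ (sig M)ᶜ := hall_isPi hE q hq (hd.trans (card_dvd_of_le (hall_le hK)))
    exact ⟨Q, hQ, cent_comm.1 (BG11.le_cent_sylow h hq (by omega) hσ
      ((hQ.trans_hall hq hK hq').trans_hall hq hE hσ) hAQ)⟩
  have hAL : A ⊲ piCoreOf {q | p ≤ q} E := by
    refine ⟨hAP.trans hPL, hsup.ge.trans (sup_le ?_ (hKA.trans (cent_le_norm A)))⟩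
    rw [← hA]
    exact (omegaOne_normal p P).2
  have hΩ : omegaOne p (pCoreOf p (piCoreOf {q | p ≤ q} E)) = A :=
    le_antisymm ((omegaOne_mono (hPL'.pCoreOf_le hp)).trans hA.le)
      (le_omegaOne_of_elemAb (le_pCoreOf hAL h.elem.pgrp) h.elem.elemAb)
  rw [← hΩ]
  exact (piCoreOf_normal _ E).2.trans ((H2.normalizer_le_normalizer_pCoreOf p _).trans
    (norm_le_norm_omegaOne _ p))

end Cfsg.Agent.FT
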