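/-
BG section 12, results 12.1 - 12.6.
-/
import Cfsg.Agent.FT.BG11

set_option autoImplicit false

namespace Cfsg.Agent.FT

open Subgroup Cfsg Cfsg.Agent
open scoped commutatorElement

universe u

variable {G : Type u} [Group G] [Finite G]

namespace BG12a

/-- Subgroups of coprime orders commute in a nilpotent section. -/
theorem nilMod_comm_le {K N A B : Subgroup G} (h : NilMod K N) (hn : K ≤ 𝐍(N)) (hA : A ≤ K)
    (hB : B ≤ K) (hc : 𝐨(A).Coprime 𝐨(B)) : ⁅A, B⁆ ≤ N := by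
  haveI := H1.normal_subgroupOf_of_le hn
  exact (H1.bar_le_centralizer_iff hA hB).1 (le_cent_of_coprime_of_isNilpotent
    ((nilMod_iff_bar le_rfl).1 h) (H1.bar_mono hA) (H1.bar_mono hB) (H1.coprime_bar hc))

omit [Finite G] in
/-- If `N / C_N(K)` is abelian, `C_K(X)` and `[K, X]` are `N`-invariant for all `X ≤ N`. -/
theorem norm_cent_comm_of_der_cent {K X N : Subgroup G} (hX : X ≤ N) (hN : N ≤ 𝐍(K))
    (hd : ⁅N, N⁆ ≤ 𝐂(K)) : N ≤ 𝐍(K ⊓ 𝐂(X)) ∧ N ≤ 𝐍(⁅K, X⁆) := by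
  have hY : N ≤ 𝐍(X ⊔ ⁅N, N⁆) := le_norm_of_der_le le_sup_right (sup_le hX (der_le N))
  have h1 : K ⊓ 𝐂(X) = K ⊓ 𝐂(X ⊔ ⁅N, N⁆) := by
    rw [cent_sup, inf_comm 𝐂(X), ← inf_assoc, inf_eq_left.2 (cent_comm.1 hd)]
  have hKX : ⁅K, X⁆ ≤ K := comm_le_left_iff.2 (hX.trans hN)
  have h2 : ⁅K, X⁆ = ⁅K, X ⊔ ⁅N, N⁆⁆ := by
    refine le_antisymm (commutator_mono le_rfl le_sup_left) (comm_sup_le
      H1.le_normalizer_commutator_self ((hd.trans (cent_anti hKX)).trans (cent_le_norm _))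
      le_rfl ?_)
    rw [comm_eq_bot_iff.2 (cent_comm.1 hd)]
    exact bot_le
  exact ⟨h1 ▸ H1.le_normalizer_inf hN (H1.le_normalizer_centralizer hY),
    h2 ▸ H1.le_normalizer_commutator hN hY⟩

/-- Generation by the centralizers of the subgroups of order `p` of `A ∈ E_p^2`. -/
theorem le_of_elem2_cent {p : ℕ} (hp : p.Prime) {A K H : Subgroup G} (hA : IsElem p 2 A)
    (hn : A ≤ 𝐍(K)) (hc : ¬ p ∣ 𝐨(K))
    (h : ∀ X : Subgroup G, X ≤ A → 𝐨(X) = p → K ⊓ 𝐂(X) ≤ H) : K ≤ H := by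
  refine H1.le_of_forall_centralizer_le hA.comm (hA.not_isCyclic hp le_rfl) hn ?_ fun a ha h1 => ?_
  · rw [hA.card]
    exact Nat.Coprime.pow_left _ ((Nat.Prime.coprime_iff_not_dvd hp).2 hc)
  · rw [← cent_zpowers]
    exact h _ (zpowers_le.2 ha) (by rw [Nat.card_zpowers, elemAb_orderOf hp hA.elemAb ha h1])

theorem not_dvd_of_isPi {π : Set ℕ} {K : Subgroup G} (h : IsPiSubgroup π K) {p : ℕ} (hp : p.Prime)
    (hπ : p ∉ π) : ¬ p ∣ 𝐨(K) := fun hd => hπ (h p hp hd)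

theorem coprime_of_isPGroup {p : ℕ} (hp : p.Prime) {A K : Subgroup G} (hA : IsPGroup p A)
    (hK : ¬ p ∣ 𝐨(K)) : 𝐨(A).Coprime 𝐨(K) :=
  isPi_coprime ((isPi_singleton_iff hp).2 hA) ((isPi_compl_singleton_iff' hp).2 hK)

end BG12a

open BG12a

variable [MinOdd G]

theorem ex_sigma_compl {M F : Subgroup G} (hM : IsCoatom M) (hF : F ≤ M)
    (hπ : IsPiSubgroup (sig M)ᶜ F) : ∃ E : Subgroup G, IsPiHallOf (sig M)ᶜ E M ∧ F ≤ E :=
  exists_hall_ge (mmax_isSolvable hM) hF hπ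

theorem sdprod_sigma {M E : Subgroup G} (hM : IsCoatom M) (hE : IsPiHallOf (sig M)ᶜ E M) :
    SdProd (Ms M) E M :=
  sdProd_of_hall (Ms_hall hM).1 hE (Ms_normal M).2

/-- The primes of `M` outside `σ(M)` are partitioned by `τ₁, τ₂, τ₃`. -/
theorem partition_sigma_compl {M : Subgroup G} (hM : IsCoatom M) {p : ℕ} (hp : p.Prime)
    (hd : p ∣ 𝐨(M)) (hσ : p ∉ sig M) : p ∈ ta1 M ∨ p ∈ ta2 M ∨ p ∈ ta3 M := by
  have h1 := (pRank_pos_iff hp).2 hd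
  have h2 := sigma'_pRank_le hM hp hσ
  by_cases h : pRank p M = 2
  · exact Or.inr (Or.inl ⟨hp, hσ, h⟩)
  · rcases mem_ta13_iff.2 ⟨hp, hσ, by omega⟩ with h | h
    · exact Or.inl h
    · exact Or.inr (Or.inr h)

/-- For `p ∉ σ(M)`: `p ∣ |M'|` iff `p ∣ |E'|`, and `r_p(M) = r_p(E)`. -/
theorem sigma_compl_der {M E : Subgroup G} (hM : IsCoatom M) (hE : IsPiHallOf (sig M)ᶜ E M)
    {p : ℕ} (hp : p.Prime) (hσ : p ∉ sig M) :
    pRank p E = pRank p M ∧ (p ∣ 𝐨(⁅M, M⁆) ↔ p ∣ 𝐨(⁅E, E⁆)) := by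
  refine ⟨hall_pRank_eq hp hE hσ, fun h => ?_,
    fun h => h.trans (card_dvd_of_le (commutator_mono hE.1 hE.1))⟩
  have h1 := h.trans (card_dvd_of_le (sdprod_sigma hM hE).der_le_sup)
  rw [sup_comm] at h1
  have h2 := h1.trans (H1.card_sup_dvd (((der_le E).trans hE.1).trans (Ms_normal M).2))
  exact ((Nat.Prime.dvd_mul hp).1 h2).resolve_right (not_dvd_of_isPi (isPi_Ms M) hp hσ)

theorem BG12a.compl_partition {M E : Subgroup G} (hM : IsCoatom M) (hE : IsPiHallOf (sig M)ᶜ E M)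
    {p : ℕ} (hp : p.Prime) (hd : p ∣ 𝐨(E)) : p ∈ ta1 M ∨ p ∈ ta2 M ∨ p ∈ ta3 M :=
  partition_sigma_compl hM hp (hd.trans (card_dvd_of_le hE.1)) (hE.2.1 p hp hd)

theorem BG12a.isPi_der_tau2 {M E F : Subgroup G} (hM : IsCoatom M) (hE : IsPiHallOf (sig M)ᶜ E M)
    (hF : F ≤ E) (hπ : IsPiSubgroup (ta3 M)ᶜ F) : IsPiSubgroup (ta2 M) ⁅F, F⁆ := by
  intro p hp hd
  have h1 := hd.trans (card_dvd_of_le (der_le F))
  rcases compl_partition hM hE hp (h1.trans (card_dvd_of_le hF)) with h | h | h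
  · exact absurd (hd.trans (card_dvd_of_le (commutator_mono (hF.trans hE.1) (hF.trans hE.1))))
      h.2.2.2
  · exact h
  · exact absurd h (hπ p hp h1)

theorem ex_tau2_compl {M E E₁ E₃ : Subgroup G} (hM : IsCoatom M) (hE : IsPiHallOf (sig M)ᶜ E M)
    (h1 : IsPiHallOf (ta1 M) E₁ E) (h3 : IsPiHallOf (ta3 M) E₃ E) :
    ∃ E₂ : Subgroup G, SigmaCompl M E E₁ E₂ E₃ := by
  have hs := isSolvable_of_le_mmax hM hE.1
  obtain ⟨F, hF, hE₁⟩ := exists_hall_ge hs h1.1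
    (isPi_mono (disjoint_ta1_ta3 M).subset_compl_right (hall_isPi h1))
  obtain ⟨E₂, h2, hd⟩ := exists_hall_ge (H1.isSolvable_of_le hF.1 hs) (der_le F)
    (isPi_der_tau2 hM hE hF.1 (hall_isPi hF))
  exact ⟨E₂, hE, h1, hall_trans h2 hF (disjoint_ta2_ta3 M).subset_compl_right, h3,
    hE₁.trans (le_norm_of_der_le hd h2.1)⟩

theorem ex_tau13_compl {M E E₂ : Subgroup G} (hM : IsCoatom M) (hE : IsPiHallOf (sig M)ᶜ E M)
    (h2 : IsPiHallOf (ta2 M) E₂ E) : ∃ E₁ E₃ : Subgroup G, SigmaCompl M E E₁ E₂ E₃ := by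
  have hs := isSolvable_of_le_mmax hM hE.1
  obtain ⟨F, hF, hE₂⟩ := exists_hall_ge hs h2.1
    (isPi_mono (disjoint_ta2_ta3 M).subset_compl_right (hall_isPi h2))
  obtain ⟨E₁, h1⟩ := exists_hall (H1.isSolvable_of_le hF.1 hs) (ta1 M)
  obtain ⟨E₃, h3⟩ := exists_hall hs (ta3 M)
  have hd : ⁅F, F⁆ ≤ E₂ := le_hall_of_normal h2 ((der_le F).trans hF.1)
    (isPi_der_tau2 hM hE hF.1 (hall_isPi hF)) (hE₂.trans (der_normal F).2)
  exact ⟨E₁, E₃, hE, hall_trans h1 hF (disjoint_ta1_ta3 M).subset_compl_right, h2, h3,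
    h1.1.trans (le_norm_of_der_le hd hE₂)⟩

/-- BG 12.1(a). -/
theorem der_sigma_compl_nil {M E : Subgroup G} (hM : IsCoatom M) (hE : IsPiHallOf (sig M)ᶜ E M) :
    Group.IsNilpotent ↥⁅E, E⁆ :=
  ((Ma_quo_nil hM).mono (commutator_mono hE.1 hE.1) (Ma_le_Ms hM)).isNilpotent_of_disj
    (isPi_disjoint (isPi_Ms M) (isPi_of_le (der_le E) (hall_isPi hE)))

theorem BG12a.tau3_le_der {M E X : Subgroup G} (hM : IsCoatom M) (hE : IsPiHallOf (sig M)ᶜ E M)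
    (hX : X ≤ E) (h : IsPiSubgroup (ta3 M) X) : X ≤ ⁅E, E⁆ := by
  refine le_of_forall_exists_isSyl_le fun p hp hd => ?_
  have h3 := h p hp hd
  obtain ⟨P, hP⟩ := exists_isSyl hp X
  obtain ⟨S, hS, hPS⟩ := exists_isSyl_ge hp hP.pgrp (hP.le.trans hX)
  have hc : IsCyclic S := isCyclic_of_pRank_le_one hp (ne_two_of_dvd_card hd) hS.pgrp
    ((pRank_mono hp (hS.le.trans hE.1)).trans h3.2.2.1.le)
  refine ⟨P, hP, hPS.trans ((cyclic_sylow_ti_or_le_der hp hS hc).resolve_left ?_)⟩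
  exact (hS.inf_normal hp (der_normal E)).ne_bot hp
    ((sigma_compl_der hM hE hp h3.2.1).2.1 h3.2.2.2)

/-- Sylow subgroups for primes in `τ₁ ∪ τ₃` are cyclic; Hall `τ₁`- and `τ₃`-subgroups are cyclic. -/
theorem tau13_cyclic {M E X : Subgroup G} (hM : IsCoatom M) (hE : IsPiHallOf (sig M)ᶜ E M)
    (hX : X ≤ E) (h : IsPiSubgroup (ta1 M) X ∨ IsPiSubgroup (ta3 M) X) : IsCyclic X := by
  have hr : rank X ≤ 1 := rank_le_iff.2 fun p hp => by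
    by_cases hd : p ∣ 𝐨(X)
    · refine (pRank_mono hp (hX.trans hE.1)).trans (pRank_eq_one_of_ta13 ?_).le
      exact h.imp (fun h => h p hp hd) fun h => h p hp hd
    · rw [(pRank_eq_zero_iff hp).2 hd]; exact zero_le_one
  refine isCyclic_of_rank_le_one (odd_card X) ?_ hr
  rcases h with h | h
  · refine isNilpotent_of_isMulComm (isMulComm_iff_comm_eq_bot.2 ?_)
    by_contra h1
    obtain ⟨p, hp, hd⟩ := exists_prime_dvd_card h1
    exact (h p hp (hd.trans (card_dvd_of_le (der_le X)))).2.2.2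
      (hd.trans (card_dvd_of_le (commutator_mono (hX.trans hE.1) (hX.trans hE.1))))
  · exact isNilpotent_of_le (tau3_le_der hM hE hX h) (der_sigma_compl_nil hM hE)

/-- BG 12.1(b)-(f). -/
theorem SigmaCompl.context {M E E₁ E₂ E₃ : Subgroup G} (hM : IsCoatom M)
    (h : SigmaCompl M E E₁ E₂ E₃) :
    (E₃ ≤ ⁅E, E⁆ ∧ E₃ ⊲ E) ∧ (E₂ = ⊥ → E₁ ≠ ⊥) ∧ (IsCyclic E₁ ∧ IsCyclic E₃) ∧
      (SdProd E₃ (E₂ ⊔ E₁) E ∧ SdProd (E₃ ⊔ E₂) E₁ E ∧ SdProd E₂ E₁ (E₂ ⊔ E₁) ∧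
        SdProd E₃ E₂ (E₃ ⊔ E₂)) ∧ E₃ ⊓ 𝐂(E) = ⊥ := by
  obtain ⟨hE, h1, h2, h3, hn⟩ := h
  have hs := isSolvable_of_le_mmax hM hE.1
  have h3d : E₃ ≤ ⁅E, E⁆ := tau3_le_der hM hE h3.1 (hall_isPi h3)
  have h3n : E ≤ 𝐍(E₃) := (der_normal E).2.trans (norm_le_norm_hall_of_isNilpotent
    (der_sigma_compl_nil hM hE) (hall_of_le h3 h3d (der_le E)))
  have hc1 := tau13_cyclic hM hE h1.1 (Or.inl (hall_isPi h1))
  have hc3 := tau13_cyclic hM hE h3.1 (Or.inr (hall_isPi h3))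
  have hsup : E₃ ⊔ (E₂ ⊔ E₁) = E := by
    refine le_antisymm (sup_le h3.1 (sup_le h2.1 h1.1)) (le_of_forall_exists_isSyl_le ?_)
    intro p hp hd
    rcases compl_partition hM hE hp hd with h | h | h
    · obtain ⟨P, hP⟩ := exists_isSyl hp E₁
      exact ⟨P, hP.trans_hall hp h1 h, hP.le.trans (le_sup_right.trans le_sup_right)⟩
    · obtain ⟨P, hP⟩ := exists_isSyl hp E₂
      exact ⟨P, hP.trans_hall hp h2 h, hP.le.trans (le_sup_left.trans le_sup_right)⟩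
    · obtain ⟨P, hP⟩ := exists_isSyl hp E₃
      exact ⟨P, hP.trans_hall hp h3 h, hP.le.trans le_sup_left⟩
  have hπ21 : IsPiSubgroup (ta3 M)ᶜ (E₂ ⊔ E₁) := by
    rw [sup_comm]
    exact isPi_sup (isPi_mono (disjoint_ta1_ta3 M).subset_compl_right (hall_isPi h1))
      (isPi_mono (disjoint_ta2_ta3 M).subset_compl_right (hall_isPi h2)) hn
  have hπ32 : IsPiSubgroup (ta1 M)ᶜ (E₃ ⊔ E₂) := by
    rw [sup_comm]
    exact isPi_sup (isPi_mono (disjoint_ta1_ta2 M).subset_compl_left (hall_isPi h2))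
      (isPi_mono (disjoint_ta1_ta3 M).subset_compl_left (hall_isPi h3)) (h2.1.trans h3n)
  have hsd : SdProd E₃ (E₂ ⊔ E₁) E :=
    ⟨hsup, (sup_le h2.1 h1.1).trans h3n, isPi_disjoint (hall_isPi h3) hπ21⟩
  refine ⟨⟨h3d, h3.1, h3n⟩, ?_, ⟨hc1, hc3⟩, ⟨hsd, ⟨by rw [sup_assoc, hsup],
    H1.le_normalizer_sup (h1.1.trans h3n) hn, by
      rw [inf_comm]; exact isPi_disjoint (hall_isPi h1) hπ32⟩,
    sdProd_of_coprime hn (isPi_coprime' (hall_isPi h2) (hall_isPi h1) (disjoint_ta1_ta2 M).symm),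
    sdProd_of_coprime (h2.1.trans h3n)
      (isPi_coprime' (hall_isPi h3) (hall_isPi h2) (disjoint_ta2_ta3 M).symm)⟩, ?_⟩
  · rintro rfl rfl
    rw [sup_idem, sup_bot_eq] at hsup
    have hE1 : E = ⊥ := by
      by_contra h
      exact (H1.commutator_lt_of_isSolvable hs h).not_ge (hsup ▸ h3d)
    have := (sdprod_sigma hM hE).sup
    rw [hE1, sup_bot_eq] at this
    exact (H1.commutator_lt_of_isSolvable (mmax_isSolvable hM) (mmax_ne_bot hM)).not_ge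
      (this.ge.trans (Ms_le_der hM))
  · have := (coprime_der_sdprod hsd (isPi_coprime (hall_isPi h3) hπ21)
      (H1.isSolvable_of_le h3.1 hs) h3d).2
    rw [isMulComm_iff_comm_eq_bot.1 (isMulComm_of_isCyclic hc3)] at this
    exact eq_bot_iff.2 ((inf_le_inf_left _ (cent_anti hsd.le_right)).trans this)

/-- BG 12.2(a). -/
theorem prime_class_mmax_norm {M X : Subgroup G} (hM : IsCoatom M) {p : ℕ} (hp : p.Prime)
    (hX : IsPGroup p X) (hN : 𝐍(X) ≤ M) : p ∈ sig M ∨ p ∈ ta2 M :=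
  (em _).imp_right fun h => ⟨hp, h, sigma'_norm_mmax_rank2 hM hp h hX hN⟩

/-- BG 12.2(b). -/
theorem mmax_norm_not_conj {M X Mst : Subgroup G} (hM : IsCoatom M) (hMst : IsCoatom Mst) {p : ℕ}
    (hp : p.Prime) (hX : IsPGroup p X) (hXM : X ≤ M) (hN : 𝐍(X) ≤ Mst)
    (h : (p ∈ sig M ∧ M ≠ Mst) ∨ p ∈ ta1 M ∨ p ∈ ta3 M) : ¬ Conj M Mst := by
  rintro ⟨g, rfl⟩
  rcases h with ⟨h, hne⟩ | h
  · obtain ⟨c, hc, he⟩ := sigma_group_trans' hM h hX (g := 1) (h := g) (by rwa [conj_one])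
      (le_normalizer.trans hN)
    rw [conj_one] at he
    have h1 : c ∈ M ^ᵍ c := he ▸ hN (cent_le_norm X hc)
    rw [mem_conj, inv_mul_cancel, one_mul] at h1
    exact hne (by rw [he, conj_eq_of_mem h1])
  · have h1 := prime_class_mmax_norm hMst hp hX hN
    rw [sig_conj, ta2_conj] at h1
    have h2 := mem_ta13_iff.1 h
    rcases h1 with h1 | h1
    · exact h2.2.1 h1
    · have := h1.2.2; omega

/-- BG 12.3. -/
theorem nonuniq_elem2_cent_sigma {M Mst A A₀ : Subgroup G} (hM : IsCoatom M)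
    (hMst : IsCoatom Mst) (hne : Mst ≠ M) {p : ℕ} (hp : p.Prime) (hA : A ≤ M) (hA2 : IsElem p 2 A)
    (hA₀ : A₀ ≤ A) (hA₀p : 𝐨(A₀) = p) (hN : 𝐍(A₀) ≤ Mst) :
    (p ∉ sig M → A ≤ 𝐂(Ms M ⊓ Mst)) ∧ (p ∉ alp M → A ≤ 𝐂(Ma M ⊓ Mst)) := by
  have hAst : A ≤ Mst := ((hA2.le_cent.trans (cent_anti hA₀)).trans (cent_le_norm _)).trans hN
  have hns : A ≤ 𝐍(Ms M ⊓ Mst) :=
    H1.le_normalizer_inf (hA.trans (Ms_normal M).2) (hAst.trans le_normalizer)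
  have hna : A ≤ 𝐍(Ma M ⊓ Mst) :=
    H1.le_normalizer_inf (hA.trans (Ma_normal M).2) (hAst.trans le_normalizer)
  by_cases hσ : p ∈ sig Mst
  · have hnc : ¬ Conj M Mst := by
      by_cases h : p ∈ sig M
      · exact mmax_norm_not_conj hM hMst hp (isPGroup_of_card_prime hA₀p) (hA₀.trans hA) hN
          (Or.inl ⟨h, hne.symm⟩)
      · rintro ⟨g, rfl⟩
        exact h (sig_conj M g ▸ hσ)
    have hAs : A ≤ Ms Mst :=
      le_piCoreOf_of_hall (Ms_hall hMst).1 hAst (isPi_of_isPGroup hp hA2.pgrp hσ)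
    have hcs : ∀ K : Subgroup G, K ≤ Mst → ⁅K, A⁆ ≤ Ms Mst := fun K hK =>
      (commutator_mono le_rfl hAs).trans (comm_le_right_iff.2 (hK.trans (Ms_normal Mst).2))
    constructor
    · intro h
      have hK : ¬ p ∣ 𝐨(Ms M ⊓ Mst) := not_dvd_of_isPi (isPi_of_le inf_le_left (isPi_Ms M)) hp h
      have h1 : ⁅Ms M ⊓ Mst, A⁆ ≤ Ms M ⊓ Mst := comm_le_left_iff.2 hns
      have h2 : ⁅⁅Ms M ⊓ Mst, A⁆, A⁆ ≤ Ma Mst := nilMod_comm_le (Ma_quo_nil hMst)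
        ((der_le Mst).trans (Ma_normal Mst).2) ((hcs _ inf_le_right).trans (Ms_le_der hMst))
        (hAs.trans (Ms_le_der hMst))
        (coprime_of_isPGroup hp hA2.pgrp fun hd => hK (hd.trans (card_dvd_of_le h1))).symm
      rw [H1.commutator_commutator_eq hns (coprime_of_isPGroup hp hA2.pgrp hK)] at h2
      refine H1.commutator_eq_bot_iff_le_centralizer'.1 (eq_bot_iff.2 ?_)
      rw [← (sigma_disjoint hMst hM fun h => hnc h.symm).1]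
      exact le_inf h2 (h1.trans inf_le_left)
    · intro _
      refine H1.commutator_eq_bot_iff_le_centralizer'.1 (eq_bot_iff.2 ?_)
      rw [← (sigma_disjoint hM hMst hnc).1]
      exact le_inf ((comm_le_left_iff.2 hna).trans inf_le_left) (hcs _ inf_le_right)
  · have hex : Exceptional p Mst A₀ A := ⟨hp, hMst, hσ, hA₀p, hA₀, hN, hAst, hA2⟩
    have hd : Ms M ⊓ Ms Mst = ⊥ := by
      by_contra h
      exact hne (hex.sigma_uniq hM hA h).symm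
    have key : ∀ K : Subgroup G, K ≤ Ms M ⊓ Mst → A ≤ 𝐍(K) → ¬ p ∣ 𝐨(K) → A ≤ 𝐂(K) := by
      intro K hK hn hc
      have h1 : ⁅K, A⁆ ≤ K := comm_le_left_iff.2 hn
      have h2 : ⁅K, A⁆ ≤ Ms Mst ⊔ A := (commutator_mono le_rfl le_sup_right).trans
        (comm_le_right_iff.2 ((hK.trans inf_le_right).trans hex.mul_sigma_normal))
      have h3 := (hall_of_sup (hAst.trans (Ms_normal Mst).2) ((isPi_singleton_iff hp).2 hA2.pgrp)
        ((isPi_compl_singleton_iff' hp).2 (not_dvd_of_isPi (isPi_Ms Mst) hp hσ))).2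
      have h4 : ⁅K, A⁆ ≤ Ms Mst := le_of_hall_normal h3
        (sup_le le_normalizer (hAst.trans (Ms_normal Mst).2)) h2
        ((isPi_compl_singleton_iff' hp).2 fun h => hc (h.trans (card_dvd_of_le h1)))
      refine H1.commutator_eq_bot_iff_le_centralizer'.1 (eq_bot_iff.2 ?_)
      rw [← hd]
      exact le_inf (h1.trans (hK.trans inf_le_left)) h4
    exact ⟨fun h => key _ le_rfl hns (not_dvd_of_isPi (isPi_of_le inf_le_left (isPi_Ms M)) hp h),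
      fun h => key _ (inf_le_inf_right _ (Ma_le_Ms hM)) hna
        (not_dvd_of_isPi (isPi_of_le inf_le_left (isPi_Ma M)) hp h)⟩

/-- BG 12.4. -/
theorem elem2_mmax {M A : Subgroup G} (hM : IsCoatom M) {p : ℕ} (hp : p.Prime) (hA : A ≤ M)
    (hA2 : IsElem p 2 A) :
    𝐂(A) ≤ M ∧ ((∀ A₀ : Subgroup G, A₀ ≤ A → 𝐨(A₀) = p → ¬ UniqMax 𝐍(A₀) M) →
      p ∈ sig M ∧ Ma M = ⊥ ∧ Group.IsNilpotent (Ms M)) := by
  by_cases hu : ∀ A₀ : Subgroup G, A₀ ≤ A → 𝐨(A₀) = p → ¬ UniqMax 𝐍(A₀) M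
  swap
  · refine ⟨?_, fun h => absurd h hu⟩
    push Not at hu
    obtain ⟨A₀, h1, -, h2⟩ := hu
    exact ((cent_anti h1).trans (cent_le_norm _)).trans h2.le
  have key : ∀ X : Subgroup G, X ≤ A → 𝐨(X) = p → rank (M ⊓ 𝐂(X)) ≤ 2 ∧
      (p ∉ sig M → Ms M ⊓ 𝐂(X) ≤ 𝐂(A)) ∧ (p ∉ alp M → Ma M ⊓ 𝐂(X) ≤ 𝐂(A)) := by
    intro X hX hXp
    obtain ⟨H, hH, hNH, hne⟩ : ∃ H, IsCoatom H ∧ 𝐍(X) ≤ H ∧ H ≠ M := by
      obtain ⟨H, hH, hNH⟩ := mmax_exists (norm_ne_top_of_isPGroup hp (isPGroup_of_card_prime hXp)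
        (ne_bot_of_card_prime (hXp ▸ hp)))
      by_cases h : H = M
      · exact exists_mmax_ne_of_not_uniqMax hM (h ▸ hNH) (hu X hX hXp)
      · exact ⟨H, hH, hNH, h⟩
    have hCH : 𝐂(X) ≤ H := (cent_le_norm X).trans hNH
    obtain ⟨h1, h2⟩ := nonuniq_elem2_cent_sigma hM hH hne hp hA hA2 hX hXp hNH
    refine ⟨?_, fun h => (inf_le_inf_left _ hCH).trans (cent_comm.1 (h1 h)),
      fun h => (inf_le_inf_left _ hCH).trans (cent_comm.1 (h2 h))⟩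
    by_contra! h
    exact hne ((rank3_uniq (ne_top_of_le_mmax hM inf_le_left) h).eq hH (inf_le_right.trans hCH)
      hM inf_le_left)
  have hσ : p ∈ sig M := by
    by_contra h
    have h1 : Ms M ≤ 𝐂(A) := le_of_elem2_cent hp hA2 (hA.trans (Ms_normal M).2)
      (not_dvd_of_isPi (isPi_Ms M) hp h) fun X hX hXp => (key X hX hXp).2.1 h
    have h2 := sigma'_cent_rank1 hM hA (isPi_of_isPGroup hp hA2.pgrp h)
    rw [inf_eq_left.2 (cent_comm.1 h1)] at h2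
    have := (le_pRank hp le_rfl hA2).trans (pRank_le_rank hp A)
    omega
  have hAs : A ≤ Ms M := le_piCoreOf_of_hall (Ms_hall hM).1 hA (isPi_of_isPGroup hp hA2.pgrp hσ)
  obtain ⟨P, hP, hAP⟩ := exists_isSyl_ge hp hA2.pgrp hAs
  have hPM : P ≤ M := hP.le.trans (Ms_le M)
  have hP1 : P ≠ ⊥ := fun h => hA2.ne_bot hp two_ne_zero (eq_bot_iff.2 (h ▸ hAP))
  obtain ⟨X₀, hX₀, hX₀p⟩ := exists_le_card_eq_prime hp (hA2.prime_dvd two_ne_zero)
  have hZA : omegaOne p 𝐙(P) ≤ A := by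
    have h1 : IsMaxElem p A (M ⊓ 𝐂(X₀)) := isMaxElem_of_pRank_le hp
      (le_inf hA (hA2.le_cent.trans (cent_anti hX₀))) hA2
      ((pRank_le_rank hp _).trans (key X₀ hX₀ hX₀p).1)
    have h2 : omegaOne p 𝐙(P) ≤ 𝐂(A) :=
      (omegaOne_le _ _).trans (inf_le_right.trans (cent_anti hAP))
    exact h1.le_of_cent (le_inf ((omegaOne_le _ _).trans (inf_le_left.trans hPM))
      (h2.trans (cent_anti hX₀))) h2 (elemAb_omegaOne (isMulComm_center P)).2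
  have hZp : p ∣ 𝐨(𝐙(P)) := prime_dvd_card_of_isPGroup hp (hP.pgrp.to_le inf_le_left)
    (center_ne_bot (isNilpotent_of_isPGroup hp hP.pgrp) hP1)
  have hZ1 := omegaOne_ne_bot hp hZp
  obtain ⟨X, hX, hXp⟩ := exists_le_card_eq_prime hp (prime_dvd_card_of_isPGroup hp
    (isPGroup_omegaOne (hP.pgrp.to_le (inf_le_left : 𝐙(P) ≤ P))) hZ1)
  have hr := (key X (hX.trans hZA) hXp).1
  have hα : p ∉ alp M := by
    intro h
    have h1 : pRank p P = pRank p M := (hP.trans_hall hp (Ms_hall hM).1 hσ).pRank_eq hp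
    have h2 : pRank p P ≤ pRank p (M ⊓ 𝐂(X)) := pRank_mono hp (le_inf hPM (cent_comm.1
      (hX.trans ((omegaOne_le _ _).trans inf_le_right))))
    have h3 := pRank_le_rank hp (M ⊓ 𝐂(X))
    have := h.2
    omega
  have hMa : Ma M = ⊥ := by
    have h1 : Ma M ≤ 𝐂(A) := le_of_elem2_cent hp hA2 (hA.trans (Ma_normal M).2)
      (not_dvd_of_isPi (isPi_Ma M) hp hα) fun X hX hXp => (key X hX hXp).2.2 hα
    by_contra h
    obtain ⟨q, hq, hd⟩ := exists_prime_dvd_card h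
    have h2 := isPi_Ma M q hq hd
    have h3 := hall_pRank_eq hq (Ma_hall hM).1 h2
    have h4 : pRank q (Ma M) ≤ pRank q (M ⊓ 𝐂(X)) :=
      pRank_mono hq (le_inf (Ma_le M) (h1.trans (cent_anti (hX.trans hZA))))
    have h5 := pRank_le_rank hq (M ⊓ 𝐂(X))
    have := h2.2
    omega
  have hnil : Group.IsNilpotent (Ms M) :=
    isNilpotent_of_le (Ms_le_der hM) (nilMod_bot_iff.1 (hMa ▸ Ma_quo_nil hM))
  refine ⟨(cent_anti hZA).trans (cent_le_mmax_of_normal hM ⟨hZA.trans hA, ?_⟩ hZ1),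
    fun _ => ⟨hσ, hMa, hnil⟩⟩
  exact (((Ms_normal M).2.trans (hP.norm_le_of_isNilpotent hp hnil)).trans
    (norm_le_norm_center P)).trans (norm_le_norm_omegaOne _ p)

theorem BG12a.tau2_exceptional {M A : Subgroup G} (hM : IsCoatom M) {p : ℕ} (hp : p ∈ ta2 M)
    (hA : A ≤ M) (hA2 : IsElem p 2 A) : ∃ A₀, Exceptional p M A₀ A := by
  by_contra h
  refine hp.2.1 ((elem2_mmax hM hp.1 hA hA2).2 fun A₀ h1 h2 h3 => h ⟨A₀, ?_⟩).1
  exact ⟨hp.1, hM, hp.2.1, h2, h1, h3.le, hA, hA2⟩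

/-- BG 12.5(a). -/
theorem tau2_Ms_nil {M : Subgroup G} (hM : IsCoatom M) {p : ℕ} (hp : p ∈ ta2 M) :
    Group.IsNilpotent (Ms M) := by
  obtain ⟨A, hA, hA2⟩ := (le_pRank_iff hp.1).1 hp.2.2.ge
  obtain ⟨A₀, h⟩ := tau2_exceptional hM hp hA hA2
  exact h.sigma_nil

/-- BG 12.5(b)-(f). -/
theorem tau2_context {M A : Subgroup G} (hM : IsCoatom M) {p : ℕ} (hp : p ∈ ta2 M) (hA : A ≤ M)
    (hA2 : IsElem p 2 A) :
    (∀ P : Subgroup G, IsSyl p P M →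
        IsMulCommutative P ∧ ¬ 𝐍(P) ≤ M ∧ (A ≤ P → omegaOne p P = A)) ∧
      M ≤ 𝐍(Ms M ⊔ A) ∧ Ms M ⊓ 𝐂(A) = ⊥ ∧
      (∀ Mst : Subgroup G, IsCoatom Mst → A ≤ Mst → Mst ≠ M → Ms M ⊓ Mst = ⊥) ∧
      ∃ A₁ : Subgroup G, A₁ ≤ A ∧ 𝐨(A₁) = p ∧ Ms M ⊓ 𝐂(A₁) = ⊥ := by
  obtain ⟨A₀, h⟩ := tau2_exceptional hM hp hA hA2
  obtain ⟨h1, h2, A₁, -, h3, h4, -, -, -, h5, -⟩ := h.structure
  refine ⟨fun P hP => ⟨h.sylow_abelian hP,
    fun hN => hp.2.1 ⟨hp.1, (ta2_subset_piOf M hp).2, P, hP, hN⟩, h1 P hP⟩, h.mul_sigma_normal, h2,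
    fun Mst hMst hAst hne => ?_, A₁, h3, h4, h5⟩
  suffices hc : A ≤ 𝐂(Ms M ⊓ Mst) from
    eq_bot_iff.2 (h2 ▸ le_inf inf_le_left (cent_comm.1 hc))
  by_cases hu : ∀ A₀ : Subgroup G, A₀ ≤ A → 𝐨(A₀) = p → ¬ UniqMax 𝐍(A₀) Mst
  · obtain ⟨hσ, -, hnil⟩ := (elem2_mmax hMst hp.1 hAst hA2).2 hu
    have hAs : A ≤ Ms Mst :=
      le_piCoreOf_of_hall (Ms_hall hMst).1 hAst (isPi_of_isPGroup hp.1 hA2.pgrp hσ)
    have hAO : A ≤ piCoreOf {p} (Ms Mst) :=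
      le_piCoreOf_of_isNilpotent hnil hAs ((isPi_singleton_iff hp.1).2 hA2.pgrp)
    refine H1.commutator_eq_bot_iff_le_centralizer'.1 (eq_bot_iff.2 ?_)
    rw [← isPi_disjoint (isPi_piCoreOf {p} (Ms Mst)) ((isPi_compl_singleton_iff' hp.1).2
      (not_dvd_of_isPi (isPi_Ms M) hp.1 hp.2.1))]
    refine le_inf ((commutator_mono le_rfl hAO).trans (comm_le_right_iff.2 ?_)) ?_
    · exact (inf_le_right.trans (Ms_normal Mst).2).trans (norm_le_norm_piCoreOf _ _)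
    · exact (commutator_mono inf_le_left le_rfl).trans
        (comm_le_left_iff.2 (hA.trans (Ms_normal M).2))
  · push Not at hu
    obtain ⟨A₀, h1, h2, h3⟩ := hu
    exact (nonuniq_elem2_cent_sigma hM hMst hne hp.1 hA hA2 h1 h2 h3.le).1 hp.2.1

/-- BG 12.6(a)-(c). -/
theorem tau2_compl_context {M E A : Subgroup G} (hM : IsCoatom M) (hE : IsPiHallOf (sig M)ᶜ E M)
    {p : ℕ} (hp : p ∈ ta2 M) (hA : A ≤ E) (hA2 : IsElem p 2 A) :
    (A ⊲ E ∧ ∀ X : Subgroup G, X ≤ E → 𝐨(X) = p → X ≤ A) ∧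
      (𝐂(A) ≤ E ∧ M ⊓ 𝐍(A) = E ∧ ¬ 𝐍(A) ≤ M) ∧
      ∀ X : Subgroup G, X ≤ A → 𝐨(X) = p → Ms M ⊓ 𝐂(X) ≠ ⊥ → UniqMax 𝐂(X) M := by
  have hAM := hA.trans hE.1
  obtain ⟨h1, h2, h3, h4, -⟩ := tau2_context hM hp hAM hA2
  have hsd := sdprod_sigma hM hE
  have hn : E ≤ 𝐍(A) := by
    have : (Ms M ⊔ A) ⊓ E = A := by
      rw [sup_inf_of_le_right (hAM.trans (Ms_normal M).2) hA, hsd.disj, bot_sup_eq]
    rw [← this]
    exact H1.le_normalizer_inf (hE.1.trans h2) le_normalizer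
  have hNA : M ⊓ 𝐍(A) = E := by
    have h5 : Ms M ⊓ 𝐍(A) = ⊥ := by
      rw [H1.inf_normalizer_eq_inf_centralizer (hAM.trans (Ms_normal M).2), h3]
      exact eq_bot_iff.2 (hsd.disj ▸ le_inf inf_le_right (inf_le_left.trans hA))
    conv_lhs => rw [← hsd.sup]
    rw [sup_inf_of_le_right hsd.norm hn, h5, bot_sup_eq]
  refine ⟨⟨⟨hA, hn⟩, fun X hX hXp => ?_⟩, ⟨?_, hNA, fun h => ?_⟩, fun X hX hXp hC => ?_⟩
  · obtain ⟨P, hP, hle⟩ := exists_isSyl_ge hp.1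
      (isPGroup_sup (isPGroup_of_card_prime hXp) hA2.pgrp (hX.trans hn))
      (sup_le (hX.trans hE.1) hAM)
    rw [← (h1 P hP).2.2 (le_sup_right.trans hle)]
    exact le_omegaOne_of_elemAb (le_sup_left.trans hle) (elemAb_of_card_prime hp.1 hXp)
  · rw [← hNA]
    exact le_inf (elem2_mmax hM hp.1 hAM hA2).1 (cent_le_norm A)
  · obtain ⟨P, hP, hle⟩ := exists_isSyl_ge hp.1 hA2.pgrp hAM
    refine (h1 P hP).2.1 (le_trans ?_ h)
    rw [← (h1 P hP).2.2 hle]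
    exact norm_le_norm_omegaOne P p
  · have key : ∀ L : Subgroup G, IsCoatom L → 𝐂(X) ≤ L → L = M := by
      intro L hL hCL
      by_contra hne
      exact hC (eq_bot_iff.2 (h4 L hL ((hA2.le_cent.trans (cent_anti hX)).trans hCL) hne ▸
        inf_le_inf_left _ hCL))
    obtain ⟨L, hL, hCL⟩ := mmax_exists (cent_ne_top (ne_bot_of_card_prime (hXp ▸ hp.1)))
    exact ⟨hM, key L hL hCL ▸ hCL, key⟩

/-- BG 12.6(d)-(f). -/
theorem tau2_regular {M E E₁ E₂ E₃ A : Subgroup G} (hM : IsCoatom M)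
    (h : SigmaCompl M E E₁ E₂ E₃) {p : ℕ} (hp : p ∈ ta2 M) (hA : A ≤ E) (hA2 : IsElem p 2 A) :
    SemiReg (Ms M) E₃ ∧ SemiReg (Ms M) (E₁ ⊓ 𝐂(A)) ∧
      ∀ Mst : Subgroup G, IsCoatom Mst → ¬ Conj M Mst →
        Ms M ⊓ Ms Mst = ⊥ ∧ Disjoint (sig M) (sig Mst) := by
  have hE := h.hall
  have key : ∀ X : Subgroup G, X ≤ E → X ≤ 𝐂(A) → 𝐨(X).Prime → (𝐨(X) ∈ ta1 M ∨ 𝐨(X) ∈ ta3 M) →
      Ms M ⊓ 𝐂(X) = ⊥ := by
    intro X hX hXA hq hτ
    obtain ⟨L, hL, hNL⟩ := mmax_exists (norm_ne_top_of_isPGroup hq (isPGroup_of_card_prime rfl)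
      (ne_bot_of_card_prime hq))
    have hnc := mmax_norm_not_conj hM hL hq (isPGroup_of_card_prime rfl) (hX.trans hE.1) hNL
      (Or.inr hτ)
    have hCL := (cent_le_norm X).trans hNL
    have := (tau2_context hM hp (hA.trans hE.1) hA2).2.2.2.1 L hL ((cent_comm.1 hXA).trans hCL)
      (fun e => hnc (e ▸ Conj.refl _))
    exact eq_bot_iff.2 (this ▸ inf_le_inf_left _ hCL)
  refine ⟨semiReg_of_prime fun X hX hq => key X (hX.trans h.hall3.1) (hX.trans ?_) hq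
    (Or.inr (hall_isPi h.hall3 _ hq (card_dvd_of_le hX))),
    semiReg_of_prime fun X hX hq => key X (hX.trans (inf_le_left.trans h.hall1.1))
      (hX.trans inf_le_right) hq
      (Or.inl (hall_isPi h.hall1 _ hq (card_dvd_of_le (hX.trans inf_le_left)))),
    fun Mst hMst hn => (sigma_disjoint hM hMst hn).2.2 (tau2_Ms_nil hM hp)⟩
  exact le_cent_of_norm_of_coprime
    (h.hall3.1.trans (tau2_compl_context hM hE hp hA hA2).1.1.2) (hA.trans (h.context hM).1.2.2)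
    (isPi_coprime' (isPi_of_isPGroup hp.1 hA2.pgrp hp) (hall_isPi h.hall3) (disjoint_ta2_ta3 M))

end Cfsg.Agent.FT
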