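/-
BG section 12, results 12.7 and 12.8.
-/
import Cfsg.Agent.FT.P.BG12a_1

set_option autoImplicit false

namespace Cfsg.Agent.FT

open Subgroup Cfsg Cfsg.Agent
open scoped commutatorElement

universe u

variable {G : Type u} [Group G] [Finite G]

open BG12a

theorem BG12a.isSyl_not_comm {p : ℕ} (hp : p.Prime) {P₀ S : Subgroup G} (hP₀ : IsPGroup p P₀)
    (hna : ¬ IsMulCommutative P₀) (hS : IsSyl p S ⊤) : ¬ IsMulCommutative S := by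
  intro h
  obtain ⟨g, -, hg⟩ := hS.exists_conj_le hp hP₀ le_top
  exact hna ((isMulComm_map_iff (conj_injective g)).1 (isMulComm_of_le hg h))

variable [MinOdd G]

/-- BG 12.7(a). -/
theorem BG12a.tau2_eq_singleton {M E A P₀ : Subgroup G} (hM : IsCoatom M)
    (hE : IsPiHallOf (sig M)ᶜ E M) {p : ℕ} (hp : p ∈ ta2 M) (hA : A ≤ E) (hA2 : IsElem p 2 A)
    (hP₀ : IsPGroup p P₀) (hna : ¬ IsMulCommutative P₀) : ta2 M = {p} := by
  refine Set.eq_singleton_iff_unique_mem.2 ⟨hp, fun q hq => ?_⟩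
  by_contra hqp
  obtain ⟨B, hB, hB2⟩ := (le_pRank_iff hq.1).1
    ((sigma_compl_der hM hE hq.1 hq.2.1).1.trans hq.2.2).ge
  obtain ⟨⟨hAn, -⟩, -⟩ := tau2_compl_context hM hE hp hA hA2
  obtain ⟨⟨hBn, -⟩, ⟨hCB, -⟩, -⟩ := tau2_compl_context hM hE hq hB hB2
  have hBA : B ≤ 𝐂(A) := le_cent_of_norm_of_coprime (hB.trans hAn.2) (hA.trans hBn.2)
    (coprime_card_of_isPGroup hp.1 hq.1 (Ne.symm hqp) hA2.pgrp hB2.pgrp)
  obtain ⟨Q, hQ, hBQ⟩ := exists_maxNormedPi_ge ((isPi_singleton_iff hq.1).2 hB2.pgrp)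
    (hA.trans hBn.2)
  obtain ⟨P, hP, -, -, -, hPQ⟩ := max_normed_elem2_signalizer hp.1 hq.1 (Ne.symm hqp) hA2
    (sigma'_rank2_max hM hp.1 hp.2.1 (hA.trans hE.1) hA2).1 hQ
    ((hB2.prime_dvd two_ne_zero).trans (card_dvd_of_le hBA))
  have hPM : P ≤ M := (hPQ fun _ => ⟨B, hB2,
    (sigma'_rank2_max hM hq.1 hq.2.1 (hB.trans hE.1) hB2).1.of_le hBQ le_top⟩).trans
      ((cent_anti hBQ).trans (hCB.trans hE.1))
  exact isSyl_not_comm hp.1 hP₀ hna hP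
    ((tau2_context hM hp (hA.trans hE.1) hA2).1 P (hP.of_le hPM le_top)).1

/-- BG 12.7. -/
theorem nonabelian_tau2 {M E A P₀ : Subgroup G} (hM : IsCoatom M) (hE : IsPiHallOf (sig M)ᶜ E M)
    {p : ℕ} (hp : p ∈ ta2 M) (hA : A ≤ E) (hA2 : IsElem p 2 A) (hP₀ : IsPGroup p P₀)
    (hna : ¬ IsMulCommutative P₀) :
    ta2 M = {p} ∧ (𝐨(A ⊓ 𝐂(Ms M)) = p ∧ DProd (Ms M) (A ⊓ 𝐂(Ms M)) (fittingOf M)) ∧
      (∀ X : Subgroup G, X ≤ E → 𝐨(X) = p → X ≠ A ⊓ 𝐂(Ms M) →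
        Ms M ⊓ 𝐂(X) = ⊥ ∧ ¬ 𝐂(X) ≤ M) ∧
      ∃ E₀ : Subgroup G, SdProd (A ⊓ 𝐂(Ms M)) E₀ E ∧
        ∀ x ∈ Ms M, x ≠ 1 → IsPiSubgroup (ta1 M) (E₀ ⊓ 𝐂[x]) := by
  have hτ := tau2_eq_singleton hM hE hp hA hA2 hP₀ hna
  have hpp := hp.1
  have hAM := hA.trans hE.1
  obtain ⟨⟨hAn, hXA⟩, ⟨hCA, -, -⟩, huniq⟩ := tau2_compl_context hM hE hp hA hA2
  obtain ⟨hsyl, -, hCA1, -, -⟩ := tau2_context hM hp hAM hA2
  obtain ⟨P, h2, hAP⟩ := exists_hall_ge (isSolvable_of_le_mmax hM hE.1) hA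
    (isPi_of_isPGroup hpp hA2.pgrp hp)
  obtain ⟨E₁, E₃, hc⟩ := ex_tau13_compl hM hE h2
  obtain ⟨⟨-, h3n⟩, -, -, ⟨hsd3, -, hsd21, -⟩, -⟩ := hc.context hM
  have hPE : IsSyl p P E := (isSyl_iff_hall hpp).2 (hτ ▸ h2)
  have hP : IsSyl p P M := hPE.trans_hall hpp hE hp.2.1
  have hPc := (hsyl P hP).1
  obtain ⟨S, hS, hPS⟩ := exists_isSyl_ge hpp hP.pgrp le_top
  have hSna := isSyl_not_comm hpp hP₀ hna hS
  have hSM : S ⊓ M = P := hP.eq_of_le hpp (le_inf hPS hP.le) inf_le_right (hS.pgrp.to_le inf_le_left)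
  have hCS : S ⊓ 𝐂(A) = P := le_antisymm (hSM ▸ inf_le_inf_left _ (hCA.trans hE.1))
    (le_inf hPS ((isMulComm_iff_le_cent.1 hPc).trans (cent_anti hAP)))
  obtain ⟨⟨hZA, hZp⟩, ⟨Y, hYc, hZY, hY⟩, htr⟩ := basic_maxElem2_structure hpp hA2
    (sigma'_rank2_max hM hpp hp.2.1 hAM hA2).1 hS.pgrp (hAP.trans hPS) hSna
  set Z := omegaOne p 𝐙(S) with hZ
  have hCZ : ¬ 𝐂(Z) ≤ M := fun h => hSna (by
    have : S ≤ M := (cent_comm.1 ((omegaOne_le _ _).trans inf_le_right)).trans h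
    rw [inf_eq_left.2 this] at hSM
    exact hSM ▸ hPc)
  have hσp : ¬ p ∣ 𝐨(Ms M) := not_dvd_of_isPi (isPi_Ms M) hpp hp.2.1
  obtain ⟨A₀, hA₀, hA₀p, hA₀c⟩ : ∃ A₀ : Subgroup G, A₀ ≤ A ∧ 𝐨(A₀) = p ∧ Ms M ⊓ 𝐂(A₀) ≠ ⊥ := by
    by_contra! h
    exact Ms_ne_bot hM (eq_bot_iff.2 (le_of_elem2_cent hpp hA2 (hAM.trans (Ms_normal M).2) hσp
      fun X hX hXp => (h X hX hXp).le))
  have hu := huniq A₀ hA₀ hA₀p hA₀c
  have hA₀Z : A₀ ≠ Z := fun h => hCZ (h ▸ hu.le)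
  have key : ∀ X : Subgroup G, X ≤ A → 𝐨(X) = p → X ≠ A₀ → Ms M ⊓ 𝐂(X) = ⊥ ∧ ¬ 𝐂(X) ≤ M := by
    intro X hX hXp hne
    have h1 : ¬ 𝐂(X) ≤ M := by
      by_cases hXZ : X = Z
      · exact hXZ ▸ hCZ
      obtain ⟨g, hg, rfl⟩ := htr A₀ X hA₀ hA₀p hA₀Z hX hXp hXZ
      intro h
      rw [cent_conj] at h
      have hgP : g ∈ P := hSM ▸ ⟨hg.1, hu.mem_of_conj_le h⟩
      exact hne (conj_eq_of_mem_norm (cent_le_norm _ (cent_anti (hA₀.trans hAP)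
        (isMulComm_iff_le_cent.1 hPc hgP))))
    exact ⟨by_contra fun h => h1 (huniq X hX hXp h).le, h1⟩
  have hMsA₀ : Ms M ≤ 𝐂(A₀) := le_of_elem2_cent hpp hA2 (hAM.trans (Ms_normal M).2) hσp
    fun X hX hXp => by
      by_cases h : X = A₀
      · exact h ▸ inf_le_right
      · rw [(key X hX hXp h).1]; exact bot_le
  have hA₀eq : A ⊓ 𝐂(Ms M) = A₀ := by
    have h1 : A₀ ≤ A ⊓ 𝐂(Ms M) := le_inf hA₀ (cent_comm.1 hMsA₀)
    refine (H1.eq_of_le_of_card_le h1 ?_).symm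
    rw [hA₀p, hA2.card_eq_of_two hpp inf_le_left
      (fun h => ne_bot_of_card_prime (hA₀p ▸ hpp) (eq_bot_iff.2 (h ▸ h1))) fun h => ?_]
    rw [inf_eq_left.2 (cent_comm.1 (inf_eq_left.1 h))] at hCA1
    exact Ms_ne_bot hM hCA1
  have hdp : DProd A₀ Y P := hCS ▸ hY A₀ hA₀ hA₀p hA₀Z
  have hA₀E : E ≤ 𝐍(A₀) := hA₀eq ▸ H1.le_normalizer_inf hAn.2
    (H1.le_normalizer_centralizer (hE.1.trans (Ms_normal M).2))
  have hA₀M : M ≤ 𝐍(A₀) := (sdprod_sigma hM hE).sup.ge.trans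
    (sup_le (hMsA₀.trans (cent_le_norm _)) hA₀E)
  have hdisj : Ms M ⊓ A₀ = ⊥ := isPi_disjoint (isPi_Ms M) (isPi_of_card_prime hpp hA₀p hp.2.1)
  rw [hA₀eq]
  refine ⟨hτ, ⟨hA₀p, le_antisymm (sup_le (le_fittingOf (Ms_normal M) (tau2_Ms_nil hM hp))
    (le_fittingOf ⟨hA₀.trans hAM, hA₀M⟩
      (isNilpotent_of_isPGroup hpp (isPGroup_of_card_prime hA₀p)))) ?_, cent_comm.1 hMsA₀, hdisj⟩,
    fun X hX hXp hne => key X (hXA X hX hXp) hXp hne, ?_⟩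
  · have hFn : Group.IsNilpotent (fittingOf M) := H2.isNilpotent_fittingOf M
    have hd := dProd_piCoreOf_of_isNilpotent hFn (sig M)
    set K := piCoreOf (sig M)ᶜ (fittingOf M) with hK
    have hKM : K ⊲ M := ⟨(piCoreOf_normal _ _).1.trans (fittingOf_normal M).1,
      (fittingOf_normal M).2.trans (norm_le_norm_piCoreOf _ _)⟩
    have hKp : IsPGroup p K := by
      rw [← isPi_singleton_iff hpp, ← hτ]
      intro q hq hd
      have hKn : Group.IsNilpotent K := isNilpotent_of_le (piCoreOf_normal _ _).1 hFn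
      have h1 := isSyl_pCoreOf_of_isNilpotent hq hKn
      have h2 : 𝐍(pCoreOf q K) = M := mmax_normal hM ⟨h1.le.trans hKM.1,
        hKM.2.trans (h1.norm_le_of_isNilpotent hq hKn)⟩ (h1.ne_bot hq hd)
      exact (prime_class_mmax_norm hM hq h1.pgrp h2.le).resolve_left (isPi_piCoreOf _ _ q hq hd)
    have hKP : K ≤ P := hP.le_of_le_norm hpp hKp hKM.1 (hP.le.trans hKM.2)
    have hKC : K ≤ 𝐂(Ms M) := le_cent_of_norm_of_coprime (hKM.1.trans (Ms_normal M).2)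
      ((Ms_le M).trans hKM.2) (isPi_coprime (isPi_Ms M) (isPi_piCoreOf _ _))
    have hYC : Y ⊓ 𝐂(Ms M) = ⊥ := by
      by_contra h
      obtain ⟨X, hX, hXp⟩ := exists_le_card_eq_prime hpp (prime_dvd_card_of_isPGroup hpp
        (hP.pgrp.to_le (inf_le_left.trans hdp.le_right)) h)
      have h1 : X = Z := eq_of_card_prime_of_isCyclic hpp hYc (hX.trans inf_le_left) hZY hXp hZp
      have h2 := (key Z hZA hZp hA₀Z.symm).1
      rw [inf_eq_left.2 (cent_comm.1 (h1 ▸ hX.trans inf_le_right))] at h2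
      exact Ms_ne_bot hM h2
    have hPC : P ⊓ 𝐂(Ms M) = A₀ := by
      rw [← hdp.sup, sup_inf_of_le_left (hdp.cent.trans (cent_le_norm _)) (cent_comm.1 hMsA₀), hYC,
        sup_bot_eq]
    rw [← hd.sup]
    exact sup_le_sup (piCoreOf_le_of_normal _ (fittingOf_normal M)) (hPC ▸ le_inf hKP hKC)
  · obtain ⟨W, hWP, hW1, hWd, hWs⟩ := H1.exists_invariant_complement hPc hc.norm
      (hc.hall1.1.trans hA₀E) (isPi_coprime' (hall_isPi hc.hall1) (isPi_of_card_prime hpp hA₀p hp)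
        (disjoint_ta1_ta2 M)) hdp.disj hdp.sup
    have hle : W ⊔ E₁ ≤ E := sup_le (hWP.trans h2.1) hc.hall1.1
    have hsup : A₀ ⊔ (E₃ ⊔ (W ⊔ E₁)) = E := by
      rw [sup_left_comm, ← sup_assoc A₀, hWs, hsd3.sup]
    have hd : A₀ ⊓ (E₃ ⊔ (W ⊔ E₁)) = ⊥ := by
      refine (inf_eq_bot_or_le_of_card_prime (hA₀p ▸ hpp) _).resolve_right fun h => ?_
      rw [sup_eq_right.2 h] at hsup
      have h1 : 𝐨(E) ∣ 𝐨(W ⊔ E₁) * 𝐨(E₃) := by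
        rw [← hsup, sup_comm]
        exact H1.card_sup_dvd (hle.trans h3n.2)
      have h3 : 𝐨(W ⊔ E₁) ∣ 𝐨(E₁) * 𝐨(W) := by
        rw [sup_comm]
        exact H1.card_sup_dvd hW1
      have h4 : 𝐨(P) = p * 𝐨(W) := by
        rw [← hA₀p]
        exact (⟨hWs, (hWP.trans (isMulComm_iff_le_cent.1 hPc)).trans
          (cent_anti (hA₀.trans hAP)), hWd⟩ : DProd A₀ W P).card
      have h6 : 0 < 𝐨(E₁) * 𝐨(W) * 𝐨(E₃) :=
        Nat.mul_pos (Nat.mul_pos Nat.card_pos Nat.card_pos) Nat.card_pos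
      have h5 := Nat.le_of_dvd h6 (h1.trans (mul_dvd_mul_right h3 _))
      rw [hsd3.card, hsd21.card, h4] at h5
      have := hpp.two_le
      nlinarith
    have hE₀ : E₃ ⊔ (W ⊔ E₁) ≤ E := sup_le hc.hall3.1 hle
    refine ⟨E₃ ⊔ (W ⊔ E₁), ⟨hsup, hE₀.trans hA₀E, hd⟩, fun x hx hx1 q hq hqd => ?_⟩
    obtain ⟨X, hX, hXq⟩ := exists_le_card_eq_prime hq hqd
    have hXE : X ≤ E := hX.trans (inf_le_left.trans hE₀)
    have hxX : Ms M ⊓ 𝐂(X) ≠ ⊥ := fun h => hx1 (mem_bot.1 (h ▸ ⟨hx,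
      mem_cent_iff_cent1.2 (hX.trans inf_le_right)⟩))
    rcases compl_partition hM hE hq (hXq ▸ card_dvd_of_le hXE) with h | h | h
    · exact h
    · rw [hτ, Set.mem_singleton_iff] at h
      subst h
      refine absurd (key X (hXA X hXE hXq) hXq fun e => ?_).1 hxX
      rw [← e, inf_eq_left.2 (hX.trans inf_le_left)] at hd
      exact ne_bot_of_card_prime (hXq ▸ hq) hd
    · exact absurd ((tau2_regular hM hc hp hA hA2).1.cent_eq_bot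
        (le_of_hall_normal hc.hall3 h3n.2 hXE (isPi_of_card_prime hq hXq h))
        (ne_bot_of_card_prime (hXq ▸ hq))) hxX

/-- BG 12.8(c) and the first part of 12.8(d). -/
theorem BG12a.abelian_sylow_fitting {M E A S : Subgroup G} (hM : IsCoatom M)
    (hE : IsPiHallOf (sig M)ᶜ E M) {p : ℕ} (hp : p ∈ ta2 M) (hA : A ≤ E) (hA2 : IsElem p 2 A)
    (hS : IsSyl p S ⊤) (hAS : A ≤ S) (hc : IsMulCommutative S) :
    (S ≤ ⁅𝐍(S), 𝐍(S)⁆ ∧ ⁅𝐍(S), 𝐍(S)⁆ ≤ fittingOf E ∧ fittingOf E ≤ 𝐂(S) ∧ 𝐂(S) ≤ E) ∧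
      𝐍(A) = 𝐍(S) := by
  have hpp := hp.1
  obtain ⟨⟨hAn, -⟩, ⟨hCA, -, -⟩, -⟩ := tau2_compl_context hM hE hp hA hA2
  have hSA : S ≤ 𝐂(A) := (isMulComm_iff_le_cent.1 hc).trans (cent_anti hAS)
  have hSE := hSA.trans hCA
  have hΩ : omegaOne p S = A :=
    ((tau2_context hM hp (hA.trans hE.1) hA2).1 S (hS.of_le (hSE.trans hE.1) le_top)).2.2 hAS
  have hNS : 𝐍(S) ≤ 𝐍(A) := hΩ ▸ norm_le_norm_omegaOne S p
  have hSN : IsSyl p S 𝐍(A) := hS.of_le (hSA.trans (cent_le_norm A)) le_top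
  have hFn : Group.IsNilpotent (fittingOf 𝐍(A)) := H2.isNilpotent_fittingOf _
  have hFC : fittingOf 𝐍(A) ≤ 𝐂(A) := by
    have hd := dProd_pCoreOf_of_isNilpotent hpp hFn
    have h1 : A ≤ pCoreOf p (fittingOf 𝐍(A)) := by
      rw [pCoreOf_fittingOf hpp]
      exact le_pCoreOf ⟨le_normalizer, le_rfl⟩ hA2.pgrp
    rw [← hd.sup]
    refine sup_le ?_ (hd.cent.trans (cent_anti h1))
    rw [pCoreOf_fittingOf hpp]
    exact (hSN.pCoreOf_le hpp).trans hSA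
  have hr : rank (fittingOf 𝐍(A)) ≤ 2 := rank_le_iff.2 fun q hq => by
    by_cases hd : q ∣ 𝐨(fittingOf 𝐍(A))
    · exact (pRank_mono hq ((hFC.trans hCA).trans hE.1)).trans (sigma'_pRank_le hM hq
        (hall_isPi hE q hq (hd.trans (card_dvd_of_le (hFC.trans hCA)))))
    · rw [(pRank_eq_zero_iff hq).2 hd]; exact zero_le_two
  have hd := rank2_der_le_fitting (isSolvable_of_ne_top
    (norm_ne_top_of_isPGroup hpp hA2.pgrp (hA2.ne_bot hpp two_ne_zero))) (odd_card _) hr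
  have hFE : fittingOf 𝐍(A) ≤ fittingOf E :=
    le_fittingOf ⟨hFC.trans hCA, hAn.2.trans (fittingOf_normal _).2⟩ hFn
  have h1 := (sylow_le_der_norm hpp hS).1
  have h2 : ⁅𝐍(S), 𝐍(S)⁆ ≤ fittingOf 𝐍(A) := (commutator_mono hNS hNS).trans hd
  have hFEn : Group.IsNilpotent (fittingOf E) := H2.isNilpotent_fittingOf _
  refine ⟨⟨h1, h2.trans hFE, ?_, (cent_anti hAS).trans hCA⟩, le_antisymm ?_ hNS⟩
  · have h3 := dProd_pCoreOf_of_isNilpotent hpp hFEn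
    rw [← (hS.of_le (h1.trans (h2.trans hFE)) le_top).eq_pCoreOf_of_isNilpotent hpp hFEn] at h3
    rw [← h3.sup]
    exact sup_le (isMulComm_iff_le_cent.1 hc) h3.cent
  · exact (fittingOf_normal _).2.trans
      ((hS.of_le (h1.trans h2) le_top).norm_le_of_isNilpotent hpp hFn)

/-- BG 12.8. -/
theorem abelian_tau2 {M E E₁ E₂ E₃ A S : Subgroup G} (hM : IsCoatom M)
    (h : SigmaCompl M E E₁ E₂ E₃) {p : ℕ} (hp : p ∈ ta2 M) (hA : A ≤ E) (hA2 : IsElem p 2 A)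
    (hS : IsSyl p S ⊤) (hAS : A ≤ S) (hc : IsMulCommutative S) :
    (IsMulCommutative E₂ ∧ E₂ ⊲ E) ∧ IsPiHallOf (ta2 M) E₂ ⊤ ∧
      (S ≤ ⁅𝐍(S), 𝐍(S)⁆ ∧ ⁅𝐍(S), 𝐍(S)⁆ ≤ fittingOf E ∧ fittingOf E ≤ 𝐂(S) ∧ 𝐂(S) ≤ E) ∧
      (𝐍(A) = 𝐍(S) ∧ 𝐍(S) = 𝐍(E₂) ∧ 𝐍(E₂) = 𝐍(E₃ ⊔ E₂) ∧ 𝐍(E₃ ⊔ E₂) = 𝐍(fittingOf E)) ∧
      (∀ X : Subgroup G, X ≤ E₁ → 𝐨(X).Prime → Ms M ⊓ 𝐂(X) = ⊥ → X ≤ 𝐙(E)) ∧
      ∀ X : Subgroup G, X ≤ 𝐍(S) → (S ⊓ 𝐂(X)) ⊲ 𝐍(S) ∧ ⁅S, X⁆ ⊲ 𝐍(S) := by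
  have hE := h.hall
  have hpp := hp.1
  obtain ⟨⟨c1, c2, c3, c4⟩, hNAS⟩ := abelian_sylow_fitting hM hE hp hA hA2 hS hAS hc
  obtain ⟨⟨-, h3n⟩, -, ⟨hc1, hc3⟩, ⟨-, hsd, -, hsd32⟩, -⟩ := h.context hM
  have hFn : Group.IsNilpotent (fittingOf E) := H2.isNilpotent_fittingOf _
  have hFE := fittingOf_normal E
  have hall : ∀ q ∈ ta2 M, ∃ T : Subgroup G, IsSyl q T ⊤ ∧ T ≤ piCoreOf (ta2 M) (fittingOf E) ∧
      fittingOf E ≤ 𝐂(T) := by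
    intro q hq
    obtain ⟨B, hB, hB2⟩ := (le_pRank_iff hq.1).1
      ((sigma_compl_der hM hE hq.1 hq.2.1).1.trans hq.2.2).ge
    obtain ⟨T, hT, hBT⟩ := exists_isSyl_ge hq.1 hB2.pgrp le_top
    have hTc : IsMulCommutative T := by
      by_contra hn
      have h1 := tau2_eq_singleton hM hE hq hB hB2 hT.pgrp hn
      rw [h1, Set.mem_singleton_iff] at hp
      subst hp
      exact isSyl_not_comm hpp hT.pgrp hn hS hc
    obtain ⟨⟨d1, d2, d3, -⟩, -⟩ := abelian_sylow_fitting hM hE hq hB hB2 hT hBT hTc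
    exact ⟨T, hT, le_piCoreOf_of_isNilpotent hFn (d1.trans d2) (isPi_of_isPGroup hq.1 hT.pgrp hq),
      d3⟩
  have hKn : piCoreOf (ta2 M) (fittingOf E) ⊲ E :=
    ⟨(piCoreOf_normal _ _).1.trans hFE.1, hFE.2.trans (norm_le_norm_piCoreOf _ _)⟩
  have hKh : IsPiHallOf (ta2 M) (piCoreOf (ta2 M) (fittingOf E)) ⊤ := by
    refine ⟨le_top, isPi_piCoreOf _ _, fun q _ hq hd => ?_⟩
    obtain ⟨T, hT, hTK, -⟩ := hall q hq
    exact hT.ndvd (hd.trans (relIndex_dvd_of_le_left _ hTK))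
  have hK2 : E₂ = piCoreOf (ta2 M) (fittingOf E) := hall_eq_of_le hKh
    (le_hall_of_normal h.hall2 hKn.1 (isPi_piCoreOf _ _) (h.hall2.1.trans hKn.2)) le_top
    (hall_isPi h.hall2)
  rw [← hK2] at hKn hKh hall
  have h2F : E₂ ≤ fittingOf E := hK2 ▸ (piCoreOf_normal _ _).1
  have hF2 : fittingOf E ≤ 𝐂(E₂) := cent_comm.1 (le_of_forall_exists_isSyl_le fun q hq hd => by
    obtain ⟨T, hT, hTK, hTC⟩ := hall q (hall_isPi h.hall2 q hq hd)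
    exact ⟨T, hT.of_le hTK le_top, cent_comm.1 hTC⟩)
  have h2c : IsMulCommutative E₂ := isMulComm_iff_le_cent.2 (h2F.trans hF2)
  have h3F : E₃ ≤ fittingOf E :=
    le_fittingOf h3n (isNilpotent_of_isMulComm (isMulComm_of_isCyclic hc3))
  have h32F : E₃ ⊔ E₂ ≤ fittingOf E := sup_le h3F h2F
  have hπ32 : IsPiSubgroup (ta1 M)ᶜ (E₃ ⊔ E₂) := by
    rw [sup_comm]
    exact isPi_sup (isPi_mono (disjoint_ta1_ta2 M).subset_compl_left (hall_isPi h.hall2))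
      (isPi_mono (disjoint_ta1_ta3 M).subset_compl_left (hall_isPi h.hall3)) hsd32.norm
  have h32h : IsPiHallOf (ta1 M)ᶜ (E₃ ⊔ E₂) (fittingOf E) :=
    hall_of_le (hsd.hall hπ32 (by rw [compl_compl]; exact hall_isPi h.hall1)).1 h32F hFE.1
  have hS2 : S ≤ E₂ := le_of_hall_normal h.hall2 hKn.2 (c1.trans (c2.trans hFE.1))
    (isPi_of_isPGroup hpp hS.pgrp hp)
  have hES : E ≤ 𝐍(S) := hNAS ▸ (tau2_compl_context hM hE hp hA hA2).1.1.2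
  have n1 : 𝐍(S) ≤ 𝐍(fittingOf E) := by
    have : fittingOf 𝐂(S) = fittingOf E := by
      rw [fittingOf_of_normal ⟨c4, H1.le_normalizer_centralizer hES⟩, inf_eq_left.2 c3]
    rw [← this]
    exact (H1.normalizer_le_normalizer_centralizer S).trans (H2.normalizer_le_normalizer_fittingOf _)
  have n2 : 𝐍(fittingOf E) ≤ 𝐍(E₃ ⊔ E₂) := norm_le_norm_hall_of_isNilpotent hFn h32h
  have n3 : 𝐍(E₃ ⊔ E₂) ≤ 𝐍(E₂) := norm_le_norm_hall_of_isNilpotent (isNilpotent_of_le h32F hFn)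
    (hall_of_le h.hall2 le_sup_right (h32F.trans hFE.1))
  have n4 : 𝐍(E₂) ≤ 𝐍(S) :=
    (hS.of_le hS2 le_top).norm_le_of_isNilpotent hpp (isNilpotent_of_isMulComm h2c)
  refine ⟨⟨h2c, hKn⟩, hKh, ⟨c1, c2, c3, c4⟩, ⟨hNAS, le_antisymm (n1.trans (n2.trans n3)) n4,
    le_antisymm (n4.trans (n1.trans n2)) n3, le_antisymm (n3.trans (n4.trans n1)) n2⟩,
    fun X hX hq hC => ?_, fun X hX => ?_⟩
  · have hq1 := hall_isPi h.hall1 _ hq (card_dvd_of_le hX)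
    have hXE := hX.trans h.hall1.1
    have hKc : IsMulCommutative ↥(E₃ ⊔ E₂) :=
      isMulComm_sup (isMulComm_of_isCyclic hc3) h2c (cent_comm.1 (h3F.trans hF2))
    have hKE := h32F.trans hFE.1
    obtain ⟨-, -, hn⟩ := comm_sigma'_elem1_cyclic hM (hKE.trans hE.1)
      (isPi_of_le hKE (hall_isPi hE)) hq hq1.2.1 rfl
      (le_inf (hXE.trans hE.1) (hXE.trans hsd.le_norm)) hC hKc
      (isPi_coprime (isPi_of_card_prime hq rfl hq1) hπ32).symm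
    have hFK : fittingOf E ≤ 𝐂(E₃ ⊔ E₂) := by
      have hd := dProd_piCoreOf_of_isNilpotent hFn (ta1 M)ᶜ
      rw [← hall_eq_piCoreOf_of_isNilpotent hFn h32h] at hd
      rw [← hd.sup]
      exact sup_le (isMulComm_iff_le_cent.1 hKc) hd.cent
    have h1 : ⁅E₃ ⊔ E₂, X⁆ = ⊥ := by
      by_contra h1
      have h2 := (norm_cent_comm_of_der_cent (hXE.trans hES) (n1.trans n2) (c2.trans hFK)).2
      rw [mmax_normal hM hn h1] at h2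
      exact ((tau2_context hM hp (hA.trans hE.1) hA2).1 S
        (hS.of_le (hS2.trans (h.hall2.1.trans hE.1)) le_top)).2.1 h2
    refine le_inf hXE ?_
    rw [← hsd.sup, cent_sup]
    exact le_inf (H1.commutator_eq_bot_iff_le_centralizer'.1 h1)
      (hX.trans (isMulComm_iff_le_cent.1 (isMulComm_of_isCyclic hc1)))
  · obtain ⟨h1, h2⟩ := norm_cent_comm_of_der_cent hX le_rfl (c2.trans c3)
    exact ⟨⟨inf_le_left.trans le_normalizer, h1⟩,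
      (comm_le_left_iff.2 hX).trans le_normalizer, h2⟩

end Cfsg.Agent.FT
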