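/-
BG 12.9 - 12.11.
-/
import Cfsg.Agent.FT.BG12a

set_option autoImplicit false

namespace Cfsg.Agent.FT

open Subgroup Cfsg Cfsg.Agent
open scoped commutatorElement

universe u

variable {G : Type u} [Group G] [Finite G]

namespace BG12b

theorem isMulComm_of_isNilpotent {H : Subgroup G} (hn : Group.IsNilpotent H)
    (h : ∀ p : ℕ, p.Prime → p ∣ 𝐨(H) → IsMulCommutative (pCoreOf p H)) : IsMulCommutative H := by
  rw [isMulComm_iff_le_cent]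
  refine le_of_forall_exists_isSyl_le fun p hp hd =>
    ⟨_, isSyl_pCoreOf_of_isNilpotent hp hn, ?_⟩
  have hD := dProd_pCoreOf_of_isNilpotent hp hn
  conv_rhs => rw [← hD.sup, cent_sup]
  exact le_inf (isMulComm_iff_le_cent.1 (h p hp hd)) hD.symm.cent

theorem le_of_card_prime_of_normal_of_cyclic {q : ℕ} (hq : q.Prime) {M K Q S : Subgroup G}
    (hS : IsSyl q S M) (hc : IsCyclic S) (hK : K ⊲ M) (hd : q ∣ 𝐨(K)) (hQ : Q ≤ M)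
    (hQq : 𝐨(Q) = q) : Q ≤ K := by
  obtain ⟨g, hg, hQS⟩ := hS.exists_conj_le hq (isPGroup_of_card_prime hQq) hQ
  obtain ⟨X, hX, hXq⟩ := exists_le_card_eq_prime hq (prime_dvd_card_of_isPGroup hq
    (hS.inf_normal hq hK).pgrp ((hS.inf_normal hq hK).ne_bot hq hd))
  have e := eq_of_card_prime_of_isCyclic hq hc hQS (hX.trans inf_le_left)
    ((card_conj Q g).trans hQq) hXq
  have : Q ^ᵍ g ≤ K := e ▸ hX.trans inf_le_right
  rw [conj_le_iff, conj_eq_of_mem_norm (hK.2 (inv_mem hg))] at this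
  exact this

variable [MinOdd G]

theorem ex_tau2_elem {M E : Subgroup G} (hM : IsCoatom M) (hE : IsPiHallOf (sig M)ᶜ E M) {p : ℕ}
    (hp : p ∈ ta2 M) : ∃ A : Subgroup G, A ≤ E ∧ IsElem p 2 A :=
  (le_pRank_iff hp.1).1 (by rw [(sigma_compl_der hM hE hp.1 hp.2.1).1, hp.2.2])

theorem ex_sigmaCompl_ge1 {M E Q : Subgroup G} (hM : IsCoatom M) (hE : IsPiHallOf (sig M)ᶜ E M)
    (hQ : Q ≤ E) (hπ : IsPiSubgroup (ta1 M) Q) :
    ∃ E₁ E₂ E₃ : Subgroup G, SigmaCompl M E E₁ E₂ E₃ ∧ Q ≤ E₁ := by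
  have hs := isSolvable_of_le_mmax hM hE.1
  obtain ⟨E₁, h1, hQ1⟩ := exists_hall_ge hs hQ hπ
  obtain ⟨E₃, h3⟩ := exists_hall hs (ta3 M)
  obtain ⟨E₂, h⟩ := ex_tau2_compl hM hE h1 h3
  exact ⟨E₁, E₂, E₃, h, hQ1⟩

theorem isCyclic_of_pRank_le_one' {p : ℕ} (hp : p.Prime) {P H : Subgroup G} (hP : IsPGroup p P)
    (hPH : P ≤ H) (h : pRank p H ≤ 1) : IsCyclic P := by
  by_cases h1 : P = ⊥
  · subst h1; infer_instance
  · exact isCyclic_of_pRank_le_one hp (ne_two_of_isPGroup hp hP h1) hP ((pRank_mono hp hPH).trans h)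

theorem mem_ta2_of_elem {M A : Subgroup G} (hM : IsCoatom M) {p : ℕ} (hp : p.Prime)
    (hσ : p ∉ sig M) (hA : A ≤ M) (hA2 : IsElem p 2 A) : p ∈ ta2 M :=
  ⟨hp, hσ, le_antisymm (sigma'_pRank_le hM hp hσ) (le_pRank hp hA hA2)⟩

theorem isMulComm_of_sigma' {M P : Subgroup G} (hM : IsCoatom M) {p : ℕ} (hp : p.Prime)
    (hσ : p ∉ sig M) (hP : IsPGroup p P) (hPM : P ≤ M) : IsMulCommutative P := by
  by_cases h : pRank p M ≤ 1
  · exact isMulComm_of_isCyclic (isCyclic_of_pRank_le_one' hp hP hPM h)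
  · obtain ⟨A, hA, hA2⟩ := (le_pRank_iff (n := 2) hp).1 (by omega : 2 ≤ pRank p M)
    obtain ⟨S, hS, hPS⟩ := exists_isSyl_ge hp hP hPM
    exact isMulComm_of_le hPS
      ((tau2_context hM (mem_ta2_of_elem hM hp hσ hA hA2) hA hA2).1 S hS).1

end BG12b

open BG12b

variable [MinOdd G]

/-- BG 12.9. -/
theorem tau1_act_tau2 {M E A Q : Subgroup G} (hM : IsCoatom M) (hE : IsPiHallOf (sig M)ᶜ E M)
    {p q : ℕ} (hp : p ∈ ta2 M) (hA : A ≤ E) (hA2 : IsElem p 2 A) (hq : q ∈ ta1 M) (hQ : Q ≤ E)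
    (hQq : 𝐨(Q) = q) (hC : Ms M ⊓ 𝐂(Q) = ⊥) (hAQ : ⁅A, Q⁆ ≠ ⊥) :
    (𝐨(⁅A, Q⁆) = p ∧ ⁅A, Q⁆ = A ⊓ 𝐂(Ms M) ∧ ⁅A, Q⁆ ⊲ M) ∧ ¬ Conj ⁅A, Q⁆ (A ⊓ 𝐂(Q)) ∧
      𝐨(A ⊓ 𝐂(Q)) = p ∧ ¬ 𝐂(A ⊓ 𝐂(Q)) ≤ M := by
  have hpq : p ≠ q := fun e => (disjoint_ta1_ta2 M).ne_of_mem hq hp e.symm
  obtain ⟨⟨hAE, -⟩, -, -⟩ := tau2_compl_context hM hE hp hA hA2
  have hQA : Q ≤ 𝐍(A) := hQ.trans hAE.2
  have hcop : 𝐨(Q).Coprime 𝐨(A) :=
    coprime_card_of_isPGroup hq.1 hp.1 hpq.symm (isPGroup_of_card_prime hQq) hA2.pgrp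
  obtain ⟨h1, h2, h3⟩ := comm_sigma'_elem1_cyclic hM (hA.trans hE.1)
    (isPi_of_le hA (hall_isPi hE)) hq.1 hq.2.1 hQq (le_inf (hQ.trans hE.1) hQA) hC hA2.comm
    (hQq ▸ hcop.symm)
  have hle : ⁅A, Q⁆ ≤ A := comm_le_left_iff.2 hQA
  have h4 : ⁅A, Q⁆ ≠ A := fun e => hA2.not_isCyclic hp.1 le_rfl (e ▸ h2)
  have h5 := hA2.card_eq_of_two hp.1 hle hAQ h4
  have h6 : A ⊓ 𝐂(Ms M) ≠ A := fun e => Ms_ne_bot hM (by
    rw [← (tau2_context hM hp (hA.trans hE.1) hA2).2.2.1, left_eq_inf]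
    exact cent_comm.1 (inf_eq_left.1 e))
  have h7 : ⁅A, Q⁆ = A ⊓ 𝐂(Ms M) := H1.eq_of_le_of_card_le (le_inf hle h1) (by
    rw [h5, hA2.card_eq_of_two hp.1 inf_le_left (fun e => hAQ (eq_bot_iff.2 (e ▸ le_inf hle h1))) h6])
  have hd : 𝐂(Q) ⊓ ⁅A, Q⁆ = ⊥ := H1.centralizer_inf_commutator_eq_bot hA2.comm hQA hcop
  have h8 : 𝐨(A ⊓ 𝐂(Q)) = p := by
    refine hA2.card_eq_of_two hp.1 inf_le_left (fun e => h4 ?_) fun e =>
      hAQ (comm_eq_bot_iff.2 (inf_eq_left.1 e))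
    have := H1.commutator_sup_centralizer hQA hcop (Or.inr (isSolvable_of_le_mmax hM (hA.trans hE.1)))
    rwa [e, sup_bot_eq] at this
  refine ⟨⟨h5, h7, h3⟩, ?_, h8, ?_⟩
  · rintro ⟨g, hg⟩
    have h9 : q ∣ 𝐨(𝐂(⁅A, Q⁆)) := by
      rw [← card_conj _ g, ← cent_conj, ← hg, ← hQq]
      exact card_dvd_of_le (cent_comm.1 inf_le_right)
    obtain ⟨S, hS⟩ := exists_isSyl hq.1 M
    have h10 := le_of_card_prime_of_normal_of_cyclic hq.1 hS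
      (isCyclic_of_pRank_le_one' hq.1 hS.pgrp hS.le hq.2.2.1.le)
      ⟨cent_le_mmax_of_normal hM h3 hAQ, H1.le_normalizer_centralizer h3.2⟩ h9 (hQ.trans hE.1) hQq
    exact hAQ (by rw [← hd, right_eq_inf]; exact cent_comm.1 h10)
  · obtain ⟨S, hS, hAS⟩ := exists_isSyl_ge hp.1 hA2.pgrp (le_top (a := A))
    by_cases hc : IsMulCommutative S
    · obtain ⟨E₁, E₂, E₃, h, hQ1⟩ := ex_sigmaCompl_ge1 hM hE hQ (isPi_of_card_prime hq.1 hQq hq)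
      have := (abelian_tau2 hM h hp hA hA2 hS hAS hc).2.2.2.2.1 Q hQ1 (hQq ▸ hq.1) hC
      exact absurd (comm_eq_bot_iff.2 (cent_comm.1 ((this.trans inf_le_right).trans
        (cent_anti hA)))) hAQ
    · refine ((nonabelian_tau2 hM hE hp hA hA2 hS.pgrp hc).2.2.1 _ (inf_le_left.trans hA) h8
        fun e => hAQ ?_).2
      rw [← hd, right_eq_inf, h7, ← e]
      exact inf_le_right

/-- BG 12.10(a). -/
theorem sigma'_nil_abelian {M N : Subgroup G} (hM : IsCoatom M) (hN : N ≤ M)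
    (hπ : IsPiSubgroup (sig M)ᶜ N) (hn : Group.IsNilpotent N) : IsMulCommutative N :=
  isMulComm_of_isNilpotent hn fun p hp hd => isMulComm_of_sigma' hM hp (hπ p hp hd)
    (isSyl_pCoreOf_of_isNilpotent hp hn).pgrp ((pCoreOf_normal p N).1.trans hN)

/-- BG 12.10(b). -/
theorem der_compl_abelian {M E : Subgroup G} (hM : IsCoatom M) (hE : IsPiHallOf (sig M)ᶜ E M) :
    IsMulCommutative ↥⁅E, E⁆ :=
  sigma'_nil_abelian hM ((der_le E).trans hE.1) (isPi_of_le (der_le E) (hall_isPi hE))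
    (der_sigma_compl_nil hM hE)

/-- BG 12.10(b). -/
theorem tau2_compl_abelian {M E E₂ : Subgroup G} (hM : IsCoatom M)
    (hE : IsPiHallOf (sig M)ᶜ E M) (h2 : IsPiHallOf (ta2 M) E₂ E) : IsMulCommutative E₂ := by
  by_cases h0 : E₂ = ⊥
  · subst h0; infer_instance
  obtain ⟨p, hp, hd⟩ := exists_prime_dvd_card h0
  have hp2 := hall_isPi h2 p hp hd
  obtain ⟨A, hA, hA2⟩ := ex_tau2_elem hM hE hp2
  obtain ⟨S, hS, hAS⟩ := exists_isSyl_ge hp hA2.pgrp (le_top (a := A))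
  by_cases hc : IsMulCommutative S
  · obtain ⟨E₁, E₃, h⟩ := ex_tau13_compl hM hE h2
    exact (abelian_tau2 hM h hp2 hA hA2 hS hAS hc).1.1
  · have := (nonabelian_tau2 hM hE hp2 hA hA2 hS.pgrp hc).1
    exact isMulComm_of_sigma' hM hp hp2.2.1 ((isPi_singleton_iff hp).1 (this ▸ hall_isPi h2))
      (h2.1.trans hE.1)

/-- BG 12.10(c). -/
theorem tau1_cent_tau2_factor {M E E₁ E₂ E₃ A : Subgroup G} (hM : IsCoatom M)
    (h : SigmaCompl M E E₁ E₂ E₃) {p : ℕ} (hp : p ∈ ta2 M) (hA : A ≤ E) (hA2 : IsElem p 2 A) :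
    E₃ ⊔ E₂ ≤ 𝐂(A) ∧ ∀ q : ℕ, q.Prime → q ∣ 𝐂(A).relIndex E → q ∈ ta1 M := by
  obtain ⟨⟨hAE, -⟩, -, -⟩ := tau2_compl_context hM h.hall hp hA hA2
  obtain ⟨⟨-, h3⟩, -, -, ⟨-, hsd, -⟩, -⟩ := h.context hM
  have hAπ := isPi_of_isPGroup hp.1 hA2.pgrp hp
  have h1 : E₃ ⊔ E₂ ≤ 𝐂(A) := sup_le
    (le_cent_of_norm_of_coprime (h3.1.trans hAE.2) (hA.trans h3.2)
      (isPi_coprime' hAπ (hall_isPi h.hall3) (disjoint_ta2_ta3 M)))
    ((isMulComm_iff_le_cent.1 (tau2_compl_abelian hM h.hall h.hall2)).trans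
      (cent_anti (le_hall_of_normal h.hall2 hA hAπ (h.hall2.1.trans hAE.2))))
  refine ⟨h1, fun q hq hd => hall_isPi h.hall1 q hq ?_⟩
  rw [← hsd.relIndex_left]
  exact hd.trans (relIndex_dvd_of_le_left E h1)

/-- BG 12.10(d). -/
theorem norm_noncyclic_sigma {M P : Subgroup G} (hM : IsCoatom M) {p : ℕ} (hp : p ∈ sig M)
    (hP : IsPGroup p P) (hPM : P ≤ M) (hnc : ¬ IsCyclic P) : 𝐍(P) ≤ M := by
  have h1 : P ≠ ⊥ := by rintro rfl; exact hnc inferInstance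
  obtain ⟨A, hA, hA2⟩ := (le_pRank_iff hp.1).1
    (two_le_pRank_of_not_isCyclic hp.1 (ne_two_of_isPGroup hp.1 hP h1) hP hnc)
  rw [← sigma_norm_eq hM hp hP hPM]
  exact sup_le ((cent_anti hA).trans (elem2_mmax hM hp.1 (hA.trans hPM) hA2).1) inf_le_left

/-- BG 12.10(e). -/
theorem cent1_nreg_sigma_uniq {M : Subgroup G} (hM : IsCoatom M) {x : G} (hx : x ∈ M)
    (hx1 : x ≠ 1) (hπ : IsPiElt (ta2 M) x) (hC : Ms M ⊓ 𝐂[x] ≠ ⊥) : UniqMax 𝐂[x] M := by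
  have hxπ := isPi_zpowers.2 hπ
  obtain ⟨E, hE, hxE⟩ := ex_sigma_compl hM (zpowers_le.2 hx) (isPi_mono (ta2_subset_compl M) hxπ)
  obtain ⟨E₂, h2, hx2⟩ := exists_hall_ge (isSolvable_of_le_mmax hM hE.1) hxE hxπ
  obtain ⟨X, hX, hXp⟩ := exists_le_card_prime (zpowers_ne_bot.2 hx1)
  have hp := hxπ _ hXp (card_dvd_of_le hX)
  obtain ⟨A, hA, hA2⟩ := ex_tau2_elem hM hE hp
  obtain ⟨⟨hAE, h1⟩, -, h3⟩ := tau2_compl_context hM hE hp hA hA2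
  have hCX : 𝐂[x] ≤ 𝐂(X) := cent_zpowers x ▸ cent_anti hX
  have hU := h3 X (h1 X (hX.trans hxE) rfl) rfl fun e =>
    hC (eq_bot_iff.2 (e ▸ inf_le_inf_left _ hCX))
  refine ⟨hM, hCX.trans hU.le, fun L hL hCL => by_contra fun hne => hC ?_⟩
  have hAx : A ≤ 𝐂[x] := (le_hall_of_normal h2 hA (isPi_of_isPGroup hp.1 hA2.pgrp hp)
    (h2.1.trans hAE.2)).trans ((isMulComm_iff_le_cent.1 (tau2_compl_abelian hM hE h2)).trans
      (cent_le_cent1 (hx2 (mem_zpowers x))))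
  exact eq_bot_iff.2 (((tau2_context hM hp (hA.trans hE.1) hA2).2.2.2.1 L hL (hAx.trans hCL) hne) ▸
    inf_le_inf_left _ hCL)

namespace BG12b

theorem primes_a0 {M A H : Subgroup G} (hM : IsCoatom M) {p : ℕ} (hp : p ∈ ta2 M) (hA : A ≤ M)
    (hA2 : IsElem p 2 A) (hH : IsCoatom H) (hN : 𝐍(A) ≤ H) : p ∈ sig H ∧ p ∉ bet H := by
  refine ⟨(prime_class_mmax_norm hH hp.1 hA2.pgrp hN).resolve_right fun h => ?_,
    fun h => (sigma'_rank2_max hM hp.1 hp.2.1 hA hA2).2 h.2⟩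
  obtain ⟨F, hF, hAF⟩ := ex_sigma_compl hH ((le_norm_self A).trans hN)
    (isPi_of_isPGroup hp.1 hA2.pgrp h.2.1)
  exact (tau2_compl_context hH hF h hAF hA2).2.1.2.2 hN

theorem primes_a {M E A H : Subgroup G} (hM : IsCoatom M)
    (hE : IsPiHallOf (sig M)ᶜ E M) {p : ℕ} (hp : p ∈ ta2 M) (hA : A ≤ E) (hA2 : IsElem p 2 A)
    (hH : IsCoatom H) (hN : 𝐍(A) ≤ H) : ∀ q ∈ ta2 M, q ∈ sig H ∧ q ∉ bet H := by
  intro q hq
  by_cases hqp : q = p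
  · subst hqp; exact primes_a0 hM hp (hA.trans hE.1) hA2 hH hN
  obtain ⟨B, hB, hB2⟩ := ex_tau2_elem hM hE hq
  refine primes_a0 hM hq (hB.trans hE.1) hB2 hH ?_
  obtain ⟨E₁, E₂, E₃, h, -⟩ := ex_sigmaCompl_ge1 hM hE bot_le (isPi_bot _)
  obtain ⟨S, hS, hAS⟩ := exists_isSyl_ge hp.1 hA2.pgrp (le_top (a := A))
  obtain ⟨T, hT, hBT⟩ := exists_isSyl_ge hq.1 hB2.pgrp (le_top (a := B))
  have hSc : IsMulCommutative S := by_contra fun hc =>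
    hqp (show q ∈ ({p} : Set ℕ) from (nonabelian_tau2 hM hE hp hA hA2 hS.pgrp hc).1 ▸ hq)
  have hTc : IsMulCommutative T := by_contra fun hc =>
    hqp (show p ∈ ({q} : Set ℕ) from (nonabelian_tau2 hM hE hq hB hB2 hT.pgrp hc).1 ▸ hp).symm
  obtain ⟨a1, a2, -⟩ := (abelian_tau2 hM h hp hA hA2 hS hAS hSc).2.2.2.1
  obtain ⟨b1, b2, -⟩ := (abelian_tau2 hM h hq hB hB2 hT hBT hTc).2.2.2.1
  rw [b1, b2, ← a2, ← a1]
  exact hN

theorem factor_tau1 {M E A : Subgroup G} (hM : IsCoatom M)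
    (hE : IsPiHallOf (sig M)ᶜ E M) {p : ℕ} (hp : p ∈ ta2 M) (hA : A ≤ E) (hA2 : IsElem p 2 A)
    {q : ℕ} (hq : q.Prime) (hd : q ∣ 𝐂(A).relIndex E) : q ∈ ta1 M := by
  obtain ⟨E₁, E₂, E₃, h, -⟩ := ex_sigmaCompl_ge1 hM hE bot_le (isPi_bot _)
  exact (tau1_cent_tau2_factor hM h hp hA hA2).2 q hq hd

theorem primes_b {M E A H : Subgroup G} (hM : IsCoatom M)
    (hE : IsPiHallOf (sig M)ᶜ E M) {p : ℕ} (hp : p ∈ ta2 M) (hA : A ≤ E) (hA2 : IsElem p 2 A)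
    (hH : IsCoatom H) (hN : 𝐍(A) ≤ H) {q : ℕ} (hq : q.Prime) (hd : q ∣ 𝐂(A).relIndex E) :
    q ∈ ta1 H ∨ q ∈ ta2 H := by
  obtain ⟨⟨hAE, -⟩, -, -⟩ := tau2_compl_context hM hE hp hA hA2
  have hEH : E ≤ H := hAE.2.trans hN
  obtain ⟨h1, h2⟩ := primes_a0 hM hp (hA.trans hE.1) hA2 hH hN
  have hqp : q ≠ p := (disjoint_ta1_ta2 M).ne_of_mem (factor_tau1 hM hE hp hA hA2 hq hd) hp
  obtain ⟨Q, hQ⟩ := exists_isSyl hq E
  have hAs : A ≤ Ms H := le_of_hall_normal (Ms_hall hH).1 (Ms_normal H).2 (hA.trans hEH)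
    (isPi_of_isPGroup hp.1 hA2.pgrp h1)
  have hQH : ¬ Q ≤ ⁅H, H⁆ := fun hc => hQ.ndvd (hd.trans (relIndex_dvd_of_le_left E
    ((beta_max_pdiv hH hp.1 h2).1.le_cent hp.1 hA2.pgrp (hAs.trans (Ms_le_der hH)) hc
      (fun e => hqp (eq_of_prime_dvd_card_of_isPGroup hq hp.1 hQ.pgrp e).symm)
      (hQ.le.trans hAE.2))))
  have hσ : q ∉ sig H := fun hc => hQH ((le_of_hall_normal (Ms_hall hH).1 (Ms_normal H).2
    (hQ.le.trans hEH) (isPi_of_isPGroup hq hQ.pgrp hc)).trans (Ms_le_der hH))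
  rcases partition_sigma_compl hH hq ((hd.trans (relIndex_dvd_card' _ _)).trans
    (card_dvd_of_le hEH)) hσ with h | h | h
  · exact Or.inl h
  · exact Or.inr h
  · obtain ⟨S, hS, hQS⟩ := exists_isSyl_ge hq hQ.pgrp (hQ.le.trans hEH)
    rcases cyclic_sylow_ti_or_le_der hq hS
      (isCyclic_of_pRank_le_one' hq hS.pgrp hS.le h.2.2.1.le) with e | e
    · exact absurd e ((hS.inf_normal hq (der_normal H)).ne_bot hq h.2.2.2)
    · exact absurd (hQS.trans e) hQH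

end BG12b

/-- BG 12.11. -/
theorem primes_norm_tau2 {M E A Mst : Subgroup G} (hM : IsCoatom M)
    (hE : IsPiHallOf (sig M)ᶜ E M) {p : ℕ} (hp : p ∈ ta2 M) (hA : A ≤ E) (hA2 : IsElem p 2 A)
    (hMst : IsCoatom Mst) (hN : 𝐍(A) ≤ Mst) :
    (∀ q ∈ ta2 M, q ∈ sig Mst ∧ q ∉ bet Mst) ∧
      (∀ q : ℕ, q.Prime → q ∣ 𝐂(A).relIndex E → q ∈ ta1 Mst ∨ q ∈ ta2 Mst) ∧
      ∀ q : ℕ, q.Prime → q ∣ 𝐂(A).relIndex E → q ∣ 𝐨(E ⊓ 𝐂(A)) →
        q ∈ ta2 Mst ∧ (∃ P : Subgroup G, IsSyl p P ⊤ ∧ P ⊲ Mst) ∧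
          ∃ Q : Subgroup G, IsSyl q Q ⊤ ∧ Q ≤ Mst ∧ IsMulCommutative Q := by
  refine ⟨primes_a hM hE hp hA hA2 hMst hN, fun q hq hd => primes_b hM hE hp hA hA2 hMst hN hq hd,
    fun q hq hd hd' => ?_⟩
  obtain ⟨⟨hAE, -⟩, ⟨hCE, -⟩, -⟩ := tau2_compl_context hM hE hp hA hA2
  rw [inf_eq_right.2 hCE] at hd'
  have hq1 := factor_tau1 hM hE hp hA hA2 hq hd
  obtain ⟨Q, hQ⟩ := exists_isSyl hq E
  have hQc := isCyclic_of_pRank_le_one' hq hQ.pgrp (hQ.le.trans hE.1) hq1.2.2.1.le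
  have hR := hQ.inf_normal hq ⟨hCE, H1.le_normalizer_centralizer hAE.2⟩
  obtain ⟨Q₀, hQ₀, hQ₀q⟩ := exists_le_card_eq_prime hq
    (prime_dvd_card_of_isPGroup hq hR.pgrp (hR.ne_bot hq hd'))
  have hQ₀p := isPGroup_of_card_prime hQ₀q
  have hQ₀1 := ne_bot_of_card_prime (hQ₀q ▸ hq)
  obtain ⟨H, hH, hNH⟩ := mmax_exists (norm_ne_top_of_isPGroup hq hQ₀p hQ₀1)
  have hAH : A ≤ H := ((cent_comm.1 (hQ₀.trans inf_le_right)).trans (cent_le_norm _)).trans hNH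
  have hCH := (elem2_mmax hH hp.1 hAH hA2).1
  have hNA : 𝐍(A) ≤ H := by
    rw [← hR.frattini hq ⟨cent_le_norm A, H1.normalizer_le_normalizer_centralizer A⟩]
    exact sup_le hCH (inf_le_right.trans
      ((norm_le_norm_of_le_cyclic (isCyclic_of_le inf_le_left hQc) hQ₀).trans hNH))
  have hpH := (primes_a0 hM hp (hA.trans hE.1) hA2 hH hNA).1
  have hqH : q ∈ ta2 H := (primes_b hM hE hp hA hA2 hH hNA hq hd).elim
    (fun h => (prime_class_mmax_norm hH hq hQ₀p hNH).resolve_left h.2.1) id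
  have hnil := tau2_Ms_nil hH hqH
  obtain rfl : Mst = H := by
    obtain ⟨g, hg⟩ : Conj H Mst := by_contra fun hn =>
      ((sigma_disjoint hH hMst hn).2.2 hnil).2.ne_of_mem hpH
        (primes_a0 hM hp (hA.trans hE.1) hA2 hMst hN).1 rfl
    obtain ⟨c, hc, e⟩ := sigma_group_trans' hH hpH hA2.pgrp (g := 1) (h := g)
      (by rwa [conj_one]) (hg ▸ (le_norm_self A).trans hN)
    rw [hg, e, conj_one, conj_eq_of_mem (hCH hc)]
  have hP := isSyl_pCoreOf_of_isNilpotent hp.1 hnil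
  refine ⟨hqH, ⟨_, hP.trans_hall hp.1 (Ms_hall hH).2 hpH, hP.le.trans (Ms_le _),
    (Ms_normal _).2.trans (hP.norm_le_of_isNilpotent hp.1 hnil)⟩, ?_⟩
  obtain ⟨S, hS, hQS⟩ := exists_isSyl_ge hq hQ₀p (le_top (a := Q₀))
  have hc : IsMulCommutative S := by_contra fun hc => by
    obtain ⟨F, hF, hQF⟩ := ex_sigma_compl hH (hQ.le.trans (hAE.2.trans hN))
      (isPi_of_isPGroup hq hQ.pgrp hqH.2.1)
    obtain ⟨B, hB, hB2⟩ := ex_tau2_elem hH hF hqH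
    obtain ⟨-, -, h1, F₀, h2, -⟩ := nonabelian_tau2 hH hF hqH hB hB2 hS.pgrp hc
    have e : Q₀ = B ⊓ 𝐂(Ms Mst) := by_contra fun e => hA2.ne_bot hp.1 two_ne_zero (eq_bot_iff.2
      ((h1 Q₀ ((hQ₀.trans inf_le_left).trans hQF) hQ₀q e).1 ▸ le_inf
        (le_of_hall_normal (Ms_hall hH).1 (Ms_normal _).2 hAH (isPi_of_isPGroup hp.1 hA2.pgrp hpH))
        (cent_comm.1 (hQ₀.trans inf_le_right))))
    rw [← e] at h2
    have h3 := h2.inf_of_le_left (hQ₀.trans inf_le_left)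
    rw [inf_eq_right.2 hQF] at h3
    by_cases h4 : F₀ ⊓ Q = ⊥
    · have h5 := h3.sup
      rw [h4, sup_bot_eq] at h5
      exact hQ.ndvd (hd.trans (relIndex_dvd_of_le_left E (h5 ▸ hQ₀.trans inf_le_right)))
    · obtain ⟨X, hX, hXq⟩ := exists_le_card_eq_prime hq
        (prime_dvd_card_of_isPGroup hq (hQ.pgrp.to_le inf_le_right) h4)
      have e1 := eq_of_card_prime_of_isCyclic hq hQc (hQ₀.trans inf_le_left)
        (hX.trans inf_le_right) hQ₀q hXq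
      exact hQ₀1 (eq_bot_iff.2 (h3.disj ▸ le_inf le_rfl (e1 ▸ hX)))
  exact ⟨S, hS, ((isMulComm_iff_le_cent.1 hc).trans (cent_anti hQS)).trans
    ((cent_le_norm _).trans hNH), hc⟩

end Cfsg.Agent.FT
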