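/-
BG 12.12.
-/
import Cfsg.Agent.FT.P.BG12b_1
import Cfsg.Agent.H6.ZAction

set_option autoImplicit false

namespace Cfsg.Agent.FT

open Subgroup Cfsg Cfsg.Agent
open scoped commutatorElement

universe u

variable {G : Type u} [Group G] [Finite G]

namespace BG12b

omit [Finite G] in
theorem pow_exponent_of_mem {E : Subgroup G} {y : G} (hy : y ∈ E) : y ^ Monoid.exponent E = 1 :=
  congrArg Subtype.val (Monoid.pow_exponent_eq_one (⟨y, hy⟩ : E))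

omit [Finite G] in
theorem orderOf_dvd_exponent_of_mem {E : Subgroup G} {y : G} (hy : y ∈ E) :
    orderOf y ∣ Monoid.exponent E := orderOf_dvd_of_pow_eq_one (pow_exponent_of_mem hy)

theorem exponent_eq_of_forall {E₀ E : Subgroup G} (h0 : E₀ ≤ E)
    (h : ∀ r : ℕ, r.Prime → ∀ y ∈ E, IsPGroup r (zpowers y) → y ^ Monoid.exponent E₀ = 1) :
    Monoid.exponent E₀ = Monoid.exponent E := by
  refine dvd_antisymm (Monoid.exponent_dvd_of_monoidHom _ (inclusion_injective h0))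
    (Monoid.exponent_dvd_of_forall_pow_eq_one fun g => Subtype.ext ?_)
  refine orderOf_dvd_iff_pow_eq_one.1 ((Nat.dvd_iff_prime_pow_dvd_dvd _ _).2 fun r k hr hd => ?_)
  have h1 := orderOf_pow_orderOf_div (orderOf_pos (g : G)).ne' hd
  rw [← h1]
  exact orderOf_dvd_of_pow_eq_one (h r hr _ (pow_mem g.2 _)
    (isPGroup_of_card_eq (by rw [Nat.card_zpowers, h1])))

theorem pow_exponent_of_not_dvd {E₀ E : Subgroup G} (h0 : E₀ ≤ E) {r : ℕ} (hr : r.Prime)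
    (hd : ¬ r ∣ E₀.relIndex E) {y : G} (hy : y ∈ E) (hyr : IsPGroup r (zpowers y)) :
    y ^ Monoid.exponent E₀ = 1 := by
  obtain ⟨R, hR⟩ := exists_isSyl hr E₀
  obtain ⟨g, -, hg⟩ := (hR.trans hr h0 hd).exists_conj_le hr hyr (zpowers_le.2 hy)
  have := pow_exponent_of_mem (hR.le (hg (conj_mem_conj (mem_zpowers y) g)))
  rwa [conj_pow, conj_eq_one_iff] at this

theorem orderOf_dvd_or {p : ℕ} (hp : p.Prime) {C : Subgroup G} (hC : IsPGroup p C) {b d : G}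
    (hb : b ∈ C) (hd : d ∈ C) : orderOf b ∣ orderOf d ∨ orderOf d ∣ orderOf b := by
  obtain ⟨i, hi⟩ := exists_card_eq_pow hp (hC.to_le (zpowers_le.2 hb))
  obtain ⟨j, hj⟩ := exists_card_eq_pow hp (hC.to_le (zpowers_le.2 hd))
  rw [Nat.card_zpowers] at hi hj
  rw [hi, hj]
  exact (le_total i j).imp (pow_dvd_pow p) (pow_dvd_pow p)

theorem le_or_le_of_cyclic {p : ℕ} (hp : p.Prime) {B C D : Subgroup G} (hC : IsPGroup p C)
    (hc : IsCyclic C) (hB : B ≤ C) (hD : D ≤ C) : B ≤ D ∨ D ≤ B := by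
  obtain ⟨b, rfl⟩ := isCyclic_iff_zpowers.1 (isCyclic_of_le hB hc)
  obtain ⟨d, rfl⟩ := isCyclic_iff_zpowers.1 (isCyclic_of_le hD hc)
  have hb := hB (mem_zpowers b)
  have hd := hD (mem_zpowers d)
  exact (orderOf_dvd_or hp hC hb hd).imp
    (fun h => zpowers_le.2 (H6.mem_zpowers_of_orderOf_dvd hb hd h))
    fun h => zpowers_le.2 (H6.mem_zpowers_of_orderOf_dvd hd hb h)

theorem exists_pow_subgroup {S : Subgroup G} (hc : IsMulCommutative S) (m : ℕ) :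
    ∃ U : Subgroup G, (∀ x, x ∈ U ↔ ∃ y ∈ S, y ^ m = x) ∧ 𝐍(S) ≤ 𝐍(U) := by
  refine ⟨⟨⟨⟨{x | ∃ y ∈ S, y ^ m = x}, ?_⟩, 1, one_mem _, one_pow m⟩, ?_⟩, fun _ => Iff.rfl, ?_⟩
  · rintro _ _ ⟨a, ha, rfl⟩ ⟨b, hb, rfl⟩
    exact ⟨a * b, mul_mem ha hb, Commute.mul_pow (setLike_mul_comm ha hb) m⟩
  · rintro _ ⟨a, ha, rfl⟩
    exact ⟨a⁻¹, inv_mem ha, inv_pow a m⟩
  · intro g hg
    apply mem_normalizer_fintype
    rintro _ ⟨a, ha, rfl⟩
    exact ⟨g * a * g⁻¹, (mem_normalizer_iff.1 hg a).1 ha, conj_pow⟩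

open scoped IsMulCommutative in
theorem exists_max_order {S : Subgroup G} (hc : IsMulCommutative S) :
    ∃ z ∈ S, ∀ y ∈ S, y ^ orderOf z = 1 := by
  obtain ⟨z, hz⟩ := Monoid.exists_orderOf_eq_exponent (G := S) Monoid.ExponentExists.of_finite
  refine ⟨z, z.2, fun y hy => ?_⟩
  rw [orderOf_coe, hz]
  exact pow_exponent_of_mem hy

variable [MinOdd G]

theorem ex_split {M E A S : Subgroup G} (hM : IsCoatom M) (hE : IsPiHallOf (sig M)ᶜ E M)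
    (hreg : ∀ X : Subgroup G, X ≤ E → 𝐨(X) ∈ ta1 M → Ms M ⊓ 𝐂(X) = ⊥) {p : ℕ}
    (hp : p ∈ ta2 M) (hA : A ≤ E) (hA2 : IsElem p 2 A) (hS : IsSyl p S ⊤) (hAS : A ≤ S)
    (hc : IsMulCommutative S) (hES : ¬ E ≤ 𝐂(S)) :
    ∃ X : Subgroup G, X ≤ 𝐍(S) ∧ 𝐨(X).Coprime 𝐨(S) ∧ S ⊓ 𝐂(X) ≠ ⊥ ∧ ¬ X ≤ 𝐂(S) := by
  obtain ⟨⟨hAE, -⟩, ⟨hCE, -⟩, -⟩ := tau2_compl_context hM hE hp hA hA2
  obtain ⟨q, hq, Q₁, hQ₁, hQS⟩ : ∃ q : ℕ, q.Prime ∧ ∃ Q₁, IsSyl q Q₁ E ∧ ¬ Q₁ ≤ 𝐂(S) := by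
    by_contra hcon
    push Not at hcon
    exact hES (le_of_forall_isSyl_le hcon)
  obtain ⟨E₁, E₂, E₃, h, -⟩ := ex_sigmaCompl_ge1 hM hE bot_le (isPi_bot _)
  obtain ⟨-, -, ⟨-, -, -, hCS⟩, ⟨hNA, -⟩, -⟩ := abelian_tau2 hM h hp hA hA2 hS hAS hc
  have hSC := isMulComm_iff_le_cent.1 hc
  have hEN : E ≤ 𝐍(S) := hNA ▸ hAE.2
  have hSE := hS.of_le (hSC.trans hCS) le_top
  have hqp : q ≠ p := by
    rintro rfl
    exact hQS ((hSE.le_of_normal hq hEN hQ₁.pgrp hQ₁.le).trans hSC)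
  have hO := ((tau2_context hM hp (hA.trans hE.1) hA2).1 S
    (hS.of_le (hSE.le.trans hE.1) le_top)).2.2 hAS
  have hQA : ¬ Q₁ ≤ 𝐂(A) := fun e => hQS (H1.le_centralizer_of_abelian_of_prime_order hc
    (hQ₁.le.trans hEN) (coprime_card_of_isPGroup hq hp.1 hqp hQ₁.pgrp hS.pgrp) fun v hv hvp =>
      cent_comm.1 e (hO ▸ mem_omegaOne hv (by
        rw [← eq_of_prime_dvd_card_of_isPGroup hp.1 hvp hS.pgrp (orderOf_dvd_card_of_mem hv),
          pow_orderOf_eq_one])))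
  have hd : q ∣ 𝐂(A).relIndex E := by_contra fun hd => hQA (inf_eq_left.1
    (((hQ₁.inf_normal hq ⟨hCE, H1.le_normalizer_centralizer hAE.2⟩).trans hq hCE hd).eq_of_le hq
      inf_le_left hQ₁.le hQ₁.pgrp).symm)
  have hq1 := factor_tau1 hM hE hp hA hA2 hq hd
  have hQc := isCyclic_of_pRank_le_one' hq hQ₁.pgrp (hQ₁.le.trans hE.1) hq1.2.2.1.le
  have hd' : q ∣ 𝐨(E ⊓ 𝐂(A)) := by
    obtain ⟨X, hX, hXq⟩ := exists_le_card_eq_prime hq (hd.trans (relIndex_dvd_card' _ _))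
    obtain ⟨E₁, E₂, E₃, h, hX1⟩ := ex_sigmaCompl_ge1 hM hE hX (isPi_of_card_prime hq hXq hq1)
    have := (abelian_tau2 hM h hp hA hA2 hS hAS hc).2.2.2.2.1 X hX1 (hXq ▸ hq)
      (hreg X hX (hXq ▸ hq1))
    exact hXq ▸ card_dvd_of_le (this.trans (inf_le_inf_left _ (cent_anti hA)))
  obtain ⟨H, hH, hNH⟩ := mmax_exists
    (norm_ne_top_of_isPGroup hp.1 hA2.pgrp (hA2.ne_bot hp.1 two_ne_zero))
  obtain ⟨hq2, ⟨P, hP, hPH⟩, Q', hQ', hQH', hQc'⟩ :=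
    (primes_norm_tau2 hM hE hp hA hA2 hH hNH).2.2 q hq hd hd'
  have hEH : E ≤ H := hAE.2.trans hNH
  have hSP : P = S := hS.eq_of_le hp.1
    ((hP.of_le hPH.1 le_top).le_of_normal hp.1 hPH.2 hS.pgrp (hSE.le.trans hEH)) le_top hP.pgrp
  subst hSP
  obtain ⟨g, hg, hQg⟩ := (hQ'.of_le hQH' le_top).exists_le_conj hq hQ₁.pgrp (hQ₁.le.trans hEH)
  have hQ := (hQ'.of_le hQH' le_top).conj_of_mem_norm (le_norm_self H hg)
  have hQc2 : IsMulCommutative ↥(Q' ^ᵍ g) := (isMulComm_map_iff (conj_injective g)).2 hQc'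
  generalize Q' ^ᵍ g = Q at hQ hQg hQc2
  by_contra hcon
  push Not at hcon
  refine hA2.ne_bot hp.1 two_ne_zero (eq_bot_iff.2 (hAS.trans
    (H1.le_of_forall_cocyclic hQc2 (hQ.le.trans hPH.2)
      (coprime_card_of_isPGroup hq hp.1 hqp hQ.pgrp hS.pgrp) ?_)))
  rintro B hB ⟨a, ha, hBa⟩
  by_contra hne
  have h1 := hcon B ((hB.trans hQ.le).trans hPH.2)
    (coprime_card_of_isPGroup hq hp.1 hqp (hQ.pgrp.to_le hB) hS.pgrp) fun e => hne e.le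
  have h2 : Q ⊓ E = Q₁ := hQ₁.eq_of_le hq (le_inf hQg hQ₁.le) inf_le_right
    (hQ.pgrp.to_le inf_le_left)
  have h3 : B ≤ Q₁ := h2 ▸ le_inf hB (h1.trans hCS)
  have h4 := sup_inf_of_le_left (A := B) (B := zpowers a) (K := Q₁) (((zpowers_le.2 ha).trans
    (isMulComm_iff_le_cent.1 hQc2)).trans ((cent_anti hB).trans (cent_le_norm _))) h3
  rw [hBa, inf_eq_right.2 hQg] at h4
  rcases le_or_le_of_cyclic hq hQ₁.pgrp hQc h3 (inf_le_right (a := zpowers a)) with h5 | h5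
  · rw [sup_eq_right.2 (h5.trans inf_le_left)] at hBa
    have := pRank_le_one_of_isCyclic hq (isCyclic_iff_zpowers.2 ⟨a, hBa⟩)
    rw [hQ.pRank_eq hq, hq2.2.2] at this
    omega
  · rw [sup_eq_left.2 h5] at h4
    exact hQS (h4 ▸ h1)

theorem ex_regular_cyclic {M E A S : Subgroup G} (hM : IsCoatom M) (hE : IsPiHallOf (sig M)ᶜ E M)
    (hreg : ∀ X : Subgroup G, X ≤ E → 𝐨(X) ∈ ta1 M → Ms M ⊓ 𝐂(X) = ⊥) {p : ℕ}
    (hp : p ∈ ta2 M) (hA : A ≤ E) (hA2 : IsElem p 2 A) (hS : IsSyl p S ⊤) (hAS : A ≤ S)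
    (hc : IsMulCommutative S) :
    ∃ z ∈ S, E ≤ 𝐍(zpowers z) ∧ (∀ y ∈ S, y ^ orderOf z = 1) ∧
      ∀ X : Subgroup G, X ≤ zpowers z → 𝐨(X) = p → Ms M ⊓ 𝐂(X) = ⊥ := by
  obtain ⟨⟨hAE, -⟩, ⟨-, -, hNM⟩, hU⟩ := tau2_compl_context hM hE hp hA hA2
  obtain ⟨E₁, E₂, E₃, h, -⟩ := ex_sigmaCompl_ge1 hM hE bot_le (isPi_bot _)
  obtain ⟨-, -, ⟨-, -, -, hCS⟩, ⟨hNA, -⟩, -, hf⟩ := abelian_tau2 hM h hp hA hA2 hS hAS hc
  have hSM := hS.of_le (((isMulComm_iff_le_cent.1 hc).trans hCS).trans hE.1) le_top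
  obtain ⟨hO, -, -, -, A₁, hA₁, hA₁p, hA₁C⟩ := tau2_context hM hp (hA.trans hE.1) hA2
  replace hO := (hO S hSM).2.2 hAS
  have key : ∀ X : Subgroup G, X ≤ S → 𝐨(X) = p → 𝐍(S) ≤ 𝐍(X) → Ms M ⊓ 𝐂(X) = ⊥ :=
    fun X hX hXp hn => by_contra fun hne => hNM (hNA ▸ hn.trans (hU X
      (hO ▸ le_omegaOne_of_elemAb hX (elemAb_of_card_prime hp.1 hXp)) hXp hne).norm_le_of_cent)
  by_cases hES : E ≤ 𝐂(S)
  · obtain ⟨z, hz, hzo⟩ := exists_max_order hc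
    obtain ⟨n, hn⟩ := exists_card_eq_pow hp.1 (hS.pgrp.to_le (zpowers_le.2 hz))
    rw [Nat.card_zpowers] at hn
    obtain _ | n := n
    · refine absurd (eq_bot_iff.2 fun y hy => ?_) (hA2.ne_bot hp.1 two_ne_zero)
      simpa [hn] using hzo y (hAS hy)
    obtain ⟨U, hU1, hU2⟩ := exists_pow_subgroup hc (p ^ n)
    have hUA : U ≤ A := fun x hx => by
      obtain ⟨y, hy, rfl⟩ := (hU1 x).1 hx
      exact hO ▸ mem_omegaOne (pow_mem hy _) (by rw [← pow_mul, ← pow_succ, ← hn, hzo y hy])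
    obtain ⟨X₀, hX₀, hX₀p, hX₀C⟩ : ∃ X₀ : Subgroup G, X₀ ≤ U ∧ 𝐨(X₀) = p ∧ Ms M ⊓ 𝐂(X₀) = ⊥ := by
      by_cases e : U = A
      · exact ⟨A₁, e ▸ hA₁, hA₁p, hA₁C⟩
      · have h1 : 𝐨(U) = p := hA2.card_eq_of_two hp.1 hUA (fun e' => by
          have h2 : z ^ p ^ n ∈ U := (hU1 _).2 ⟨z, hz, rfl⟩
          rw [e', mem_bot, ← orderOf_dvd_iff_pow_eq_one, hn,
            Nat.pow_dvd_pow_iff_le_right hp.1.one_lt] at h2
          omega) e
        exact ⟨U, le_rfl, h1, key U (hUA.trans hAS) h1 hU2⟩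
    obtain ⟨⟨a, ha⟩, ha1⟩ := ne_bot_iff_exists_ne_one.1 (ne_bot_of_card_prime (hX₀p ▸ hp.1))
    replace ha1 : a ≠ 1 := fun e => ha1 (Subtype.ext e)
    obtain ⟨y, hy, rfl⟩ := (hU1 a).1 (hX₀ ha)
    have := Fact.mk hp.1
    have hyo : orderOf y = p ^ (n + 1) := orderOf_eq_prime_pow ha1 (hn ▸ hzo y hy)
    refine ⟨y, hy, (hES.trans (cent_anti (zpowers_le.2 hy))).trans (cent_le_norm _),
      fun w hw => by rw [hyo, ← hn, hzo w hw], fun X hX hXp => ?_⟩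
    rw [eq_of_card_prime_of_isCyclic hp.1 inferInstance hX (by
      rw [← zpowers_eq_of_card_prime (hX₀p ▸ hp.1) ha ha1, zpowers_le]
      exact pow_mem (mem_zpowers y) _) hXp hX₀p, hX₀C]
  · obtain ⟨X, hXN, hXc, h1, h2⟩ := ex_split hM hE hreg hp hA hA2 hS hAS hc hES
    obtain ⟨n0, n1⟩ := hf X hXN
    have hle : ⁅S, X⁆ ≤ S := comm_le_left_iff.2 hXN
    have hD : DProd (S ⊓ 𝐂(X)) ⁅S, X⁆ S := ⟨by
      rw [sup_comm]
      exact H1.commutator_sup_centralizer hXN hXc (Or.inr (isSolvable_of_le_mmax hM hSM.le)),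
      (hle.trans (isMulComm_iff_le_cent.1 hc)).trans (cent_anti inf_le_left), eq_bot_iff.2
        ((inf_le_inf_right _ inf_le_right).trans
          (H1.centralizer_inf_commutator_eq_bot hc hXN hXc).le)⟩
    have h3 : ⁅S, X⁆ ≠ ⊥ := fun e => h2 (cent_comm.1 (comm_eq_bot_iff.1 e))
    have hr := hD.pRank_eq hp.1
    rw [hSM.pRank_eq hp.1, hp.2.2] at hr
    have p0 := hS.pgrp.to_le hD.le_left
    have p1 := hS.pgrp.to_le hD.le_right
    have r0 := (pRank_pos_iff hp.1).2 (prime_dvd_card_of_isPGroup hp.1 p0 h1)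
    have r1 := (pRank_pos_iff hp.1).2 (prime_dvd_card_of_isPGroup hp.1 p1 h3)
    obtain ⟨u, hu⟩ := isCyclic_iff_zpowers.1 (isCyclic_of_pRank_le_one' hp.1 p0 le_rfl (by omega))
    obtain ⟨v, hv⟩ := isCyclic_iff_zpowers.1 (isCyclic_of_pRank_le_one' hp.1 p1 le_rfl (by omega))
    rw [← hu] at hD n0
    rw [← hv] at hD n1
    have aux : ∀ u v : G, DProd (zpowers u) (zpowers v) S → orderOf v ∣ orderOf u →
        𝐍(S) ≤ 𝐍(zpowers u) → ∃ z ∈ S, E ≤ 𝐍(zpowers z) ∧ (∀ y ∈ S, y ^ orderOf z = 1) ∧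
          ∀ X : Subgroup G, X ≤ zpowers z → 𝐨(X) = p → Ms M ⊓ 𝐂(X) = ⊥ := by
      intro u v hD hd hn
      refine ⟨u, hD.le_left (mem_zpowers u), (hNA ▸ hAE.2).trans hn, fun y hy => ?_,
        fun X hX hXp => key X (hX.trans hD.le_left) hXp
          (hn.trans (norm_le_norm_of_le_cyclic inferInstance hX))⟩
      obtain ⟨a, ha, b, hb, rfl⟩ := hD.mem_iff.1 hy
      rw [(hD.commute ha hb).mul_pow, orderOf_dvd_iff_pow_eq_one.1 (orderOf_dvd_of_mem_zpowers ha),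
        orderOf_dvd_iff_pow_eq_one.1 ((orderOf_dvd_of_mem_zpowers hb).trans hd), mul_one]
    rcases orderOf_dvd_or hp.1 hS.pgrp (hD.le_left (mem_zpowers u)) (hD.le_right (mem_zpowers v))
      with e | e
    · exact aux v u hD.symm e n1.2
    · exact aux u v hD e n0.2

end BG12b

open BG12b

variable [MinOdd G]

/-- BG 12.12. -/
theorem typeF_complement {M E : Subgroup G} (hM : IsCoatom M) (hE : IsPiHallOf (sig M)ᶜ E M)
    (h : ∀ e ∈ E, e ≠ 1 → IsPiElt (ta1 M ∪ ta3 M) e → Ms M ⊓ 𝐂[e] = ⊥) :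
    (∃ A₀ : Subgroup G, A₀ ⊲ E ∧ IsMulCommutative A₀ ∧ ∀ x ∈ Ms M, x ≠ 1 → E ⊓ 𝐂[x] ≤ A₀) ∧
      ∃ E₀ : Subgroup G, E₀ ≤ E ∧ Monoid.exponent E₀ = Monoid.exponent E ∧ Frob (Ms M) E₀ := by
  have hreg : ∀ X : Subgroup G, X ≤ E → 𝐨(X) ∈ ta1 M ∪ ta3 M → Ms M ⊓ 𝐂(X) = ⊥ := by
    intro X hX hXp
    have hp := prime_of_ta13 hXp
    obtain ⟨⟨x, hx⟩, hx1⟩ := ne_bot_iff_exists_ne_one.1 (ne_bot_of_card_prime hp)
    replace hx1 : x ≠ 1 := fun e => hx1 (Subtype.ext e)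
    rw [← cent1_eq_of_card_prime hp hx hx1]
    exact h x (hX hx) hx1 (isPiElt_of_mem (isPi_of_card_prime hp rfl hXp) hx)
  have hEn : E ≤ 𝐍(Ms M) := hE.1.trans (Ms_normal M).2
  have hcent : ∀ x ∈ Ms M, x ≠ 1 → IsPiSubgroup (ta2 M) (E ⊓ 𝐂[x]) := by
    intro x hx hx1 r hr hd
    obtain ⟨X, hX, rfl⟩ := exists_le_card_eq_prime hr hd
    have hXE := hX.trans inf_le_left
    have h1 : 𝐨(X) ∉ ta1 M ∪ ta3 M := fun e => hx1 (mem_bot.1 (hreg X hXE e ▸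
      ⟨hx, mem_cent_iff_cent1.2 (hX.trans inf_le_right)⟩))
    rcases partition_sigma_compl hM hr (card_dvd_of_le (hXE.trans hE.1))
      (hall_isPi hE _ hr (card_dvd_of_le hXE)) with e | e | e
    exacts [absurd (Or.inl e) h1, e, absurd (Or.inr e) h1]
  by_cases hna : ∃ p ∈ ta2 M, ∃ P : Subgroup G, IsPGroup p P ∧ ¬ IsMulCommutative P
  · obtain ⟨p, hp, P₀, hP₀, hna⟩ := hna
    obtain ⟨A, hA, hA2⟩ := ex_tau2_elem hM hE hp
    obtain ⟨-, ⟨hA₀, -⟩, -, E₀, hsd, h1⟩ := nonabelian_tau2 hM hE hp hA hA2 hP₀ hna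
    have h2 : ∀ x ∈ Ms M, x ≠ 1 → E₀ ⊓ 𝐂[x] = ⊥ := fun x hx hx1 =>
      eq_bot_of_isPi_of_isPi_compl (h1 x hx hx1) (isPi_mono
        (fun r hr hr' => (disjoint_ta1_ta2 M).ne_of_mem hr' hr rfl)
        (isPi_of_le (inf_le_inf_right _ hsd.le_right) (hcent x hx hx1)))
    have h3 : p ∣ 𝐨(E₀) := by
      have := card_dvd_of_le hA
      rw [hA2.card, hsd.card, hA₀, sq] at this
      exact Nat.dvd_of_mul_dvd_mul_left hp.1.pos this
    refine ⟨⟨_, hsd.normal, isMulComm_of_le inf_le_left hA2.comm, fun x hx hx1 => ?_⟩, E₀,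
      hsd.le_right, exponent_eq_of_forall hsd.le_right fun r hr y hy hyr => ?_,
      Ms_ne_bot hM, ne_bot_of_prime_dvd hp.1 h3, hsd.le_right.trans hEn, SemiReg.symm h2⟩
    · have := (hsd.inf_of_le_left (L := 𝐂[x]) (inf_le_right.trans (cent_le_cent1 hx))).sup
      rw [h2 x hx hx1, sup_bot_eq] at this
      exact this.ge
    · by_cases hrp : r = p
      · subst hrp
        obtain ⟨P, hP, hyP⟩ := exists_isSyl_ge hr hyr (zpowers_le.2 hy)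
        have hPc := isMulComm_of_sigma' hM hr hp.2.1 hP.pgrp (hP.le.trans hE.1)
        have h4 := hsd.inf_of_le_left (hP.le_of_le_norm hr (isPGroup_of_card_prime hA₀)
          hsd.le_left (hP.le.trans hsd.le_norm))
        obtain ⟨a, ha, e, he, rfl⟩ := h4.mem_iff.1 ⟨hy, hyP (mem_zpowers y)⟩
        obtain ⟨w, hw, hwo⟩ := exists_mem_orderOf_eq_prime hr h3
        rw [Commute.mul_pow (setLike_mul_comm (h4.le_left ha).2 he.2), pow_exponent_of_mem he.1,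
          mul_one, ← orderOf_dvd_iff_pow_eq_one]
        exact (orderOf_dvd_of_pow_eq_one (hA2.elemAb.2 a ha.1)).trans
          (hwo ▸ orderOf_dvd_exponent_of_mem hw)
      · refine pow_exponent_of_not_dvd hsd.le_right hr ?_ hy hyr
        rw [hsd.relIndex_right, hA₀, Nat.prime_dvd_prime_iff_eq hr hp.1]
        exact hrp
  push Not at hna
  obtain ⟨E₁, E₂, E₃, hs, -⟩ := ex_sigmaCompl_ge1 hM hE bot_le (isPi_bot _)
  have hc2 := tau2_compl_abelian hM hE hs.hall2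
  have hnil := isNilpotent_of_isMulComm hc2
  have hn2 : E ≤ 𝐍(E₂) := by
    by_cases h0 : E₂ = ⊥
    · rw [h0, norm_bot]; exact le_top
    obtain ⟨p, hp, hd⟩ := exists_prime_dvd_card h0
    have hp2 := hall_isPi hs.hall2 p hp hd
    obtain ⟨A, hA, hA2⟩ := ex_tau2_elem hM hE hp2
    obtain ⟨S, hS, hAS⟩ := exists_isSyl_ge hp hA2.pgrp (le_top (a := A))
    exact (abelian_tau2 hM hs hp2 hA hA2 hS hAS (hna p hp2 S hS.pgrp)).1.2.2
  refine ⟨⟨E₂, ⟨hs.hall2.1, hn2⟩, hc2, fun x hx hx1 =>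
    le_of_hall_normal hs.hall2 hn2 inf_le_left (hcent x hx hx1)⟩, ?_⟩
  have hz : ∀ p : ta2 M, ∃ z ∈ pCoreOf p E₂, E ≤ 𝐍(zpowers z) ∧
      (∀ y ∈ pCoreOf p E₂, y ^ orderOf z = 1) ∧
      ∀ X : Subgroup G, X ≤ zpowers z → 𝐨(X) = p → Ms M ⊓ 𝐂(X) = ⊥ := by
    rintro ⟨p, hp⟩
    obtain ⟨A, hA, hA2⟩ := ex_tau2_elem hM hE hp
    obtain ⟨S, hS, hAS⟩ := exists_isSyl_ge hp.1 hA2.pgrp (le_top (a := A))
    have hSc := hna p hp S hS.pgrp
    have h1 := (abelian_tau2 hM hs hp hA hA2 hS hAS hSc).2.2.1.2.2.2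
    have h2 : S ≤ E₂ := le_of_hall_normal hs.hall2 hn2 ((isMulComm_iff_le_cent.1 hSc).trans h1)
      (isPi_of_isPGroup hp.1 hS.pgrp hp)
    rw [← (hS.of_le h2 le_top).eq_pCoreOf_of_isNilpotent hp.1 hnil]
    exact ex_regular_cyclic hM hE (fun X hX hXp => hreg X hX (Or.inl hXp)) hp hA hA2 hS hAS hSc
  choose z hz1 hz2 hz3 hz4 using hz
  obtain ⟨H, hH⟩ := exists_hall (isSolvable_of_le_mmax hM hE.1) (ta2 M)ᶜ
  have hZ2 : ⨆ p, zpowers (z p) ≤ E₂ :=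
    iSup_le fun p => zpowers_le.2 ((pCoreOf_normal _ _).1 (hz1 p))
  have hZn : E ≤ 𝐍(⨆ p, zpowers (z p)) :=
    (le_iInf hz2).trans (iInf_normalizer_le_normalizer_iSup _)
  have hZp : ∀ p : ta2 M, zpowers (z p) ≤ ⨆ p, zpowers (z p) := le_iSup fun p => zpowers (z p)
  have hZi : ∀ p : ta2 M, (⨆ p, zpowers (z p)) ≤ zpowers (z p) ⊔ H2.pPrimeCoreOf p E₂ :=
    fun p => iSup_le fun r => by
      by_cases e : r = p
      · subst e; exact le_sup_left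
      · refine le_sup_of_le_right ((hasNPC_of_isNilpotent p.2.1 hnil).le_pPrimeCoreOf p.2.1
          ((hZp r).trans hZ2) fun hd => e (Subtype.ext ?_))
        exact (eq_of_prime_dvd_card_of_isPGroup r.2.1 p.2.1
          ((isSyl_pCoreOf_of_isNilpotent r.2.1 hnil).pgrp.to_le (zpowers_le.2 (hz1 r))) hd).symm
  generalize (⨆ p, zpowers (z p)) = Z at hZ2 hZn hZp hZi
  have hle : Z ⊔ H ≤ E := sup_le (hZ2.trans hs.hall2.1) hH.1
  have hexp : Monoid.exponent ↥(Z ⊔ H) = Monoid.exponent E :=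
    exponent_eq_of_forall hle fun r hr y hy hyr => by
      by_cases hr2 : r ∈ ta2 M
      · have h1 : zpowers y ≤ E₂ := le_of_hall_normal hs.hall2 hn2 (zpowers_le.2 hy)
          (isPi_of_isPGroup hr hyr hr2)
        have h2 := (isSyl_pCoreOf_of_isNilpotent hr hnil).le_of_normal hr (pCoreOf_normal r E₂).2
          hyr h1
        exact orderOf_dvd_iff_pow_eq_one.1 ((orderOf_dvd_of_pow_eq_one
          (hz3 ⟨r, hr2⟩ y (h2 (mem_zpowers y)))).trans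
          (orderOf_dvd_exponent_of_mem (mem_sup_left (hZp _ (mem_zpowers _)))))
      · exact pow_exponent_of_not_dvd hle hr (fun hd => hall_not_dvd hH hr hr2
          (hd.trans (relIndex_dvd_of_le_left E le_sup_right))) hy hyr
  refine ⟨Z ⊔ H, hle, hexp, Ms_ne_bot hM, fun e => ?_, hle.trans hEn,
    semiReg_of_prime fun X hX hXp => ?_⟩
  · have hE1 : E = ⊥ := eq_bot_iff.2 fun y hy => by
      have := pow_exponent_of_mem hy
      rw [← hexp, e] at this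
      simpa using this
    exact (hs.context hM).2.1 (eq_bot_iff.2 (hE1 ▸ hs.hall2.1)) (eq_bot_iff.2 (hE1 ▸ hs.hall1.1))
  · rcases partition_sigma_compl hM hXp (card_dvd_of_le ((hX.trans hle).trans hE.1))
      (hall_isPi hE _ hXp (card_dvd_of_le (hX.trans hle))) with e | e | e
    · exact hreg X (hX.trans hle) (Or.inl e)
    · have h1 := (hall_of_sup (π := (ta2 M)ᶜ) (hH.1.trans hZn) (hall_isPi hH)
        (by rw [compl_compl]; exact isPi_of_le hZ2 (hall_isPi hs.hall2))).2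
      rw [compl_compl] at h1
      have h2 := le_of_hall_normal h1 (hle.trans hZn) hX (isPi_of_card_prime hXp rfl e)
      have hD := dProd_pCoreOf_of_isNilpotent hXp hnil
      have h3 := (isSyl_pCoreOf_of_isNilpotent hXp hnil).le_of_normal hXp (pCoreOf_normal _ E₂).2
        (isPGroup_of_card_prime rfl) (h2.trans hZ2)
      have h4 := le_inf (h2.trans (hZi ⟨_, e⟩)) h3
      rw [sup_inf_of_le_left ((hD.cent.trans (cent_anti (zpowers_le.2 (hz1 ⟨_, e⟩)))).trans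
        (cent_le_norm _)) (zpowers_le.2 (hz1 ⟨_, e⟩)), hD.symm.disj, sup_bot_eq] at h4
      exact hz4 ⟨_, e⟩ X h4 rfl
    · exact hreg X (hX.trans hle) (Or.inr e)

end Cfsg.Agent.FT
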