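/-
BG 12.13 - 12.15.
-/
import Cfsg.Agent.FT.P.BG12b_2
import Cfsg.Agent.H5.Cube

set_option autoImplicit false

namespace Cfsg.Agent.FT

open Subgroup Cfsg Cfsg.Agent
open scoped commutatorElement

universe u

variable {G : Type u} [Group G] [Finite G]

namespace BG12b

theorem cube_card_center {p : ℕ} (hp : p.Prime) {S : Subgroup G} (hS : 𝐨(S) = p ^ 3)
    (hna : ¬ IsMulCommutative S) : 𝐨(𝐙(S)) = p :=
  haveI := Fact.mk hp
  H5.card_zOf_cube hS hna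

theorem cube_der_le {p : ℕ} (hp : p.Prime) {S : Subgroup G} (hS : 𝐨(S) = p ^ 3)
    (hna : ¬ IsMulCommutative S) : ⁅S, S⁆ ≤ 𝐙(S) :=
  haveI := Fact.mk hp
  commutator_le.2 fun _ hx _ hy => H5.commutator_mem_zOf_cube hS hna hx hy

theorem cube_elem2 {p : ℕ} (hp : p.Prime) {S : Subgroup G} (hS : 𝐨(S) = p ^ 3)
    (hna : ¬ IsMulCommutative S) (he : ∀ x ∈ S, x ^ p = 1) {a : G} (ha : a ∈ S)
    (haZ : a ∉ 𝐙(S)) : IsElem p 2 (𝐙(S) ⊔ zpowers a) := by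
  have h1 : a ≠ 1 := by rintro rfl; exact haZ (one_mem _)
  have h2 : 𝐨(zpowers a) = p := by
    rw [Nat.card_zpowers]; exact elemAb_orderOf hp (elemAb_zpowers (he a ha)) (mem_zpowers a) h1
  refine IsElem.sup (n := 1) (m := 1) ((isElem_one_iff hp).2 (cube_card_center hp hS hna))
    ((isElem_one_iff hp).2 h2) (cent_comm.1 (inf_le_right.trans (cent_anti (zpowers_le.2 ha)))) ?_
  rw [inf_comm]
  exact (inf_eq_bot_or_le_of_card_prime (h2 ▸ hp) _).resolve_right fun h => haZ (h (mem_zpowers a))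

variable [MinOdd G]

theorem cube_cent_center_le {p : ℕ} (hp : p.Prime) {S M K : Subgroup G} (hS : 𝐨(S) = p ^ 3)
    (hna : ¬ IsMulCommutative S) (he : ∀ x ∈ S, x ^ p = 1) (hM : IsCoatom M) (hSM : S ≤ M)
    (hSK : S ≤ 𝐍(K)) (hc : 𝐨(S).Coprime 𝐨(K)) (hK : K ≤ 𝐂(𝐙(S))) : K ≤ M := by
  have hSZ : S ≤ 𝐂(𝐙(S)) := cent_comm.1 inf_le_right
  have hY : K ⊔ S ≤ 𝐍(𝐙(S)) := (sup_le hK hSZ).trans (cent_le_norm _)
  have := H1.normal_subgroupOf_of_le hY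
  have hZY : 𝐙(S) ≤ K ⊔ S := inf_le_left.trans le_sup_right
  have h1 : H1.bar (K ⊔ S) 𝐙(S) K ≤ H1.bar (K ⊔ S) 𝐙(S) (M ⊓ (K ⊔ S)) := by
    refine H1.le_of_forall_centralizer_le (A := H1.bar (K ⊔ S) 𝐙(S) S)
      ((H1.isMulCommutative_bar_iff le_sup_right).2 (cube_der_le hp hS hna))
      (fun h => hna (((cycMod_iff_bar hZY le_sup_right).2 h).isMulComm inf_le_right inf_le_left))
      (H1.bar_le_normalizer hSK) (H1.coprime_bar hc) fun z hz hz1 => ?_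
    obtain ⟨y, hy, rfl⟩ := H1.mem_bar.1 hz
    have hyZ : (y : G) ∉ 𝐙(S) := fun h => hz1 (H1.qmk_eq_one_iff.2 h)
    have hyS : zpowers (y : G) ≤ S := zpowers_le.2 hy
    rw [← cent_zpowers, ← H1.bar_zpowers, H1.bar_inf_centralizer_bar (hyS.trans le_sup_right)
      le_sup_left (hyS.trans hSK) (H1.coprime_of_le hc hyS le_rfl)
      (Or.inl (isSolvable_of_le_mmax hM (hyS.trans hSM)))]
    refine H1.bar_mono (le_inf ?_ (inf_le_left.trans le_sup_left))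
    refine le_trans ?_ (elem2_mmax hM hp (sup_le (inf_le_left.trans hSM) (hyS.trans hSM))
      (cube_elem2 hp hS hna he hy hyZ)).1
    rw [cent_sup]
    exact inf_le_inf_right _ hK
  exact ((H1.bar_le_bar_iff hZY le_sup_left inf_le_right).1 h1).trans
    (sup_le inf_le_left (inf_le_left.trans hSM))

theorem cube_Ma_le {p : ℕ} (hp : p.Prime) {S M H A A₀ : Subgroup G} (hS : 𝐨(S) = p ^ 3)
    (hna : ¬ IsMulCommutative S) (he : ∀ x ∈ S, x ^ p = 1) (hM : IsCoatom M) (hSM : S ≤ M)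
    (hSH : S ≤ H) (hα : p ∉ alp H) (hA : A ≤ S) (hA2 : IsElem p 2 A) (hAm : IsMaxElem p A ⊤)
    (hA₀ : A₀ ≤ A) (hA₀p : 𝐨(A₀) = p) (hne : A₀ ≠ 𝐙(S)) (hN : 𝐍(A₀) ≤ M) : Ma H ≤ M := by
  have hSp := isPGroup_of_card_eq hS
  have hΩ : omegaOne p 𝐙(S) = 𝐙(S) := omegaOne_eq_self fun a ha => he a ha.1
  obtain ⟨-, -, h3⟩ := basic_maxElem2_structure hp hA2 hAm hSp hA hna
  rw [hΩ] at h3
  have hc : 𝐨(S).Coprime 𝐨(Ma H) :=
    (isPi_coprime (isPi_Ma H) (isPi_of_isPGroup hp hSp hα)).symm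
  have hSN : S ≤ 𝐍(Ma H) := hSH.trans (Ma_normal H).2
  refine H1.le_of_forall_centralizer_le hA2.comm (hA2.not_isCyclic hp le_rfl) (hA.trans hSN)
    (H1.coprime_of_le hc hA le_rfl) fun a ha ha1 => ?_
  have h2 : 𝐨(zpowers a) = p := by
    rw [Nat.card_zpowers]; exact elemAb_orderOf hp hA2.elemAb ha ha1
  rw [← cent_zpowers]
  by_cases e : zpowers a = 𝐙(S)
  · rw [e]
    exact cube_cent_center_le hp hS hna he hM hSM (H1.le_normalizer_inf hSN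
      (H1.le_normalizer_centralizer (center_normal S).2))
      (H1.coprime_of_le hc le_rfl inf_le_left) inf_le_right
  · obtain ⟨g, hg, e'⟩ := h3 A₀ _ hA₀ hA₀p hne (zpowers_le.2 ha) h2 e
    rw [e', cent_conj]
    exact inf_le_right.trans (conj_le_of_mem ((cent_le_norm _).trans hN) (hSM hg.1))

end BG12b

open BG12b

variable [MinOdd G]

/-- BG 12.13. -/
theorem nonabelian_uniq {p : ℕ} (hp : p.Prime) {P : Subgroup G} (hP : IsPGroup p P)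
    (hna : ¬ IsMulCommutative P) : InU P := by
  obtain ⟨M, hM, hPM⟩ := mmax_exists (ne_top_of_isPGroup hp hP)
  refine ⟨M, by_contra fun hU => ?_⟩
  obtain ⟨H, hH, hPH, hne⟩ := exists_mmax_ne_of_not_uniqMax hM hPM hU
  obtain ⟨R, hR, hPR⟩ := exists_isSyl_ge hp hP (le_inf hPH hPM)
  have hRna : ¬ IsMulCommutative R := fun h => hna (isMulComm_of_le hPR h)
  have hN : ∀ L : Subgroup G, IsCoatom L → R ≤ L → 𝐍(R) ≤ L := fun L hL hRL =>
    norm_noncyclic_sigma hL (by_contra fun h => hRna (isMulComm_of_sigma' hL hp h hR.pgrp hRL))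
      hR.pgrp hRL fun h => hRna (isMulComm_of_isCyclic h)
  have hRH := hR.le.trans inf_le_left
  have hRM := hR.le.trans inf_le_right
  have hNR : 𝐍(R) ≤ H ⊓ M := le_inf (hN H hH hRH) (hN M hM hRM)
  have hRG : IsSyl p R ⊤ := IsSyl.of_norm hp (by
    rw [top_inf_eq]; exact hR.of_le (le_norm_self R) hNR)
  have hnU : ∀ X : Subgroup G, X ≤ R → ¬ InU X := fun X hX h =>
    hne (h.eq hH (hX.trans hRH) hM (hX.trans hRM))
  have hr : pRank p R ≤ 2 := by_contra fun h => hnU R le_rfl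
    (rank3_uniq (ne_top_of_isPGroup hp hR.pgrp) (by rw [rank_eq_pRank hp hR.pgrp]; omega))
  obtain ⟨S, C, hSC, hSna, hS, he, -, -⟩ := rank2_sylow_cprod hp hRG hr hRna
  have hSR : S ≤ R := hSC.sup ▸ le_sup_left
  obtain ⟨a, ha, haZ⟩ : ∃ a ∈ S, a ∉ 𝐙(S) := by
    by_contra! h
    exact hSna (isMulComm_iff_le_cent.2 fun a ha => (h a ha).2)
  have hA2 := cube_elem2 hp hS hSna he ha haZ
  have hA : 𝐙(S) ⊔ zpowers a ≤ S := sup_le inf_le_left (zpowers_le.2 ha)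
  have hAm : IsMaxElem p (𝐙(S) ⊔ zpowers a) ⊤ := by_contra fun h =>
    hnU _ (hA.trans hSR) (nonmaxElem2_uniq hp hA2 h)
  have key : ∀ L L' : Subgroup G, IsCoatom L → IsCoatom L' → L' ≠ L → 𝐍(R) ≤ L' ⊓ L →
      ¬ Ma L ≤ L' := fun L L' hL hL' hne' hN' h => hne' (mmax_eq_of_le' hL hL' (by
        rw [← (nonuniq_norm_sylow_pprod hp hL hL' hne' hRG hN').1]
        exact sup_le ((Mb_le_Ma L).trans h) inf_le_left)).symm
  have key2 : ∀ L L' : Subgroup G, IsCoatom L → IsCoatom L' → L' ≠ L → 𝐍(R) ≤ L' ⊓ L →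
      ∃ A₀ : Subgroup G, A₀ ≤ 𝐙(S) ⊔ zpowers a ∧ 𝐨(A₀) = p ∧ UniqMax 𝐍(A₀) L := by
    intro L L' hL hL' hne' hN'
    by_contra! h
    exact key L L' hL hL' hne' hN' ((((elem2_mmax hL hp ((hA.trans hSR).trans
      ((le_norm_self R).trans (hN'.trans inf_le_right))) hA2).2 h).2.1).le.trans bot_le)
  have hα : ∀ L : Subgroup G, R ≤ L → p ∉ alp L := fun L hL h => by
    have := h.2
    rw [← (hRG.of_le hL le_top).pRank_eq hp] at this
    omega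
  have hNR' : 𝐍(R) ≤ M ⊓ H := inf_comm H M ▸ hNR
  obtain ⟨A₀, h01, h02, h03⟩ := key2 M H hM hH hne hNR
  obtain ⟨A₁, h11, h12, h13⟩ := key2 H M hH hM hne.symm hNR'
  by_cases e : A₀ = 𝐙(S)
  · have e' : A₁ ≠ 𝐙(S) := fun e' => hne (h03.eq hH (by rw [e, ← e']; exact h13.le))
    exact key M H hM hH hne hNR (cube_Ma_le hp hS hSna he hH (hSR.trans hRH) (hSR.trans hRM)
      (hα M hRM) hA hA2 hAm h11 h12 e' h13.le)
  · exact key H M hH hM hne.symm hNR' (cube_Ma_le hp hS hSna he hM (hSR.trans hRM) (hSR.trans hRH)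
      (hα H hRH) hA hA2 hAm h01 h02 e h03.le)

namespace BG12b

theorem rank2_sylow_der_le_cent {p : ℕ} (hp : p.Prime) {P : Subgroup G} (hP : IsSyl p P ⊤)
    (h : pRank p P ≤ 2) : ⁅P, P⁆ ≤ 𝐂(P) := by
  by_cases hna : IsMulCommutative P
  · rw [isMulComm_iff_comm_eq_bot.1 hna]; exact bot_le
  obtain ⟨S, C, hSC, hSna, hS, -, hC, -⟩ := rank2_sylow_cprod hp hP h hna
  have h1 : ⁅S ⊔ C, S ⊔ C⁆ ≤ 𝐙(S) := der_sup_le (center_normal S).2
    ((hSC.cent.trans (cent_anti inf_le_left)).trans (cent_le_norm _)) (cube_der_le hp hS hSna)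
    ((comm_eq_bot_iff.2 (cent_comm.1 hSC.cent)).le.trans bot_le)
    ((isMulComm_iff_comm_eq_bot.1 (isMulComm_of_isCyclic hC)).le.trans bot_le)
  rw [← hSC.sup, cent_sup]
  exact h1.trans (le_inf inf_le_right (inf_le_left.trans (cent_comm.1 hSC.cent)))

theorem cent_der_aux {M X P : Subgroup G} (hM : IsCoatom M) {p : ℕ} (hp : p ∈ sig M)
    (hX : X ≤ P) (hXp : 𝐨(X) = p) (h : p ∈ bet M ∨ X ≤ ⁅Ms M, Ms M⁆) (hP : IsSyl p P (Ms M)) :
    UniqMax 𝐂(X) M ∧ UniqMax P M := by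
  have hPM := hP.le.trans (Ms_le M)
  have hX1 := ne_bot_of_card_prime (hXp ▸ hp.1 : 𝐨(X).Prime)
  have hp2 : p ≠ 2 := ne_two_of_dvd_card (H := X) (hXp ▸ dvd_rfl)
  suffices hU : InU (P ⊓ 𝐂(X)) from
    ⟨(hU.uniqMax hM (inf_le_left.trans hPM)).mono' inf_le_right (cent_ne_top hX1),
      (hU.uniqMax hM (inf_le_left.trans hPM)).mono inf_le_left hPM⟩
  by_cases hr : 3 ≤ pRank p (P ⊓ 𝐂(X))
  · exact rank3_uniq (ne_top_of_le_mmax hM (inf_le_left.trans hPM))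
      (hr.trans (pRank_le_rank hp.1 _))
  have hPG := hP.trans_hall hp.1 (Ms_hall hM).2 hp
  have hn : Narrow p P := fun h3 =>
    (narrow_iff_cent hp.1 hp2 hP.pgrp h3).2 ⟨X, hX, hXp, by omega⟩ h3
  have hβ : p ∉ bet M := fun hb => hb.2.2 P hPG hn
  have hsd := (beta_max_pdiv hM hp.1 hβ).2.1.sdProd hp.1 hP
  have hXP : X ≤ ⁅P, P⁆ := by
    have := pprod_focal_coprime hsd.sup hsd.le_norm hX (by
      rw [hXp, hp.1.coprime_iff_not_dvd]; exact not_dvd_card_pPrimeCoreOf hp.1 _)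
    rw [inf_eq_left.2 (h.resolve_left hβ)] at this
    exact this.le.trans inf_le_right
  have hr2 : pRank p P ≤ 2 := by_contra fun h3 => hX1 (by
    rw [← (narrow_cent_dprod hp.1 hp2 hP.pgrp (by omega) hn hX hXp (by omega)).2.1,
      inf_eq_left.2 hXP])
  rw [inf_eq_left.2 (cent_comm.1 (hXP.trans (rank2_sylow_der_le_cent hp.1 hPG hr2)))]
  exact nonabelian_uniq hp.1 hP.pgrp fun hc =>
    hX1 (eq_bot_iff.2 (isMulComm_iff_comm_eq_bot.1 hc ▸ hXP))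

end BG12b

/-- BG 12.14. -/
theorem cent_der_sigma_uniq {M X P : Subgroup G} (hM : IsCoatom M) {p : ℕ} (hp : p ∈ sig M)
    (hX : X ≤ M) (hXp : 𝐨(X) = p) (h : p ∈ bet M ∨ X ≤ ⁅Ms M, Ms M⁆) (hP : IsSyl p P (Ms M)) :
    UniqMax 𝐂(X) M ∧ UniqMax P M := by
  obtain ⟨g, hg, hXP⟩ := hP.exists_conj_le hp.1 (isPGroup_of_card_prime hXp)
    (le_of_hall_normal (Ms_hall hM).1 (Ms_normal M).2 hX (isPi_of_card_prime hp.1 hXp hp))
  obtain ⟨h1, h2⟩ := cent_der_aux hM hp hXP ((card_conj X g).trans hXp)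
    (h.imp_right fun h => conj_le_of_mem_norm h ((der_normal _).2 hg)) hP
  refine ⟨?_, h2⟩
  have := h1.conj g⁻¹
  rwa [cent_conj, conj_conj_inv, conj_eq_of_mem (inv_mem (Ms_le M hg))] at this

namespace BG12b

theorem not_betG_of_sig {M : Subgroup G} {p : ℕ} (hσ : p ∈ sig M) (hβ : p ∉ bet M) :
    p ∉ betG G := fun h => by
  obtain ⟨P, hP⟩ := exists_isSyl hσ.1 M
  refine h.2 P (sigma_sylow hσ hP).2 (narrow_of_pRank_le (by_contra fun h3 => hβ ⟨⟨hσ.1, ?_⟩, h⟩))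
  rw [← hP.pRank_eq hσ.1]; omega

omit [MinOdd G] in
theorem isSyl_of_sup {K U M R : Subgroup G} {p : ℕ} (hp : p.Prime) (h : K ⊔ U = M)
    (hn : M ≤ 𝐍(K)) (hK : ¬ p ∣ 𝐨(K)) (hR : IsSyl p R U) : IsSyl p R M := by
  have hU : U ≤ M := h ▸ le_sup_right
  refine hR.trans hp hU fun hd => hK ?_
  have h1 := card_sup_mul_card_inf (hU.trans hn)
  have h2 := H1.card_mul_relIndex hU
  rw [h, ← h2, mul_comm 𝐨(K), mul_assoc] at h1
  have h3 := Nat.eq_of_mul_eq_mul_left (Nat.pos_of_ne_zero (card_ne_zero U)) h1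
  exact hd.trans ⟨_, h3.symm⟩

theorem embed_b {M X Mst S : Subgroup G} (hM : IsCoatom M) {q : ℕ}
    (hq : q ∈ sig M) (hN : 𝐍(X) ≤ Mst) (hS : IsSyl q S (M ⊓ Mst)) (hXS : X ≤ S) :
    𝐍(S) ≤ M ∧ IsSyl q S Mst := by
  have h1 : 𝐍(S) ≤ M := by
    by_cases hc : IsCyclic S
    · refine (sigma_sylow hq (IsSyl.of_norm hq.1 (hS.of_le
        (le_inf (hS.le.trans inf_le_left) (le_norm_self S)) ?_))).1
      exact inf_le_inf_left _ ((norm_le_norm_of_le_cyclic hc hXS).trans hN)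
    · exact norm_noncyclic_sigma hM hq hS.pgrp (hS.le.trans inf_le_left) hc
  exact ⟨h1, IsSyl.of_norm hq.1 (hS.of_le (le_inf (hS.le.trans inf_le_right) (le_norm_self S))
    (le_inf (inf_le_right.trans h1) inf_le_left))⟩

theorem embed_d {M Mst S : Subgroup G} (hM : IsCoatom M) {q : ℕ} (hMst : IsCoatom Mst)
    (hne : Mst ≠ M) (hq : q ∈ sig Mst) (hN : 𝐍(S) ≤ M) (hS : IsSyl q S Mst) :
    Mb Mst ⊔ (M ⊓ Mst) = Mst ∧ ta1 Mst ⊆ ta1 M ∪ alp M ∧ Mb M = Ma M ∧ Ma M ≠ ⊥ := by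
  obtain ⟨h1, h2⟩ := sigma_sylow hq hS
  obtain ⟨a1, -⟩ := nonuniq_norm_sylow_pprod hq.1 hMst hM hne.symm h2 (le_inf hN h1)
  obtain ⟨b1, b2⟩ := nonuniq_norm_sylow_pprod hq.1 hM hMst hne h2 (le_inf h1 hN)
  have e : Mb M = Ma M := by rw [Mb, Ma, b2]
  refine ⟨a1, fun p hp => or_iff_not_imp_right.2 fun hα => ?_, e, fun h0 => hne ?_⟩
  · obtain ⟨R, hR⟩ := exists_isSyl hp.1 (M ⊓ Mst)
    have hnd : ¬ p ∣ 𝐨(Mb M) := fun h => hα (isPi_Mb M p hp.1 h).1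
    have hR1 : IsSyl p R Mst := isSyl_of_sup hp.1 a1 (Mb_normal _).2
      (fun h => hp.2.1 (alp_subset_sig hMst (isPi_Mb _ p hp.1 h).1)) hR
    have hR2 : IsSyl p R M := isSyl_of_sup hp.1 b1 (Mb_normal _).2 hnd (inf_comm M Mst ▸ hR)
    have h3 : ¬ p ∣ 𝐨(⁅M, M⁆) := by
      rw [← (hR2.inf_normal hp.1 (der_normal M)).eq_bot_iff hp.1,
        pprod_focal_coprime b1 (Mb_normal _).2 (inf_comm M Mst ▸ hR.le)
          (isPi_coprime (π := {p}) ((isPi_singleton_iff hp.1).2 hR.pgrp)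
            ((isPi_compl_singleton_iff' hp.1).2 hnd)), eq_bot_iff,
        ← ((hR1.inf_normal hp.1 (der_normal Mst)).eq_bot_iff hp.1).2 hp.2.2.2]
      exact inf_le_inf_left _ (commutator_mono inf_le_left inf_le_left)
    refine ⟨hp.1, fun hσ => h3 ?_, by rw [← hR2.pRank_eq hp.1, hR1.pRank_eq hp.1, hp.2.2.1], h3⟩
    exact ((hall_dvd_card_iff (Ms_hall hM).1 hp.1 hσ).2 hσ.2.1).trans
      (card_dvd_of_le (Ms_le_der hM))
  · rw [e, h0, bot_sup_eq] at b1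
    exact (mmax_eq_of_le' hM hMst (b1.ge.trans inf_le_left)).symm

theorem embed_e {M X Mst S : Subgroup G} (hM : IsCoatom M) {q : ℕ} (hq : q ∈ sig M)
    (hX : IsPGroup q X) (hMst : IsCoatom Mst) (hne : Mst ≠ M) (hN : 𝐍(X) ≤ Mst)
    (hq' : q ∉ sig Mst) (hSM : S ≤ M) (hS : IsSyl q S Mst) :
    q ∈ ta2 Mst ∧ (∀ r ∈ piOf M, r ∈ sig Mst → r ∈ bet Mst) ∧
      IsPiHallOf (sig Mst)ᶜ (M ⊓ Mst) Mst := by
  have h2 := (prime_class_mmax_norm hMst hq.1 hX hN).resolve_left hq'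
  obtain ⟨E, hE, hSE⟩ := ex_sigma_compl hMst hS.le (isPi_of_isPGroup hq.1 hS.pgrp hq')
  obtain ⟨A, hA, hA2⟩ := (le_pRank_iff (n := 2) hq.1).1 (by rw [hS.pRank_eq hq.1, h2.2.2])
  obtain ⟨⟨hAE, -⟩, ⟨hCE, -⟩, -⟩ := tau2_compl_context hMst hE h2 (hA.trans hSE) hA2
  have hEM : E ≤ M := hAE.2.trans
    (norm_noncyclic_sigma hM hq hA2.pgrp (hA.trans hSM) (hA2.not_isCyclic hq.1 le_rfl))
  have h0 := (tau2_context hMst h2 (hA.trans hS.le) hA2).2.2.2.1 M hM (hA.trans hSM) hne.symm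
  have hsd := sdprod_sigma hMst hE
  have e : M ⊓ Mst = E := by
    rw [inf_comm, ← hsd.sup, sup_inf_of_le_right hsd.norm hEM, h0, bot_sup_eq]
  refine ⟨h2, fun r hr hσ => by_contra fun hβ => ?_, e ▸ hE⟩
  have hrC : ¬ r ∣ 𝐨(𝐂(A)) := fun h => hall_isPi hE r hr.1 (h.trans (card_dvd_of_le hCE)) hσ
  have hqβ := (sigma'_rank2_max hMst hq.1 hq' (hA.trans hS.le) hA2).2
  have hrβ := not_betG_of_sig hσ hβ
  rcases lt_trichotomy r q with h | h | h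
  · obtain ⟨T, hT, hAT⟩ := (beta'_cent_sylow hMst hr.1 hq.1 hβ (fun h => hqβ h.2) hA2.pgrp
      (Or.inr ⟨h, hA.trans hS.le⟩)).1
    exact hrC ((prime_dvd_card_of_isPGroup hr.1 hT.pgrp (hT.ne_bot hr.1
      ((hall_dvd_card_iff (Ms_hall hMst).1 hr.1 hσ).2 hσ.2.1))).trans
        (card_dvd_of_le (cent_comm.1 hAT)))
  · exact hq' (h ▸ hσ)
  · obtain ⟨R, hR, hRr⟩ := exists_le_card_eq_prime hr.1 hr.2
    obtain ⟨T, hT, hRT⟩ := (beta'_cent_sylow hM hq.1 hr.1 (fun h => hqβ h.2) (fun h => hrβ h.2)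
      (isPGroup_of_card_prime hRr) (Or.inr ⟨h, hR⟩)).1
    obtain ⟨g, -, hg⟩ := (hT.trans_hall hq.1 (Ms_hall hM).1 hq).exists_conj_le hq.1 hA2.pgrp
      (hA.trans hSM)
    refine hrC ?_
    rw [← card_conj _ g, ← cent_conj, ← hRr]
    exact card_dvd_of_le (hRT.trans (cent_anti hg))

end BG12b

/-- BG 12.15. -/
theorem sigma_subgroup_embedding {M X Mst : Subgroup G} (hM : IsCoatom M) {q : ℕ}
    (hq : q ∈ sig M) (hX : IsPGroup q X) (hXM : X ≤ M) (hMst : IsCoatom Mst) (hne : Mst ≠ M)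
    (hN : 𝐍(X) ≤ Mst) :
    ¬ Conj M Mst ∧
      (∀ S : Subgroup G, IsSyl q S (M ⊓ Mst) → X ≤ S → 𝐍(S) ≤ M ∧ IsSyl q S Mst) ∧
      (q ∈ sig Mst → Mb Mst ⊔ (M ⊓ Mst) = Mst ∧ ta1 Mst ⊆ ta1 M ∪ alp M ∧
        Mb M = Ma M ∧ Ma M ≠ ⊥) ∧
      (q ∉ sig Mst → q ∈ ta2 Mst ∧ (∀ r ∈ piOf M, r ∈ sig Mst → r ∈ bet Mst) ∧
        IsPiHallOf (sig Mst)ᶜ (M ⊓ Mst) Mst) := by
  obtain ⟨S, hS, hXS⟩ := exists_isSyl_ge hq.1 hX (le_inf hXM ((le_norm_self X).trans hN))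
  obtain ⟨h1, h2⟩ := embed_b hM hq hN hS hXS
  exact ⟨mmax_norm_not_conj hM hMst hq.1 hX hXM hN (Or.inl ⟨hq, hne.symm⟩),
    fun S hS hXS => embed_b hM hq hN hS hXS, fun h => embed_d hM hMst hne h h1 h2,
    fun h => embed_e hM hq hX hMst hne hN h (hS.le.trans inf_le_left) h2⟩

end Cfsg.Agent.FT
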