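/-
BG 12.16 - 12.19.
-/
import Cfsg.Agent.FT.P.BG12b_3

set_option autoImplicit false

namespace Cfsg.Agent.FT

open Subgroup Cfsg Cfsg.Agent
open scoped commutatorElement

universe u

variable {G : Type u} [Group G] [Finite G]

namespace BG12b

theorem relIndex_dvd_of_sup {K U M : Subgroup G} (h : K ⊔ U = M) (hn : M ≤ 𝐍(K)) :
    U.relIndex M ∣ 𝐨(K) := by
  have hU : U ≤ M := h ▸ le_sup_right
  have h1 := card_sup_mul_card_inf (hU.trans hn)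
  have h2 := H1.card_mul_relIndex hU
  rw [h, ← h2, mul_comm 𝐨(K), mul_assoc] at h1
  exact ⟨_, (Nat.eq_of_mul_eq_mul_left (Nat.pos_of_ne_zero (card_ne_zero U)) h1).symm⟩

theorem exists_conj_le_of_sup {K U M B : Subgroup G} (hs : Group.IsSolvable M) (h : K ⊔ U = M)
    (hn : M ≤ 𝐍(K)) (hB : B ≤ M) (hc : 𝐨(B).Coprime 𝐨(K)) : ∃ g ∈ M, B ^ᵍ g ≤ U := by
  have hU : U ≤ M := h ▸ le_sup_right
  obtain ⟨D, hD⟩ := exists_hall (H1.isSolvable_of_le hU hs) (piOf K)ᶜ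
  have hD' : IsPiHallOf (piOf K)ᶜ D M := ⟨hD.1.trans hU, hD.2.1, fun p hp hπ hd => by
    rw [← relIndex_mul_relIndex D U M hD.1 hU] at hd
    exact (hp.dvd_mul.1 hd).elim (hD.2.2 p hp hπ) fun hd =>
      hπ ⟨hp, hd.trans (relIndex_dvd_of_sup h hn)⟩⟩
  obtain ⟨g, hg, hg'⟩ := exists_conj_le_hall hs hD' hB (coprime_iff_isPi_compl.1 hc)
  exact ⟨g, hg, hg'.trans hD.1⟩

theorem exists_char_pgroup {Y : Subgroup G} (hs : Group.IsSolvable Y) (h1 : Y ≠ ⊥) :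
    ∃ q : ℕ, q.Prime ∧ pCoreOf q Y ≠ ⊥ := by
  obtain ⟨q, hq, hd⟩ := exists_prime_dvd_card (H2.fittingOf_ne_bot h1)
  refine ⟨q, hq, ?_⟩
  rw [← pCoreOf_fittingOf hq]
  exact (isSyl_pCoreOf_of_isNilpotent hq inferInstance).ne_bot hq hd

variable [MinOdd G]

theorem sigma_struct {M Y : Subgroup G} (hM : IsCoatom M) (hπ : IsPiSubgroup (sig M) Y)
    (hY1 : Y ≠ ⊥) : ∃ (g : G) (L K : Subgroup G), L ≠ ⊤ ∧ 𝐍(Y ^ᵍ g) ≤ L ∧ K ⊔ (M ⊓ L) = L ∧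
      L ≤ 𝐍(K) ∧ IsPiSubgroup (sig M)ᶜ K ∧ ∀ p ∈ piOf M, p ∉ betG G → ¬ p ∣ 𝐨(K) := by
  have hY : Y ≠ ⊤ := by
    rintro rfl
    exact ne_top_of_le_mmax hM (Ms_le M) ((hall_eq_self_iff (Ms_hall hM).2).2 hπ)
  obtain ⟨q, hq, hX1⟩ := exists_char_pgroup (isSolvable_of_ne_top hY) hY1
  have hXq := H2.isPGroup_pCoreOf q Y
  have hσ := mem_of_isPi_of_isPGroup hq hXq hX1 (isPi_of_le (H2.pCoreOf_le q Y) hπ)
  obtain ⟨S, hS⟩ := exists_isSyl hq M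
  obtain ⟨g, -, hg⟩ := (sigma_sylow hσ hS).2.exists_conj_le hq hXq le_top
  have hN : 𝐍(Y ^ᵍ g) ≤ 𝐍(pCoreOf q Y ^ᵍ g) := by
    rw [← pCoreOf_conj g Y hq]; exact H2.normalizer_le_normalizer_pCoreOf q _
  have hXq' := hS.pgrp.to_le hg
  obtain ⟨L, hL, hNL⟩ := mmax_exists (norm_ne_top_of_isPGroup hq hXq' (mt conj_eq_bot_iff.1 hX1))
  refine ⟨g, L, ?_⟩
  by_cases hne : L = M
  · subst hne
    refine ⟨⊥, hL.1, hN.trans hNL, by simp, norm_bot.ge.trans' le_top, isPi_bot _, fun p hp _ h => ?_⟩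
    exact ne_bot_of_prime_dvd hp.1 h rfl
  obtain ⟨h1, -, h2, h3⟩ := sigma_subgroup_embedding hM hσ hXq' (hg.trans hS.le) hL hne hNL
  have hd := sigma_disjoint hL hM fun h => h1 h.symm
  by_cases hσ' : q ∈ sig L
  · exact ⟨Mb L, hL.1, hN.trans hNL, (h2 hσ').1, (Mb_normal L).2,
      fun p hp h h' => hd.2.1.ne_of_mem (isPi_Mb L p hp h).1 h' rfl,
      fun p hp hβ h => hβ (isPi_Mb L p hp.1 h).2⟩
  · obtain ⟨a1, a2, a3⟩ := h3 hσ'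
    exact ⟨Ms L, hL.1, hN.trans hNL, (sdprod_sigma hL a3).sup, (Ms_normal L).2,
      fun p hp h h' => (hd.2.2 (tau2_Ms_nil hL a1)).2.ne_of_mem (isPi_Ms L p hp h) h' rfl,
      fun p hp hβ h => hβ (a2 p hp (isPi_Ms L p hp.1 h)).2⟩

end BG12b

open BG12b

variable [MinOdd G]

/-- BG 12.16, first part. -/
theorem sigma_cj_le {M Y : Subgroup G} (hM : IsCoatom M) (hπ : IsPiSubgroup (sig M) Y) :
    ∃ g : G, Y ^ᵍ g ≤ Ms M := by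
  by_cases hY1 : Y = ⊥
  · exact ⟨1, by rw [hY1, conj_bot]; exact bot_le⟩
  obtain ⟨g, L, K, hL, hN, h1, h2, h3, -⟩ := sigma_struct hM hπ hY1
  have hπ' := (isPi_conj_iff Y g).2 hπ
  obtain ⟨k, -, hk⟩ := exists_conj_le_of_sup (isSolvable_of_ne_top hL) h1 h2
    ((le_norm_self _).trans hN) (isPi_coprime hπ' h3)
  refine ⟨k * g, ?_⟩
  rw [← conj_conj]
  exact le_of_hall_normal (Ms_hall hM).1 (Ms_normal M).2 (hk.trans inf_le_left)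
    ((isPi_conj_iff _ k).2 hπ')

/-- BG 12.16(a),(b). -/
theorem sigma_norm_rank {M Y E H : Subgroup G} (hM : IsCoatom M) (hπ : IsPiSubgroup (sig M) Y)
    (hY1 : Y ≠ ⊥) (hE : IsPiHallOf (sig M)ᶜ E M) {p : ℕ} (hp : p ∈ piOf E) (hβ : p ∉ betG G)
    (hH : IsCoatom H) (hYH : Y ≤ H) (hn : ¬ Conj M H) :
    pRank p (H ⊓ 𝐍(Y)) ≤ 1 ∧ (p ∈ ta1 M → ¬ p ∣ 𝐨(⁅H ⊓ 𝐍(Y), H ⊓ 𝐍(Y)⁆)) := by
  obtain ⟨g, L, K, hL, hN, h1, h2, h3, h4⟩ := sigma_struct hM hπ hY1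
  have hpK := h4 p (piOf_mono hE.1 hp) hβ
  have hσ : p ∉ sig M := hall_isPi hE p hp.1 hp.2
  have hNL : (H ⊓ 𝐍(Y)) ^ᵍ g ≤ L := (conj_mono inf_le_right g).trans (norm_conj Y g ▸ hN)
  refine ⟨by_contra fun h => ?_, fun ht hd => ?_⟩
  · obtain ⟨A, hA, hA2⟩ := (le_pRank_iff (n := 2) hp.1).1 (by omega : 2 ≤ pRank p (H ⊓ 𝐍(Y)))
    have hB : (A ⊔ Y) ^ᵍ g ≤ L :=
      (conj_mono (sup_le hA (le_inf hYH (le_norm_self Y))) g).trans hNL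
    have hc : 𝐨((A ⊔ Y) ^ᵍ g).Coprime 𝐨(K) := by
      rw [card_conj]
      refine Nat.Coprime.coprime_dvd_left (H1.card_sup_dvd (hA.trans inf_le_right))
        (Nat.Coprime.mul_left ?_ (isPi_coprime hπ h3))
      rw [hA2.card]
      exact ((hp.1.coprime_iff_not_dvd).2 hpK).pow_left 2
    obtain ⟨k, -, hk⟩ := exists_conj_le_of_sup (isSolvable_of_ne_top hL) h1 h2 hB hc
    rw [conj_conj] at hk
    have hAM : A ^ᵍ (k * g) ≤ M := (conj_mono le_sup_left _).trans (hk.trans inf_le_left)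
    have hYM : Y ^ᵍ (k * g) ≤ M := (conj_mono le_sup_right _).trans (hk.trans inf_le_left)
    have h5 := (tau2_context hM (mem_ta2_of_elem hM hp.1 hσ hAM (hA2.conj _)) hAM
      (hA2.conj _)).2.2.2.1 (H ^ᵍ (k * g)) (isCoatom_conj hH _)
      (conj_mono (hA.trans inf_le_left) _) fun e => hn (Conj.symm ⟨_, e.symm⟩)
    refine hY1 (conj_eq_bot_iff.1 (eq_bot_iff.2 (h5 ▸ le_inf ?_ (conj_mono hYH _))))
    exact le_of_hall_normal (Ms_hall hM).1 (Ms_normal M).2 hYM ((isPi_conj_iff _ _).2 hπ)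
  · rw [← card_conj _ g, conj_comm] at hd
    obtain ⟨R, hR⟩ := exists_isSyl hp.1 (M ⊓ L)
    have h5 := (isSyl_of_sup hp.1 h1 h2 hpK hR).inf_normal hp.1 (der_normal L)
    have h6 := prime_dvd_card_of_isPGroup hp.1 h5.pgrp
      (h5.ne_bot hp.1 (hd.trans (card_dvd_of_le (commutator_mono hNL hNL))))
    rw [pprod_focal_coprime h1 h2 hR.le (isPi_coprime (π := {p})
      ((isPi_singleton_iff hp.1).2 hR.pgrp) ((isPi_compl_singleton_iff' hp.1).2 hpK))] at h6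
    exact ht.2.2.2 (h6.trans (card_dvd_of_le
      (inf_le_right.trans (commutator_mono inf_le_left inf_le_left))))

/-- BG 12.17. -/
theorem sigma_compl_embedding {M E : Subgroup G} (hM : IsCoatom M)
    (hE : IsPiHallOf (sig M)ᶜ E M) :
    Ms M ⊓ 𝐂(E) ≤ ⁅Ms M, Ms M⁆ ∧ ⁅Ms M, E⁆ = Ms M ∧
      ∀ g : G, g ∉ M → IsCyclic ↥(Ms M ⊓ M ^ᵍ g) ∧ IsPiSubgroup (bet M)ᶜ (Ms M ⊓ M ^ᵍ g) ∧
        ⁅Ms M, Ms M⁆ ⊓ M ^ᵍ g = ⊥ := by
  obtain ⟨h1, h2⟩ := coprime_der_sdprod (sdprod_sigma hM hE)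
    (isPi_coprime (isPi_Ms M) (hall_isPi hE)) (isSolvable_of_le_mmax hM (Ms_le M)) (Ms_le_der hM)
  refine ⟨h2, h1, fun g hg => ?_⟩
  have key : ∀ p : ℕ, p.Prime → ∀ X : Subgroup G, X ≤ Ms M ⊓ M ^ᵍ g → IsPGroup p X → X ≠ ⊥ →
      ¬ 𝐂(X) ≤ M := fun p hp X hX hXp hX1 hC => hg (by
    have := sigma_mem_of_cent_le hM (mem_of_isPi_of_isPGroup hp hXp hX1
      (isPi_of_le (hX.trans inf_le_left) (isPi_Ms M))) hXp
      ((hX.trans inf_le_left).trans (Ms_le M)) hC (le_conj_iff.1 (hX.trans inf_le_right))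
    exact (inv_mem_iff (H := M)).1 this)
  have key2 : ∀ X : Subgroup G, X ≤ Ms M ⊓ M ^ᵍ g → 𝐨(X).Prime →
      ¬ (𝐨(X) ∈ bet M ∨ X ≤ ⁅Ms M, Ms M⁆) := fun X hX hp h => by
    obtain ⟨P, hP⟩ := exists_isSyl hp (Ms M)
    exact key _ hp X hX (isPGroup_of_card_prime rfl) (ne_bot_of_card_prime hp)
      (cent_der_sigma_uniq hM (isPi_Ms M _ hp (card_dvd_of_le (hX.trans inf_le_left)))
        ((hX.trans inf_le_left).trans (Ms_le M)) rfl h hP).1.le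
  have h3 : ⁅Ms M, Ms M⁆ ⊓ M ^ᵍ g = ⊥ := by_contra fun h => by
    obtain ⟨X, hX, hp⟩ := exists_le_card_prime h
    exact key2 X (hX.trans (inf_le_inf_right _ (der_le _))) hp (Or.inr (hX.trans inf_le_left))
  refine ⟨isCyclic_of_comm_of_rank_le_one (isMulComm_iff_comm_eq_bot.2 (eq_bot_iff.2 (h3 ▸ le_inf
    (commutator_mono inf_le_left inf_le_left) ((der_le _).trans inf_le_right)))) ?_,
    fun p hp hd hβ => ?_, h3⟩
  · by_contra h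
    obtain ⟨p, hp, A, hA, hA2⟩ := (le_rank_iff' (n := 2)).1 (not_le.1 h)
    exact key p hp A hA hA2.pgrp (hA2.ne_bot hp two_ne_zero)
      (elem2_mmax hM hp ((hA.trans inf_le_left).trans (Ms_le M)) hA2).1
  · obtain ⟨X, hX, rfl⟩ := exists_le_card_eq_prime hp hd
    exact key2 X hX hp (Or.inl hβ)

/-- BG 12.19. -/
theorem der_compl_cent_beta' {M E : Subgroup G} (hM : IsCoatom M)
    (hE : IsPiHallOf (sig M)ᶜ E M) :
    ∃ H : Subgroup G, IsPiHallOf (bet M)ᶜ H (Ms M) ∧ ⁅E, E⁆ ≤ 𝐂(H) := by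
  have hπ := isPi_of_le (der_le E) (hall_isPi hE)
  obtain ⟨W, hW, hEW⟩ := exists_hall_ge (π := (bet M)ᶜ) (isSolvable_of_le_mmax hM (der_le M))
    (commutator_mono hE.1 hE.1) (isPi_mono (Set.compl_subset_compl.2
      ((bet_subset_alp M).trans (alp_subset_sig hM))) hπ)
  exact ⟨W ⊓ Ms M, hall_inf_normal hW (normal_of_le (Ms_normal M) (Ms_le_der hM) (der_le M)),
    le_cent_of_coprime_of_isNilpotent (beta'_der_nil hM hW.1 (hall_isPi hW)) hEW inf_le_left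
      (isPi_coprime (isPi_of_le inf_le_right (isPi_Ms M)) hπ).symm⟩

namespace BG12b

omit [MinOdd G] in
theorem le_cent_of_prime_reg {K Q P : Subgroup G} (hP : 𝐨(P).Prime) (hPK : P ≤ 𝐍(K))
    (hPQ : P ≤ 𝐍(Q)) (hQK : Q ≤ 𝐍(K)) (hc : 𝐨(Q).Coprime 𝐨(K)) (h1 : K ⊓ 𝐂(P) = ⊥)
    (h2 : Q ⊓ 𝐂(P) = ⊥) : Q ≤ 𝐂(K) := by
  refine le_cent_of_coprime_of_isNilpotent (H := K ⊔ Q) (nilpotent_of_prime_reg
    (H1.le_normalizer_sup hPK hPQ) hP (eq_bot_iff.2 fun x hx => ?_)) le_sup_right le_sup_left hc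
  obtain ⟨k, hk, y, hy, rfl⟩ := (mem_sup_of_norm hQK).1 hx.1
  have hd := H1.inf_eq_bot_of_coprime' hc
  have key : ∀ a ∈ P, a * k = k * a ∧ a * y = y * a := fun a ha => by
    have e := mem_cent.1 hx.2 a ha
    have e1 : k⁻¹ * (a * k * a⁻¹) = y * (a * y * a⁻¹)⁻¹ := by
      calc k⁻¹ * (a * k * a⁻¹) = k⁻¹ * (a * (k * y)) * y⁻¹ * a⁻¹ := by group
        _ = _ := by rw [e]; group
    have e2 : k⁻¹ * (a * k * a⁻¹) = 1 := by
      rw [← mem_bot, ← hd]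
      exact ⟨e1 ▸ Q.mul_mem hy (Q.inv_mem (H1.conj_mem_of_le_normalizer hPQ ha hy)),
        K.mul_mem (K.inv_mem hk) (H1.conj_mem_of_le_normalizer hPK ha hk)⟩
    rw [e2] at e1
    constructor
    · calc a * k = k * (k⁻¹ * (a * k * a⁻¹)) * a := by group
        _ = _ := by rw [e2, mul_one]
    · calc a * y = (y * (a * y * a⁻¹)⁻¹)⁻¹ * (y * a) := by group
        _ = _ := by rw [← e1, inv_one, one_mul]
  have a1 : k ∈ K ⊓ 𝐂(P) := ⟨hk, mem_cent.2 fun a ha => (key a ha).1⟩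
  have a2 : y ∈ Q ⊓ 𝐂(P) := ⟨hy, mem_cent.2 fun a ha => (key a ha).2⟩
  rw [h1] at a1
  rw [h2] at a2
  exact mul_mem a1 a2

omit [MinOdd G] in
theorem le_cent_of_prime_reg_mod {K Q P X : Subgroup G} (hP : 𝐨(P).Prime) (hPK : P ≤ 𝐍(K))
    (hPQ : P ≤ 𝐍(Q)) (hQK : Q ≤ 𝐍(K)) (hc : 𝐨(Q).Coprime 𝐨(K)) (hc1 : 𝐨(P).Coprime 𝐨(K))
    (hc2 : 𝐨(P).Coprime 𝐨(Q)) (hX : X ⊲ K) (hPX : P ≤ 𝐍(X)) (hQX : Q ≤ 𝐂(X)) (h1 : K ⊓ 𝐂(P) ≤ X)
    (h2 : Q ⊓ 𝐂(P) = ⊥) : Q ≤ 𝐂(K) := by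
  have hY : K ⊔ Q ⊔ P ≤ 𝐍(X) := sup_le (sup_le hX.2 (hQX.trans (cent_le_norm _))) hPX
  have := H1.normal_subgroupOf_of_le hY
  have hK : K ≤ K ⊔ Q ⊔ P := le_sup_left.trans le_sup_left
  have hQ : Q ≤ K ⊔ Q ⊔ P := le_sup_right.trans le_sup_left
  have hs : Group.IsSolvable P :=
    isSolvable_of_isNilpotent (isNilpotent_of_isPGroup hP (isPGroup_of_card_prime rfl))
  have h3 := le_cent_of_prime_reg (K := H1.bar (K ⊔ Q ⊔ P) X K) (Q := H1.bar (K ⊔ Q ⊔ P) X Q)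
    (P := H1.bar (K ⊔ Q ⊔ P) X P) (by
      rw [H1.card_bar le_sup_right, ← inf_relIndex_right, inf_comm,
        H1.inf_eq_bot_of_coprime' (H1.coprime_of_le hc1 le_rfl hX.1), relIndex_bot_left]
      exact hP) (H1.bar_le_normalizer hPK) (H1.bar_le_normalizer hPQ)
    (H1.bar_le_normalizer hQK) (H1.coprime_bar hc) (by
      rw [H1.bar_inf_centralizer_bar le_sup_right hK hPK hc1 (Or.inl hs),
        H1.bar_eq_bot_iff (inf_le_left.trans hK)]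
      exact h1) (by
      rw [H1.bar_inf_centralizer_bar le_sup_right hQ hPQ hc2 (Or.inl hs), h2,
        H1.bar_eq_bot_iff bot_le]
      exact bot_le)
  rw [H1.bar_le_centralizer_iff hQ hK, commutator_comm] at h3
  exact H1.le_centralizer_of_commutator_le hQK hc h3 hQX

theorem eq_of_exp_of_rank {r : ℕ} (hr : r.Prime) {B D X : Subgroup G} (hB : B ≤ D)
    (hD : rank D ≤ 1) (hBr : IsPGroup r B) (he : ∀ x ∈ B, x ^ r = 1) (hX : X ≤ B)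
    (hXr : 𝐨(X) = r) : B = X := by
  rw [eq_omegaOne_of_isCyclic hr (isCyclic_of_pRank_le_one' hr hBr hB
    ((pRank_le_rank hr D).trans hD)) hX hXr, omegaOne_eq_self he]

theorem cent_Ma_aux {M P Q : Subgroup G} (hM : IsCoatom M) {p q : ℕ} (hp : p ∈ ta1 M)
    (hP : P ≤ M) (hPp : 𝐨(P) = p) (hq : q.Prime) (hqp : q ≠ p) (hQ : IsPGroup q Q) (hQM : Q ≤ M)
    (hQ1 : Q ≠ ⊥) (hPQ : P ≤ 𝐍(Q)) (hC : Q ⊓ 𝐂(P) = ⊥) (hN : ¬ UniqMax 𝐍(Q) M)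
    (h1 : Ma M ≠ ⊥) (hα : q ∉ alp M) : Ma M ⊓ 𝐂(P) ≠ ⊥ ∧ Ma M ⊓ 𝐂(P ⊔ Q) = ⊥ := by
  have hPπ : IsPiSubgroup (alp M)ᶜ P :=
    isPi_of_card_prime hp.1 hPp fun h => hp.2.1 (alp_subset_sig hM h)
  have hQπ : IsPiSubgroup (alp M)ᶜ Q := isPi_of_isPGroup hq hQ hα
  have hPpr : 𝐨(P).Prime := hPp ▸ hp.1
  have hPg := isPGroup_of_card_prime hPp
  have rQ : rank (Ma M ⊓ 𝐂(Q)) ≤ 1 := by_contra fun h => hN
    (((cent_alpha'_uniq hM hQM hQπ (by omega)).uniqMax hM inf_le_left).mono'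
      (inf_le_right.trans (cent_le_norm Q)) (norm_ne_top_of_isPGroup hq hQ hQ1))
  have rP : rank (Ma M ⊓ 𝐂(P)) ≤ 1 := by_contra fun h => by
    have := ((cent_alpha'_uniq hM hP hPπ (by omega)).uniqMax hM inf_le_left).le_of_ne_top
      (inf_le_right.trans (cent_le_norm P))
      (norm_ne_top_of_isPGroup hp.1 hPg (ne_bot_of_card_prime hPpr))
    exact (prime_class_mmax_norm hM hp.1 hPg this).elim hp.2.1
      fun h => (disjoint_ta1_ta2 M).ne_of_mem hp h rfl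
  have hcPQ := coprime_card_of_isPGroup hp.1 hq hqp.symm hPg hQ
  have hcP := (isPi_coprime (isPi_Ma M) hPπ).symm
  have hcQ := (isPi_coprime (isPi_Ma M) hQπ).symm
  have key : ∀ X : Subgroup G, X ≤ Ma M → ∀ r : ℕ, r.Prime → r ∈ alp M → IsPGroup r X →
      P ⊔ Q ≤ 𝐍(X) → ∃ R R₁ : Subgroup G, X ≤ R ∧ R₁ ≤ R ∧ R ≤ Ma M ∧ IsPGroup r R ∧
        P ⊔ Q ≤ 𝐍(R₁) ∧ (∀ x ∈ R₁, x ^ r = 1) ∧ ¬ Q ≤ 𝐂(R₁) ∧ R₁ ⊓ 𝐂(P) ≠ ⊥ := by
    intro X hX r hr hrα hXr hn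
    obtain ⟨R, hR, hXR, hnR⟩ := exists_invariant_isSyl hr ((sup_le hP hQM).trans (Ma_normal M).2)
      (isPi_coprime (isPi_Ma M) (isPi_sup hPπ hQπ hPQ)).symm
      (Or.inr (isSolvable_of_le_mmax hM (Ma_le M))) hXr hX hn
    have h3 : 2 < pRank r R := by
      rw [(hR.trans_hall hr (Ma_hall hM).1 hrα).pRank_eq hr]; exact hrα.2
    obtain ⟨R₁, a1, a2, -, -, a3, a4⟩ := critical_odd hr (ne_two_of_pRank_pos (H := R) hr (by omega))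
      hR.pgrp (ne_bot_of_prime_dvd hr ((pRank_pos_iff hr).1 (by omega)))
    have a5 : ¬ Q ≤ 𝐂(R₁) := fun h => by
      have h4 := a4 Q (le_sup_right.trans hnR) ((isPi_compl_singleton_iff hr).1
        (isPi_of_isPGroup hq hQ fun e => hα ((show q = r from e) ▸ hrα))) h
      have h5 := (pRank_mono hr (le_inf hR.le (cent_comm.1 h4))).trans
        ((pRank_le_rank hr _).trans rQ)
      omega
    have hn1 := hnR.trans a2
    exact ⟨R, R₁, hXR, a1, hR.le, hR.pgrp, hn1, a3, a5, fun h => a5 (le_cent_of_prime_reg hPpr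
      (le_sup_left.trans hn1) hPQ (le_sup_right.trans hn1)
      (H1.coprime_of_le hcQ le_rfl (a1.trans hR.le)) h hC)⟩
  refine ⟨fun h => ?_, by_contra fun h => ?_⟩
  · obtain ⟨r, hr, hd⟩ := exists_prime_dvd_card h1
    obtain ⟨R, R₁, -, a1, a2, -, -, -, -, a3⟩ := key ⊥ bot_le r hr (isPi_Ma M r hr hd)
      IsPGroup.of_bot (norm_bot.ge.trans' le_top)
    exact a3 (eq_bot_iff.2 (h ▸ inf_le_inf_right _ (a1.trans a2)))
  · obtain ⟨X, hX, hr⟩ := exists_le_card_prime h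
    have hXc : P ⊔ Q ≤ 𝐂(X) := cent_comm.1 (hX.trans inf_le_right)
    obtain ⟨R, R₁, a0, a1, a2, a3, a4, a5, a6, a7⟩ := key X (hX.trans inf_le_left) _ hr
      (isPi_Ma M _ hr (card_dvd_of_le (hX.trans inf_le_left))) (isPGroup_of_card_prime rfl)
      (hXc.trans (cent_le_norm X))
    have hR₁ := a3.to_le a1
    obtain ⟨X', hX', hX'r⟩ := exists_le_card_eq_prime hr
      (prime_dvd_card_of_isPGroup hr (hR₁.to_le inf_le_left) a7)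
    have hXP : X ≤ 𝐂(P) := cent_comm.1 (le_sup_left.trans hXc)
    have hXQ : X ≤ 𝐂(Q) := cent_comm.1 (le_sup_right.trans hXc)
    have e : X' = X := eq_of_card_prime_of_isCyclic hr (isCyclic_of_pRank_le_one' hr
      (a3.to_le inf_le_left) (inf_le_inf_right 𝐂(P) a2) ((pRank_le_rank hr _).trans rP))
      (hX'.trans (inf_le_inf_right _ a1)) (le_inf a0 hXP) hX'r rfl
    have hX1 : X ≤ R₁ := e ▸ hX'.trans inf_le_left
    have e1 : R₁ ⊓ 𝐂(P) = X := eq_of_exp_of_rank hr (inf_le_inf_right _ (a1.trans a2)) rP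
      (hR₁.to_le inf_le_left) (fun x hx => a5 x hx.1) (le_inf hX1 hXP) rfl
    have e2 : R₁ ⊓ 𝐂(Q) = X := eq_of_exp_of_rank hr (inf_le_inf_right _ (a1.trans a2)) rQ
      (hR₁.to_le inf_le_left) (fun x hx => a5 x hx.1) (le_inf hX1 hXQ) rfl
    have hlt := lt_inf_norm_of_isNilpotent (isNilpotent_of_isPGroup hr hR₁)
      (lt_of_le_of_ne hX1 fun e => a6 (cent_comm.1 (e ▸ hXQ)))
    have hn : P ⊔ Q ≤ 𝐍(R₁ ⊓ 𝐍(X)) := H1.le_normalizer_inf a4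
      (H1.le_normalizer_normalizer (hXc.trans (cent_le_norm X)))
    have hle : R₁ ⊓ 𝐍(X) ≤ Ma M := inf_le_left.trans (a1.trans a2)
    have h5 := le_cent_of_prime_reg_mod hPpr (le_sup_left.trans hn) hPQ (le_sup_right.trans hn)
      (H1.coprime_of_le hcQ le_rfl hle) (H1.coprime_of_le hcP le_rfl hle) hcPQ
      ⟨hlt.le, inf_le_right⟩ ((cent_comm.1 hXP).trans (cent_le_norm X)) (cent_comm.1 hXQ)
      (e1 ▸ inf_le_inf_right _ inf_le_left) hC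
    exact hlt.not_ge ((le_inf inf_le_left (cent_comm.1 h5)).trans e2.le)

end BG12b

/-- BG 12.18. -/
theorem cent_Ma_reg_tau1 {M P Q : Subgroup G} (hM : IsCoatom M) {p q : ℕ} (hp : p ∈ ta1 M)
    (hP : P ≤ M) (hPp : 𝐨(P) = p) (hq : q.Prime) (hqp : q ≠ p) (hQ : IsPGroup q Q) (hQM : Q ≤ M)
    (hQ1 : Q ≠ ⊥) (hPQ : P ≤ 𝐍(Q)) (hC : Q ⊓ 𝐂(P) = ⊥) (hN : ¬ UniqMax 𝐍(Q) M) :
    (Ma M ≠ ⊥ → q ∉ alp M → Ma M ⊓ 𝐂(P) ≠ ⊥ ∧ Ma M ⊓ 𝐂(P ⊔ Q) = ⊥) ∧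
      (IsSyl q Q M → alp M = bet M ∧ Ma M ≠ ⊥ ∧ q ∉ alp M) := by
  refine ⟨cent_Ma_aux hM hp hP hPp hq hqp hQ hQM hQ1 hPQ hC hN, fun hS => ?_⟩
  have hU : ∀ X : Subgroup G, X ≤ M → X ≤ 𝐍(Q) → ¬ InU X := fun X h1 h2 h =>
    hN ((h.uniqMax hM h1).mono' h2 (norm_ne_top_of_isPGroup hq hQ hQ1))
  have hα : q ∉ alp M := fun h => hU Q hQM (le_norm_self Q) (rank3_uniq
    (ne_top_of_le_mmax hM hQM) (by rw [rank_eq_pRank hq hQ, hS.pRank_eq hq]; exact h.2))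
  have hQD : Q ≤ ⁅M, M⁆ := by
    rw [← (semiReg_of_card_prime (hPp ▸ hp.1) hC).comm_eq le_rfl
      (ne_bot_of_card_prime (hPp ▸ hp.1)) hPQ]
    exact commutator_mono hQM hP
  refine ⟨Set.Subset.antisymm (fun r hr => by_contra fun hβ => hU _ inf_le_left
    (inf_le_right.trans (cent_le_norm Q)) ((beta'_cent_sylow hM hr.1 hq hβ (fun h => hα h.1) hQ
      (Or.inl ⟨fun e => hα (e ▸ hr), hQD⟩)).2.1 hr)) (bet_subset_alp M), fun h => hN ?_, hα⟩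
  have hn := Ma_quo_nil hM
  rw [h, nilMod_bot_iff] at hn
  rw [mmax_normal hM ⟨hQM, (der_normal M).2.trans
    ((hS.of_le hQD (der_le M)).norm_le_of_isNilpotent hq hn)⟩ hQ1]
  exact uniqMax_self hM

end Cfsg.Agent.FT
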