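/-
BG section 13, part 1: 13.1 - 13.7.
-/
import Cfsg.Agent.FT.BG12b

set_option autoImplicit false

namespace Cfsg.Agent.FT

open Subgroup Cfsg Cfsg.Agent
open scoped commutatorElement

universe u

variable {G : Type u} [Group G] [Finite G]

namespace BG13

/-- If `D / N` is nilpotent and `N` is a `π`-group then `D` has a normal Hall `π`-subgroup. -/
theorem hall_piCoreOf_of_nilMod {D N : Subgroup G} {π : Set ℕ} (hN : N ⊲ D) (h : NilMod D N)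
    (hπ : IsPiSubgroup π N) : IsPiHallOf π (piCoreOf π D) D := by
  haveI := H1.normal_subgroupOf_of_le hN.2
  have h1 := (nilMod_iff_bar (Y := D) le_rfl).1 h
  have h2 := hall_piCoreOf_of_isNilpotent h1 π
  have h3 := piCoreOf_normal π (H1.bar D N D)
  set K := piCoreOf π (H1.bar D N D)
  refine hall_piCoreOf_of_normal (H := H1.unbar D N K) ⟨H1.unbar_le K, fun p hp hd => ?_,
    fun p hp hπ hd => h2.2.2 p hp hπ ?_⟩ (H1.le_normalizer_unbar le_rfl h3.2)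
  · rw [H1.card_unbar hN.1] at hd
    exact ((Nat.Prime.dvd_mul hp).1 hd).elim (hπ p hp) (h2.2.1 p hp)
  · have := H1.relIndex_bar hN.1 (H1.unbar_le K) (le_refl D)
    rw [H1.bar_unbar, sup_eq_left.2 (H1.le_unbar hN.1 K), sup_eq_left.2 hN.1] at this
    rwa [this]

theorem relIndex_dvd_card_of_sup {T N H : Subgroup G} (hT : H ≤ 𝐍(T)) (h : T ⊔ N = H) :
    N.relIndex H ∣ 𝐨(T) := by
  have hN : N ≤ H := h ▸ le_sup_right
  have h1 := card_sup_mul_card_inf (hN.trans hT)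
  rw [h, ← H1.card_mul_relIndex hN, mul_assoc, mul_comm 𝐨(T)] at h1
  exact Dvd.intro _ (Nat.eq_of_mul_eq_mul_left (Nat.pos_of_ne_zero (card_ne_zero N)) h1)

theorem dvd_card_der_of_sup {T N H : Subgroup G} (hT : H ≤ 𝐍(T)) (h : T ⊔ N = H) {p : ℕ}
    (hp : p.Prime) (h1 : ¬ p ∣ 𝐨(T)) (h2 : p ∣ 𝐨(⁅H, H⁆)) : p ∣ 𝐨(⁅N, N⁆) := by
  have hN : N ≤ H := h ▸ le_sup_right
  have hT' : T ≤ H := h ▸ le_sup_left
  have h3 : ⁅H, H⁆ ≤ ⁅N, N⁆ ⊔ T := by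
    have h4 : H ≤ 𝐍(⁅N, N⁆ ⊔ T) := by
      rw [← h]
      exact sup_le (le_sup_right.trans (le_norm_self _))
        (H1.le_normalizer_sup (der_normal N).2 (hN.trans hT))
    conv_lhs => rw [← h]
    exact der_sup_le (hT'.trans h4) (hN.trans h4) ((der_le T).trans le_sup_right)
      ((comm_le_left_iff.2 (hN.trans hT)).trans le_sup_right) le_sup_left
  exact ((Nat.Prime.dvd_mul hp).1 ((h2.trans (card_dvd_of_le h3)).trans
    (H1.card_sup_dvd (((der_le N).trans hN).trans hT)))).resolve_right h1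

/-- A coprime operator group acting nontrivially acts nontrivially on an invariant Sylow subgroup. -/
theorem exists_isSyl_comm_ne_bot {R K : Subgroup G} (hR : R ≤ 𝐍(K)) (hc : 𝐨(R).Coprime 𝐨(K))
    (hs : Group.IsSolvable R ∨ Group.IsSolvable K) (h : ¬ K ≤ 𝐂(R)) :
    ∃ q : ℕ, q.Prime ∧ ∃ S, IsSyl q S K ∧ R ≤ 𝐍(S) ∧ ¬ S ≤ 𝐂(R) := by
  by_contra hcon
  push Not at hcon
  refine h (le_of_forall_exists_isSyl_le fun q hq _ => ?_)
  obtain ⟨S, h1, -, h2⟩ := exists_invariant_isSyl hq hR hc hs IsPGroup.of_bot bot_le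
    (by rw [norm_bot]; exact le_top)
  exact ⟨S, h1, hcon q hq S h1 h2⟩

variable [MinOdd G] {M : Subgroup G}

theorem hall_der_alp (hM : IsCoatom M) {π : Set ℕ} (h : alp M ⊆ π) :
    IsPiHallOf π (piCoreOf π ⁅M, M⁆) ⁅M, M⁆ :=
  hall_piCoreOf_of_nilMod (normal_of_le (Ma_normal M) ((Ma_le_Ms hM).trans (Ms_le_der hM))
    (der_le M)) (Ma_quo_nil hM) (isPi_mono h (isPi_Ma M))

theorem hall_der_bet (hM : IsCoatom M) {π : Set ℕ} (h : bet M ⊆ π) :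
    IsPiHallOf π (piCoreOf π ⁅M, M⁆) ⁅M, M⁆ :=
  hall_piCoreOf_of_nilMod (normal_of_le (Mb_normal M)
    ((Mb_le_Ma M).trans ((Ma_le_Ms hM).trans (Ms_le_der hM))) (der_le M)) (Mb_quo_nil hM)
    (isPi_mono h (isPi_Mb M))

/-- The commutator of a `π`-subgroup of `M'` with a subgroup of `M` is a `π ∪ α(M)`-group. -/
theorem isPi_comm_der (hM : IsCoatom M) {π : Set ℕ} (h : alp M ⊆ π) {P S : Subgroup G}
    (hP : P ≤ ⁅M, M⁆) (hπ : IsPiSubgroup π P) (hS : S ≤ M) : IsPiSubgroup π ⁅S, P⁆ :=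
  isPi_of_le ((commutator_mono le_rfl (le_piCoreOf_of_hall (hall_der_alp hM h) hP hπ)).trans
    (comm_le_right_iff.2 (hS.trans ((der_normal M).2.trans (norm_le_norm_piCoreOf _ _)))))
    (isPi_piCoreOf _ _)

theorem frattini_der (hM : IsCoatom M) {q : ℕ} (hq : q.Prime) {Y : Subgroup G}
    (hY : IsSyl q Y ⁅M, M⁆) : ∃ T : Subgroup G, T ⊲ M ∧ IsPiSubgroup (insert q (bet M)) T ∧
      T ⊔ (M ⊓ 𝐍(Y)) = M := by
  have h1 := hall_der_bet hM (Set.subset_insert q _)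
  have h2 : piCoreOf (insert q (bet M)) ⁅M, M⁆ ⊲ M :=
    ⟨h1.1.trans (der_le M), (der_normal M).2.trans (norm_le_norm_piCoreOf _ _)⟩
  exact ⟨_, h2, isPi_piCoreOf _ _, (hY.of_le (le_piCoreOf_of_hall h1 hY.le
    (isPi_of_isPGroup hq hY.pgrp (Set.mem_insert _ _))) h1.1).frattini hq h2⟩

theorem le_Ms (hM : IsCoatom M) {X : Subgroup G} (hX : X ≤ M) (h : IsPiSubgroup (sig M) X) :
    X ≤ Ms M := le_piCoreOf_of_hall (Ms_hall hM).1 hX h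

theorem le_Ma (hM : IsCoatom M) {X : Subgroup G} (hX : X ≤ M) (h : IsPiSubgroup (alp M) X) :
    X ≤ Ma M := le_piCoreOf_of_hall (Ma_hall hM).1 hX h

theorem le_der_of_pgroup (hM : IsCoatom M) {p : ℕ} (hp : p.Prime) (h : p ∈ sig M ∨ p ∈ ta3 M)
    {P : Subgroup G} (hP : IsPGroup p P) (hPM : P ≤ M) : P ≤ ⁅M, M⁆ := by
  rcases h with h | h
  · exact (le_Ms hM hPM (isPi_of_isPGroup hp hP h)).trans (Ms_le_der hM)
  obtain ⟨S, hS, h1⟩ := exists_isSyl_ge hp hP hPM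
  refine h1.trans ((cyclic_sylow_ti_or_le_der hp hS (isCyclic_of_pRank_le_one hp
    (ne_two_of_dvd_card h.2.2.2) hS.pgrp ((hS.pRank_eq hp).trans h.2.2.1).le)).resolve_left
    ((hS.inf_normal hp (der_normal M)).ne_bot hp h.2.2.2))

theorem mem_piOf_compl {E : Subgroup G} (hE : IsPiHallOf (sig M)ᶜ E M) {p : ℕ}
    (hp : p ∈ piOf M) (h : p ∉ sig M) : p ∈ piOf E :=
  ⟨hp.1, (hall_dvd_card_iff hE hp.1 h).2 hp.2⟩

theorem exists_mmax_norm {p : ℕ} (hp : p.Prime) {P : Subgroup G} (hP : IsPGroup p P)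
    (h : P ≠ ⊥) : ∃ L, IsCoatom L ∧ 𝐍(P) ≤ L := mmax_exists (norm_ne_top_of_isPGroup hp hP h)

theorem ne_of_not_conj {L : Subgroup G} (h : ¬ Conj M L) : L ≠ M := fun h' => h (h' ▸ Conj.refl _)

theorem coprime_Ms {X K : Subgroup G} (hX : IsPiSubgroup (sig M)ᶜ X) (hK : K ≤ Ms M) :
    𝐨(X).Coprime 𝐨(K) := (isPi_coprime (isPi_of_le hK (isPi_Ms M)) hX).symm

theorem norm_Ms_inf_cent {X Y : Subgroup G} (hX : X ≤ M) (h : X ≤ 𝐍(Y)) :
    X ≤ 𝐍(Ms M ⊓ 𝐂(Y)) :=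
  H1.le_normalizer_inf (hX.trans (Ms_normal M).2) (H1.le_normalizer_centralizer h)

theorem exists_sigmaCompl1 {E E₁ : Subgroup G} (hM : IsCoatom M) (hE : IsPiHallOf (sig M)ᶜ E M)
    (h1 : IsPiHallOf (ta1 M) E₁ E) : ∃ E₂ E₃, SigmaCompl M E E₁ E₂ E₃ := by
  obtain ⟨E₃, h3⟩ := exists_hall (isSolvable_of_le_mmax hM hE.1) (ta3 M)
  exact (ex_tau2_compl hM hE h1 h3).imp fun _ h => ⟨E₃, h⟩

theorem exists_sigmaCompl3 {E E₃ : Subgroup G} (hM : IsCoatom M) (hE : IsPiHallOf (sig M)ᶜ E M)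
    (h3 : IsPiHallOf (ta3 M) E₃ E) : ∃ E₁ E₂, SigmaCompl M E E₁ E₂ E₃ := by
  obtain ⟨E₁, h1⟩ := exists_hall (isSolvable_of_le_mmax hM hE.1) (ta1 M)
  exact ⟨E₁, ex_tau2_compl hM hE h1 h3⟩

theorem exists_elem2 {E : Subgroup G} (hE : IsPiHallOf (sig M)ᶜ E M) {p : ℕ} (hp : p ∈ ta2 M) :
    ∃ A, A ≤ E ∧ IsElem p 2 A :=
  (le_pRank_iff hp.1).1 ((hall_pRank_eq hp.1 hE hp.2.1).trans hp.2.2).ge

theorem eq_bot_or_tau2 {E E₁ E₂ E₃ : Subgroup G} (h : SigmaCompl M E E₁ E₂ E₃) :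
    E₂ = ⊥ ∨ ∃ p ∈ ta2 M, ∃ A, A ≤ E ∧ IsElem p 2 A := by
  by_cases h1 : E₂ = ⊥
  · exact Or.inl h1
  obtain ⟨p, hp, h2⟩ := exists_prime_dvd_card h1
  exact Or.inr ⟨p, h.hall2.2.1 p hp h2, exists_elem2 h.hall (h.hall2.2.1 p hp h2)⟩

theorem eq_bot_of_not_semiReg {E E₁ E₂ E₃ : Subgroup G} (hM : IsCoatom M)
    (h : SigmaCompl M E E₁ E₂ E₃) (hr : ¬ SemiReg (Ms M) E₃) : E₂ = ⊥ :=
  (eq_bot_or_tau2 h).resolve_right fun ⟨_, hp, _, hA, hA2⟩ => hr (tau2_regular hM h hp hA hA2).1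

end BG13

open BG13

variable [MinOdd G]

/-- BG 13.1. -/
theorem Ms_inf_mmax_central {M E Mst : Subgroup G} (hM : IsCoatom M)
    (hE : IsPiHallOf (sig M)ᶜ E M) (hMst : IsCoatom Mst) {p : ℕ} (hp : p ∈ piOf E)
    (hp' : p ∈ piOf Mst) (h1 : p ∉ ta1 Mst) (hn : ¬ Conj M Mst)
    (hc : ⁅Ms M ⊓ Mst, M ⊓ Mst⁆ ≠ ⊥) :
    (∀ P : Subgroup G, P ≤ M ⊓ Mst → IsPGroup p P → P ≤ 𝐂(Ms M ⊓ Mst)) ∧ p ∉ ta2 Mst ∧
      (p ∈ ta1 M → p ∈ betG G) := by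
  obtain ⟨q, hq, hqd⟩ := exists_prime_dvd_card hc
  have hcM : ∀ P ≤ M, ⁅Ms M ⊓ Mst, P⁆ ≤ Ms M := fun P hP =>
    (commutator_mono inf_le_left hP).trans (comm_le_left_iff.2 (Ms_normal M).2)
  have hqs : q ∈ sig M := isPi_Ms M q hq (hqd.trans (card_dvd_of_le (hcM _ inf_le_left)))
  obtain ⟨Y, hY⟩ := exists_isSyl hq ⁅Mst, Mst⁆
  have hY1 := hY.ne_bot hq (hqd.trans (card_dvd_of_le (commutator_mono inf_le_right inf_le_right)))
  obtain ⟨T, hT, hTπ, hTN⟩ := frattini_der hMst hq hY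
  have hps : p ∉ sig M := hE.2.1 p hp.1 hp.2
  have key : p ∉ betG G → ¬ p ∣ 𝐨(T) ∧ pRank p (Mst ⊓ 𝐍(Y)) ≤ 1 ∧
      (p ∈ ta1 M → ¬ p ∣ 𝐨(⁅Mst ⊓ 𝐍(Y), Mst ⊓ 𝐍(Y)⁆)) := fun hb =>
    ⟨fun h => (hTπ p hp.1 h).elim (fun h => hps (h ▸ hqs)) fun h => hb h.2,
      sigma_norm_rank hM (isPi_of_isPGroup hq hY.pgrp hqs) hY1 hE hp hb hMst
        (hY.le.trans (der_le _)) hn⟩
  have h2 : p ∉ ta2 Mst := fun h => by
    obtain ⟨A, hA, hA2⟩ := (le_pRank_iff hp.1).1 h.2.2.ge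
    obtain ⟨k1, k2, -⟩ := key (sigma'_rank2_max hMst hp.1 h.2.1 hA hA2).2
    rw [pRank_eq_of_not_dvd_relIndex hp.1 inf_le_left
      fun h => k1 (h.trans (relIndex_dvd_card_of_sup hT.2 hTN)), h.2.2] at k2
    omega
  have h3 : p ∈ sig Mst ∨ p ∈ ta3 Mst := by
    by_cases h : p ∈ sig Mst
    · exact Or.inl h
    · exact Or.inr (((partition_sigma_compl hMst hp.1 hp'.2 h).resolve_left h1).resolve_left h2)
  refine ⟨fun P hP hPp => cent_comm.1 (comm_eq_bot_iff.1 (eq_bot_of_isPi_of_isPi_compl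
    (isPi_of_le (hcM P (hP.trans inf_le_left)) (isPi_Ms M)) (isPi_comm_der hMst
      (fun r hr => Set.disjoint_left.1 (sigma_disjoint hMst hM fun h => hn h.symm).2.1 hr)
      (le_der_of_pgroup hMst hp.1 h3 hPp (hP.trans inf_le_right))
      (isPi_of_isPGroup hp.1 hPp hps) inf_le_right))), h2, fun ht => by_contra fun hb => ?_⟩
  obtain ⟨k1, -, k3⟩ := key hb
  obtain ⟨X, hX, hXp⟩ := exists_le_card_eq_prime hp.1 hp'.2
  exact k3 ht (dvd_card_der_of_sup hT.2 hTN hp.1 k1 (hXp ▸ card_dvd_of_le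
    (le_der_of_pgroup hMst hp.1 h3 (isPGroup_of_card_prime hXp) hX)))

/-- BG 13.2. -/
theorem cent_norm_tau13_mmax {M E P Mst : Subgroup G} (hM : IsCoatom M)
    (hE : IsPiHallOf (sig M)ᶜ E M) {p : ℕ} (hp : p ∈ ta1 M ∨ p ∈ ta3 M) (hP : IsPGroup p P)
    (hPM : P ≤ M) (hMst : IsCoatom Mst) (hN : 𝐍(P) ≤ Mst) :
    (∀ P₁ : Subgroup G, P₁ ≤ M ⊓ Mst → IsPGroup p P₁ → P₁ ≤ 𝐂(Ms M ⊓ Mst)) ∧
      (∀ X : Subgroup G, X ≤ E ⊓ Mst → IsPiSubgroup (ta1 Mst)ᶜ X → X ≤ 𝐂(Ms M ⊓ Mst)) ∧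
      (⁅Ms M ⊓ Mst, M ⊓ Mst⁆ ≠ ⊥ → p ∈ sig Mst ∧ (p ∈ ta1 M → p ∈ bet Mst)) := by
  have hpp := prime_of_ta13 hp
  have hn := mmax_norm_not_conj hM hMst hpp hP hPM hN (Or.inr hp)
  have h1 := prime_class_mmax_norm hMst hpp hP hN
  by_cases hc : ⁅Ms M ⊓ Mst, M ⊓ Mst⁆ = ⊥
  · have h2 := cent_comm.1 (comm_eq_bot_iff.1 hc)
    exact ⟨fun _ h _ => h.trans h2, fun _ h _ => (h.trans (inf_le_inf_right _ hE.1)).trans h2,
      fun h => (h hc).elim⟩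
  obtain ⟨k1, k2, k3⟩ := Ms_inf_mmax_central hM hE hMst (mem_piOf_compl hE
    (hp.elim (fun h => ta1_subset_piOf M h) fun h => ta3_subset_piOf M h) (mem_ta13_iff.1 hp).2.1)
    (h1.elim (fun h => sig_subset_piOf _ h) fun h => ta2_subset_piOf _ h)
    (fun h => h1.elim h.2.1 (Set.disjoint_left.1 (disjoint_ta1_ta2 _) h)) hn hc
  have h2 := h1.resolve_right k2
  refine ⟨k1, fun X hX hπ => le_of_forall_exists_isSyl_le fun r hr hd => ?_,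
    fun _ => ⟨h2, fun ht => ⟨⟨hpp, ?_⟩, k3 ht⟩⟩⟩
  · obtain ⟨R, hR⟩ := exists_isSyl hr X
    exact ⟨R, hR, (Ms_inf_mmax_central hM hE hMst
      ⟨hr, hd.trans (card_dvd_of_le (hX.trans inf_le_left))⟩
      ⟨hr, hd.trans (card_dvd_of_le (hX.trans inf_le_right))⟩ (hπ r hr hd) hn hc).1 R
      (hR.le.trans (hX.trans (inf_le_inf_right _ hE.1))) hR.pgrp⟩
  · obtain ⟨S, hS⟩ := exists_isSyl hpp Mst
    rw [← hS.pRank_eq hpp]
    exact lt_of_not_ge fun h => (k3 ht).2 S (sigma_sylow h2 hS).2 (narrow_of_pRank_le h)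

/-- BG 13.3(a). -/
theorem cyclic_primact_Ms {M E P : Subgroup G} (hM : IsCoatom M) (hE : IsPiHallOf (sig M)ᶜ E M)
    {p : ℕ} (hp : p.Prime) (hP : IsSyl p P E) (hc : IsCyclic P) : SemiPrime (Ms M) P := by
  refine semiPrime_of_prime fun X hX hXp => ?_
  have hXp' : IsPGroup p X := hP.pgrp.to_le hX
  have h1 := prime_dvd_card_of_isPGroup hp hXp' (ne_bot_of_card_prime hXp)
  have h2 : p ∉ sig M := hE.2.1 p hp (h1.trans (card_dvd_of_le (hX.trans hP.le)))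
  have h3 : p ∈ ta1 M ∪ ta3 M := mem_ta13_iff.2 ⟨hp, h2, by
    rw [← (hP.trans_hall hp hE h2).pRank_eq hp]
    exact le_antisymm (pRank_le_one_of_isCyclic hp hc)
      ((pRank_pos_iff hp).2 (h1.trans (card_dvd_of_le hX)))⟩
  obtain ⟨L, hL, hN⟩ := exists_mmax_norm hp hXp' (ne_bot_of_card_prime hXp)
  have h4 := (cent_le_norm X).trans hN
  exact (inf_le_inf_left _ h4).trans (cent_comm.1 ((cent_norm_tau13_mmax hM hE h3 hXp'
    (hX.trans (hP.le.trans hE.1)) hL hN).1 P (le_inf (hP.le.trans hE.1)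
    (((isMulComm_iff_le_cent.1 (isMulComm_of_isCyclic hc)).trans (cent_anti hX)).trans h4))
    hP.pgrp))

/-- BG 13.3(b). -/
theorem tau3_primact_Ms {M E E₃ : Subgroup G} (hM : IsCoatom M) (hE : IsPiHallOf (sig M)ᶜ E M)
    (h3 : IsPiHallOf (ta3 M) E₃ E) : SemiPrime (Ms M) E₃ := by
  refine semiPrime_of_prime fun X hX hXp => ?_
  obtain ⟨E₁, E₂, h⟩ := exists_sigmaCompl3 hM hE h3
  obtain ⟨⟨h1, h2⟩, -, ⟨-, h4⟩, -⟩ := h.context hM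
  have hXp' : IsPGroup 𝐨(X) X := isPGroup_of_card_prime rfl
  obtain ⟨L, hL, hN⟩ := exists_mmax_norm hXp hXp' (ne_bot_of_card_prime hXp)
  have h5 : E ≤ L := (h2.2.trans (norm_le_norm_of_le_cyclic h4 hX)).trans hN
  exact (inf_le_inf_left _ ((cent_le_norm X).trans hN)).trans (cent_comm.1
    ((cent_norm_tau13_mmax hM hE (Or.inr (h3.2.1 _ hXp (card_dvd_of_le hX))) hXp'
    (hX.trans (h3.1.trans hE.1)) hL hN).2.1 E₃ (le_inf h3.1 (h3.1.trans h5))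
    fun r hr hd ht => ht.2.2.2 (hd.trans (card_dvd_of_le (h1.trans (commutator_mono h5 h5))))))

namespace BG13

theorem cent_tau1_key {M E P R S : Subgroup G} (hM : IsCoatom M) (hE : IsPiHallOf (sig M)ᶜ E M)
    {p : ℕ} (hp : p ∈ ta1 M) (hP : P ≤ E) (hPp : 𝐨(P) = p) (hR : R ≤ E ⊓ 𝐂(P))
    (hRp : 𝐨(R).Prime) {q : ℕ} (hq : q.Prime) (hS : IsPGroup q S) (hSC : S ≤ Ms M ⊓ 𝐂(P))
    (hRS : R ≤ 𝐍(S)) (hc : ¬ S ≤ 𝐂(R)) :
    q ∉ alp M ∧ 𝐨(R) ∈ ta1 M ∧ Ma M ⊓ 𝐂(R) ≠ ⊥ ∧ Ma M ⊓ 𝐂(R ⊔ ⁅S, R⁆) = ⊥ := by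
  have hP1 : P ≠ ⊥ := ne_bot_of_card_prime (hPp ▸ hp.1)
  have hPg := isPGroup_of_card_prime hPp
  obtain ⟨L, hL, hN⟩ := exists_mmax_norm hp.1 hPg hP1
  have hn := mmax_norm_not_conj hM hL hp.1 hPg (hP.trans hE.1) hN (Or.inr (Or.inl hp))
  have hCL := (cent_le_norm P).trans hN
  have hSL : S ≤ Ms M ⊓ L := hSC.trans (inf_le_inf_left _ hCL)
  have hRL : R ≤ E ⊓ L := hR.trans (inf_le_inf_left _ hCL)
  have hRM : R ≤ M := hR.trans (inf_le_left.trans hE.1)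
  obtain ⟨-, k2, k3⟩ := cent_norm_tau13_mmax hM hE (Or.inl hp) hPg (hP.trans hE.1) hL hN
  obtain ⟨k4, k5⟩ := k3 fun h => hc (comm_eq_bot_iff.1 (eq_bot_iff.2 ((commutator_mono hSL
    (hRL.trans (inf_le_inf_right _ hE.1))).trans h.le)))
  have k6 : 𝐨(R) ∈ ta1 L := by_contra fun h =>
    hc (hSL.trans (cent_comm.1 (k2 R hRL (isPi_of_card_prime hRp rfl h))))
  have hS1 : S ≠ ⊥ := fun h => hc (h ▸ bot_le)
  have hqs : q ∈ sig M :=
    mem_of_isPi_of_isPGroup hq hS hS1 (isPi_of_le (hSC.trans inf_le_left) (isPi_Ms M))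
  have hrs : 𝐨(R) ∉ sig M := hE.2.1 _ hRp (card_dvd_of_le (hR.trans inf_le_left))
  have hqr : q ≠ 𝐨(R) := fun h => hrs (h ▸ hqs)
  have hSM : S ≤ M := hSC.trans (inf_le_left.trans (Ms_le M))
  have hab : IsMulCommutative S := by_contra fun h => ne_of_not_conj hn
    ((nonabelian_uniq hq hS h).eq hL (hSL.trans inf_le_right) hM hSM)
  have hQS : ⁅S, R⁆ ≤ S := comm_le_left_iff.2 hRS
  have hQ1 : ⁅S, R⁆ ≠ ⊥ := fun h => hc (comm_eq_bot_iff.1 h)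
  have hQq : IsPGroup q ↥⁅S, R⁆ := hS.to_le hQS
  have hQR : ⁅S, R⁆ ⊓ 𝐂(R) = ⊥ := by
    rw [inf_comm]
    exact H1.centralizer_inf_commutator_eq_bot hab hRS
      (coprime_Ms (isPi_of_card_prime hRp rfl hrs) (hSC.trans inf_le_left))
  have hPa : P ≤ Ma L := le_Ma hL ((le_norm_self P).trans hN)
    (isPi_of_card_prime hp.1 hPp (k5 hp).1)
  have hu : UniqMax 𝐍(⁅S, R⁆) L := by_contra fun h => by
    have := ((cent_Ma_reg_tau1 hL k6 (hRL.trans inf_le_right) rfl hq hqr hQq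
      (hQS.trans (hSL.trans inf_le_right)) hQ1 H1.le_normalizer_commutator_self hQR h).1
      (fun h => hP1 (eq_bot_iff.2 (h ▸ hPa))) (fun h => Set.disjoint_left.1
        (sigma_disjoint hL hM fun h => hn h.symm).2.1 h hqs)).2
    exact hP1 (eq_bot_iff.2 (this ▸ le_inf hPa (cent_comm.1 (sup_le (hR.trans inf_le_right)
      (hQS.trans (hSC.trans inf_le_right))))))
  obtain ⟨-, -, k7, k8⟩ := sigma_subgroup_embedding hM hqs hQq (hQS.trans hSM) hL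
    (ne_of_not_conj hn) hu.le
  have hqL : q ∈ sig L := by_contra fun h => (k8 h).2.2.2.1 p hp.1
    (hPp ▸ card_dvd_of_le (le_inf (hP.trans hE.1) ((le_norm_self P).trans hN))) k4
  have hqa : q ∉ alp M := fun h => Set.disjoint_left.1 (sigma_disjoint hM hL hn).2.1 h hqL
  have k9 : 𝐨(R) ∈ ta1 M :=
    ((k7 hqL).2.1 k6).resolve_right fun h => hrs (alp_subset_sig hM h)
  exact ⟨hqa, k9, (cent_Ma_reg_tau1 hM k9 hRM rfl hq hqr hQq (hQS.trans hSM) hQ1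
    H1.le_normalizer_commutator_self hQR fun h => ne_of_not_conj hn (h.eq hL hu.le)).1
    (k7 hqL).2.2.2 hqa⟩

theorem cent_tau1_Ma {M E P R : Subgroup G} (hM : IsCoatom M) (hE : IsPiHallOf (sig M)ᶜ E M)
    {p : ℕ} (hp : p ∈ ta1 M) (hP : P ≤ E) (hPp : 𝐨(P) = p) (hR : R ≤ E ⊓ 𝐂(P))
    (hRp : 𝐨(R).Prime) : Ma M ⊓ 𝐂(P) ≤ 𝐂(R) := by
  by_contra h
  have hRM : R ≤ M := hR.trans (inf_le_left.trans hE.1)
  have h1 : Ma M ⊓ 𝐂(P) ≤ Ms M ⊓ 𝐂(P) := inf_le_inf_right _ (Ma_le_Ms hM)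
  obtain ⟨q, hq, S, hS, h2, h3⟩ := exists_isSyl_comm_ne_bot (H1.le_normalizer_inf
    (hRM.trans (Ma_normal M).2) (H1.le_normalizer_centralizer
      ((hR.trans inf_le_right).trans (cent_le_norm P))))
    (coprime_Ms (isPi_of_le (hR.trans inf_le_left) hE.2.1) (h1.trans inf_le_left))
    (Or.inl (isSolvable_of_le_mmax hM hRM)) h
  exact (cent_tau1_key hM hE hp hP hPp hR hRp hq hS.pgrp (hS.le.trans h1) h2 h3).1
    (mem_of_isPi_of_isPGroup hq hS.pgrp (fun h => h3 (h ▸ bot_le))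
      (isPi_of_le (hS.le.trans inf_le_left) (isPi_Ma M)))

end BG13

/-- BG 13.4. -/
theorem cent_tau1_Ms {M E P R : Subgroup G} (hM : IsCoatom M) (hE : IsPiHallOf (sig M)ᶜ E M)
    {p : ℕ} (hp : p ∈ ta1 M) (hP : P ≤ E) (hPp : 𝐨(P) = p) (hR : R ≤ E ⊓ 𝐂(P))
    (hRp : 𝐨(R).Prime) : Ms M ⊓ 𝐂(P) ≤ Ms M ⊓ 𝐂(R) := by
  refine le_inf inf_le_left (by_contra fun h => ?_)
  have hRM : R ≤ M := hR.trans (inf_le_left.trans hE.1)
  obtain ⟨q, hq, S, hS, h2, h3⟩ := exists_isSyl_comm_ne_bot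
    (norm_Ms_inf_cent hRM ((hR.trans inf_le_right).trans (cent_le_norm P)))
    (coprime_Ms (isPi_of_le (hR.trans inf_le_left) hE.2.1) inf_le_left)
    (Or.inl (isSolvable_of_le_mmax hM hRM)) h
  obtain ⟨-, k1, k2, k3⟩ := cent_tau1_key hM hE hp hP hPp hR hRp hq hS.pgrp hS.le h2 h3
  have h4 : Ma M ⊓ 𝐂(R) = Ma M ⊓ 𝐂(P) := le_antisymm
    (le_inf inf_le_left (cent_tau1_Ma hM hE k1 (hR.trans inf_le_left) rfl
      (le_inf hP (cent_comm.1 (hR.trans inf_le_right))) (hPp ▸ hp.1)))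
    (le_inf inf_le_left (cent_tau1_Ma hM hE hp hP hPp hR hRp))
  refine k2 (eq_bot_iff.2 (k3 ▸ le_inf inf_le_left (cent_comm.1 (sup_le
    (cent_comm.1 inf_le_right) ?_))))
  refine (commutator_mono le_rfl (cent_comm.1 inf_le_right : R ≤ 𝐂(Ma M ⊓ 𝐂(R)))).trans
    (comm_le_right_iff.2 (H1.le_normalizer_centralizer ?_))
  rw [h4]
  exact H1.le_normalizer_inf (hS.le.trans (inf_le_left.trans ((Ms_le M).trans (Ma_normal M).2)))
    (hS.le.trans (inf_le_right.trans (le_norm_self _)))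

/-- BG 13.5. -/
theorem tau1_primact_Ms {M E E₁ : Subgroup G} (hM : IsCoatom M) (hE : IsPiHallOf (sig M)ᶜ E M)
    (h1 : IsPiHallOf (ta1 M) E₁ E) : SemiPrime (Ms M) E₁ := by
  refine semiPrime_of_prime fun X hX hXp => cent_comm.1 (le_of_forall_exists_isSyl_le
    fun r hr hd => ?_)
  have hc := tau13_cyclic hM hE h1.1 (Or.inl h1.2.1)
  obtain ⟨S, hS⟩ := exists_isSyl hr E₁
  obtain ⟨R, hR, hRr⟩ := exists_le_card_eq_prime hr
    (prime_dvd_card_of_isPGroup hr hS.pgrp (hS.ne_bot hr hd))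
  refine ⟨S, hS, cent_comm.1 ((cent_tau1_Ms hM hE (h1.2.1 _ hXp (card_dvd_of_le hX))
    (hX.trans h1.1) rfl (le_inf (hR.trans (hS.le.trans h1.1)) ((hR.trans hS.le).trans
      ((isMulComm_iff_le_cent.1 (isMulComm_of_isCyclic hc)).trans (cent_anti hX))))
    (hRr ▸ hr)).trans ?_)⟩
  rw [(cyclic_primact_Ms hM hE hr (hS.trans_hall hr h1 (h1.2.1 r hr hd))
    (isCyclic_of_le hS.le hc)).cent_eq hR (ne_bot_of_card_prime (hRr ▸ hr))]
  exact inf_le_right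

/-- BG 13.6. -/
theorem cent_cent_Ms_tau1_uniq {M E E₁ P X : Subgroup G} (hM : IsCoatom M)
    (hE : IsPiHallOf (sig M)ᶜ E M) (h1 : IsPiHallOf (ta1 M) E₁ E) (hP : P ≤ E₁) (hP1 : P ≠ ⊥)
    {q : ℕ} (hq : q.Prime) (hX : X ≤ Ms M ⊓ 𝐂(P)) (hXq : 𝐨(X) = q) :
    UniqMax 𝐂(X) M ∧ ∀ S : Subgroup G, IsSyl q S (Ms M) → UniqMax S M := by
  have hqs : q ∈ sig M := isPi_Ms M q hq (hXq ▸ card_dvd_of_le (hX.trans inf_le_left))
  suffices h : q ∈ bet M ∨ X ≤ ⁅Ms M, Ms M⁆ by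
    have h2 := fun S hS => cent_der_sigma_uniq (P := S) hM hqs
      (hX.trans (inf_le_left.trans (Ms_le M))) hXq h hS
    obtain ⟨S, hS⟩ := exists_isSyl hq (Ms M)
    exact ⟨(h2 S hS).1, fun S hS => (h2 S hS).2⟩
  refine or_iff_not_imp_left.2 fun hb => ?_
  have hpr := tau1_primact_Ms hM hE h1
  rw [hpr.cent_eq hP hP1] at hX
  obtain ⟨H, hH, hHc⟩ := der_compl_cent_beta' hM hE
  have hE1M : E₁ ≤ M := h1.1.trans hE.1
  have hs := isSolvable_of_le_mmax hM hE1M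
  have hπ : IsPiSubgroup (sig M)ᶜ E₁ := isPi_of_le h1.1 hE.2.1
  obtain ⟨S, hS, -, hS1⟩ := exists_invariant_isSyl hq
    (norm_Ms_inf_cent hE1M (h1.1.trans (der_normal E).2)) (coprime_Ms hπ inf_le_left) (Or.inl hs)
    IsPGroup.of_bot bot_le (by rw [norm_bot]; exact le_top)
  have hS' : IsSyl q S (Ms M) := hS.trans hq inf_le_left fun h => hH.2.2 q hq hb
    (h.trans (relIndex_dvd_of_le_left _ (le_inf hH.1 (cent_comm.1 hHc))))
  haveI := Fact.mk hq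
  obtain ⟨c, hc, hXc⟩ := H1.exists_centralizer_conj_le_sylow (hE1M.trans (Ms_normal M).2)
    (coprime_Ms hπ le_rfl) (Or.inl hs) hS'.le hS'.pgrp hS'.ndvd hS1 (hX.trans inf_le_left)
    (isPGroup_of_card_prime hXq) ((cent_comm.1 (hX.trans inf_le_right)).trans (cent_le_norm X))
  have h2 : X ^ᵍ c ≤ Ms M ⊓ 𝐂(E₁) := conj_le_of_mem hX hc
  have h3 : X ^ᵍ c ≤ 𝐂(⁅E, E⁆) := hXc.trans (hS.le.trans inf_le_right)
  obtain ⟨E₂, E₃, h⟩ := exists_sigmaCompl1 hM hE h1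
  obtain ⟨⟨k1, -⟩, -, -, ⟨k2, -⟩, -⟩ := h.context hM
  rcases eq_bot_or_tau2 h with h4 | ⟨p, hp, A, hA, hA2⟩
  · have h5 : X ^ᵍ c ≤ ⁅Ms M, Ms M⁆ := (le_inf (h2.trans inf_le_left) (cent_comm.1 (by
      rw [← k2.sup, h4, bot_sup_eq]
      exact sup_le (k1.trans (cent_comm.1 h3)) (cent_comm.1 (h2.trans inf_le_right))))).trans
      (sigma_compl_embedding hM hE).1
    exact (conj_le_iff.1 h5).trans (conj_eq_of_mem_norm (inv_mem ((der_normal _).2 hc.1))).le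
  exfalso
  obtain ⟨Q, hQ, hQp⟩ := exists_le_card_prime hP1
  have hQ1 := hQ.trans hP
  have hQt : 𝐨(Q) ∈ ta1 M := h1.2.1 _ hQp (card_dvd_of_le hQ1)
  have h5 := H1.commutator_sup_centralizer (hQ1.trans (h1.1.trans
    (tau2_compl_context hM hE hp hA hA2).1.1.2)) (isPi_coprime' (isPi_of_card_prime hQp rfl hQt)
      (isPi_of_isPGroup hp.1 hA2.pgrp hp) (disjoint_ta1_ta2 M))
    (Or.inl (H1.isSolvable_of_le hQ1 hs))
  have h6 : X ^ᵍ c ≤ 𝐂(A) := by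
    refine cent_comm.1 (h5.ge.trans (sup_le ((commutator_mono hA (hQ1.trans h1.1)).trans
      (cent_comm.1 h3)) fun a ha => ?_))
    by_cases ha1 : a = 1
    · exact ha1 ▸ one_mem _
    refine zpowers_le.1 (cent_comm.1 ((h2.trans (inf_le_inf_left _ (cent_anti hQ1))).trans
      ((cent_tau1_Ms hM hE hQt (hQ1.trans h1.1) rfl (zpowers_le.2 ⟨hA ha.1, ha.2⟩) ?_).trans
      inf_le_right)))
    rw [Nat.card_zpowers, elemAb_orderOf hp.1 hA2.elemAb ha.1 ha1]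
    exact hp.1
  exact ne_bot_of_card_prime (by rw [card_conj, hXq]; exact hq) (eq_bot_iff.2
    ((tau2_context hM hp (hA.trans hE.1) hA2).2.2.1 ▸ le_inf (h2.trans inf_le_left) h6))

/-- BG 13.7. -/
theorem tau13_primact_Ms {M E E₁ E₂ E₃ : Subgroup G} (hM : IsCoatom M)
    (h : SigmaCompl M E E₁ E₂ E₃) (hr : ¬ SemiReg E₃ E₁) : SemiPrime (Ms M) (E₃ ⊔ E₁) := by
  have hE := h.hall
  obtain ⟨⟨-, k1⟩, -, ⟨k2, k3⟩, ⟨k4, -⟩, k5⟩ := h.context hM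
  obtain ⟨P, hP, hPp, h1⟩ : ∃ P ≤ E₁, 𝐨(P).Prime ∧ E₃ ⊓ 𝐂(P) ≠ ⊥ := by
    by_contra hc
    push Not at hc
    exact hr (semiReg_of_prime hc)
  obtain ⟨R, hR, hRp⟩ := exists_le_card_prime h1
  have hR3 := hR.trans inf_le_left
  have p1 := tau1_primact_Ms hM hE h.hall1
  have p3 := tau3_primact_Ms hM hE h.hall3
  have hPt : 𝐨(P) ∈ ta1 M := h.hall1.2.1 _ hPp (card_dvd_of_le hP)
  have hRt : 𝐨(R) ∈ ta3 M := h.hall3.2.1 _ hRp (card_dvd_of_le hR3)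
  have h2 := cent_tau1_Ms hM hE hPt (hP.trans h.hall1.1) rfl
    (hR.trans (inf_le_inf_right _ h.hall3.1)) hRp
  rw [p1.cent_eq hP (ne_bot_of_card_prime hPp), p3.cent_eq hR3 (ne_bot_of_card_prime hRp)] at h2
  by_cases h3 : Ms M ⊓ 𝐂(E₃) ≤ 𝐂(E₁)
  · refine semiPrime_of_prime fun X hX hXp => ?_
    have hn : E₁ ≤ 𝐍(E₃) := h.hall1.1.trans k1.2
    have hh := hall_of_sup (π := (ta3 M)ᶜ) hn (isPi_mono (fun r hr =>
      Set.disjoint_left.1 (disjoint_ta1_ta3 M) hr) h.hall1.2.1) (by rw [compl_compl]; exact h.hall3.2.1)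
    have hX1 := ne_bot_of_card_prime hXp
    by_cases h4 : 𝐨(X) ∈ ta3 M
    · rw [p3.cent_eq (le_of_hall_normal hh.2 (sup_le (le_norm_self _) hn) hX
        (isPi_of_card_prime hXp rfl (by simpa using h4))) hX1, cent_sup]
      exact le_inf inf_le_right h3
    obtain ⟨g, hg, h5⟩ := exists_conj_le_hall (isSolvable_of_le_mmax hM
      ((sup_le h.hall3.1 h.hall1.1).trans hE.1)) hh.1 hX (isPi_of_card_prime hXp rfl h4)
    have h6 := p1.cent_eq h5 (conj_eq_bot_iff.not.2 hX1)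
    rw [← conj_le_conj_iff (g := g), conj_inf, ← cent_conj, ← cent_conj, conj_eq_of_mem hg,
      conj_eq_of_mem_norm ((Ms_normal M).2 ((sup_le h.hall3.1 h.hall1.1).trans hE.1 hg)), h6,
      cent_sup]
    exact le_inf (h2.trans inf_le_right) inf_le_right
  exfalso
  have hRg : IsPGroup 𝐨(R) R := isPGroup_of_card_prime rfl
  have h4 := eq_bot_of_not_semiReg hM h fun h4 => h3 (by
    rw [h4.cent_eq_bot le_rfl fun h5 => h1 (by rw [h5, bot_inf_eq])]; exact bot_le)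
  obtain ⟨L, hL, hN⟩ := exists_mmax_norm hRp hRg (ne_bot_of_card_prime hRp)
  have hEL : E ≤ L := (k1.2.trans (norm_le_norm_of_le_cyclic k3 hR3)).trans hN
  have h5 : Ms M ⊓ 𝐂(E₃) ≤ Ms M ⊓ L :=
    inf_le_inf_left _ ((cent_anti hR3).trans ((cent_le_norm R).trans hN))
  obtain ⟨-, l2, l3⟩ := cent_norm_tau13_mmax hM hE (Or.inr hRt) hRg
    (hR3.trans (h.hall3.1.trans hE.1)) hL hN
  have h6 := (l3 fun h6 => h3 (comm_eq_bot_iff.1 (eq_bot_iff.2 ((commutator_mono h5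
    (le_inf (h.hall1.1.trans hE.1) (h.hall1.1.trans hEL))).trans h6.le)))).1
  have h7 : IsPiSubgroup (ta1 L) E₁ := fun r hr hd => by_contra fun h7 => by
    obtain ⟨X, hX, hXr⟩ := exists_le_card_eq_prime hr hd
    refine h3 ((le_inf inf_le_left (h5.trans (cent_comm.1 (l2 X (le_inf (hX.trans h.hall1.1)
      (hX.trans (h.hall1.1.trans hEL))) (isPi_of_card_prime hr hXr h7))))).trans ?_)
    rw [p1.cent_eq hX (ne_bot_of_card_prime (hXr ▸ hr))]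
    exact inf_le_right
  obtain ⟨F, hF, h8⟩ := ex_sigma_compl hL (h.hall1.1.trans hEL)
    (isPi_mono (ta1_subset_compl L) h7)
  obtain ⟨F₁, hF₁, h9⟩ := exists_hall_ge (isSolvable_of_le_mmax hL hF.1) h8 h7
  have h10 : R ≤ 𝐂(E₁) := ((le_inf (le_Ms hL ((le_norm_self R).trans hN)
    (isPi_of_card_prime hRp rfl h6)) (hR.trans inf_le_right)).trans
    (((tau1_primact_Ms hL hF hF₁).cent_eq (hP.trans h9) (ne_bot_of_card_prime hPp)).le.trans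
    inf_le_right)).trans (cent_anti h9)
  refine ne_bot_of_card_prime hRp (eq_bot_iff.2 (k5 ▸ le_inf hR3 ?_))
  rw [← k4.sup, h4, bot_sup_eq, cent_sup]
  exact le_inf (hR3.trans (isMulComm_iff_le_cent.1 (isMulComm_of_isCyclic k3))) h10

end Cfsg.Agent.FT
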