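/-
BG section 13, part 2: 13.8 - 13.13.
-/
import Cfsg.Agent.FT.P.BG13_1

set_option autoImplicit false

namespace Cfsg.Agent.FT

open Subgroup Cfsg Cfsg.Agent
open scoped commutatorElement

universe u

variable {G : Type u} [Group G] [Finite G]

namespace BG13

theorem exists_normal_pgroup {H : Subgroup G} (hs : Group.IsSolvable H) (h : H ≠ ⊥) :
    ∃ s : ℕ, s.Prime ∧ ∃ X : Subgroup G, X ⊲ H ∧ X ≠ ⊥ ∧ IsPGroup s X := by
  obtain ⟨U, -, hU⟩ := exists_chief_above (H := H) (V := ⊥) (by rw [norm_bot]; exact le_top)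
    ⟨le_rfl, le_norm_self H⟩ (bot_lt_iff_ne_bot.2 h)
  obtain ⟨s, hs, -, -, n, -, hn⟩ := chief_elem hs hU
  rw [relIndex_bot_left] at hn
  exact ⟨s, hs, U, ⟨hU.le, hU.normU⟩, hU.lt.ne', isPGroup_of_card_eq hn⟩

theorem dvd_card_inf_cent {K U H M : Subgroup G} (hs : Group.IsSolvable M) (hKU : K ⊔ U = M)
    (hK : M ≤ 𝐍(K)) (hH : H ≤ U) (hc : 𝐨(H).Coprime 𝐨(K)) {r : ℕ} (hr : r.Prime)
    (h1 : ¬ r ∣ 𝐨(K)) (h2 : r ∣ 𝐨(M ⊓ 𝐂(H))) : r ∣ 𝐨(U ⊓ 𝐂(H)) := by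
  have h3 : M ⊓ 𝐂(H) ≤ (U ⊓ 𝐂(H)) ⊔ K := fun g hg => by
    obtain ⟨u, hu, c, hc, rfl⟩ := pprod_trans_coprime hs hKU hK hH hc hg.1
      ((conj_eq_of_mem_norm (cent_le_norm H hg.2)).le.trans hH)
    exact mul_mem (mem_sup_left (mem_inf.2 ⟨hu, (mul_mem_cancel_right (mem_inf.1 hc).2).1 (mem_inf.1 hg).2⟩)) (mem_sup_right hc.1)
  exact ((Nat.Prime.dvd_mul hr).1 ((h2.trans (card_dvd_of_le h3)).trans (H1.card_sup_dvd
    ((inf_le_left.trans (hKU ▸ le_sup_right)).trans hK)))).resolve_right h1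

/-- A coprime nontrivial action on a cyclic `q`-group is fixed-point-free. -/
theorem cent_eq_bot_of_cyclic {P Q : Subgroup G} {q : ℕ} (hq : q.Prime) (hQ : IsPGroup q Q)
    (hc : IsCyclic Q) (hn : P ≤ 𝐍(Q)) (hcop : 𝐨(P).Coprime 𝐨(Q)) (h : ¬ Q ≤ 𝐂(P)) :
    Q ⊓ 𝐂(P) = ⊥ := by
  by_contra h1
  obtain ⟨X, hX, hXq⟩ := exists_le_card_eq_prime hq
    (prime_dvd_card_of_isPGroup hq (hQ.to_le inf_le_left) h1)
  refine h (cent_comm.1 (H1.le_centralizer_of_abelian_of_prime_order (isMulComm_of_isCyclic hc) hn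
    hcop fun v hv hvp => ?_))
  have h2 : 𝐨(zpowers v) = q := by
    rw [Nat.card_zpowers]
    exact eq_of_prime_dvd_card_of_isPGroup hq hvp hQ (orderOf_dvd_card_of_mem hv)
  exact (hX (eq_of_card_prime_of_isCyclic hq hc (zpowers_le.2 hv) (hX.trans inf_le_left) h2 hXq ▸
    mem_zpowers v)).2

variable [MinOdd G]

theorem asym_half {M L P Q : Subgroup G} (hM : IsCoatom M) (hL : IsCoatom L) (hne : L ≠ M)
    {p q : ℕ} (hp : p ∈ ta1 M) (hP : P ≤ M ⊓ L) (hPp : 𝐨(P) = p) (hq : q.Prime)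
    (hQ : IsSyl q Q (M ⊓ L)) (hPQ : P ≤ 𝐍(Q)) (hC : Q ⊓ 𝐂(P) = ⊥) (hN : 𝐍(Q) ≤ L) :
    IsSyl q Q M ∧ ⁅Q, P⁆ = Q ∧ alp M = bet M ∧ q ∉ alp M ∧ Ma M ⊓ 𝐂(P) ≠ ⊥ ∧
      Ma M ⊓ 𝐂(P ⊔ Q) = ⊥ := by
  have hQ1 : Q ≠ ⊥ := fun h => hL.1 (top_le_iff.1 (by rwa [h, norm_bot] at hN))
  have hPg := isPGroup_of_card_prime hPp
  have hqp : q ≠ p := by
    rintro rfl
    exact ne_bot_of_card_prime (hPp ▸ hq) (eq_bot_iff.2 (hC ▸ le_inf (hQ.le_of_norm hq hPg hP hPQ)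
      (isMulComm_iff_le_cent.1 (isMulComm_of_isCyclic (isCyclic_of_card_prime (hPp ▸ hq))))))
  have hQM := hQ.le.trans inf_le_left
  have h1 : IsSyl q Q M := IsSyl.of_norm hq (hQ.of_le (le_inf hQM (le_norm_self Q))
    (inf_le_inf_left _ hN))
  have h2 := H1.commutator_sup_centralizer hPQ (coprime_card_of_isPGroup hp.1 hq hqp.symm hPg
    hQ.pgrp) (Or.inr (isSolvable_of_le_mmax hM hQM))
  rw [hC, sup_bot_eq] at h2
  obtain ⟨k1, k2⟩ := cent_Ma_reg_tau1 hM hp (hP.trans inf_le_left) hPp hq hqp hQ.pgrp hQM hQ1 hPQ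
    hC fun h => hne (h.eq hL hN)
  obtain ⟨k3, k4, k5⟩ := k2 h1
  exact ⟨h1, h2, k3, k5, k1 k4 k5⟩

theorem asym_main {M L P Q : Subgroup G} (hM : IsCoatom M) (hL : IsCoatom L) (hn : ¬ Conj M L)
    {p q : ℕ} (hp : p ∈ ta1 M) (hP : P ≤ M ⊓ L) (hPp : 𝐨(P) = p) (hq : q.Prime)
    (hQ : IsSyl q Q (M ⊓ L)) (hPQ : P ≤ 𝐍(Q)) (hC : Q ⊓ 𝐂(P) = ⊥) (hN : 𝐍(Q) ≤ L)
    (hL1 : alp L = bet L) (hL2 : Ma L ⊓ 𝐂(P) ≠ ⊥) {H X : Subgroup G}
    (hH : IsPiHallOf (alp M ∪ alp L) H 𝐂(P)) {s : ℕ} (hs : s ∈ alp M) (hX : X ⊲ H) (hX1 : X ≠ ⊥)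
    (hXs : IsPGroup s X) : False := by
  obtain ⟨k1, k2, k3, k4, k5, k6⟩ := asym_half hM hL (ne_of_not_conj hn) hp hP hPp hq hQ hPQ hC hN
  have hP1 : P ≠ ⊥ := ne_bot_of_card_prime (hPp ▸ hp.1)
  have hPM := hP.trans inf_le_left
  have hQM := k1.le
  have hnM : ∀ Y ≤ M, Y ≠ ⊥ → IsPiSubgroup (alp M) Y → 𝐍(Y) ≤ M := fun Y h1 h2 h3 =>
    beta_norm_le_mmax hM h1 h2 (k3 ▸ h3)
  obtain ⟨g, hg⟩ := sigma_cj_le hM (isPi_of_isPGroup hs.1 hXs (alp_subset_sig hM hs))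
  have h1 : H ^ᵍ g ≤ M := (conj_le_norm_iff.2 hX.2).trans (hnM _ (hg.trans (Ms_le M))
    (conj_eq_bot_iff.not.2 hX1) ((isPi_conj_iff _ _).2 (isPi_of_isPGroup hs.1 hXs hs)))
  have hπ : IsPiSubgroup (alp M) (Ma M ⊓ 𝐂(P)) := isPi_of_le inf_le_left (isPi_Ma M)
  obtain ⟨c, hc, h2⟩ := exists_conj_le_hall (isSolvable_of_ne_top (cent_ne_top hP1)) hH
    inf_le_right (isPi_mono Set.subset_union_left hπ)
  obtain ⟨Y, hY, hYp⟩ := exists_le_card_prime k5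
  have hYM : Y ≤ M := hY.trans (inf_le_left.trans (Ma_le M))
  have h3 : g * c ∈ M := sigma_mem_of_cent_le hM
    (alp_subset_sig hM (hπ _ hYp (card_dvd_of_le hY))) (isPGroup_of_card_prime rfl) hYM
    ((cent_le_norm Y).trans (hnM Y hYM (ne_bot_of_card_prime hYp) (isPi_of_le hY hπ)))
    (by rw [← conj_conj]; exact (conj_mono ((conj_mono hY c).trans h2) g).trans h1)
  have h4 : H ^ᵍ c⁻¹ ≤ M ⊓ 𝐂(P) := le_inf (by
    have := conj_le_of_mem h1 (inv_mem h3)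
    rwa [conj_conj, mul_inv_rev, inv_mul_cancel_right] at this) (conj_le_of_mem hH.1 (inv_mem hc))
  obtain ⟨r, hr, h5⟩ := exists_prime_dvd_card hL2
  have hra : r ∈ alp L := isPi_Ma L r hr (h5.trans (card_dvd_of_le inf_le_left))
  have hrs : r ∉ sig M :=
    Set.disjoint_left.1 (sigma_disjoint hL hM fun h => hn h.symm).2.1 hra
  have h6 : r ∣ 𝐨(M ⊓ 𝐂(P)) := ((hall_dvd_card_iff hH hr (Or.inr hra)).2
    (h5.trans (card_dvd_of_le inf_le_right))).trans (card_conj H c⁻¹ ▸ card_dvd_of_le h4)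
  have hQd : Q ≤ ⁅M, M⁆ := k2 ▸ commutator_mono hQM hPM
  have h7 : Mb M ⊔ (M ⊓ 𝐍(Q)) = M := by
    have h7 := hall_der_bet hM (Set.subset_insert q _)
    have h8 := le_piCoreOf_of_hall h7 hQd (isPi_of_isPGroup hq k1.pgrp (Set.mem_insert _ _))
    have h9 : piCoreOf (insert q (bet M)) ⁅M, M⁆ ⊲ M :=
      ⟨h7.1.trans (der_le M), (der_normal M).2.trans (norm_le_norm_piCoreOf _ _)⟩
    have h10 := hall_sup_hall_compl (hall_of_le (Mb_hall hM).1 (le_piCoreOf_of_hall h7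
      ((Mb_le_Ma M).trans ((Ma_le_Ms hM).trans (Ms_le_der hM)))
      (isPi_mono (Set.subset_insert q _) (isPi_Mb M))) h9.1)
      (hall_congr ((isSyl_iff_hall hq).1 (k1.of_le h8 h9.1)) fun t ht hd =>
        ⟨fun h => by rw [h, ← k3]; exact k4, (isPi_piCoreOf _ _ t ht hd).resolve_right⟩)
    conv_rhs => rw [← (k1.of_le h8 h9.1).frattini hq h9, ← h10]
    rw [sup_assoc, sup_eq_right.2 (le_inf hQM (le_norm_self Q))]
  have hbs : ∀ t ∈ bet M, t ∈ sig M := fun t h => alp_subset_sig hM h.1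
  obtain ⟨R, hR, hRr⟩ := exists_le_card_eq_prime hr (dvd_card_inf_cent (mmax_isSolvable hM) h7
    (Mb_normal M).2 (le_inf hPM hPQ) (isPi_coprime (isPi_Mb M) (isPi_of_card_prime hp.1 hPp
      fun h => hp.2.1 (hbs p h))).symm hr (fun h => hrs (hbs r (isPi_Mb M r hr h))) h6)
  have hRP := hR.trans inf_le_right
  have hRM := hR.trans (inf_le_left.trans inf_le_left)
  have h8 : 𝐍(R) ≤ L := beta_norm_le_mmax hL (hR.trans (inf_le_left.trans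
    (inf_le_right.trans hN))) (ne_bot_of_card_prime (hRr ▸ hr))
    (isPi_of_card_prime hr hRr (hL1 ▸ hra))
  obtain ⟨E, hE, h9⟩ := ex_sigma_compl hM (sup_le hPM hRM) (isPi_sup
    (isPi_of_card_prime hp.1 hPp hp.2.1) (isPi_of_card_prime hr hRr hrs)
    ((cent_comm.1 hRP).trans (cent_le_norm R)))
  have h10 : Ma M ⊓ 𝐂(P) ≤ L := (inf_le_inf_right _ (Ma_le_Ms hM)).trans
    ((cent_tau1_Ms hM hE hp (le_sup_left.trans h9) hPp (le_inf (le_sup_right.trans h9) hRP)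
      (hRr ▸ hr)).trans (inf_le_right.trans ((cent_le_norm R).trans h8)))
  have h11 : ⁅Ma M ⊓ 𝐂(P), Q⁆ = ⊥ := eq_bot_of_isPi_of_isPi_compl (isPi_of_le
    ((commutator_mono inf_le_left hQM).trans (comm_le_left_iff.2 (Ma_normal M).2)) (isPi_Ma M))
    (isPi_comm_der hL (fun t ht h => Set.disjoint_left.1 (sigma_disjoint hM hL hn).2.1 h
      (alp_subset_sig hL ht)) (k2 ▸ commutator_mono (hQ.le.trans inf_le_right)
      (hP.trans inf_le_right)) (isPi_of_isPGroup hq k1.pgrp k4) h10)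
  refine k5 (eq_bot_iff.2 (k6 ▸ le_inf inf_le_left ?_))
  rw [cent_sup]
  exact le_inf inf_le_right (comm_eq_bot_iff.1 h11)

end BG13

open BG13

variable [MinOdd G]

/-- BG 13.8. -/
theorem tau1_mmaxI_asymmetry {M Mst P Q Qst : Subgroup G} (hM : IsCoatom M)
    (hMst : IsCoatom Mst) (hn : ¬ Conj M Mst) {p q r : ℕ} (hp : p ∈ ta1 M) (hp' : p ∈ ta1 Mst)
    (hP : P ≤ M ⊓ Mst) (hPp : 𝐨(P) = p) (hq : q.Prime) (hr : r.Prime)
    (hQ : IsSyl q Q (M ⊓ Mst)) (hQst : IsSyl r Qst (M ⊓ Mst)) (hPQ : P ≤ 𝐍(Q))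
    (hPQst : P ≤ 𝐍(Qst)) (hC : Q ⊓ 𝐂(P) = ⊥) (hCst : Qst ⊓ 𝐂(P) = ⊥) (hN : 𝐍(Q) ≤ Mst)
    (hNst : 𝐍(Qst) ≤ M) : False := by
  have hn' : ¬ Conj Mst M := fun h => hn h.symm
  rw [inf_comm] at hQst
  have hP' : P ≤ Mst ⊓ M := inf_comm M Mst ▸ hP
  obtain ⟨-, -, k1, -, k2, -⟩ := asym_half hM hMst (ne_of_not_conj hn) hp hP hPp hq hQ hPQ hC hN
  obtain ⟨-, -, l1, -, l2, -⟩ :=
    asym_half hMst hM (ne_of_not_conj hn') hp' hP' hPp hr hQst hPQst hCst hNst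
  have hs := isSolvable_of_ne_top (cent_ne_top (ne_bot_of_card_prime (hPp ▸ hp.1)))
  obtain ⟨H, hH⟩ := exists_hall hs (alp M ∪ alp Mst)
  obtain ⟨t, ht, h1⟩ := exists_prime_dvd_card k2
  obtain ⟨s, hs, X, hX, hX1, hXs⟩ := exists_normal_pgroup (H1.isSolvable_of_le hH.1 hs)
    (ne_bot_of_prime_dvd ht ((hall_dvd_card_iff hH ht (Or.inl (isPi_Ma M t ht
      (h1.trans (card_dvd_of_le inf_le_left))))).2 (h1.trans (card_dvd_of_le inf_le_right))))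
  rcases mem_of_isPi_of_isPGroup hs hXs hX1 (isPi_of_le hX.1 hH.2.1) with h | h
  · exact asym_main hM hMst hn hp hP hPp hq hQ hPQ hC hN l1 l2 hH h hX hX1 hXs
  · exact asym_main hMst hM hn' hp' hP' hPp hr hQst hPQst hCst hNst k1 k2
      (Set.union_comm _ _ ▸ hH) h hX hX1 hXs

/-- BG 13.9. -/
theorem sigma_partition {M Mst : Subgroup G} (hM : IsCoatom M) (hMst : IsCoatom Mst)
    (hn : ¬ Conj M Mst) : Disjoint (sig M) (sig Mst) := by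
  refine Set.disjoint_left.2 fun q hq hq' => ?_
  obtain ⟨E, hE, -⟩ := ex_sigma_compl hM bot_le (isPi_bot _)
  obtain ⟨E₁, h1⟩ := exists_hall (isSolvable_of_le_mmax hM hE.1) (ta1 M)
  obtain ⟨E₂, E₃, h⟩ := exists_sigmaCompl1 hM hE h1
  rcases eq_bot_or_tau2 h with h2 | ⟨p, hp, A, hA, hA2⟩
  swap
  · exact Set.disjoint_left.1 ((tau2_regular hM h hp hA hA2).2.2 Mst hMst hn).2 hq hq'
  obtain ⟨P, hP, hPp⟩ := exists_le_card_prime ((h.context hM).2.1 h2)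
  have hPt : 𝐨(P) ∈ ta1 M := h1.2.1 _ hPp (card_dvd_of_le hP)
  have hPM : P ≤ M := hP.trans (h1.1.trans hE.1)
  obtain ⟨S, hS, -, hPS⟩ := exists_invariant_isSyl hq.1 (hPM.trans (Ms_normal M).2)
    (coprime_Ms (isPi_of_card_prime hPp rfl hPt.2.1) le_rfl)
    (Or.inl (isSolvable_of_le_mmax hM hPM)) IsPGroup.of_bot bot_le (by rw [norm_bot]; exact le_top)
  have hSM := hS.trans_hall hq.1 (Ms_hall hM).1 hq
  obtain ⟨k1, k2⟩ := sigma_sylow hq hSM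
  obtain ⟨T, hT⟩ := exists_isSyl hq.1 Mst
  obtain ⟨g, -, rfl⟩ := k2.exists_conj_eq hq.1 (sigma_sylow hq' hT).2
  have hL := isCoatom_conj hMst g
  have hqL : q ∈ sig (Mst ^ᵍ g) := by rwa [sig_conj]
  have hnL : ¬ Conj M (Mst ^ᵍ g) := fun h => hn (h.trans (Conj.conj Mst g).symm)
  have hSL := hT.conj g
  generalize Mst ^ᵍ g = L at hL hqL hnL hSL
  generalize T ^ᵍ g = S at *
  have k3 := (sigma_sylow hqL hSL).1
  have hS1 := hSM.ne_bot hq.1 hq.2.1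
  have h3 : S ⊓ 𝐂(P) = ⊥ := by_contra fun h3 => by
    obtain ⟨X, hX, hXq⟩ := exists_le_card_eq_prime hq.1
      (prime_dvd_card_of_isPGroup hq.1 (hS.pgrp.to_le inf_le_left) h3)
    exact ne_of_not_conj hnL (((cent_cent_Ms_tau1_uniq hM hE h1 hP (ne_bot_of_card_prime hPp) hq.1
      (hX.trans (inf_le_inf_right _ hS.le)) hXq).2 S hS).eq hL hSL.le)
  have hPL : P ≤ M ⊓ L := le_inf hPM (hPS.trans k3)
  have h4 : ¬ S ≤ 𝐂(P) := fun h => hS1 (h3 ▸ (inf_eq_left.2 h).symm)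
  have h5 : 𝐨(P) ∈ ta1 L := by_contra fun h5 => h4 ((le_inf hS.le hSL.le).trans (cent_comm.1
    ((Ms_inf_mmax_central hM hE hL ⟨hPp, card_dvd_of_le (hP.trans h1.1)⟩
      ⟨hPp, card_dvd_of_le (hPS.trans k3)⟩ h5 hnL fun h => h4 (comm_eq_bot_iff.1 (eq_bot_iff.2
        ((commutator_mono (le_inf hS.le hSL.le) hPL).trans h.le)))).1 P hPL
      (isPGroup_of_card_prime rfl))))
  have h6 : IsSyl q S (M ⊓ L) := k2.of_le (le_inf hSM.le hSL.le) le_top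
  exact tau1_mmaxI_asymmetry hM hL hnL hPt h5 hPL rfl hq.1 hq.1 h6 h6 hPS hPS h3 h3 k3 k1

/-- BG 13.10. -/
theorem tau13_regular {M E E₁ E₂ E₃ : Subgroup G} (hM : IsCoatom M)
    (h : SigmaCompl M E E₁ E₂ E₃) {P : Subgroup G} (hP : P ≤ E) (hPp : 𝐨(P).Prime)
    (hc : ¬ P ≤ 𝐂(E₃)) : SemiReg E₃ E₁ ∧ SemiReg (Ms M) E₃ ∧ Ms M ⊓ 𝐂(P) ≠ ⊥ := by
  have hE := h.hall
  obtain ⟨⟨k0, k1⟩, -, ⟨k2, k3⟩, -⟩ := h.context hM
  have hPM := hP.trans hE.1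
  have hPg : IsPGroup 𝐨(P) P := isPGroup_of_card_prime rfl
  have hP1 := ne_bot_of_card_prime hPp
  have hPt : 𝐨(P) ∈ ta1 M := by
    rcases partition_sigma_compl hM hPp (card_dvd_of_le hPM) (hE.2.1 _ hPp (card_dvd_of_le hP))
      with h1 | h1 | h1
    · exact h1
    · obtain ⟨A, hA, hA2⟩ := exists_elem2 hE h1
      exact (hc (((tau2_compl_context hM hE h1 hA hA2).1.2 P hP rfl).trans (cent_comm.1
        (le_sup_left.trans (tau1_cent_tau2_factor hM h h1 hA hA2).1)))).elim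
    · exact (hc ((le_of_hall_normal h.hall3 k1.2 hP (isPi_of_card_prime hPp rfl h1)).trans
        (isMulComm_iff_le_cent.1 (isMulComm_of_isCyclic k3)))).elim
  have hsE := isSolvable_of_le_mmax hM hE.1
  have hcop : 𝐨(P).Coprime 𝐨(E₃) :=
    isPi_coprime' (isPi_of_card_prime hPp rfl hPt) h.hall3.2.1 (disjoint_ta1_ta3 M)
  obtain ⟨q, hq, Q, hQ, hPQ, hQP⟩ := exists_isSyl_comm_ne_bot (hP.trans k1.2) hcop
    (Or.inl (H1.isSolvable_of_le hP hsE)) fun h => hc (cent_comm.1 h)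
  have hQ1 : Q ≠ ⊥ := fun h => hQP (h ▸ bot_le)
  have hqt : q ∈ ta3 M := mem_of_isPi_of_isPGroup hq hQ.pgrp hQ1 (isPi_of_le hQ.le h.hall3.2.1)
  have hC := cent_eq_bot_of_cyclic hq hQ.pgrp (isCyclic_of_le hQ.le k3) hPQ
    (H1.coprime_of_le hcop le_rfl hQ.le) hQP
  have hQM : IsSyl q Q M := (hQ.trans_hall hq h.hall3 hqt).trans_hall hq hE hqt.2.1
  obtain ⟨L, hL, hN⟩ := exists_mmax_norm hq hQ.pgrp hQ1
  have hn := mmax_norm_not_conj hM hL hq hQ.pgrp hQM.le hN (Or.inr (Or.inr hqt))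
  have hQL : IsSyl q Q (M ⊓ L) := hQM.of_le (le_inf hQM.le ((le_norm_self Q).trans hN)) inf_le_left
  have hPL : P ≤ M ⊓ L := le_inf hPM (hPQ.trans hN)
  obtain ⟨-, -, l1, -, l2, l3⟩ :=
    asym_half hM hL (ne_of_not_conj hn) hPt hPL rfl hq hQL hPQ hC hN
  have h3 : Ms M ⊓ 𝐂(P) ≠ ⊥ := fun h3 =>
    l2 (eq_bot_iff.2 (h3 ▸ inf_le_inf_right _ (Ma_le_Ms hM)))
  obtain ⟨F₁, hF₁, hPF⟩ := exists_hall_ge hsE hP (isPi_of_card_prime hPp rfl hPt)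
  have h2 : SemiReg (Ms M) E₃ := by
    refine (tau3_primact_Ms hM hE h.hall3).semiReg (by_contra fun h2 => ?_)
    obtain ⟨m1, m2, -⟩ := cent_norm_tau13_mmax hM hE (Or.inr hqt) hQ.pgrp hQM.le hL hN
    have hK : Ms M ⊓ L = Ms M ⊓ 𝐂(Q) := le_antisymm
      (le_inf inf_le_left (cent_comm.1 (m1 Q hQL.le hQ.pgrp)))
      (inf_le_inf_left _ ((cent_le_norm Q).trans hN))
    obtain ⟨r, hr, hrd⟩ := exists_prime_dvd_card (H := Ms M ⊓ L) fun h4 =>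
      h2 (eq_bot_iff.2 (h4 ▸ hK ▸ inf_le_inf_left _ (cent_anti hQ.le)))
    have hrs : r ∈ sig M := isPi_Ms M r hr (hrd.trans (card_dvd_of_le inf_le_left))
    obtain ⟨R, hR, -, hPR⟩ := exists_invariant_isSyl hr (K := Ms M ⊓ L)
      (hK ▸ norm_Ms_inf_cent hPM hPQ)
      (coprime_Ms (isPi_of_card_prime hPp rfl hPt.2.1) inf_le_left)
      (Or.inl (H1.isSolvable_of_le hP hsE)) IsPGroup.of_bot bot_le (by rw [norm_bot]; exact le_top)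
    have hR1 := hR.ne_bot hr hrd
    have hRM : R ≤ M := hR.le.trans (inf_le_left.trans (Ms_le M))
    have hRL : IsSyl r R (M ⊓ L) := hR.trans_hall hr (by
      have := hall_inf_of_hall_normal (Ms_hall hM).1 (Ms_normal M).2 (inf_le_left (b := L))
      rwa [← inf_assoc, inf_eq_left.2 (Ms_le M)] at this) hrs
    obtain ⟨m3, m4⟩ : R ⊓ 𝐂(P) = ⊥ ∧ 𝐍(R) ≤ M := by
      by_cases hra : r ∈ alp M
      · have h4 := isPi_of_isPGroup hr hR.pgrp hra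
        refine ⟨eq_bot_iff.2 (l3 ▸ le_inf (inf_le_left.trans (le_Ma hM hRM h4)) ?_),
          beta_norm_le_mmax hM hRM hR1 (l1 ▸ h4)⟩
        rw [cent_sup]
        exact le_inf inf_le_right (inf_le_left.trans (hR.le.trans (hK.le.trans inf_le_right)))
      obtain ⟨S, hS, hQS⟩ := (beta'_cent_sylow hM hr hq (l1 ▸ hra)
        (fun h => hqt.2.1 (alp_subset_sig hM h.1)) hQ.pgrp (Or.inl ⟨fun h => hqt.2.1 (h ▸ hrs),
          hQ.le.trans (k0.trans (commutator_mono hE.1 hE.1))⟩)).1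
      have h4 : IsSyl r R (Ms M) := hS.of_card_eq hr (hR.le.trans inf_le_left) (hR.card_eq hr
        (hS.of_le (hK ▸ le_inf hS.le (cent_comm.1 hQS)) inf_le_left))
      refine ⟨by_contra fun h5 => ?_, (sigma_sylow hrs (h4.trans_hall hr (Ms_hall hM).1 hrs)).1⟩
      obtain ⟨X, hX, hXr⟩ := exists_le_card_eq_prime hr
        (prime_dvd_card_of_isPGroup hr (hR.pgrp.to_le inf_le_left) h5)
      exact ne_of_not_conj hn (((cent_cent_Ms_tau1_uniq hM hE hF₁ hPF hP1 hr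
        (hX.trans (inf_le_inf_right _ h4.le)) hXr).2 R h4).eq hL (hR.le.trans inf_le_right))
    have h5 : 𝐨(P) ∈ ta1 L := by_contra fun h5 => hR1 (m3 ▸ (inf_eq_left.2 (hR.le.trans
      (cent_comm.1 (m2 P (le_inf hP (hPQ.trans hN)) (isPi_of_card_prime hPp rfl h5))))).symm)
    exact tau1_mmaxI_asymmetry hM hL hn hPt h5 hPL rfl hq hr hQL hRL hPQ hPR hC m3 hN m4
  refine ⟨by_contra fun h1 => h3 ?_, h2, h3⟩
  obtain ⟨g, hg, h4⟩ := exists_conj_le_hall hsE h.hall1 hP (isPi_of_card_prime hPp rfl hPt)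
  have h5 := ((tau13_primact_Ms hM h h1).semiReg (eq_bot_iff.2 ((inf_le_inf_left _
    (cent_anti (hQ.le.trans le_sup_left))).trans (h2.cent_eq_bot hQ.le hQ1).le))).cent_eq_bot
    (h4.trans le_sup_right) (conj_eq_bot_iff.not.2 hP1)
  rwa [cent_conj, ← conj_eq_of_mem_norm ((Ms_normal M).2 (hE.1 hg)), ← conj_inf,
    conj_eq_bot_iff] at h5

/-- BG 13.11. -/
theorem tau13_nonregular {M E E₁ E₂ E₃ : Subgroup G} (hM : IsCoatom M)
    (h : SigmaCompl M E E₁ E₂ E₃) (hr : ¬ SemiReg (Ms M) E₃) :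
    E₁ ≠ ⊥ ∧ SdProd E₃ E₁ E ∧ SemiPrime (Ms M) E ∧
      ∀ X : Subgroup G, X ≤ E → 𝐨(X).Prime → X ⊲ E := by
  have hE := h.hall
  obtain ⟨⟨-, k1⟩, k0, ⟨k2, k3⟩, ⟨k4, -⟩, -⟩ := h.context hM
  have h2 := eq_bot_of_not_semiReg hM h hr
  rw [h2, bot_sup_eq] at k4
  have h3 : ∀ P ≤ E, 𝐨(P).Prime → P ≤ 𝐂(E₃) := fun P hP hPp =>
    by_contra fun h3 => hr (tau13_regular hM h hP hPp h3).2.1
  obtain ⟨P, hP, hPp⟩ := exists_le_card_prime (k0 h2)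
  refine ⟨k0 h2, k4, k4.sup ▸ tau13_primact_Ms hM h fun h4 => hr fun x hx hx1 => (hx1 ?_).elim,
    fun X hX hXp => ⟨hX, ?_⟩⟩
  · exact mem_bot.1 (h4.cent_eq_bot hP (ne_bot_of_card_prime hPp) ▸
      ⟨hx, cent_comm.1 (h3 P (hP.trans h.hall1.1) hPp) hx⟩)
  by_cases h4 : 𝐨(X) ∈ ta3 M
  · exact k1.2.trans (norm_le_norm_of_le_cyclic k3
      (le_of_hall_normal h.hall3 k1.2 hX (isPi_of_card_prime hXp rfl h4)))
  obtain ⟨g, hg, h5⟩ := exists_le_conj_hall (isSolvable_of_le_mmax hM hE.1) (k4.hall h.hall3.2.1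
    (isPi_mono (fun r hr => Set.disjoint_left.1 (disjoint_ta1_ta3 M) hr) h.hall1.2.1)).2 hX
    (isPi_of_card_prime hXp rfl h4)
  rw [← (k4.conj_right hg).sup]
  exact sup_le ((cent_comm.1 (h3 X hX hXp)).trans (cent_le_norm X)) ((le_norm_self _).trans
    (norm_le_norm_of_le_cyclic ((isCyclic_map_iff (conj_injective g)).2 k2) h5))

/-- BG 13.12. -/
theorem tau12_regular {M E P A : Subgroup G} (hM : IsCoatom M) (hE : IsPiHallOf (sig M)ᶜ E M)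
    {p q : ℕ} (hp : p ∈ ta1 M) (hP : P ≤ E) (hPp : 𝐨(P) = p) (hC : Ms M ⊓ 𝐂(P) ≠ ⊥)
    (hq : q ∈ ta2 M) (hA : A ≤ E) (hA2 : IsElem q 2 A) : A ⊓ 𝐂(P) = ⊥ := by
  by_contra h0
  have hsE := isSolvable_of_le_mmax hM hE.1
  have hP1 : P ≠ ⊥ := ne_bot_of_card_prime (hPp ▸ hp.1)
  obtain ⟨E₁, h1, hPE⟩ := exists_hall_ge hsE hP (isPi_of_card_prime hp.1 hPp hp)
  obtain ⟨E₂, E₃, h⟩ := exists_sigmaCompl1 hM hE h1
  have h2 : ¬ P ≤ 𝐂(A) := fun h2 =>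
    hC ((tau2_regular hM h hq hA hA2).2.1.cent_eq_bot (le_inf hPE h2) hP1)
  obtain ⟨Y, hY, hYq⟩ := exists_le_card_eq_prime hq.1
    (prime_dvd_card_of_isPGroup hq.1 (hA2.pgrp.to_le inf_le_left) h0)
  obtain ⟨⟨k1, -⟩, ⟨-, -, k2⟩, k3⟩ := tau2_compl_context hM hE hq hA hA2
  have h3 := k3 Y (hY.trans inf_le_left) hYq fun h3 => hC (eq_bot_iff.2 (h3 ▸ cent_tau1_Ms hM hE
    hp hP hPp (hY.trans (inf_le_inf_right _ hA)) (hYq ▸ hq.1)))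
  obtain ⟨L, hL, hN⟩ := exists_mmax_norm hq.1 hA2.pgrp (hA2.ne_bot hq.1 two_ne_zero)
  have hne : L ≠ M := fun h => k2 (h ▸ hN)
  obtain ⟨l1, l2, -⟩ := primes_norm_tau2 hM hE hq hA hA2 hL hN
  have hAL := (le_norm_self A).trans hN
  have hPL : P ≤ L := hP.trans (k1.2.trans hN)
  have hYL : Y ≤ Ms L ⊓ 𝐂(P) := le_inf (le_Ms hL (hY.trans (inf_le_left.trans hAL))
    (isPi_of_card_prime hq.1 hYq (l1 q hq).1)) (hY.trans inf_le_right)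
  have h4 : p ∣ 𝐂(A).relIndex E := by_contra fun h4 => by
    obtain ⟨S, hS⟩ := exists_isSyl hp.1 (E ⊓ 𝐂(A))
    have hS' := hS.trans hp.1 inf_le_left (by rwa [inf_relIndex_left])
    obtain ⟨g, hg, h5⟩ := hS'.exists_le_conj hp.1 (isPGroup_of_card_prime hPp) hP
    exact h2 (h5.trans (conj_le_of_mem_norm (hS.le.trans inf_le_right)
      (H1.normalizer_le_normalizer_centralizer A (k1.2 hg))))
  have h5 := l2 p hp.1 h4
  obtain ⟨F, hF, hPF⟩ := ex_sigma_compl hL hPL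
    (isPi_of_card_prime hp.1 hPp (h5.elim (·.2.1) (·.2.1)))
  rcases h5 with h5 | h5
  · obtain ⟨F₁, hF₁, h6⟩ := exists_hall_ge (isSolvable_of_le_mmax hL hF.1) hPF
      (isPi_of_card_prime hp.1 hPp h5)
    exact hne (h3.eq hL (cent_cent_Ms_tau1_uniq hL hF hF₁ h6 hP1 hq.1 hYL hYq).1.le)
  obtain ⟨B, hB, hB2⟩ := exists_elem2 hF h5
  obtain ⟨⟨-, m1⟩, -, m2⟩ := tau2_compl_context hL hF h5 hB hB2
  have h6 := m2 P (m1 P hPF hPp) hPp fun h6 =>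
    ne_bot_of_card_prime (hYq ▸ hq.1) (eq_bot_iff.2 (h6 ▸ hYL))
  exact hC (eq_bot_iff.2 ((tau2_context hM hq (hA.trans hE.1) hA2).2.2.2.1 L hL hAL hne ▸
    inf_le_inf_left _ h6.le))

/-- BG 13.13. -/
theorem tau13_nonregular_sigma {M E P Mst : Subgroup G} (hM : IsCoatom M)
    (hE : IsPiHallOf (sig M)ᶜ E M) {p : ℕ} (hp : p ∈ ta1 M ∨ p ∈ ta3 M) (hP : P ≤ E)
    (hPp : 𝐨(P) = p) (hC : Ms M ⊓ 𝐂(P) ≠ ⊥) (hMst : IsCoatom Mst) (hN : 𝐍(P) ≤ Mst) :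
    p ∈ sig Mst := by
  have hpp := prime_of_ta13 hp
  have hPg := isPGroup_of_card_prime hPp
  have hP1 : P ≠ ⊥ := ne_bot_of_card_prime (hPp ▸ hpp)
  have hsE := isSolvable_of_le_mmax hM hE.1
  refine (prime_class_mmax_norm hMst hpp hPg hN).resolve_right fun h2 => ?_
  obtain ⟨X, hX, hq⟩ := exists_le_card_prime hC
  have hn := mmax_norm_not_conj hM hMst hpp hPg (hP.trans hE.1) hN (Or.inr hp)
  have hqs : 𝐨(X) ∈ sig M := isPi_Ms M _ hq (card_dvd_of_le (hX.trans inf_le_left))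
  have hXP := hX.trans inf_le_right
  have hCL := (cent_le_norm P).trans hN
  obtain ⟨F, hF, h3⟩ := ex_sigma_compl hMst (sup_le (hXP.trans hCL) ((le_norm_self P).trans hN))
    (isPi_sup (isPi_of_card_prime hq rfl (Set.disjoint_left.1 (sigma_partition hM hMst hn) hqs))
      (isPi_of_card_prime hpp hPp h2.2.1) (hXP.trans (cent_le_norm P)))
  have hXF := le_sup_left.trans h3
  obtain ⟨A, hA, hA2⟩ := exists_elem2 hF h2
  obtain ⟨⟨k1, k2⟩, -⟩ := tau2_compl_context hMst hF h2 hA hA2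
  have hPA := k2 P (le_sup_right.trans h3) hPp
  have h4 : 𝐂(X) ≤ M := by
    rcases hp with hp | hp
    · obtain ⟨E₁, h1, hPE⟩ := exists_hall_ge hsE hP (isPi_of_card_prime hpp hPp hp)
      exact (cent_cent_Ms_tau1_uniq hM hE h1 hPE hP1 hq hX rfl).1.le
    obtain ⟨E₃, h1, hPE⟩ := exists_hall_ge hsE hP (isPi_of_card_prime hpp hPp hp)
    obtain ⟨E₁, E₂, h⟩ := exists_sigmaCompl3 hM hE h1
    obtain ⟨l1, -, l2, -⟩ := tau13_nonregular hM h fun h => hC (h.cent_eq_bot hPE hP1)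
    exact (cent_cent_Ms_tau1_uniq hM hE h.hall1 le_rfl l1 hq (hX.trans ((l2.cent_eq hP hP1).le.trans
      (inf_le_inf_left _ (cent_anti h.hall1.1)))) rfl).1.le
  have h5 : ¬ A ≤ 𝐂(X) := fun h5 => by
    have := le_pRank hpp (h5.trans h4) hA2
    rw [pRank_eq_one_of_ta13 hp] at this
    omega
  obtain ⟨F₁, hF₁⟩ := exists_hall (isSolvable_of_le_mmax hMst hF.1) (ta1 Mst)
  obtain ⟨F₂, F₃, h⟩ := exists_sigmaCompl1 hMst hF hF₁
  have h6 : 𝐨(X) ∈ ta1 Mst := (tau1_cent_tau2_factor hMst h h2 hA hA2).2 _ hq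
    (by_contra fun h6 => by
      obtain ⟨S, hS⟩ := exists_isSyl hq (F ⊓ 𝐂(A))
      have hS' := hS.trans hq inf_le_left (by rwa [inf_relIndex_left])
      obtain ⟨g, hg, h7⟩ := hS'.exists_le_conj hq (isPGroup_of_card_prime rfl) hXF
      exact h5 (cent_comm.1 (h7.trans (conj_le_of_mem_norm (hS.le.trans inf_le_right)
        (H1.normalizer_le_normalizer_centralizer A (k1.2 hg))))))
  have h7 : P ≤ A ⊓ 𝐂(X) := le_inf hPA (cent_comm.1 hXP)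
  obtain ⟨-, -, l1, l2⟩ := tau1_act_tau2 hMst hF h2 hA hA2 h6 hXF rfl (by_contra fun h8 =>
    hP1 (eq_bot_iff.2 (tau12_regular hMst hF h6 hXF rfl h8 h2 hA hA2 ▸ h7)))
    fun h8 => h5 (comm_eq_bot_iff.1 h8)
  exact l2 ((cent_anti h7).trans hCL)

end Cfsg.Agent.FT
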