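/-
BG section 14, part 1: Lemma 14.1, the factorisation `M = K U M_σ`, Proposition 14.2.
-/
import Cfsg.Agent.FT.BG13

set_option autoImplicit false
set_option linter.unusedSectionVars false
set_option linter.unusedVariables false

namespace Cfsg.Agent.FT

open Subgroup Cfsg Cfsg.Agent
open scoped commutatorElement

universe u

variable {G : Type u} [Group G] [Finite G] [MinOdd G]

namespace BG14

theorem not_isPi_sig {M : Subgroup G} (hM : IsCoatom M) : ¬ IsPiSubgroup (sig M) M := by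
  intro h
  have h1 : Ms M = M := piCoreOf_eq_self h
  have h2 := Ms_le_der hM
  have h3 := H1.commutator_lt_of_isSolvable (mmax_isSolvable hM) (mmax_ne_bot hM)
  rw [h1] at h2
  exact absurd h2 (not_le_of_gt h3)

/-- Subgroups of order `p` are conjugate when the `p`-rank is at most one. -/
theorem conj_of_pRank_le_one {p : ℕ} (hp : p.Prime) {M X Y : Subgroup G} (h : pRank p M ≤ 1)
    (hX : X ≤ M) (hXp : 𝐨(X) = p) (hY : Y ≤ M) (hYp : 𝐨(Y) = p) : ∃ g ∈ M, Y ^ᵍ g = X := by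
  obtain ⟨S, hS, hXS⟩ := exists_isSyl_ge hp (isPGroup_of_card_prime hXp) hX
  obtain ⟨g, hg, hYS⟩ := hS.exists_conj_le hp (isPGroup_of_card_prime hYp) hY
  have hp2 : p ≠ 2 := ne_two_of_dvd_card (H := X) (by rw [hXp])
  have hc : IsCyclic S := isCyclic_of_pRank_le_one hp hp2 hS.pgrp (by rw [hS.pRank_eq hp]; exact h)
  exact ⟨g, hg, eq_of_card_prime_of_isCyclic hp hc hYS hXS (by rw [card_conj, hYp]) hXp⟩

theorem Ms_conj_of_mem {M : Subgroup G} {g : G} (hg : g ∈ M) : Ms M ^ᵍ g = Ms M :=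
  conj_eq_of_mem_norm ((Ms_normal M).2 hg)

theorem kap_cent_ne_bot {M X : Subgroup G} {p : ℕ} (hp : p ∈ kap M) (hX : X ≤ M)
    (hXp : 𝐨(X) = p) : Ms M ⊓ 𝐂(X) ≠ ⊥ := by
  obtain ⟨h13, P, hP, hPp, hC⟩ := hp
  obtain ⟨g, hg, rfl⟩ := conj_of_pRank_le_one (prime_of_ta13 h13)
    (pRank_eq_one_of_ta13 h13).le hX hXp hP hPp
  rw [cent_conj, ← Ms_conj_of_mem hg, ← conj_inf, Ne, conj_eq_bot_iff]
  exact hC

theorem prime_of_kap {M : Subgroup G} {p : ℕ} (hp : p ∈ kap M) : p.Prime := prime_of_ta13 hp.1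

theorem dvd_of_kap {M : Subgroup G} {p : ℕ} (hp : p ∈ kap M) : p ∣ 𝐨(M) := by
  obtain ⟨_, P, hP, hPp, _⟩ := hp
  exact hPp ▸ card_dvd_of_le hP

theorem exists_elem2_le {M E : Subgroup G} (hE : IsPiHallOf (sig M)ᶜ E M) {p : ℕ}
    (hp : p ∈ ta2 M) : ∃ A : Subgroup G, A ≤ E ∧ IsElem p 2 A := by
  rw [← le_pRank_iff hp.1, hall_pRank_eq hp.1 hE hp.2.1, hp.2.2]

/-- A `q`-subgroup of `E` outside a normal subgroup forces `q` to divide the index. -/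
theorem dvd_relIndex_of_not_le {q : ℕ} (hq : q.Prime) {Q N E : Subgroup G} (hQ : IsPGroup q Q)
    (hQE : Q ≤ E) (hN : E ≤ 𝐍(N)) (h : ¬ Q ≤ N) : q ∣ N.relIndex E := by
  by_contra hd
  apply h
  obtain ⟨S, hS⟩ := exists_isSyl hq (N ⊓ E)
  have hS' : IsSyl q S E := hS.trans hq inf_le_right (by rwa [Subgroup.inf_relIndex_right])
  obtain ⟨g, hg, hle⟩ := hS'.exists_le_conj hq hQ hQE
  exact hle.trans (conj_le_of_mem_norm (hS.le.trans inf_le_left) (hN hg))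

theorem kappa_hall_ne_bot {M K : Subgroup G} (hM : IsPtype M) (hK : IsPiHallOf (kap M) K M) :
    K ≠ ⊥ := by
  obtain ⟨p, hp⟩ := hM.2
  exact ne_bot_of_prime_dvd (prime_of_kap hp)
    ((hall_dvd_card_iff hK (prime_of_kap hp) hp).2 (dvd_of_kap hp))

theorem isPtype_of_ne_bot {M K : Subgroup G} (hM : IsCoatom M) (hK : IsPiSubgroup (kap M) K)
    (h : K ≠ ⊥) : IsPtype M := by
  obtain ⟨p, hp, hd⟩ := exists_prime_dvd_card h
  exact ⟨hM, p, hK p hp hd⟩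

/-- The two cases of the proof of BG 14.2. -/
theorem kappa_core {M E K : Subgroup G} (hM : IsPtype M) (hE : IsPiHallOf (sig M)ᶜ E M)
    (hK : IsPiHallOf (kap M) K M) (hKE : K ≤ E) :
    ∃ U : Subgroup G, SdProd U K E ∧ IsPiSubgroup (sig M ∪ kap M)ᶜ U ∧ SemiPrime (Ms M) K ∧
      SemiReg U K ∧ IsMulCommutative U ∧ (∀ X : Subgroup G, X ≤ K → 𝐨(X).Prime → K ≤ 𝐍(X)) ∧
      (∃ E₁ : Subgroup G, IsPiHallOf (ta1 M) E₁ E ∧ E₁ ≤ K ∧ E₁ ≠ ⊥) ∧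
      (IsMulCommutative K → kap M = ta1 M) := by
  have hMc := hM.1
  have hEM := hall_le hE
  have hEs : Group.IsSolvable E := isSolvable_of_le_mmax hMc hEM
  obtain ⟨E₃, h3⟩ := exists_hall hEs (ta3 M)
  by_cases hA : ∃ p ∈ kap M, p ∈ ta3 M
  · obtain ⟨p, hpk, hp3⟩ := hA
    have hp := prime_of_kap hpk
    obtain ⟨E₁, h1⟩ := exists_hall hEs (ta1 M)
    obtain ⟨E₂, hS⟩ := ex_tau2_compl hMc hE h1 h3
    have hpE : p ∣ 𝐨(E₃) := (hall_dvd_card_iff h3 hp hp3).2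
      ((hall_dvd_card_iff hE hp hp3.2.1).2 (dvd_of_kap hpk))
    obtain ⟨X, hX3, hXp⟩ := exists_le_card_eq_prime hp hpE
    have hX1 : X ≠ ⊥ := ne_bot_of_card_prime (hXp ▸ hp)
    have hXE : X ≤ E := hX3.trans (hall_le h3)
    have hCX := kap_cent_ne_bot hpk (hXE.trans hEM) hXp
    have hnr : ¬ SemiReg (Ms M) E₃ := fun h => hCX (h.cent_eq_bot hX3 hX1)
    obtain ⟨hE1, hsd, hpr, hnX⟩ := tau13_nonregular hMc hS hnr
    have hEk : IsPiSubgroup (kap M) E := by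
      intro q hq hqE
      obtain ⟨Y, hY, hYq⟩ := exists_le_card_eq_prime hq hqE
      refine ⟨?_, Y, hY.trans hEM, hYq, ?_⟩
      · rw [hsd.card] at hqE
        rcases (Nat.Prime.dvd_mul hq).1 hqE with h | h
        · exact Or.inr (hall_isPi h3 q hq h)
        · exact Or.inl (hall_isPi h1 q hq h)
      · rw [hpr.cent_eq hY (ne_bot_of_card_prime (hYq ▸ hq)), ← hpr.cent_eq hXE hX1]
        exact hCX
    have hEK : E = K := hall_eq_of_le hK hKE hEM hEk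
    subst hEK
    refine ⟨⊥, ⟨bot_sup_eq _, by rw [norm_bot]; exact le_top, bot_inf_eq _⟩, isPi_bot _, hpr,
      fun x _ _ => bot_inf_eq _, inferInstance, fun X hX hXp => (hnX X hX hXp).2,
      ⟨E₁, h1, hall_le h1, hE1⟩, fun hc => ?_⟩
    exfalso
    have h4 := (hS.context hMc).1.1
    rw [isMulComm_iff_comm_eq_bot.1 hc] at h4
    exact hX1 (le_bot_iff.1 (hX3.trans h4))
  · push Not at hA
    have hk1 : kap M ⊆ ta1 M := fun p hp => (hp.1.resolve_right (hA p hp))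
    obtain ⟨E₁, h1, hKE₁⟩ := exists_hall_ge hEs hKE (isPi_mono hk1 (hall_isPi hK))
    obtain ⟨E₂, hS⟩ := ex_tau2_compl hMc hE h1 h3
    have hpr := tau1_primact_Ms hMc hE h1
    have hK1 := kappa_hall_ne_bot hM hK
    have hE₁E := hall_le h1
    have hCX : ∀ X : Subgroup G, X ≤ E₁ → X ≠ ⊥ → Ms M ⊓ 𝐂(X) ≠ ⊥ := by
      intro X hX hX1
      obtain ⟨Y, hY, hYp⟩ := exists_le_card_prime hK1
      rw [hpr.cent_eq hX hX1, ← hpr.cent_eq (hY.trans hKE₁) (ne_bot_of_card_prime hYp)]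
      exact kap_cent_ne_bot (hall_isPi hK _ hYp (card_dvd_of_le hY)) (hY.trans (hall_le hK)) rfl
    have hEk : IsPiSubgroup (kap M) E₁ := by
      intro q hq hqE
      obtain ⟨Y, hY, hYq⟩ := exists_le_card_eq_prime hq hqE
      exact ⟨Or.inl (hall_isPi h1 q hq hqE), Y, hY.trans (hE₁E.trans hEM), hYq,
        hCX Y hY (ne_bot_of_card_prime (hYq ▸ hq))⟩
    have hEK : E₁ = K := hall_eq_of_le hK hKE₁ (hE₁E.trans hEM) hEk
    subst hEK
    obtain ⟨⟨-, hn3⟩, -, ⟨hc1, -⟩, ⟨-, hsd, -, hsd32⟩, -⟩ := hS.context hMc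
    have hU : IsPiSubgroup (ta3 M ∪ ta2 M) (E₃ ⊔ E₂) := by
      intro q hq hd
      rw [hsd32.card] at hd
      rcases (Nat.Prime.dvd_mul hq).1 hd with h | h
      · exact Or.inl (hall_isPi h3 q hq h)
      · exact Or.inr (hall_isPi hS.hall2 q hq h)
    have hreg : SemiReg (E₃ ⊔ E₂) E₁ := by
      refine semiReg_of_prime fun X hX hXp => ?_
      by_contra hne
      obtain ⟨Y, hY, hYp⟩ := exists_le_card_prime hne
      have hX1 := ne_bot_of_card_prime hXp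
      have hY1 := ne_bot_of_card_prime hYp
      have hYE : Y ≤ E := (hY.trans inf_le_left).trans hsd.le_left
      rcases hU _ hYp (card_dvd_of_le (hY.trans inf_le_left)) with hq | hq
      · have hY3 : Y ≤ E₃ := le_of_hall_normal h3 hn3.2 hYE (isPi_of_card_prime hYp rfl hq)
        have hnr : ¬ SemiReg E₃ E₁ := fun h =>
          hY1 (le_bot_iff.1 (h.cent_eq_bot hX hX1 ▸ le_inf hY3 (hY.trans inf_le_right)))
        have hp2 := tau13_primact_Ms hMc hS hnr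
        refine hA _ ⟨Or.inr hq, Y, hYE.trans hEM, rfl, ?_⟩ hq
        rw [hp2.cent_eq (hY3.trans le_sup_left) hY1, ← hp2.cent_eq (hX.trans le_sup_right) hX1]
        exact hCX X hX hX1
      · obtain ⟨A, hAE, hA2⟩ := exists_elem2_le hE hq
        have hYA := (tau2_compl_context hMc hE hq hAE hA2).1.2 Y hYE rfl
        have := tau12_regular hMc hE (hall_isPi h1 _ hXp (card_dvd_of_le hX)) (hX.trans hE₁E) rfl
          (hCX X hX hX1) hq hAE hA2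
        exact hY1 (le_bot_iff.1 (this ▸ le_inf hYA (hY.trans inf_le_right)))
    have hUσ : IsPiSubgroup (sig M)ᶜ (E₃ ⊔ E₂) := isPi_of_le hsd.le_left (hall_isPi hE)
    refine ⟨E₃ ⊔ E₂, hsd, ?_, hpr, hreg, ?_, fun X hX _ =>
      (le_norm_self _).trans (norm_le_norm_of_le_cyclic hc1 hX), ⟨E₁, h1, le_rfl, hK1⟩,
      fun _ => ?_⟩
    · intro q hq hd h
      rcases h with h | h
      · exact hUσ q hq hd h
      · rcases hU q hq hd with h' | h'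
        · exact hA q h h'
        · exact Set.disjoint_left.1 (disjoint_ta1_ta2 M) (hk1 h) h'
    · obtain ⟨X, hX, hXp⟩ := exists_le_card_prime hK1
      exact sigma'_nil_abelian hMc (hsd.le_left.trans hEM) hUσ
        (nilpotent_of_prime_reg (hX.trans hsd.norm) hXp
          (hreg.cent_eq_bot hX (ne_bot_of_card_prime hXp)))
    · refine Set.Subset.antisymm hk1 fun q hq => hEk q hq.1 ?_
      exact (hall_dvd_card_iff h1 hq.1 hq).2
        ((hall_dvd_card_iff hE hq.1 hq.2.1).2 (ta1_subset_piOf M hq).2)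

theorem hall_U {M E U K : Subgroup G} (hE : IsPiHallOf (sig M)ᶜ E M)
    (hK : IsPiSubgroup (kap M) K) (hsd : SdProd U K E)
    (hU : IsPiSubgroup (sig M ∪ kap M)ᶜ U) : IsPiHallOf (sig M ∪ kap M)ᶜ U M := by
  have h1 : IsPiHallOf (kap M)ᶜ U E :=
    (hsd.hall (isPi_mono (Set.compl_subset_compl.2 Set.subset_union_right) hU)
      (by rw [compl_compl]; exact hK)).1
  have h2 := hall_trans_inter h1 hE
  rwa [← Set.compl_union, Set.union_comm] at h2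

end BG14

open BG14

theorem kap_subset {M : Subgroup G} {p : ℕ} (hp : p ∈ kap M) :
    p.Prime ∧ p ∣ 𝐨(M) ∧ p ∉ sig M ∧ p ∉ ta2 M := by
  refine ⟨prime_of_kap hp, dvd_of_kap hp, kap_subset_compl M hp, fun h => ?_⟩
  have := pRank_eq_one_of_ta13 hp.1
  rw [h.2.2] at this
  exact absurd this (by decide)

/-- BG 14.1. -/
theorem sigma'_kappa'_facts {M S : Subgroup G} (hM : IsCoatom M) (hP1 : ¬ IsP1type M) {p : ℕ}
    (hp : p.Prime) (hd : p ∣ 𝐨(M)) (hσ : p ∉ sig M) (hκ : p ∉ kap M) (hS : IsSyl p S M) :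
    𝐨(omegaOne p S) ≤ p ^ 2 ∧ Ms M ⊓ 𝐂(omegaOne p S) = ⊥ ∧ Group.IsNilpotent (Ms M) := by
  by_cases h2 : p ∈ ta2 M
  · obtain ⟨A, hAS, hA2⟩ := (le_pRank_iff hp (n := 2) (H := S)).1
      (by rw [hS.pRank_eq hp, h2.2.2])
    obtain ⟨h1, -, h3, -⟩ := tau2_context hM h2 (hAS.trans hS.le) hA2
    rw [(h1 S hS).2.2 hAS]
    exact ⟨hA2.card.le, h3, tau2_Ms_nil hM h2⟩
  · have h13 : p ∈ ta1 M ∪ ta3 M := by
      rcases partition_sigma_compl hM hp hd hσ with h | h | h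
      · exact Or.inl h
      · exact absurd h h2
      · exact Or.inr h
    have hc : IsCyclic S := isCyclic_of_pRank_le_one hp (ne_two_of_dvd_card hd) hS.pgrp
      (by rw [hS.pRank_eq hp, pRank_eq_one_of_ta13 h13])
    have hcard := card_omegaOne_of_isCyclic hp hc
      (prime_dvd_card_of_isPGroup hp hS.pgrp (hS.ne_bot hp hd))
    have hle : omegaOne p S ≤ M := (omegaOne_le p S).trans hS.le
    have hC : Ms M ⊓ 𝐂(omegaOne p S) = ⊥ := by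
      by_contra hne
      exact hκ ⟨h13, _, hle, hcard, hne⟩
    refine ⟨?_, hC, nilpotent_of_prime_reg (hle.trans (Ms_normal M).2) (by rw [hcard]; exact hp) hC⟩
    rw [hcard, sq]
    exact Nat.le_mul_self p

/-- BG 14.1. -/
theorem notP1type_Ms_nil {M : Subgroup G} (hM : IsCoatom M) (hP1 : ¬ IsP1type M) :
    Group.IsNilpotent (Ms M) := by
  have h : ¬ IsPiSubgroup (sig M ∪ kap M) M := by
    intro h
    rcases isFtype_or_isPtype hM with hF | hP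
    · rw [hF.2, Set.union_empty] at h
      exact not_isPi_sig hM h
    · exact hP1 ⟨hP, h⟩
  simp only [IsPiSubgroup, not_forall] at h
  obtain ⟨p, hp, hd, hn⟩ := h
  obtain ⟨S, hS⟩ := exists_isSyl hp M
  exact (sigma'_kappa'_facts hM hP1 hp hd (fun h => hn (Or.inl h)) (fun h => hn (Or.inr h)) hS).2.2

/-- The same, starting from a given complement `E ≥ K` of `M_σ`. -/
theorem ex_kappa_compl_le {M E K : Subgroup G} (hM : IsCoatom M) (hE : IsPiHallOf (sig M)ᶜ E M)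
    (hK : IsPiHallOf (kap M) K M) (hKE : K ≤ E) :
    ∃ U : Subgroup G, KappaCompl M U K ∧ SdProd U K E := by
  rcases isFtype_or_isPtype hM with hF | hP
  · have hK1 : K = ⊥ := by
      by_contra h
      exact (isPtype_of_ne_bot hM (hall_isPi hK) h).not_isFtype hF
    subst hK1
    refine ⟨E, ⟨?_, hK, bot_le⟩, sup_bot_eq _, bot_le, inf_bot_eq _⟩
    rwa [hF.2, Set.union_empty]
  · obtain ⟨U, hsd, hU, -⟩ := kappa_core hP hE hK hKE
    exact ⟨U, ⟨hall_U hE (hall_isPi hK) hsd hU, hK, hsd.norm⟩, hsd⟩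

theorem ex_kappa_compl {M K : Subgroup G} (hM : IsCoatom M) (hK : IsPiHallOf (kap M) K M) :
    ∃ U : Subgroup G, KappaCompl M U K := by
  obtain ⟨E, hE, hKE⟩ := ex_sigma_compl hM (hall_le hK)
    (isPi_mono (kap_subset_compl M) (hall_isPi hK))
  obtain ⟨U, hU, -⟩ := ex_kappa_compl_le hM hE hK hKE
  exact ⟨U, hU⟩

theorem BG14.kc_sd {M U K : Subgroup G} (h : KappaCompl M U K) :
    IsPiHallOf (sig M)ᶜ (U ⊔ K) M ∧ SdProd U K (U ⊔ K) := by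
  have hU := hall_isPi h.hallU
  have hK := hall_isPi h.hallK
  have hsd : SdProd U K (U ⊔ K) := sdProd_of_coprime h.norm
    (isPi_coprime' hU hK (Set.disjoint_left.2 fun p hp hk => hp (Or.inr hk)))
  refine ⟨⟨sup_le (hall_le h.hallU) (hall_le h.hallK), fun p hp hd => ?_, fun p hp hσ hd => ?_⟩,
    hsd⟩
  · rw [hsd.card] at hd
    rcases (Nat.Prime.dvd_mul hp).1 hd with h' | h'
    · exact fun hs => hU p hp h' (Or.inl hs)
    · exact kap_subset_compl M (hK p hp h')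
  · have hle : U ⊔ K ≤ M := sup_le (hall_le h.hallU) (hall_le h.hallK)
    by_cases hk : p ∈ kap M
    · exact hall_not_dvd h.hallK hp hk
        (hd.trans (Subgroup.relIndex_dvd_of_le_left M le_sup_right))
    · exact hall_not_dvd h.hallU hp (fun h' => h'.elim hσ hk)
        (hd.trans (Subgroup.relIndex_dvd_of_le_left M le_sup_left))

/-- `kappa_core` for a given complement `U`. -/
theorem BG14.kc_core {M U K : Subgroup G} (hM : IsPtype M) (h : KappaCompl M U K) :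
    SemiPrime (Ms M) K ∧ SemiReg U K ∧ IsMulCommutative U ∧
      (∀ X : Subgroup G, X ≤ K → 𝐨(X).Prime → K ≤ 𝐍(X)) ∧
      (∃ E₁ : Subgroup G, IsPiHallOf (ta1 M) E₁ (U ⊔ K) ∧ E₁ ≤ K ∧ E₁ ≠ ⊥) ∧
      (IsMulCommutative K → kap M = ta1 M) := by
  obtain ⟨hE, hsd⟩ := kc_sd h
  obtain ⟨U', hsd', hU', h'⟩ := kappa_core hM hE h.hallK le_sup_right
  have hU'h := hall_U hE (hall_isPi h.hallK) hsd' hU'
  have hle : U ≤ U' := le_of_hall_normal (hall_of_le hU'h hsd'.le_left (hall_le hE)) hsd'.le_norm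
    le_sup_left (hall_isPi h.hallU)
  have : U' = U := hall_eq_of_le h.hallU hle (hall_le hU'h) hU'
  subst this
  exact h'

/-- BG 14.2(a). -/
theorem KappaCompl.context {M U K : Subgroup G} (hM : IsCoatom M) (h : KappaCompl M U K) :
    IsPiHallOf (sig M)ᶜ (U ⊔ K) M ∧ SdProd U K (U ⊔ K) ∧ SdProd (Ms M) U (Ms M ⊔ U) ∧
      SdProd (Ms M ⊔ U) K M ∧ SemiPrime (Ms M) K ∧ SemiReg U K ∧
      (K ≠ ⊥ → IsMulCommutative U) := by
  obtain ⟨hE, hsd⟩ := kc_sd h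
  have hsdM := sdprod_sigma hM hE
  have hUn : U ≤ 𝐍(Ms M) := (hall_le h.hallU).trans (Ms_normal M).2
  have hKn : K ≤ 𝐍(Ms M) := (hall_le h.hallK).trans (Ms_normal M).2
  have hsdU : SdProd (Ms M) U (Ms M ⊔ U) :=
    ⟨rfl, hUn, le_bot_iff.1 (hsdM.disj ▸ inf_le_inf_left _ le_sup_left)⟩
  have hsdK : SdProd (Ms M ⊔ U) K M := by
    refine sdProd_of_card (sup_le (Ms_le M) (hall_le h.hallU)) (hall_le h.hallK)
      (H1.le_normalizer_sup hKn h.norm) ?_ ?_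
    · refine isPi_disjoint (π := (kap M)ᶜ) ?_ (by rw [compl_compl]; exact hall_isPi h.hallK)
      intro p hp hd hk
      rw [hsdU.card] at hd
      rcases (Nat.Prime.dvd_mul hp).1 hd with h' | h'
      · exact kap_subset_compl M hk (isPi_Ms M p hp h')
      · exact hall_isPi h.hallU p hp h' (Or.inr hk)
    · rw [hsdM.card, hsdU.card, hsd.card, mul_assoc]
  refine ⟨hE, hsd, hsdU, hsdK, ?_⟩
  by_cases hK : K = ⊥
  · subst hK
    exact ⟨fun x hx h1 => absurd (mem_bot.1 hx) h1, fun x hx h1 => absurd (mem_bot.1 hx) h1,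
      fun h => absurd rfl h⟩
  · obtain ⟨h1, h2, h3, -⟩ := kc_core (isPtype_of_ne_bot hM (hall_isPi h.hallK) hK) h
    exact ⟨h1, h2, fun _ => h3⟩

theorem KappaCompl.eq_bot_iff {M U K : Subgroup G} (hM : IsCoatom M) (h : KappaCompl M U K) :
    (K = ⊥ ↔ IsFtype M) ∧ (U = ⊥ ↔ IsP1type M) ∧ (K ≠ ⊥ ∧ U ≠ ⊥ ↔ IsP2type M) := by
  have h1 : K ≠ ⊥ ↔ IsPtype M :=
    ⟨isPtype_of_ne_bot hM (hall_isPi h.hallK), fun hP => kappa_hall_ne_bot hP h.hallK⟩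
  have h2 : U = ⊥ ↔ IsPiSubgroup (sig M ∪ kap M) M := by
    rw [hall_eq_bot_iff h.hallU, compl_compl]
  refine ⟨⟨fun hK => (isFtype_or_isPtype hM).resolve_right fun hP => h1.2 hP hK, fun hF => ?_⟩,
    ⟨fun hU => ⟨?_, h2.1 hU⟩, fun hP => h2.2 hP.2⟩,
    ⟨fun h' => ⟨h1.1 h'.1, fun h'' => h'.2 (h2.2 h'')⟩,
      fun h' => ⟨h1.2 h'.1, fun h'' => h'.2 (h2.1 h'')⟩⟩⟩
  · by_contra hK
    exact (h1.1 hK).not_isFtype hF
  · refine (isFtype_or_isPtype hM).resolve_left fun hF => ?_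
    have := h2.1 hU
    rw [hF.2, Set.union_empty] at this
    exact not_isPi_sig hM this

namespace BG14

/-- BG 14.2(b)(1), for any nontrivial subgroup of `K` normalized by `K`. -/
theorem norm_eq_Z {M K H : Subgroup G} (hM : IsPtype M) (hK : IsPiHallOf (kap M) K M)
    (hH : H ≤ K) (hH1 : H ≠ ⊥) (hn : K ≤ 𝐍(H)) : M ⊓ 𝐍(H) = K ⊔ (Ms M ⊓ 𝐂(K)) := by
  obtain ⟨U, hU⟩ := ex_kappa_compl hM.1 hK
  obtain ⟨hE, hsd, -, -, hpr, hreg, -⟩ := hU.context hM.1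
  have hsdM := sdprod_sigma hM.1 hE
  have hKσ : IsPiSubgroup (sig M)ᶜ K := isPi_mono (kap_subset_compl M) (hall_isPi hK)
  have h1 := pprod_norm_coprime (mmax_isSolvable hM.1) hsdM.sup hsdM.le_norm
    (hH.trans le_sup_right) (isPi_coprime (isPi_Ms M) (isPi_of_le hH hKσ)).symm
  have h2 := pprod_norm_coprime (isSolvable_of_le_mmax hM.1 (hall_le hE)) hsd.sup hsd.le_norm hH
    (H1.coprime_of_le (hreg.coprime hU.norm).symm hH le_rfl)
  rw [hreg.cent_eq_bot hH hH1, bot_sup_eq, inf_eq_left.2 hn] at h2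
  rw [← h1, ← h2, hpr.cent_eq hH hH1, sup_comm]

theorem norm_prime_eq_Z {M K X : Subgroup G} (hM : IsPtype M) (hK : IsPiHallOf (kap M) K M)
    (hX : X ≤ K) (hXp : 𝐨(X).Prime) : M ⊓ 𝐍(X) = K ⊔ (Ms M ⊓ 𝐂(K)) := by
  obtain ⟨U, hU⟩ := ex_kappa_compl hM.1 hK
  exact norm_eq_Z hM hK hX (ne_bot_of_card_prime hXp) ((kc_core hM hU).2.2.2.1 X hX hXp)

theorem normK_eq_Z {M K : Subgroup G} (hM : IsPtype M) (hK : IsPiHallOf (kap M) K M) :
    M ⊓ 𝐍(K) = K ⊔ (Ms M ⊓ 𝐂(K)) :=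
  norm_eq_Z hM hK le_rfl (kappa_hall_ne_bot hM hK) (le_norm_self K)

theorem isPi_K_sig' {M K : Subgroup G} (hK : IsPiHallOf (kap M) K M) :
    IsPiSubgroup (sig M)ᶜ K := isPi_mono (kap_subset_compl M) (hall_isPi hK)

theorem isPi_Ks (M K : Subgroup G) : IsPiSubgroup (sig M) (Ms M ⊓ 𝐂(K)) :=
  isPi_of_le inf_le_left (isPi_Ms M)

theorem dprod_Z {M K : Subgroup G} (hK : IsPiHallOf (kap M) K M) :
    DProd K (Ms M ⊓ 𝐂(K)) (K ⊔ (Ms M ⊓ 𝐂(K))) :=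
  ⟨rfl, inf_le_right, by rw [inf_comm]; exact isPi_disjoint (isPi_Ks M K) (isPi_K_sig' hK)⟩

theorem Z_le {M K : Subgroup G} (hK : IsPiHallOf (kap M) K M) : K ⊔ (Ms M ⊓ 𝐂(K)) ≤ M :=
  sup_le (hall_le hK) (inf_le_left.trans (Ms_le M))

theorem hall_Z {M K : Subgroup G} (hK : IsPiHallOf (kap M) K M) :
    IsPiHallOf (sig M)ᶜ K (K ⊔ (Ms M ⊓ 𝐂(K))) ∧
      IsPiHallOf (sig M) (Ms M ⊓ 𝐂(K)) (K ⊔ (Ms M ⊓ 𝐂(K))) := by
  have := (dprod_Z hK).symm.sdProd.hall (isPi_Ks M K) (isPi_K_sig' hK)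
  exact ⟨this.2, this.1⟩

/-- `σ(M)'`-subgroups of `Z` lie in `K`. -/
theorem le_K_of_le_Z {M K Y : Subgroup G} (hK : IsPiHallOf (kap M) K M)
    (hY : Y ≤ K ⊔ (Ms M ⊓ 𝐂(K))) (hπ : IsPiSubgroup (sig M)ᶜ Y) : Y ≤ K :=
  le_of_hall_normal (hall_Z hK).1 (dprod_Z hK).normal_left.2 hY hπ

theorem le_Ks_of_le_Z {M K Y : Subgroup G} (hK : IsPiHallOf (kap M) K M)
    (hY : Y ≤ K ⊔ (Ms M ⊓ 𝐂(K))) (hπ : IsPiSubgroup (sig M) Y) : Y ≤ Ms M ⊓ 𝐂(K) :=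
  le_of_hall_normal (hall_Z hK).2 (dprod_Z hK).normal_right.2 hY hπ

theorem mem_K_of_mem_Z {M K : Subgroup G} (hK : IsPiHallOf (kap M) K M) {y : G}
    (hy : y ∈ K ⊔ (Ms M ⊓ 𝐂(K))) (hπ : IsPiElt (sig M)ᶜ y) : y ∈ K :=
  mem_of_hall_normal (hall_Z hK).1 (dprod_Z hK).normal_left.2 hy hπ

theorem mem_Ks_of_mem_Z {M K : Subgroup G} (hK : IsPiHallOf (kap M) K M) {y : G}
    (hy : y ∈ K ⊔ (Ms M ⊓ 𝐂(K))) (hπ : IsPiElt (sig M) y) : y ∈ Ms M ⊓ 𝐂(K) :=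
  mem_of_hall_normal (hall_Z hK).2 (dprod_Z hK).normal_right.2 hy hπ

theorem le_Ms_of_isPi {M Y : Subgroup G} (hM : IsCoatom M) (hY : Y ≤ M)
    (hπ : IsPiSubgroup (sig M) Y) : Y ≤ Ms M :=
  le_of_hall_normal (Ms_hall hM).1 (Ms_normal M).2 hY hπ

theorem mem_Ms_of_isPiElt {M : Subgroup G} (hM : IsCoatom M) {y : G} (hy : y ∈ M)
    (hπ : IsPiElt (sig M) y) : y ∈ Ms M :=
  mem_of_hall_normal (Ms_hall hM).1 (Ms_normal M).2 hy hπ

theorem semiPrime_K {M K : Subgroup G} (hM : IsCoatom M) (hK : IsPiHallOf (kap M) K M) :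
    SemiPrime (Ms M) K := by
  obtain ⟨U, hU⟩ := ex_kappa_compl hM hK
  exact (hU.context hM).2.2.2.2.1

/-- BG 14.2(b)(2). -/
theorem le_Ms_of_norm_le {M K X L : Subgroup G} (hM : IsPtype M) (hK : IsPiHallOf (kap M) K M)
    (hX : X ≤ K) (hXp : 𝐨(X).Prime) (hL : IsCoatom L) (hN : 𝐍(X) ≤ L) : X ≤ Ms L := by
  obtain ⟨E, hE, hKE⟩ := ex_sigma_compl hM.1 (hall_le hK) (isPi_K_sig' hK)
  have hk : 𝐨(X) ∈ kap M := hall_isPi hK _ hXp (card_dvd_of_le hX)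
  have := tau13_nonregular_sigma hM.1 hE hk.1 (hX.trans hKE) rfl
    (kap_cent_ne_bot hk (hX.trans (hall_le hK)) rfl) hL hN
  exact le_Ms_of_isPi hL ((le_norm_self X).trans hN) (isPi_of_card_prime hXp rfl this)

theorem Ks_ne_bot {M K : Subgroup G} (hM : IsPtype M) (hK : IsPiHallOf (kap M) K M) :
    Ms M ⊓ 𝐂(K) ≠ ⊥ := by
  obtain ⟨X, hX, hXp⟩ := exists_le_card_prime (kappa_hall_ne_bot hM hK)
  rw [← (semiPrime_K hM.1 hK).cent_eq hX (ne_bot_of_card_prime hXp)]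
  exact kap_cent_ne_bot (hall_isPi hK _ hXp (card_dvd_of_le hX)) (hX.trans (hall_le hK)) rfl

theorem uniq_Ks {M K X : Subgroup G} (hM : IsPtype M) (hK : IsPiHallOf (kap M) K M)
    (hX : X ≤ Ms M ⊓ 𝐂(K)) (hXp : 𝐨(X).Prime) :
    UniqMax 𝐂(X) M ∧ ∀ S : Subgroup G, IsSyl 𝐨(X) S (Ms M) → UniqMax S M := by
  obtain ⟨U, hU⟩ := ex_kappa_compl hM.1 hK
  obtain ⟨-, -, -, -, ⟨E₁, h1, h1K, h11⟩, -⟩ := kc_core hM hU
  exact cent_cent_Ms_tau1_uniq hM.1 (kc_sd hU).1 h1 le_rfl h11 hXp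
    (hX.trans (inf_le_inf_left _ (cent_anti h1K))) rfl

/-- BG 14.2(c), elementwise. -/
theorem cent1_le_of_mem_Ks {M K : Subgroup G} (hM : IsPtype M) (hK : IsPiHallOf (kap M) K M)
    {y : G} (hy : y ∈ Ms M ⊓ 𝐂(K)) (hy1 : y ≠ 1) : 𝐂[y] ≤ M := by
  obtain ⟨X, hX, hXp⟩ := exists_le_card_prime (H := zpowers y) (zpowers_eq_bot.not.2 hy1)
  rw [← cent_zpowers]
  exact (cent_anti hX).trans (uniq_Ks hM hK (hX.trans (zpowers_le.2 hy)) hXp).1.le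

/-- BG 14.2(d), first half. -/
theorem Ks_ti {M K : Subgroup G} (hM : IsPtype M) (hK : IsPiHallOf (kap M) K M) {g : G}
    (hg : Ms M ⊓ 𝐂(K) ⊓ M ^ᵍ g ≠ ⊥) : g ∈ M := by
  obtain ⟨X, hX, hXp⟩ := exists_le_card_prime hg
  have hX1 := hX.trans inf_le_left
  have := sigma_mem_of_cent_le hM.1 (isPi_Ks M K _ hXp (card_dvd_of_le hX1))
    (isPGroup_of_card_prime rfl) (hX1.trans (inf_le_left.trans (Ms_le M)))
    (uniq_Ks hM hK hX1 hXp).1.le (le_conj_iff.1 (hX.trans inf_le_right))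
  exact (inv_mem_iff).1 this

/-- BG 14.2(d), second half. -/
theorem K_ti {M K : Subgroup G} (hM : IsPtype M) (hK : IsPiHallOf (kap M) K M) {g : G}
    (hgM : g ∈ M) (hg : K ⊓ K ^ᵍ g ≠ ⊥) : g ∈ 𝐍(K) := by
  obtain ⟨X, hX, hXp⟩ := exists_le_card_prime hg
  have hK' : IsPiHallOf (kap M) (K ^ᵍ g) M := hall_conj_of_mem hK (le_norm_self M hgM)
  have h1 := norm_prime_eq_Z hM hK (hX.trans inf_le_left) hXp
  have h2 := norm_prime_eq_Z hM hK' (hX.trans inf_le_right) hXp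
  exact mem_norm_of_conj_le (le_K_of_le_Z hK (by rw [← h1, h2]; exact le_sup_left)
    (isPi_K_sig' hK'))

/-- BG 14.2(e). -/
theorem syl_not_le_Ks {M K S : Subgroup G} (hM : IsPtype M) (hK : IsPiHallOf (kap M) K M)
    (hS : UniqMax S M) : ¬ S ≤ 𝐂(K) := by
  intro h
  obtain ⟨X, hX, hXp⟩ := exists_le_card_prime (kappa_hall_ne_bot hM hK)
  have hX1 := ne_bot_of_card_prime hXp
  obtain ⟨L, hL, hN⟩ := mmax_exists (norm_ne_top_of_le_mmax hM.1 (hX.trans (hall_le hK)) hX1)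
  have h1 := le_Ms_of_norm_le hM hK hX hXp hL hN
  rw [hS.eq hL ((h.trans ((cent_anti hX).trans (cent_le_norm X))).trans hN)] at h1
  exact hX1 (eq_bot_of_isPi_of_isPi_compl (isPi_of_le h1 (isPi_Ms M))
    (isPi_of_le hX (isPi_K_sig' hK)))

/-- BG 14.2(f). -/
theorem le_Ms_of_meet_Ks {M K Y : Subgroup G} (hM : IsPtype M) (hK : IsPiHallOf (kap M) K M)
    (hY : IsPiSubgroup (sig M) Y) (h : Y ⊓ (Ms M ⊓ 𝐂(K)) ≠ ⊥) : Y ≤ Ms M := by
  obtain ⟨g, hg⟩ := sigma_cj_le hM.1 hY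
  have h1 : Y ≤ M ^ᵍ g⁻¹ := conj_le_iff.1 (hg.trans (Ms_le M))
  have h2 : g⁻¹ ∈ M := Ks_ti hM hK fun h' => h (le_bot_iff.1 (h' ▸ le_inf inf_le_right
    (inf_le_left.trans h1)))
  rw [conj_eq_of_mem h2] at h1
  exact le_Ms_of_isPi hM.1 h1 hY

/-- `C_{M_σ}(U) = 1` when `U ≠ 1`. -/
theorem cent_U_eq_bot {M U K : Subgroup G} (hM : IsCoatom M) (h : KappaCompl M U K)
    (hU : U ≠ ⊥) : Ms M ⊓ 𝐂(U) = ⊥ := by
  obtain ⟨p, hp, hd⟩ := exists_prime_dvd_card hU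
  have hn := hall_isPi h.hallU p hp hd
  obtain ⟨S, hS⟩ := exists_isSyl hp U
  have := (sigma'_kappa'_facts hM (fun h' => hU ((h.eq_bot_iff hM).2.1.2 h')) hp
    (hd.trans (card_dvd_of_le (hall_le h.hallU))) (fun h => hn (Or.inl h))
    (fun h => hn (Or.inr h)) (hS.trans_hall hp h.hallU hn)).2.1
  exact le_bot_iff.1 (this ▸ inf_le_inf_left _ (cent_anti ((omegaOne_le p S).trans hS.le)))

theorem frob_UK {M U K : Subgroup G} (hM : IsP2type M) (h : KappaCompl M U K) : Frob U K :=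
  ⟨((h.eq_bot_iff hM.1.1).2.2.2 hM).2, ((h.eq_bot_iff hM.1.1).2.2.2 hM).1, h.norm,
    (h.context hM.1.1).2.2.2.2.2.1⟩

/-- BG 14.2(g). -/
theorem P2_facts {M K : Subgroup G} (hM : IsP2type M) (hK : IsPiHallOf (kap M) K M) :
    sig M = bet M ∧ 𝐨(K).Prime ∧ Group.IsNilpotent (Ms M) ∧ NormedTI (sharp (Ms M)) ⊤ M := by
  have hMc := hM.1.1
  obtain ⟨U, hU⟩ := ex_kappa_compl hMc hK
  have hF := frob_UK hM hU
  obtain ⟨hE, -, -, -, hpr, -⟩ := hU.context hMc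
  have hC := cent_U_eq_bot hMc hU hF.ne_botK
  have hnil := notP1type_Ms_nil hMc fun h => hM.2 h.2
  have hβ : IsPiSubgroup (bet M) (Ms M) := by
    obtain ⟨H, hH, hc⟩ := der_compl_cent_beta' hMc hE
    have hUd : U ≤ ⁅U ⊔ K, U ⊔ K⁆ := by
      conv_lhs => rw [← hF.comm_eq]
      exact commutator_mono le_sup_left le_sup_right
    have : H = ⊥ := le_bot_iff.1 (hC ▸ le_inf (hall_le hH) (cent_comm.1 (hUd.trans hc)))
    rwa [hall_eq_bot_iff hH, compl_compl] at this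
  have hσβ : sig M = bet M := by
    refine Set.Subset.antisymm (fun p hp => hβ p hp.1 ?_)
      ((bet_subset_alp M).trans (alp_subset_sig hMc))
    exact (hall_dvd_card_iff (Ms_hall hMc).1 hp.1 hp).2 hp.2.1
  refine ⟨hσβ, ?_, hnil, ?_⟩
  · exact (hF.primact (isSolvable_of_le_mmax hMc (hall_le hE)) (odd_card _) (Ms_ne_bot hMc) hnil
      ((hall_le hU.hallU).trans (Ms_normal M).2) ((hall_le hK).trans (Ms_normal M).2)
      (isPi_coprime (isPi_Ms M) (hall_isPi hE)) hC hpr).1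
  · refine normedTI_sharp_iff.2 ⟨Ms_ne_bot hMc, Ms_normal M, le_top, fun g _ hg => ?_⟩
    by_contra hgM
    have h1 := ((sigma_compl_embedding hMc hE).2.2 g hgM).2.1
    have h2 : Ms M ⊓ M ^ᵍ g = ⊥ :=
      eq_bot_of_isPi_of_isPi_compl (isPi_of_le inf_le_left hβ) h1
    exact hg (le_bot_iff.1 (h2 ▸ inf_le_inf_left _ (conj_mono (Ms_le M) g)))

end BG14

/-- BG 14.2(b)-(g); `K* = Ms M ⊓ 𝐂(K)`. -/
theorem Ptype_structure {M K : Subgroup G} (hM : IsPtype M) (hK : IsPiHallOf (kap M) K M) :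
    (DProd K (Ms M ⊓ 𝐂(K)) (M ⊓ 𝐍(K)) ∧
      ∀ X : Subgroup G, X ≤ K → 𝐨(X).Prime → M ⊓ 𝐍(X) = M ⊓ 𝐍(K) ∧
        ∀ Mst : Subgroup G, IsCoatom Mst → 𝐍(X) ≤ Mst → X ≤ Ms Mst) ∧
    (Ms M ⊓ 𝐂(K) ≠ ⊥ ∧
      ∀ X : Subgroup G, X ≤ Ms M ⊓ 𝐂(K) → 𝐨(X).Prime → UniqMax 𝐂(X) M) ∧
    ((∀ g : G, g ∉ M → Ms M ⊓ 𝐂(K) ⊓ M ^ᵍ g = ⊥) ∧
      ∀ g ∈ M, g ∉ 𝐍(K) → K ⊓ K ^ᵍ g = ⊥) ∧
    (∀ p : ℕ, p.Prime → p ∣ 𝐨(Ms M ⊓ 𝐂(K)) → ∀ S : Subgroup G, IsSyl p S (Ms M) →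
      UniqMax S M ∧ ¬ S ≤ Ms M ⊓ 𝐂(K)) ∧
    (∀ Y : Subgroup G, IsPiSubgroup (sig M) Y → Y ⊓ (Ms M ⊓ 𝐂(K)) ≠ ⊥ → Y ≤ Ms M) ∧
    (IsP2type M → sig M = bet M ∧ 𝐨(K).Prime ∧ Group.IsNilpotent (Ms M) ∧
      NormedTI (sharp (Ms M)) ⊤ M) := by
  refine ⟨⟨?_, fun X hX hXp => ⟨?_, fun L hL hN => le_Ms_of_norm_le hM hK hX hXp hL hN⟩⟩,
    ⟨Ks_ne_bot hM hK, fun X hX hXp => (uniq_Ks hM hK hX hXp).1⟩,
    ⟨fun g hg => by_contra fun h => hg (Ks_ti hM hK h),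
      fun g hg hn => by_contra fun h => hn (K_ti hM hK hg h)⟩,
    fun p hp hd S hS => ?_, fun Y hY h => le_Ms_of_meet_Ks hM hK hY h,
    fun h => P2_facts h hK⟩
  · rw [normK_eq_Z hM hK]
    exact dprod_Z hK
  · rw [normK_eq_Z hM hK, norm_prime_eq_Z hM hK hX hXp]
  · obtain ⟨X, hX, rfl⟩ := exists_le_card_eq_prime hp hd
    have := (uniq_Ks hM hK hX hp).2 S hS
    exact ⟨this, fun h => syl_not_le_Ks hM hK this (h.trans inf_le_right)⟩

end Cfsg.Agent.FT
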