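/-
BG section 14, part 2: Corollary 14.3, Theorem 14.4 (the signalizer `R(x)`).
-/
import Cfsg.Agent.FT.P.BG14_1

set_option autoImplicit false
set_option linter.unusedSectionVars false
set_option linter.unusedVariables false

namespace Cfsg.Agent.FT

open Subgroup Cfsg Cfsg.Agent
open scoped commutatorElement

universe u

variable {G : Type u} [Group G] [Finite G] [MinOdd G]

open BG14

/-- Every prime divisor of `|G|` lies in some `σ(M)`; elements of prime power order have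
`ℓ_σ = 1`; more generally nontrivial `σ(M)`-elements do. -/
theorem sigElt_of_isPiElt {M : Subgroup G} (hM : IsCoatom M) {x : G} (hx1 : x ≠ 1)
    (h : IsPiElt (sig M) x) : SigElt x := by
  obtain ⟨g, hg⟩ := sigma_cj_le hM (isPi_zpowers.2 h)
  refine ⟨hx1, M ^ᵍ g⁻¹, isCoatom_conj hM _, ?_⟩
  rw [Ms_conj]
  exact conj_le_iff.1 hg (mem_zpowers x)

theorem exists_mmax_sigma {p : ℕ} (hp : p.Prime) (hd : p ∣ Nat.card G) :
    ∃ M : Subgroup G, IsCoatom M ∧ p ∈ sig M := by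
  obtain ⟨P, hP⟩ := exists_isSyl hp (⊤ : Subgroup G)
  have hP1 : P ≠ ⊥ := hP.ne_bot hp (by rwa [Subgroup.card_top])
  obtain ⟨M, hM, hN⟩ := mmax_exists (norm_ne_top_of_isPGroup hp hP.pgrp hP1)
  have hPM : P ≤ M := (le_norm_self P).trans hN
  exact ⟨M, hM, hp, (prime_dvd_card_of_isPGroup hp hP.pgrp hP1).trans (card_dvd_of_le hPM), P,
    hP.of_le hPM le_top, hN⟩

namespace BG14

theorem conj_of_mem_sig {M L : Subgroup G} (hM : IsCoatom M) (hL : IsCoatom L) {p : ℕ}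
    (h1 : p ∈ sig M) (h2 : p ∈ sig L) : Conj M L := by
  by_contra h
  exact Set.disjoint_left.1 (sigma_partition hM hL h) h1 h2

theorem _root_.Cfsg.Agent.FT.Conj.sig_eq {M L : Subgroup G} (h : Conj M L) : sig L = sig M := by
  obtain ⟨g, rfl⟩ := h
  exact sig_conj M g

theorem exists_prime_dvd_orderOf {x : G} (hx : x ≠ 1) : ∃ p : ℕ, p.Prime ∧ p ∣ orderOf x :=
  Nat.exists_prime_and_dvd fun h => hx (orderOf_eq_one_iff.1 h)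

theorem isPiElt_sig {M : Subgroup G} {x : G} (h : InMsig x M) : IsPiElt (sig M) x :=
  isPiElt_of_mem (isPi_Ms M) h.2

theorem conj_of_isPiElt {M L : Subgroup G} (hM : IsCoatom M) (hL : IsCoatom L) {x : G}
    (hx : x ≠ 1) (h1 : IsPiElt (sig M) x) (h2 : IsPiElt (sig L) x) : Conj M L := by
  obtain ⟨p, hp, hd⟩ := exists_prime_dvd_orderOf hx
  exact conj_of_mem_sig hM hL (h1 p hp hd) (h2 p hp hd)

theorem conj_of_inMsig {M L : Subgroup G} {x : G} (hx : x ≠ 1) (h1 : InMsig x M)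
    (h2 : InMsig x L) : Conj M L :=
  conj_of_isPiElt h1.1 h2.1 hx (isPiElt_sig h1) (isPiElt_sig h2)

theorem sig_subset_compl {M L : Subgroup G} (hM : IsCoatom M) (hL : IsCoatom L)
    (h : ¬ Conj M L) : sig M ⊆ (sig L)ᶜ :=
  (sigma_partition hM hL h).subset_compl_right

theorem exists_le_zpowers_prime {x : G} {p : ℕ} (hp : p.Prime) (hd : p ∣ orderOf x) :
    ∃ X : Subgroup G, X ≤ zpowers x ∧ 𝐨(X) = p :=
  exists_le_card_eq_prime hp (by rwa [Nat.card_zpowers])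

theorem cent1_le_cent_of_le_zpowers {x : G} {X : Subgroup G} (h : X ≤ zpowers x) :
    𝐂[x] ≤ 𝐂(X) := by
  rw [← cent_zpowers]
  exact cent_anti h

theorem inMsig_conj_of_cent {M : Subgroup G} {x c : G} (h : InMsig x M) (hc : c ∈ 𝐂[x]) :
    InMsig x (M ^ᵍ c) := by
  have := (inMsig_conj_iff (M := M) (g := c) (x := x)).2 h
  rwa [mem_cent1_iff_conj.1 hc] at this

theorem multiSig_of_not_le {M : Subgroup G} {x : G} (hM : InMsig x M) (h : ¬ 𝐂[x] ≤ M) :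
    MultiSig x := by
  obtain ⟨c, hc, hcM⟩ := SetLike.not_le_iff_exists.1 h
  exact ⟨M ^ᵍ c, M, inMsig_conj_of_cent hM hc, hM, fun h' => hcM ((mmax_conj_eq_iff hM.1).1 h')⟩

/-- `τ₂(M)` lies in `σ(L)` for some maximal `L`. -/
theorem exists_ta2_subset_sig {M : Subgroup G} (hM : IsCoatom M) {p : ℕ} (hp : p ∈ ta2 M) :
    ∃ L : Subgroup G, IsCoatom L ∧ ta2 M ⊆ sig L := by
  obtain ⟨E, hE⟩ := exists_hall (mmax_isSolvable hM) (sig M)ᶜ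
  obtain ⟨A, hA, hA2⟩ := exists_elem2_le hE hp
  obtain ⟨L, hL, hN⟩ := mmax_exists (norm_ne_top_of_isPGroup hp.1 hA2.pgrp
    (hA2.ne_bot hp.1 two_ne_zero))
  exact ⟨L, hL, fun q hq => ((primes_norm_tau2 hM hE hp hA hA2 hL hN).1 q hq).1⟩

end BG14

/-- BG 14.3. -/
theorem pi_of_cent_sigma {M : Subgroup G} (hM : IsCoatom M) {x y : G} (hx : x ∈ Ms M)
    (hx1 : x ≠ 1) (hy : y ∈ M ⊓ 𝐂[x]) (hy1 : y ≠ 1) (hπ : IsPiElt (sig M)ᶜ y) :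
    (IsPiElt (kap M) y ∧ 𝐂[x] ≤ M) ∨ (IsPiElt (ta2 M) y ∧ SigElt y ∧ UniqMax 𝐂[y] M) := by
  have hxy : x ∈ 𝐂[y] := mem_cent1_comm.1 hy.2
  have hne : Ms M ⊓ 𝐂[y] ≠ ⊥ := fun h => hx1 (mem_bot.1 (h ▸ mem_inf.2 ⟨hx, hxy⟩))
  by_cases h2 : IsPiElt (ta2 M) y
  · obtain ⟨p, hp, hd⟩ := exists_prime_dvd_orderOf hy1
    obtain ⟨L, hL, hs⟩ := exists_ta2_subset_sig hM (h2 p hp hd)
    exact Or.inr ⟨h2, sigElt_of_isPiElt hL hy1 (h2.mono hs),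
      cent1_nreg_sigma_uniq hM hy.1 hy1 h2 hne⟩
  · left
    simp only [IsPiElt, not_forall] at h2
    obtain ⟨p, hp, hd, hn⟩ := h2
    obtain ⟨X, hX, hXp⟩ := exists_le_zpowers_prime hp hd
    have hXM : X ≤ M := hX.trans (zpowers_le.2 hy.1)
    have h13 : p ∈ ta1 M ∪ ta3 M := by
      rcases partition_sigma_compl hM hp (hXp ▸ card_dvd_of_le hXM) (hπ p hp hd) with h | h | h
      · exact Or.inl h
      · exact absurd h hn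
      · exact Or.inr h
    have hk : p ∈ kap M := ⟨h13, X, hXM, hXp, fun h => hne (le_bot_iff.1
      (h ▸ inf_le_inf_left _ (cent1_le_cent_of_le_zpowers hX)))⟩
    obtain ⟨K, hK, hXK⟩ := exists_hall_ge (mmax_isSolvable hM) hXM (isPi_of_card_prime hp hXp hk)
    have hP : IsPtype M := ⟨hM, p, hk⟩
    have hZ := norm_prime_eq_Z hP hK hXK (hXp ▸ hp)
    have hyK : y ∈ K := mem_K_of_mem_Z hK (hZ ▸ mem_inf.2 ⟨hy.1, cent_le_norm X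
      (cent1_le_cent_of_le_zpowers hX (self_mem_cent1 y))⟩) hπ
    have hxK : x ∈ Ms M ⊓ 𝐂(K) := by
      rw [← semiPrime_K hM hK y hyK hy1]
      exact mem_inf.2 ⟨hx, hxy⟩
    exact ⟨isPiElt_of_mem (hall_isPi hK) hyK, cent1_le_of_mem_Ks hP hK hxK hx1⟩

namespace BG14

/-- The heart of BG 14.4. -/
theorem exists_Nsig {x : G} (hx1 : x ≠ 1) (hx : MultiSig x) :
    ∃ N : Subgroup G, UniqMax 𝐂[x] N ∧ Ms N ⊓ 𝐂[x] ≠ ⊥ ∧ IsPiElt (ta2 N) x ∧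
      (∀ M₁ M₂ : Subgroup G, InMsig x M₁ → InMsig x M₂ → ∃ r ∈ Ms N ⊓ 𝐂[x], M₂ = M₁ ^ᵍ r) ∧
      ∀ M : Subgroup G, InMsig x M → ¬ Conj M N ∧ (∀ p ∈ piOf M, p ∈ sig N → p ∈ bet N) ∧
        IsPiHallOf (sig N)ᶜ (M ⊓ N) N := by
  obtain ⟨q, hq, hd⟩ := exists_prime_dvd_orderOf hx1
  obtain ⟨X, hX, hXq⟩ := exists_le_zpowers_prime hq hd
  have hXp : IsPGroup q X := isPGroup_of_card_prime hXq
  have hX1 : X ≠ ⊥ := ne_bot_of_card_prime (hXq ▸ hq)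
  obtain ⟨N, hN, hNX⟩ := mmax_exists (norm_ne_top_of_isPGroup hq hXp hX1)
  have hCN : 𝐂(X) ≤ N := (cent_le_norm X).trans hNX
  have hxN : x ∈ N := hCN (cent1_le_cent_of_le_zpowers hX (self_mem_cent1 x))
  have hXM : ∀ M, InMsig x M → X ≤ M := fun M hM => hX.trans (zpowers_le.2 (Ms_le M hM.2))
  have htr : ∀ M₁ M₂ : Subgroup G, InMsig x M₁ → InMsig x M₂ → ∃ c ∈ 𝐂(X), M₂ = M₁ ^ᵍ c := by
    intro M₁ M₂ h1 h2
    obtain ⟨g, rfl⟩ := conj_of_inMsig hx1 h1 h2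
    have := sigma_group_trans' h1.1 (isPiElt_sig h1 q hq hd) hXp (g := 1) (h := g)
      (by rw [conj_one]; exact hXM _ h1) (hXM _ h2)
    rwa [conj_one] at this
  have hne : ∀ M, InMsig x M → N ≠ M := by
    rintro M hM rfl
    obtain ⟨M₁, M₂, h1, h2, h12⟩ := hx
    obtain ⟨c₁, hc₁, e1⟩ := htr _ _ hM h1
    obtain ⟨c₂, hc₂, e2⟩ := htr _ _ hM h2
    rw [conj_eq_of_mem (hCN hc₁)] at e1
    rw [conj_eq_of_mem (hCN hc₂)] at e2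
    exact h12 (e1.trans e2.symm)
  have hemb : ∀ M, InMsig x M → ¬ Conj M N ∧ q ∈ ta2 N ∧
      (∀ p ∈ piOf M, p ∈ sig N → p ∈ bet N) ∧ IsPiHallOf (sig N)ᶜ (M ⊓ N) N := by
    intro M hM
    have hqM := isPiElt_sig hM q hq hd
    obtain ⟨h1, -, -, h4⟩ := sigma_subgroup_embedding hM.1 hqM hXp (hXM M hM) hN (hne M hM) hNX
    exact ⟨h1, h4 fun h => h1 (conj_of_mem_sig hM.1 hN hqM h)⟩
  have htr' : ∀ M₁ M₂ : Subgroup G, InMsig x M₁ → InMsig x M₂ →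
      ∃ r ∈ Ms N ⊓ 𝐂[x], M₂ = M₁ ^ᵍ r := by
    intro M₁ M₂ h1 h2
    obtain ⟨c, hc, rfl⟩ := htr _ _ h1 h2
    have hsd := sdprod_sigma hN (hemb M₁ h1).2.2.2
    have hsd2 := sdprod_sigma hN (hemb _ h2).2.2.2
    obtain ⟨k, hk, y, hy, rfl⟩ := hsd.mem_iff.1 (hCN hc)
    have e : M₁ ^ᵍ (k * y) = M₁ ^ᵍ k := by rw [← conj_conj, conj_eq_of_mem hy.1]
    rw [e] at h2 hsd2 ⊢
    refine ⟨k, ⟨hk, ?_⟩, rfl⟩
    have h3 : k * x * k⁻¹ * x⁻¹ ∈ Ms N ⊓ (M₁ ^ᵍ k ⊓ N) := by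
      refine mem_inf.2 ⟨?_, mem_inf.2
        ⟨mul_mem (conj_mem_conj (Ms_le _ h1.2) k) (inv_mem (Ms_le _ h2.2)),
        mul_mem (mul_mem (mul_mem (Ms_le _ hk) hxN) (inv_mem (Ms_le _ hk))) (inv_mem hxN)⟩⟩
      have := H1.conj_mem_of_le_normalizer (Ms_normal N).2 hxN (inv_mem hk)
      have h4 : k * x * k⁻¹ * x⁻¹ = k * (x * k⁻¹ * x⁻¹) := by group
      rw [h4]
      exact mul_mem hk this
    rw [hsd2.disj, mem_bot, mul_inv_eq_one] at h3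
    exact mem_cent1_iff_conj.2 h3
  obtain ⟨M₁, M₂, h1, h2, h12⟩ := hx
  obtain ⟨r, hr, e⟩ := htr' _ _ h1 h2
  have hr1 : r ≠ 1 := by
    rintro rfl
    rw [conj_one] at e
    exact h12 e.symm
  have hxσ : IsPiElt (sig N)ᶜ x :=
    (isPiElt_sig h1).mono (sig_subset_compl h1.1 hN (hemb _ h1).1)
  rcases pi_of_cent_sigma hN hr.1 hr1 ⟨hxN, mem_cent1_comm.1 hr.2⟩ hx1 hxσ with h | h
  · exact absurd (hemb _ h1).2.1 (kap_subset (h.1 q hq hd)).2.2.2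
  · exact ⟨N, h.2.2, fun h' => hr1 (mem_bot.1 (h' ▸ hr)), h.1, htr',
      fun M hM => ⟨(hemb M hM).1, (hemb M hM).2.2⟩⟩

theorem Nsig_eq {x : G} (hx : MultiSig x) {N : Subgroup G} (h : UniqMax 𝐂[x] N) :
    Nsig x = N := by
  have := Classical.epsilon_spec (p := fun N : Subgroup G => IsCoatom N ∧ 𝐂[x] ≤ N)
    ⟨N, h.max, h.le⟩
  unfold Nsig
  rw [if_pos hx]
  exact h.eq this.1 this.2

theorem Nsig_spec {x : G} (hx1 : x ≠ 1) (hx : MultiSig x) :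
    UniqMax 𝐂[x] (Nsig x) ∧ Rsig x ≠ ⊥ ∧ IsPiElt (ta2 (Nsig x)) x ∧
      (∀ M₁ M₂ : Subgroup G, InMsig x M₁ → InMsig x M₂ → ∃ r ∈ Rsig x, M₂ = M₁ ^ᵍ r) ∧
      ∀ M : Subgroup G, InMsig x M → ¬ Conj M (Nsig x) ∧
        (∀ p ∈ piOf M, p ∈ sig (Nsig x) → p ∈ bet (Nsig x)) ∧
        IsPiHallOf (sig (Nsig x))ᶜ (M ⊓ Nsig x) (Nsig x) := by
  obtain ⟨N, h⟩ := exists_Nsig hx1 hx
  unfold Rsig
  rw [Nsig_eq hx h.1]
  exact h

theorem Nsig_max {x : G} (hx1 : x ≠ 1) (hx : MultiSig x) : IsCoatom (Nsig x) :=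
  (Nsig_spec hx1 hx).1.max

theorem Rsig_le_Ms (x : G) : Rsig x ≤ Ms (Nsig x) := inf_le_left

theorem Rsig_le_cent (x : G) : Rsig x ≤ 𝐂[x] := inf_le_right

theorem isPi_Rsig (x : G) : IsPiSubgroup (sig (Nsig x)) (Rsig x) :=
  isPi_of_le (Rsig_le_Ms x) (isPi_Ms _)

end BG14

theorem Rsig_eq_bot {x : G} (h : ¬ MultiSig x) : Rsig x = ⊥ := by
  have : Nsig x = ⊥ := by
    unfold Nsig
    rw [if_neg h]
  refine le_bot_iff.1 ((Rsig_le_Ms x).trans ((Ms_le _).trans this.le))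

theorem BG14.multiSig_of_mem_Rsig {x r : G} (hr : r ∈ Rsig x) (hr1 : r ≠ 1) : MultiSig x := by
  by_contra h
  rw [Rsig_eq_bot h] at hr
  exact hr1 (mem_bot.1 hr)

/-- For `x ∈ M_σ^#`: `|ℳ_σ(x)| > 1` iff `C_G(x) ⊄ M`. -/
theorem multiSig_iff {M : Subgroup G} {x : G} (hx1 : x ≠ 1) (hM : InMsig x M) :
    MultiSig x ↔ ¬ 𝐂[x] ≤ M := by
  refine ⟨fun hx h => ?_, multiSig_of_not_le hM⟩
  obtain ⟨h1, -, -, -, h5⟩ := Nsig_spec hx1 hx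
  exact (h5 M hM).1 (h1.eq hM.1 h ▸ Conj.refl _)

theorem Nsig_cj (x g : G) (hx1 : x ≠ 1) : Nsig (g * x * g⁻¹) = Nsig x ^ᵍ g := by
  by_cases hx : MultiSig x
  · refine Nsig_eq (hx.conj g) ?_
    rw [cent1_conj]
    exact (Nsig_spec hx1 hx).1.conj g
  · have hx' : ¬ MultiSig (g * x * g⁻¹) := fun h => hx (by
      have := h.conj g⁻¹
      rwa [show g⁻¹ * (g * x * g⁻¹) * g⁻¹⁻¹ = x by group] at this)
    unfold Nsig
    rw [if_neg hx, if_neg hx', conj_bot]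

theorem Rsig_cj (x g : G) (hx1 : x ≠ 1) : Rsig (g * x * g⁻¹) = Rsig x ^ᵍ g := by
  unfold Rsig
  rw [Nsig_cj x g hx1, Ms_conj, cent1_conj, conj_inf]

/-- Elements of `R(x)` are `σ(M)'`-elements for `M ∈ ℳ_σ(x)`. -/
theorem Rsig_sigma' {M : Subgroup G} {x : G} (hx1 : x ≠ 1) (hM : InMsig x M) :
    IsPiSubgroup (sig M)ᶜ (Rsig x) := by
  by_cases hx : MultiSig x
  · exact isPi_mono (sig_subset_compl (Nsig_max hx1 hx) hM.1
      fun h => ((Nsig_spec hx1 hx).2.2.2.2 M hM).1 h.symm) (isPi_Rsig x)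
  · rw [Rsig_eq_bot hx]
    exact isPi_bot _

theorem BG14.Rsig_inf_eq_bot {M : Subgroup G} {x : G} (hx1 : x ≠ 1) (hM : InMsig x M) :
    Rsig x ⊓ M = ⊥ := by
  by_cases hx : MultiSig x
  · have h := (sdprod_sigma (Nsig_max hx1 hx) ((Nsig_spec hx1 hx).2.2.2.2 M hM).2.2).disj
    exact le_bot_iff.1 (h ▸ le_inf (inf_le_left.trans (Rsig_le_Ms x)) (le_inf inf_le_right
      (inf_le_left.trans ((Rsig_le_Ms x).trans (Ms_le _)))))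
  · rw [Rsig_eq_bot hx, bot_inf_eq]

/-- BG 14.4, first part. -/
theorem signalizer_context {x : G} (hx : SigElt x) :
    Rsig x ⊲ 𝐂[x] ∧ IsHallIn (Rsig x) 𝐂[x] ∧
      ∀ M₁ M₂ : Subgroup G, InMsig x M₁ → InMsig x M₂ → ∃! r : G, r ∈ Rsig x ∧ M₂ = M₁ ^ᵍ r := by
  have hx1 := hx.1
  have huniq : ∀ M₁ M₂ : Subgroup G, InMsig x M₁ → (∃ r ∈ Rsig x, M₂ = M₁ ^ᵍ r) →
      ∃! r : G, r ∈ Rsig x ∧ M₂ = M₁ ^ᵍ r := by
    rintro M₁ M₂ h1 ⟨r, hr, rfl⟩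
    refine ⟨r, ⟨hr, rfl⟩, ?_⟩
    rintro s ⟨hs, e⟩
    have h2 : M₁ ^ᵍ (r⁻¹ * s) = M₁ := by rw [← conj_conj, ← e, conj_conj_inv]
    have h3 : r⁻¹ * s ∈ Rsig x ⊓ M₁ :=
      mem_inf.2 ⟨mul_mem (inv_mem hr) hs, (mmax_conj_eq_iff h1.1).1 h2⟩
    rw [Rsig_inf_eq_bot hx1 h1, mem_bot, inv_mul_eq_one] at h3
    exact h3.symm
  by_cases hm : MultiSig x
  · obtain ⟨h1, -, -, h4, -⟩ := Nsig_spec hx1 hm
    exact ⟨inf_normal (Ms_normal _) h1.le, hall_isHallIn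
      (hall_inf_of_hall_normal (Ms_hall h1.max).1 (Ms_normal _).2 h1.le),
      fun M₁ M₂ a b => huniq _ _ a (h4 _ _ a b)⟩
  · refine ⟨?_, ?_, fun M₁ M₂ a b => huniq _ _ a ⟨1, one_mem _, ?_⟩⟩
    · rw [Rsig_eq_bot hm, norm_bot]
      exact ⟨bot_le, le_top⟩
    · rw [Rsig_eq_bot hm]
      exact ⟨bot_le, by simp⟩
    · rw [conj_one]
      by_contra h
      exact hm ⟨M₂, M₁, b, a, h⟩

/-- BG 14.4, second part. -/
theorem signalizer_context_multi {x : G} (hx1 : x ≠ 1) (hx : MultiSig x) :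
    UniqMax 𝐂[x] (Nsig x) ∧ Rsig x ≠ ⊥ ∧ IsPiElt (ta2 (Nsig x)) x ∧
      (IsFtype (Nsig x) ∨ IsP2type (Nsig x)) ∧
      ∀ M : Subgroup G, InMsig x M →
        SdProd (Rsig x) (M ⊓ Nsig x ⊓ 𝐂[x]) 𝐂[x] ∧ ta2 (Nsig x) ⊆ sig M ∧
        (∀ p ∈ piOf M, p ∈ sig (Nsig x) → p ∈ bet (Nsig x)) ∧
        IsPiHallOf (sig (Nsig x))ᶜ (M ⊓ Nsig x) (Nsig x) := by
  obtain ⟨h1, h2, h3, h4, h5⟩ := Nsig_spec hx1 hx
  obtain ⟨q, hq, hd⟩ := exists_prime_dvd_orderOf hx1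
  have hq2 := h3 q hq hd
  refine ⟨h1, h2, h3, ?_, fun M hM => ⟨?_, ?_, (h5 M hM).2⟩⟩
  · refine (isFtype_or_isPtype h1.max).imp_right fun hP => ⟨hP, fun h => ?_⟩
    rcases h q hq (ta2_subset_piOf _ hq2).2 with h' | h'
    · exact hq2.2.1 h'
    · exact (kap_subset h').2.2.2 hq2
  · have hn : Rsig x ⊲ 𝐂[x] := inf_normal (Ms_normal _) h1.le
    refine ⟨le_antisymm (sup_le hn.1 inf_le_right) fun c hc => ?_, inf_le_right.trans hn.2,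
      le_bot_iff.1 (Rsig_inf_eq_bot hx1 hM ▸ inf_le_inf_left _ (inf_le_left.trans inf_le_left))⟩
    obtain ⟨r, hr, e⟩ := h4 _ _ hM (inMsig_conj_of_cent hM hc)
    have h6 : M ^ᵍ (r⁻¹ * c) = M := by rw [← conj_conj, e, conj_conj_inv]
    have h7 : r⁻¹ * c ∈ 𝐂[x] := mul_mem (inv_mem (hn.1 hr)) hc
    have h8 : c = r * (r⁻¹ * c) := by group
    rw [h8]
    exact mul_mem_sup hr ⟨⟨(mmax_conj_eq_iff hM.1).1 h6, h1.le h7⟩, h7⟩
  · obtain ⟨L, hL, hs⟩ := exists_ta2_subset_sig h1.max hq2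
    rw [← (conj_of_mem_sig hM.1 hL (isPiElt_sig hM q hq hd) (hs hq2)).sig_eq]
    exact hs

end Cfsg.Agent.FT
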