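/-
BG section 14, part 3: Lemmas 14.5 and 14.6.
-/
import Cfsg.Agent.FT.P.BG14_2

set_option autoImplicit false
set_option linter.unusedSectionVars false
set_option linter.unusedVariables false

namespace Cfsg.Agent.FT

open Subgroup Cfsg Cfsg.Agent
open scoped commutatorElement

universe u

variable {G : Type u} [Group G] [Finite G] [MinOdd G]

open BG14

namespace BG14

theorem commute_Rsig {x r : G} (hr : r ∈ Rsig x) : Commute x r :=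
  mem_cent1_iff_commute.1 (Rsig_le_cent x hr)

theorem exists_inMsig_conj {M : Subgroup G} (hM : IsCoatom M) {x : G} (h : IsPiElt (sig M) x) :
    ∃ a : G, InMsig x (M ^ᵍ a) := by
  obtain ⟨g, hg⟩ := sigma_cj_le hM (isPi_zpowers.2 h)
  refine ⟨g⁻¹, isCoatom_conj hM _, ?_⟩
  rw [Ms_conj]
  exact conj_le_iff.1 hg (mem_zpowers x)

theorem Rsig_sigma'_elt {M : Subgroup G} (hM : IsCoatom M) {x r : G} (hx1 : x ≠ 1)
    (hx : IsPiElt (sig M) x) (hr : r ∈ Rsig x) : IsPiElt (sig M)ᶜ r := by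
  obtain ⟨a, ha⟩ := exists_inMsig_conj hM hx
  have := isPiElt_of_mem (Rsig_sigma' hx1 ha) hr
  rwa [sig_conj] at this

theorem piPt_cover {M : Subgroup G} (hM : IsCoatom M) {x r : G} (hx1 : x ≠ 1)
    (hx : IsPiElt (sig M) x) (hr : r ∈ Rsig x) : piPt (sig M) (x * r) = x :=
  piPt_mul_eq hx (Rsig_sigma'_elt hM hx1 hx hr) (commute_Rsig hr)

/-- If `x` is a `π'`-element commuting with `r`, the `π`-part of `x r` is a power of `r`. -/
theorem piPt_mul_mem_zpowers {π : Set ℕ} {x r : G} (hx : IsPiElt πᶜ x) (h : Commute x r) :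
    piPt π (x * r) ∈ zpowers r := by
  rw [piPt_mul π h, piPt_eq_one_iff.2 hx, one_mul]
  exact piPt_mem_zpowers π r

theorem cover_half {x y r s : G} {M L : Subgroup G} (hx1 : x ≠ 1) (hy1 : y ≠ 1)
    (hM : InMsig x M) (hL : InMsig y L) (hn : ¬ Conj M L) (hr : r ∈ Rsig x) (hs : s ∈ Rsig y)
    (e : x * r = y * s) : MultiSig x ∧ InMsig y (Nsig x) := by
  have h1 := piPt_mul_mem_zpowers ((isPiElt_sig hM).mono (sig_subset_compl hM.1 hL.1 hn))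
    (commute_Rsig hr)
  rw [e, piPt_cover hL.1 hy1 (isPiElt_sig hL) hs] at h1
  have h2 : y ∈ Rsig x := zpowers_le.2 hr h1
  have h3 := multiSig_of_mem_Rsig h2 hy1
  exact ⟨h3, Nsig_max hx1 h3, Rsig_le_Ms x h2⟩

end BG14

/-- BG 14.5(a). -/
theorem sigma_cover_disjoint {x y : G} (hx : SigElt x) (hy : SigElt y) (hne : x ≠ y) :
    ∀ r ∈ Rsig x, ∀ s ∈ Rsig y, x * r ≠ y * s := by
  intro r hr s hs e
  obtain ⟨hx1, M, hM⟩ := hx
  obtain ⟨hy1, L, hL⟩ := hy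
  by_cases hc : Conj M L
  · apply hne
    rw [← piPt_cover hM.1 hx1 (isPiElt_sig hM) hr, e, ← hc.sig_eq,
      piPt_cover hL.1 hy1 (isPiElt_sig hL) hs]
  · obtain ⟨h1, h2⟩ := cover_half hx1 hy1 hM hL hc hr hs e
    obtain ⟨h3, h4⟩ := cover_half hy1 hx1 hL hM (fun h => hc h.symm) hs hr e.symm
    have h5 := ((Nsig_spec hx1 h1).2.2.2.2 _ h4).2.2
    exact hy1 ((isPiElt_sig h2).eq_one (isPiElt_of_mem (hall_isPi h5)
      (mem_inf.2 ⟨(Nsig_spec hy1 h3).1.le (self_mem_cent1 y), Ms_le _ h2.2⟩)))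

theorem BG14.mem_classSupp_sigSupp {M : Subgroup G} (hM : IsCoatom M) {g : G} :
    g ∈ classSupp (sigSupp M) ⊤ ↔
      ∃ x : G, x ≠ 1 ∧ IsPiElt (sig M) x ∧ ∃ r ∈ Rsig x, g = x * r := by
  constructor
  · rintro ⟨_, ⟨x, hx, r, hr, rfl⟩, a, -, rfl⟩
    refine ⟨a * x * a⁻¹, fun h => hx.2 (by simpa [mul_inv_eq_iff_eq_mul] using h),
      isPiElt_conj.2 (isPiElt_of_mem (isPi_Ms M) hx.1), a * r * a⁻¹, ?_, by group⟩
    rw [Rsig_cj x a hx.2]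
    exact conj_mem_conj hr a
  · rintro ⟨x, hx1, hx, r, hr, rfl⟩
    obtain ⟨a, ha⟩ := exists_inMsig_conj hM hx
    have h1 := ha.2
    rw [Ms_conj, mem_conj] at h1
    refine ⟨(a⁻¹ * x * a) * (a⁻¹ * r * a), ⟨a⁻¹ * x * a, ⟨h1, fun h => hx1 ?_⟩, a⁻¹ * r * a, ?_,
      rfl⟩, a, mem_top a, by group⟩
    · have : x = a * (a⁻¹ * x * a) * a⁻¹ := by group
      rw [this, h]
      group
    · have := Rsig_cj x a⁻¹ hx1
      rw [inv_inv] at this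
      rw [this, mem_conj, inv_inv]
      rwa [show a * (a⁻¹ * r * a) * a⁻¹ = r by group]

/-- BG 14.5(b). -/
theorem sigma_support_disjoint {M₁ M₂ : Subgroup G} (h₁ : IsCoatom M₁) (h₂ : IsCoatom M₂)
    (hn : ¬ Conj M₁ M₂) : Disjoint (classSupp (sigSupp M₁) ⊤) (classSupp (sigSupp M₂) ⊤) := by
  rw [Set.disjoint_left]
  intro g hg1 hg2
  obtain ⟨x, hx1, hx, r, hr, rfl⟩ := (mem_classSupp_sigSupp h₁).1 hg1
  obtain ⟨y, hy1, hy, s, hs, e⟩ := (mem_classSupp_sigSupp h₂).1 hg2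
  refine sigma_cover_disjoint (sigElt_of_isPiElt h₁ hx1 hx) (sigElt_of_isPiElt h₂ hy1 hy) ?_
    r hr s hs e
  rintro rfl
  exact hn (conj_of_isPiElt h₁ h₂ hx1 hx hy)

theorem BG14.card_conj_fiber {M : Subgroup G} (hM : IsCoatom M) {x : G} (hx1 : x ≠ 1)
    (hx : IsPiElt (sig M) x) :
    Nat.card {a : G // x ∈ Ms M ^ᵍ a} = 𝐨(Rsig x) * 𝐨(M) := by
  obtain ⟨a₀, h0⟩ := exists_inMsig_conj hM hx
  have hu := (signalizer_context (sigElt_of_isPiElt hM hx1 hx)).2.2 (M ^ᵍ a₀)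
  have hmem : ∀ (r : Rsig x) (m : M), x ∈ Ms M ^ᵍ (r * a₀ * m : G) := by
    intro r m
    have := (inMsig_conj_of_cent h0 (Rsig_le_cent x r.2)).2
    rwa [← conj_conj (Ms M) (r * a₀ : G) m, Ms_conj_of_mem m.2, ← Ms_conj, ← conj_conj]
  rw [← Nat.card_prod]
  refine (Nat.card_eq_of_bijective (fun p : Rsig x × M => (⟨p.1 * a₀ * p.2, hmem p.1 p.2⟩ :
    {a : G // x ∈ Ms M ^ᵍ a})) ⟨?_, ?_⟩).symm
  · rintro ⟨r, m⟩ ⟨r', m'⟩ e
    have e' : (r : G) * a₀ * m = r' * a₀ * m' := congrArg Subtype.val e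
    have h1 : (M ^ᵍ a₀) ^ᵍ (r : G) = (M ^ᵍ a₀) ^ᵍ (r' : G) := by
      rw [conj_conj, conj_conj, ← conj_eq_of_mem m.2, conj_conj, e', ← conj_conj,
        conj_eq_of_mem m'.2, conj_eq_of_mem m.2]
    have h2 : (r : G) = r' := (hu _ h0 (inMsig_conj_of_cent h0 (Rsig_le_cent x r.2))).unique
      ⟨r.2, rfl⟩ ⟨r'.2, h1⟩
    rw [h2] at e'
    exact Prod.ext (Subtype.ext h2) (Subtype.ext (mul_left_cancel e'))
  · rintro ⟨a, ha⟩
    obtain ⟨r, ⟨hr, e⟩, -⟩ := hu (M ^ᵍ a) h0 ⟨isCoatom_conj hM a, by rwa [Ms_conj]⟩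
    have h1 : M ^ᵍ ((r * a₀)⁻¹ * a) = M := by
      rw [← conj_conj, e, conj_conj M r a₀, conj_conj_inv]
    exact ⟨(⟨r, hr⟩, ⟨_, (mmax_conj_eq_iff hM).1 h1⟩), Subtype.ext (by simp only; group)⟩

/-- BG 14.5(c). -/
theorem card_class_support_sigma {M : Subgroup G} (hM : IsCoatom M) :
    (classSupp (sigSupp M) ⊤).ncard = (𝐨(Ms M) - 1) * M.index := by
  classical
  let C := {x : G // x ≠ 1 ∧ IsPiElt (sig M) x}
  have : Fintype C := Fintype.ofFinite _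
  have h1 : Nat.card (Σ x : C, Rsig x.1) = (classSupp (sigSupp M) ⊤).ncard := by
    rw [← Nat.card_coe_set_eq]
    refine Nat.card_eq_of_bijective (fun p => ⟨p.1.1 * p.2.1, (mem_classSupp_sigSupp hM).2
      ⟨p.1.1, p.1.2.1, p.1.2.2, p.2.1, p.2.2, rfl⟩⟩) ⟨?_, ?_⟩
    · rintro ⟨⟨x, hx1, hx⟩, r, hr⟩ ⟨⟨y, hy1, hy⟩, s, hs⟩ e
      have e' : x * r = y * s := congrArg Subtype.val e
      have h2 : x = y := by
        rw [← piPt_cover hM hx1 hx hr, e', piPt_cover hM hy1 hy hs]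
      subst h2
      have h3 : r = s := mul_left_cancel e'
      subst h3
      rfl
    · rintro ⟨g, hg⟩
      obtain ⟨x, hx1, hx, r, hr, rfl⟩ := (mem_classSupp_sigSupp hM).1 hg
      exact ⟨⟨⟨x, hx1, hx⟩, r, hr⟩, rfl⟩
  have h2 : Nat.card (sharp (Ms M) × G) = Nat.card (Σ x : C, {a : G // x.1 ∈ Ms M ^ᵍ a}) := by
    refine Nat.card_eq_of_bijective (fun p => ⟨⟨p.2 * p.1.1 * p.2⁻¹,
      fun h => p.1.2.2 (by simpa [mul_inv_eq_iff_eq_mul] using h),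
      isPiElt_conj.2 (isPiElt_of_mem (isPi_Ms M) p.1.2.1)⟩, p.2, conj_mem_conj p.1.2.1 p.2⟩)
      ⟨?_, ?_⟩
    · rintro ⟨⟨x, hx⟩, a⟩ ⟨⟨y, hy⟩, b⟩ e
      have e1 : a * x * a⁻¹ = b * y * b⁻¹ := congrArg (fun p => p.1.1) e
      have e2 : a = b := congrArg (fun p => p.2.1) e
      subst e2
      have e3 : x = y := by simpa using e1
      subst e3
      rfl
    · rintro ⟨⟨x, hx1, hx⟩, a, ha⟩
      obtain ⟨y, hy, rfl⟩ := mem_conj'.1 ha
      exact ⟨(⟨y, hy, fun h => hx1 (by rw [h]; group)⟩, a), rfl⟩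
  rw [Nat.card_sigma] at h1 h2
  rw [Finset.sum_congr rfl fun (x : C) _ => card_conj_fiber hM x.2.1 x.2.2, ← Finset.sum_mul, h1,
    Nat.card_prod, Nat.card_coe_set_eq, ncard_sharp, ← M.index_mul_card, ← mul_assoc] at h2
  exact (Nat.eq_of_mul_eq_mul_right (Nat.pos_of_ne_zero (card_ne_zero M)) h2).symm

namespace BG14

/-- The two cases of BG 14.6 exclude each other. -/
theorem dichotomy_excl {x r y y' : G} {M : Subgroup G} (hx : SigElt x) (hr : r ∈ Rsig x)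
    (hy1 : y ≠ 1) (hM : InMsig y M) (hy' : y' ∈ M ⊓ 𝐂[y]) (hy'1 : y' ≠ 1)
    (hk : IsPiElt (kap M) y') (e : x * r = y * y') : False := by
  obtain ⟨hx1, L, hL⟩ := hx
  have hσ' : IsPiElt (sig M)ᶜ y' := hk.mono (kap_subset_compl M)
  have hc : Commute y y' := mem_cent1_iff_commute.1 hy'.2
  have hnm : ¬ MultiSig y := by
    rw [multiSig_iff hy1 hM, not_not]
    rcases pi_of_cent_sigma hM.1 hM.2 hy1 hy' hy'1 hσ' with h | h
    · exact h.2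
    · obtain ⟨p, hp, hd⟩ := exists_prime_dvd_orderOf hy'1
      exact absurd (h.1 p hp hd) (kap_subset (hk p hp hd)).2.2.2
  have hyp : piPt (sig M) (y * y') = y := piPt_mul_eq (isPiElt_sig hM) hσ' hc
  by_cases hc' : Conj L M
  · have h1 : x = y := by
      rw [← hyp, ← e, hc'.sig_eq, piPt_cover hL.1 hx1 (isPiElt_sig hL) hr]
    subst h1
    have h2 : r = y' := mul_left_cancel e
    subst h2
    exact hnm (multiSig_of_mem_Rsig hr hy'1)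
  · have hxσ := (isPiElt_sig hL).mono (sig_subset_compl hL.1 hM.1 hc')
    have h1 := piPt_mul_mem_zpowers hxσ (commute_Rsig hr)
    rw [e, hyp] at h1
    have h2 : y ∈ Rsig x := zpowers_le.2 hr h1
    have h3 := multiSig_of_mem_Rsig h2 hy1
    have h4 : Nsig x = M := by
      by_contra h
      exact hnm ⟨_, _, ⟨Nsig_max hx1 h3, Rsig_le_Ms x h2⟩, hM, h⟩
    have h5 : IsPiElt (sig M) r := h4 ▸ isPiElt_of_mem (isPi_Rsig x) hr
    have h6 : x = y' := by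
      rw [← piPt_compl_mul_eq (isPiElt_sig hM) hσ' hc, ← e, (commute_Rsig hr).eq,
        piPt_compl_mul_eq h5 hxσ (commute_Rsig hr).symm]
    subst h6
    obtain ⟨p, hp, hd⟩ := exists_prime_dvd_orderOf hx1
    exact (kap_subset (hk p hp hd)).2.2.2 (h4 ▸ (Nsig_spec hx1 h3).2.2.1 p hp hd)

theorem dichotomy_or {g : G} (hg : g ≠ 1) :
    (∃ x, SigElt x ∧ ∃ r ∈ Rsig x, g = x * r) ∨
      (∃ y, y ≠ 1 ∧ ∃ M, InMsig y M ∧ ∃ y' ∈ M ⊓ 𝐂[y], y' ≠ 1 ∧ IsPiElt (kap M) y' ∧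
        g = y * y') := by
  by_contra hcon
  rw [not_or] at hcon
  obtain ⟨hn1, hn2⟩ := hcon
  have key : ∀ M : Subgroup G, IsCoatom M → g ∈ M → piPt (sig M) g = 1 := by
    intro M hM hgM
    by_contra hx1
    have hx : piPt (sig M) g ∈ Ms M := mem_Ms_of_isPiElt hM (piPt_mem hgM _) (isPiElt_piPt _ g)
    have hc := commute_piPt (sig M) (sig M)ᶜ g
    have e := piPt_mul_piPt_compl (sig M) g
    have hx' : piPt (sig M)ᶜ g ∈ M ⊓ 𝐂[piPt (sig M) g] :=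
      mem_inf.2 ⟨piPt_mem hgM _, mem_cent1_iff_commute.2 hc⟩
    have hx'1 : piPt (sig M)ᶜ g ≠ 1 := fun h =>
      hn1 ⟨_, ⟨hx1, M, hM, hx⟩, 1, one_mem _, by rw [← h, e]⟩
    rcases pi_of_cent_sigma hM hx hx1 hx' hx'1 (isPiElt_piPt _ g) with h | h
    · exact hn2 ⟨_, hx1, M, ⟨hM, hx⟩, _, hx', hx'1, h.1, e.symm⟩
    · obtain ⟨-, ⟨-, L, hL⟩, hu⟩ := h
      have hm : MultiSig (piPt (sig M)ᶜ g) := by
        refine multiSig_of_not_le hL fun hle => hx'1 ?_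
        rw [hu.eq hL.1 hle] at hL
        exact (isPiElt_sig hL).eq_one (isPiElt_piPt _ g)
      refine hn1 ⟨_, ⟨hx'1, L, hL⟩, piPt (sig M) g, ?_, by rw [← hc.eq, e]⟩
      unfold Rsig
      rw [Nsig_eq hm hu]
      exact mem_inf.2 ⟨hx, mem_cent1_iff_commute.2 hc.symm⟩
  obtain ⟨p, hp, hd⟩ := exists_prime_dvd_orderOf hg
  obtain ⟨M₀, hM₀, hp0⟩ := exists_mmax_sigma hp (hd.trans (orderOf_dvd_natCard g))
  have hx1 : piPt (sig M₀) g ≠ 1 := fun h => piPt_eq_one_iff.1 h p hp hd hp0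
  obtain ⟨a, hM⟩ := exists_inMsig_conj hM₀ (isPiElt_piPt (sig M₀) g)
  have hgx : g ∈ 𝐂[piPt (sig M₀) g] := cent1_le_cent1_piPt _ g (self_mem_cent1 g)
  have hm : MultiSig (piPt (sig M₀) g) := by
    refine multiSig_of_not_le hM fun hle => hx1 ?_
    have := key _ hM.1 (hle hgx)
    rwa [sig_conj] at this
  obtain ⟨h1, -, -, -, h5⟩ := Nsig_spec hx1 hm
  have hgN := h1.le hgx
  obtain ⟨n, -, hn⟩ := exists_le_conj_hall (mmax_isSolvable h1.max) (h5 _ hM).2.2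
    (zpowers_le.2 hgN) (isPi_zpowers.2 (piPt_eq_one_iff.1 (key _ h1.max hgN)))
  have := key _ (isCoatom_conj hM.1 n) (conj_mono inf_le_left n (hn (mem_zpowers g)))
  rw [sig_conj, sig_conj] at this
  exact hx1 this

end BG14

/-- BG 14.6. -/
theorem sigma_decomposition_dichotomy {g : G} (hg : g ≠ 1) :
    Xor (∃ x, SigElt x ∧ ∃ r ∈ Rsig x, g = x * r)
      (∃ y, y ≠ 1 ∧ ∃ M, InMsig y M ∧ ∃ y' ∈ M ⊓ 𝐂[y], y' ≠ 1 ∧ IsPiElt (kap M) y' ∧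
        g = y * y') := by
  have h : ¬ ((∃ x, SigElt x ∧ ∃ r ∈ Rsig x, g = x * r) ∧
      (∃ y, y ≠ 1 ∧ ∃ M, InMsig y M ∧ ∃ y' ∈ M ⊓ 𝐂[y], y' ≠ 1 ∧ IsPiElt (kap M) y' ∧
        g = y * y')) := by
    rintro ⟨⟨x, hx, r, hr, rfl⟩, y, hy1, M, hM, y', hy', hy'1, hk, e⟩
    exact dichotomy_excl hx hr hy1 hM hy' hy'1 hk e
  rcases dichotomy_or hg with h' | h'
  · exact Or.inl ⟨h', fun h'' => h ⟨h', h''⟩⟩
  · exact Or.inr ⟨h', fun h'' => h ⟨h'', h'⟩⟩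

end Cfsg.Agent.FT
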