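/-
BG section 14, part 4: the counting argument of Theorem 14.7.
-/
import Cfsg.Agent.FT.P.BG14_3

set_option autoImplicit false
set_option linter.unusedSectionVars false
set_option linter.unusedVariables false

namespace Cfsg.Agent.FT

open Subgroup Cfsg Cfsg.Agent
open scoped commutatorElement

universe u

variable {G : Type u} [Group G] [Finite G] [MinOdd G]

namespace BG14

theorem partner_half {L K X L' : Subgroup G} (hL : IsPtype L) (hK : IsPiHallOf (kap L) K L)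
    (hX : X ≤ K) (hXp : 𝐨(X).Prime) (hL' : IsCoatom L') (hN : 𝐍(X) ≤ L') :
    ¬ Conj L L' ∧ IsPiSubgroup (kap L') (Ms L ⊓ 𝐂(K)) ∧ K ⊔ (Ms L ⊓ 𝐂(K)) ≤ L' ∧
      ∀ K' : Subgroup G, IsPiHallOf (kap L') K' L' → Ms L ⊓ 𝐂(K) ≤ K' →
        K ⊔ (Ms L ⊓ 𝐂(K)) ≤ K' ⊔ (Ms L' ⊓ 𝐂(K')) := by
  have hX1 := ne_bot_of_card_prime hXp
  have hXs := le_Ms_of_norm_le hL hK hX hXp hL' hN
  have hZ : K ⊔ (Ms L ⊓ 𝐂(K)) ≤ L' := by
    rw [← norm_prime_eq_Z hL hK hX hXp]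
    exact inf_le_right.trans hN
  have hnc : ¬ Conj L L' := fun h => hX1 (eq_bot_of_isPi_of_isPi_compl
    (h.sig_eq ▸ isPi_of_le hXs (isPi_Ms L')) (isPi_of_le hX (isPi_K_sig' hK)))
  have hk : IsPiSubgroup (kap L') (Ms L ⊓ 𝐂(K)) := by
    refine isPi_iff_forall_elt.2 fun y hy => ?_
    by_cases hy1 : y = 1
    · rw [hy1]
      exact isPiElt_one _
    obtain ⟨⟨x, hx⟩, hx1⟩ := (ne_bot_iff_exists_ne_one.1 hX1)
    have hx1' : x ≠ 1 := fun h => hx1 (Subtype.ext h)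
    rcases pi_of_cent_sigma hL' (hXs hx) hx1'
      (mem_inf.2 ⟨hZ (mem_sup_right hy), cent_le_cent1 (hX hx) hy.2⟩) hy1
      ((isPiElt_of_mem (isPi_Ks L K) hy).mono (sig_subset_compl hL.1 hL' hnc)) with h | h
    · exact h.1
    · exact absurd (h.2.2.eq hL.1 (cent1_le_of_mem_Ks hL hK hy hy1) ▸ Conj.refl _) hnc
  refine ⟨hnc, hk, hZ, fun K' hK' hle => sup_le ?_ (hle.trans le_sup_left)⟩
  obtain ⟨Y, hY, hYp⟩ := exists_le_card_prime (Ks_ne_bot hL hK)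
  rw [← norm_prime_eq_Z (isPtype_of_ne_bot hL' hk (Ks_ne_bot hL hK)) hK' (hY.trans hle) hYp]
  exact le_inf (le_sup_left.trans hZ)
    ((cent_comm.1 (hY.trans inf_le_right)).trans (cent_le_norm Y))

theorem partner {L K X L' : Subgroup G} (hL : IsPtype L) (hK : IsPiHallOf (kap L) K L)
    (hX : X ≤ K) (hXp : 𝐨(X).Prime) (hL' : IsCoatom L') (hN : 𝐍(X) ≤ L') :
    ¬ Conj L L' ∧ IsPtype L' ∧ ∃ K' : Subgroup G, IsPiHallOf (kap L') K' L' ∧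
      K' ⊔ (Ms L' ⊓ 𝐂(K')) = K ⊔ (Ms L ⊓ 𝐂(K)) := by
  obtain ⟨h1, h2, h3, h4⟩ := partner_half hL hK hX hXp hL' hN
  have hP' := isPtype_of_ne_bot hL' h2 (Ks_ne_bot hL hK)
  obtain ⟨K', hK', hle⟩ := exists_hall_ge (mmax_isSolvable hL') (le_sup_right.trans h3) h2
  have h5 := h4 K' hK' hle
  refine ⟨h1, hP', K', hK', le_antisymm ?_ h5⟩
  obtain ⟨Y, hY, hYp⟩ := exists_le_card_prime (Ks_ne_bot hL hK)
  obtain ⟨-, g2, g3, g4⟩ := partner_half hP' hK' (hY.trans hle) hYp hL.1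
    (uniq_Ks hL hK hY hYp).1.norm_le_of_cent
  obtain ⟨K'', hK'', hle'⟩ := exists_hall_ge (mmax_isSolvable hL.1) (le_sup_right.trans g3) g2
  have hXs : X ≤ Ms L' ⊓ 𝐂(K') := le_Ks_of_le_Z hK' ((hX.trans le_sup_left).trans h5)
    (isPi_of_le (le_Ms_of_norm_le hL hK hX hXp hL' hN) (isPi_Ms L'))
  rw [← norm_prime_eq_Z hL hK hX hXp, norm_prime_eq_Z hL hK'' (hXs.trans hle') hXp]
  exact g4 K'' hK'' hle'

/-- The TI property of `Ẑ`, in a strong form. -/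
theorem mem_Z_of_conj_mem {L K : Subgroup G} (hL : IsPtype L) (hK : IsPiHallOf (kap L) K L)
    {t g : G} (ht : t ∈ hatSet K (Ms L ⊓ 𝐂(K))) (hg : g * t * g⁻¹ ∈ K ⊔ (Ms L ⊓ 𝐂(K))) :
    g ∈ K ⊔ (Ms L ⊓ 𝐂(K)) := by
  obtain ⟨a, ha, ha1, b, hb, hb1, rfl⟩ := (dprod_Z hK).mem_hatSet.1 ht
  have hc := ((dprod_Z hK).commute ha hb).symm
  have haσ := isPiElt_of_mem (isPi_K_sig' hK) ha
  have hbσ := isPiElt_of_mem (isPi_Ks L K) hb
  have h1 := piPt_mem hg (sig L)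
  have h2 := piPt_mem hg (sig L)ᶜ
  rw [piPt_conj, ← hc.eq, piPt_mul_eq hbσ haσ hc] at h1
  rw [piPt_conj, ← hc.eq, piPt_compl_mul_eq hbσ haσ hc] at h2
  have h3 : g ∈ L := Ks_ti hL hK fun h => hb1 (by
    have : g * b * g⁻¹ ∈ (⊥ : Subgroup G) := h ▸ mem_inf.2
      ⟨mem_Ks_of_mem_Z hK h1 (isPiElt_conj.2 hbσ), conj_mem_conj (Ms_le L hb.1) g⟩
    simpa [mul_inv_eq_iff_eq_mul] using this)
  have h4 : g ∈ 𝐍(K) := K_ti hL hK h3 fun h => ha1 (by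
    have : g * a * g⁻¹ ∈ (⊥ : Subgroup G) := h ▸ mem_inf.2
      ⟨mem_K_of_mem_Z hK h2 (isPiElt_conj.2 haσ), conj_mem_conj ha g⟩
    simpa [mul_inv_eq_iff_eq_mul] using this)
  rw [← normK_eq_Z hL hK]
  exact mem_inf.2 ⟨h3, h4⟩

theorem hat_disjoint {L K H : Subgroup G} (hL : IsPtype L) (hK : IsPiHallOf (kap L) K L)
    (hH : IsCoatom H) :
    Disjoint (classSupp (hatSet K (Ms L ⊓ 𝐂(K))) ⊤) (classSupp (sigSupp H) ⊤) := by
  rw [Set.disjoint_left]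
  rintro _ ⟨t, ht, g, hg, rfl⟩ h
  rw [conj_mem_classSupp_iff hg, mem_classSupp_sigSupp hH] at h
  obtain ⟨x, hx1, hx, r, hr, e⟩ := h
  obtain ⟨a, ha, ha1, b, hb, hb1, rfl⟩ := (dprod_Z hK).mem_hatSet.1 ht
  have hc := ((dprod_Z hK).commute ha hb).symm
  exact dichotomy_excl (sigElt_of_isPiElt hH hx1 hx) hr hb1 ⟨hL.1, hb.1⟩
    (mem_inf.2 ⟨hall_le hK ha, mem_cent1_iff_commute.2 hc⟩) ha1
    (isPiElt_of_mem (hall_isPi hK) ha) (e.symm.trans hc.eq.symm)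

/-- `L` is of type `P` with associated subgroup `Z`. -/
def Good (Z L : Subgroup G) : Prop :=
  IsPtype L ∧ ∃ K : Subgroup G, IsPiHallOf (kap L) K L ∧ K ⊔ (Ms L ⊓ 𝐂(K)) = Z

theorem Ks_eq {L K : Subgroup G} (hK : IsPiHallOf (kap L) K L) :
    Ms L ⊓ (K ⊔ (Ms L ⊓ 𝐂(K))) = Ms L ⊓ 𝐂(K) :=
  le_antisymm (le_Ks_of_le_Z hK inf_le_right (isPi_of_le inf_le_left (isPi_Ms L)))
    (le_inf inf_le_left le_sup_right)

theorem Good.le {Z L : Subgroup G} (h : Good Z L) : Z ≤ L := by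
  obtain ⟨-, K, hK, rfl⟩ := h
  exact Z_le hK

theorem Good.uniq {Z L X : Subgroup G} (h : Good Z L) (hX : X ≤ Z) (hXp : 𝐨(X).Prime)
    (hσ : 𝐨(X) ∈ sig L) : UniqMax 𝐂(X) L := by
  obtain ⟨hL, K, hK, rfl⟩ := h
  exact (uniq_Ks hL hK (le_Ks_of_le_Z hK hX (isPi_of_card_prime hXp rfl hσ)) hXp).1

theorem Good.exists_prime {Z L : Subgroup G} (h : Good Z L) :
    ∃ X : Subgroup G, X ≤ Z ∧ 𝐨(X).Prime ∧ 𝐨(X) ∈ sig L := by
  obtain ⟨hL, K, hK, rfl⟩ := h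
  obtain ⟨Y, hY, hYp⟩ := exists_le_card_prime (Ks_ne_bot hL hK)
  exact ⟨Y, hY.trans le_sup_right, hYp, isPi_Ks L K _ hYp (card_dvd_of_le hY)⟩

theorem Good.eq_of_conj {Z L L' : Subgroup G} (h : Good Z L) (h' : Good Z L') (hc : Conj L L') :
    L = L' := by
  obtain ⟨X, hX, hXp, hσ⟩ := h.exists_prime
  exact (h'.uniq hX hXp (hc.sig_eq ▸ hσ)).eq h.1.1 (h.uniq hX hXp hσ).le

theorem le_K_or_le_Ks {L K X : Subgroup G} (hK : IsPiHallOf (kap L) K L)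
    (hX : X ≤ K ⊔ (Ms L ⊓ 𝐂(K))) (hXp : 𝐨(X).Prime) : X ≤ K ∨ X ≤ Ms L ⊓ 𝐂(K) := by
  by_cases hσ : 𝐨(X) ∈ sig L
  · exact Or.inr (le_Ks_of_le_Z hK hX (isPi_of_card_prime hXp rfl hσ))
  · exact Or.inl (le_K_of_le_Z hK hX (isPi_of_card_prime hXp rfl hσ))

theorem exists_good_of_le_K {L K X : Subgroup G} (hL : IsPtype L) (hK : IsPiHallOf (kap L) K L)
    (hX : X ≤ K) (hXp : 𝐨(X).Prime) :
    ∃ L', Good (K ⊔ (Ms L ⊓ 𝐂(K))) L' ∧ ¬ Conj L L' ∧ 𝐨(X) ∈ sig L' := by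
  obtain ⟨L', hL', hN⟩ := mmax_exists (norm_ne_top_of_le_mmax hL.1 (hX.trans (hall_le hK))
    (ne_bot_of_card_prime hXp))
  obtain ⟨h1, h2, h3⟩ := partner hL hK hX hXp hL' hN
  exact ⟨L', ⟨h2, h3⟩, h1, isPi_of_le (le_Ms_of_norm_le hL hK hX hXp hL' hN) (isPi_Ms L') _ hXp
    dvd_rfl⟩

theorem Good.exists_sig {Z L X : Subgroup G} (h : Good Z L) (hX : X ≤ Z) (hXp : 𝐨(X).Prime) :
    ∃ L', Good Z L' ∧ 𝐨(X) ∈ sig L' := by
  by_cases hσ : 𝐨(X) ∈ sig L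
  · exact ⟨L, h, hσ⟩
  · obtain ⟨hL, K, hK, rfl⟩ := h
    obtain ⟨L', h1, -, h2⟩ := exists_good_of_le_K hL hK
      (le_K_of_le_Z hK hX (isPi_of_card_prime hXp rfl hσ)) hXp
    exact ⟨L', h1, h2⟩

theorem Good.exists_ne {Z L : Subgroup G} (h : Good Z L) : ∃ L', Good Z L' ∧ L' ≠ L := by
  obtain ⟨hL, K, hK, rfl⟩ := h
  obtain ⟨X, hX, hXp⟩ := exists_le_card_prime (kappa_hall_ne_bot hL hK)
  obtain ⟨L', h1, h2, -⟩ := exists_good_of_le_K hL hK hX hXp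
  exact ⟨L', h1, fun e => h2 (e ▸ Conj.refl _)⟩

theorem Good.mem_hat {Z L : Subgroup G} (h : Good Z L) {t : G} (ht : t ∈ Z)
    (hn : ∀ L', Good Z L' → t ∉ Ms L') :
    ∃ L' K' : Subgroup G, IsPtype L' ∧ IsPiHallOf (kap L') K' L' ∧ K' ⊔ (Ms L' ⊓ 𝐂(K')) = Z ∧
      t ∈ hatSet K' (Ms L' ⊓ 𝐂(K')) := by
  have ht1 : t ≠ 1 := fun e => hn L h (e ▸ one_mem _)
  obtain ⟨p, hp, hd⟩ := exists_prime_dvd_orderOf ht1
  obtain ⟨X, hX, rfl⟩ := exists_le_zpowers_prime hp hd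
  obtain ⟨L', h1, h2⟩ := h.exists_sig (hX.trans (zpowers_le.2 ht)) hp
  have h3 := hn L' h1
  obtain ⟨hL', K', hK', rfl⟩ := h1
  exact ⟨L', K', hL', hK', rfl, ht, fun h4 => isPiElt_of_mem (isPi_K_sig' hK') h4 _ hp hd h2,
    fun h4 => h3 h4.1⟩

/-- The numerical estimate for a subgroup of type `P₁`. -/
theorem Good.card_bound {Z L : Subgroup G} (h : Good Z L) (h1 : IsP1type L) :
    2 * (𝐨(Ms L ⊓ Z) * Z.index) ≤ 2 * (classSupp (sigSupp L) ⊤).ncard + Z.index := by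
  obtain ⟨hL, K, hK, rfl⟩ := h
  rw [Ks_eq hK, card_class_support_sigma hL.1]
  obtain ⟨U, hU⟩ := ex_kappa_compl hL.1 hK
  have hU1 : U = ⊥ := (hU.eq_bot_iff hL.1).2.1.2 h1
  have hsd := (hU.context hL.1).2.2.2.1
  rw [hU1, sup_bot_eq] at hsd
  have e1 := hsd.card
  have e2 := (dprod_Z hK).card
  have e3 := H1.card_mul_relIndex (Z_le hK)
  have e4 := Subgroup.relIndex_mul_index (Z_le hK)
  set m := (K ⊔ (Ms L ⊓ 𝐂(K))).relIndex L with hm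
  have hm1 : m ≠ 1 := by
    intro e
    rw [hm, Subgroup.relIndex_eq_one] at e
    obtain ⟨p, hp, hd⟩ := exists_prime_dvd_card (Ks_ne_bot hL hK)
    obtain ⟨S, hS⟩ := exists_isSyl hp (Ms L)
    refine ((Ptype_structure hL hK).2.2.2.1 p hp hd S hS).2 ?_
    rw [← Ks_eq hK]
    exact le_inf hS.le (hS.le.trans ((Ms_le L).trans e))
  have hm0 : m ≠ 0 := by
    intro e
    rw [e, mul_zero] at e3
    exact card_ne_zero L e3.symm
  have e5 : 𝐨(Ms L) = 𝐨(Ms L ⊓ 𝐂(K)) * m := by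
    refine Nat.eq_of_mul_eq_mul_left (Nat.pos_of_ne_zero (card_ne_zero K)) ?_
    rw [← mul_assoc, ← e2, e3, e1, mul_comm]
  rw [← e4, e5]
  have h0 := card_ne_zero (Ms L ⊓ 𝐂(K))
  generalize 𝐨(Ms L ⊓ 𝐂(K)) = k at h0 ⊢
  obtain ⟨n, hn⟩ : ∃ n, k * m = n + 1 := Nat.exists_eq_succ_of_ne_zero (mul_ne_zero h0 hm0)
  have h2 : 2 ≤ m := by omega
  rw [← mul_assoc k m, hn, Nat.add_sub_cancel]
  nlinarith [Nat.mul_le_mul_right L.index h2]

/-- The counting argument: not all the subgroups associated with `Z` are of type `P₁`. -/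
theorem Good.exists_P2 {Z M : Subgroup G} (hM : Good Z M) : ∃ L, Good Z L ∧ IsP2type L := by
  classical
  by_contra hcon
  have hP1 : ∀ L, Good Z L → IsP1type L := fun L hL =>
    hL.1.p1_or_p2.resolve_right fun h => hcon ⟨L, hL, h⟩
  let ι := {L : Subgroup G // Good Z L}
  have : Fintype ι := Fintype.ofFinite _
  let T : Set G := {t | t ∈ Z ∧ ∀ L, Good Z L → t ∉ Ms L}
  have hT : (classSupp T ⊤).ncard = T.ncard * Z.index := by
    rcases T.eq_empty_or_nonempty with h | h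
    · have : classSupp T ⊤ = ∅ := by
        rw [h]
        ext g
        simp [classSupp]
      rw [this, h]
      simp
    · have hti : NormedTI T ⊤ Z := by
        refine ⟨h, fun h1 => h1.2 M hM (one_mem _), fun t ht => ht.1, le_top,
          fun g hg t ht => ⟨mul_mem (mul_mem hg ht.1) (inv_mem hg), fun L hL h1 => ht.2 L hL ?_⟩,
          fun g _ t ht h1 => ?_⟩
        · rwa [← Ms_conj_of_mem (hL.le hg), conj_mem_conj_iff] at h1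
        · obtain ⟨L, K, hL, hK, rfl, h2⟩ := hM.mem_hat ht.1 ht.2
          exact mem_Z_of_conj_mem hL hK h2 h1.1
      have h1 := hti.ncard_classSupp
      rw [Subgroup.card_top, ← Z.index_mul_card, ← mul_assoc] at h1
      exact Nat.eq_of_mul_eq_mul_right (Nat.pos_of_ne_zero (card_ne_zero Z)) h1
  -- lower bound for `|G|`
  have hdisj : Disjoint (classSupp T ⊤) (⋃ L : ι, classSupp (sigSupp L.1) ⊤) := by
    rw [Set.disjoint_iUnion_right]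
    intro H
    rw [Set.disjoint_left]
    rintro _ ⟨t, ht, g, hg, rfl⟩
    obtain ⟨L, K, hL, hK, -, h2⟩ := hM.mem_hat ht.1 ht.2
    exact Set.disjoint_left.1 (hat_disjoint hL hK H.2.1.1) ⟨t, h2, g, hg, rfl⟩
  have hsub : classSupp T ⊤ ∪ (⋃ L : ι, classSupp (sigSupp L.1) ⊤) ⊆ sharp (⊤ : Subgroup G) := by
    rintro g (hg | hg)
    · exact ⟨mem_top g, fun e => one_notMem_classSupp (fun h1 => h1.2 M hM (one_mem _)) (e ▸ hg)⟩
    · obtain ⟨L, hL⟩ := Set.mem_iUnion.1 hg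
      obtain ⟨x, hx1, hx, r, hr, rfl⟩ := (mem_classSupp_sigSupp L.2.1.1).1 hL
      refine ⟨mem_top _, fun e => hx1 ?_⟩
      rw [← piPt_cover L.2.1.1 hx1 hx hr, e, piPt_one]
  have hG := Set.ncard_le_ncard hsub
  rw [Set.ncard_union_eq hdisj, ncard_sharp, Subgroup.card_top, hT,
    Set.ncard_iUnion_of_finite (fun _ => Set.toFinite _) (fun L L' hne =>
      sigma_support_disjoint L.2.1.1 L'.2.1.1 fun hc => hne (Subtype.ext (L.2.eq_of_conj L'.2 hc))),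
    finsum_eq_sum_of_fintype, ← Z.index_mul_card] at hG
  -- upper bound for `|Z|`
  have hsub' : sharp Z ⊆ T ∪ ⋃ L : ι, sharp (Ms L.1 ⊓ Z) := by
    intro z hz
    by_cases h : ∀ L, Good Z L → z ∉ Ms L
    · exact Or.inl ⟨hz.1, h⟩
    · push Not at h
      obtain ⟨L, hL, h⟩ := h
      exact Or.inr (Set.mem_iUnion.2 ⟨⟨L, hL⟩, mem_inf.2 ⟨h, hz.1⟩, hz.2⟩)
  have hZ := (Set.ncard_le_ncard hsub').trans ((Set.ncard_union_le _ _).trans
    (Nat.add_le_add_left (Set.ncard_iUnion_le_of_fintype _) _))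
  simp only [ncard_sharp] at hZ
  have hs : 2 ≤ Fintype.card ι := by
    obtain ⟨L, hL, hne⟩ := hM.exists_ne
    exact Fintype.one_lt_card_iff.2 ⟨⟨L, hL⟩, ⟨M, hM⟩, fun e => hne (congrArg Subtype.val e)⟩
  have h1 : ∑ L : ι, (𝐨(Ms L.1 ⊓ Z) - 1) + Fintype.card ι = ∑ L : ι, 𝐨(Ms L.1 ⊓ Z) := by
    rw [← Finset.card_univ, Finset.card_eq_sum_ones, ← Finset.sum_add_distrib]
    exact Finset.sum_congr rfl fun L _ =>
      Nat.sub_add_cancel (Nat.pos_of_ne_zero (card_ne_zero _))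
  have h2 : 2 * ((∑ L : ι, 𝐨(Ms L.1 ⊓ Z)) * Z.index) ≤
      2 * ∑ L : ι, (classSupp (sigSupp L.1) ⊤).ncard + Fintype.card ι * Z.index := by
    rw [Finset.sum_mul, Finset.mul_sum, Finset.mul_sum, ← Finset.card_univ, ← smul_eq_mul,
      ← Finset.sum_const, ← Finset.sum_add_distrib]
    exact Finset.sum_le_sum fun L _ => L.2.card_bound (hP1 _ L.2)
  rw [← h1] at h2
  have hi : 0 < Z.index := Nat.pos_of_ne_zero Z.index_ne_zero_of_finite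
  have hz : 0 < 𝐨(Z) := Nat.pos_of_ne_zero (card_ne_zero Z)
  generalize ∑ L : ι, (𝐨(Ms L.1 ⊓ Z) - 1) = a at hZ h2
  generalize ∑ L : ι, (classSupp (sigSupp L.1) ⊤).ncard = c at hG h2
  generalize Fintype.card ι = s at hs h2
  generalize T.ncard = t at hG hZ
  generalize Z.index = i at hG h2 hi
  generalize 𝐨(Z) = z at hG hZ hz
  have h3 : z ≤ t + a + 1 := by omega
  have h4 : t * i + c + 1 ≤ i * z := by
    have := Nat.mul_pos hi hz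
    omega
  nlinarith [Nat.mul_le_mul_left i h3, Nat.mul_le_mul_right i hs]

end BG14

end Cfsg.Agent.FT
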