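/-
BG section 14, part 5: Theorem 14.7 and Corollaries 14.8 - 14.10.
-/
import Cfsg.Agent.FT.P.BG14_4

set_option autoImplicit false
set_option linter.unusedSectionVars false
set_option linter.unusedVariables false

namespace Cfsg.Agent.FT

open Subgroup Cfsg Cfsg.Agent
open scoped commutatorElement

universe u

variable {G : Type u} [Group G] [Finite G] [MinOdd G]

namespace BG14

/-- The symmetric configuration of BG 14.7. -/
structure Pair (M K M' K' : Subgroup G) : Prop where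
  hM : IsPtype M
  hM' : IsPtype M'
  hK : IsPiHallOf (kap M) K M
  hK' : IsPiHallOf (kap M') K' M'
  e : Ms M ⊓ 𝐂(K) = K'
  e' : Ms M' ⊓ 𝐂(K') = K
  nc : ¬ Conj M M'
  p2 : IsP2type M ∨ IsP2type M'

theorem Pair.symm {M K M' K' : Subgroup G} (h : Pair M K M' K') : Pair M' K' M K :=
  ⟨h.hM', h.hM, h.hK', h.hK, h.e', h.e, fun c => h.nc c.symm, h.p2.symm⟩

theorem pair_of_P2 {L K : Subgroup G} (hL : IsP2type L) (hK : IsPiHallOf (kap L) K L) :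
    ∃ L', Pair L K L' (Ms L ⊓ 𝐂(K)) := by
  have hp := (P2_facts hL hK).2.1
  obtain ⟨L', hL', hN⟩ := mmax_exists (norm_ne_top_of_le_mmax hL.1.1 (hall_le hK)
    (ne_bot_of_card_prime hp))
  obtain ⟨h1, h2, K', hK', e⟩ := partner hL.1 hK le_rfl hp hL' hN
  have e1 : Ms L' ⊓ 𝐂(K') = K := le_antisymm
    (le_K_of_le_Z hK (e ▸ le_sup_right)
      (isPi_mono (sig_subset_compl hL' hL.1.1 fun c => h1 c.symm) (isPi_Ks L' K')))
    (le_Ks_of_le_Z hK' (e ▸ le_sup_left)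
      (isPi_of_le (le_Ms_of_norm_le hL.1 hK le_rfl hp hL' hN) (isPi_Ms L')))
  have e2 : Ms L ⊓ 𝐂(K) = K' := by
    refine H1.eq_of_le_of_card_le (le_K_of_le_Z hK' (e ▸ le_sup_right)
      (isPi_mono (sig_subset_compl hL.1.1 hL' h1) (isPi_Ks L K))) ?_
    have c1 := (dprod_Z hK).card
    have c2 := (dprod_Z hK').card
    rw [e, c1, e1, mul_comm] at c2
    exact (Nat.eq_of_mul_eq_mul_right (Nat.pos_of_ne_zero (card_ne_zero K)) c2).ge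
  subst e2
  exact ⟨L', hL.1, h2, hK, hK', rfl, e1, h1, Or.inl hL⟩

theorem K_eq_of_Z_eq {M K K' : Subgroup G} (hK : IsPiHallOf (kap M) K M)
    (hK' : IsPiHallOf (kap M) K' M) (e : K ⊔ (Ms M ⊓ 𝐂(K)) = K' ⊔ (Ms M ⊓ 𝐂(K'))) : K = K' :=
  le_antisymm (le_K_of_le_Z hK' (e ▸ le_sup_left) (isPi_K_sig' hK))
    (le_K_of_le_Z hK (e ▸ le_sup_left) (isPi_K_sig' hK'))

theorem exists_pair {M K : Subgroup G} (hM : IsPtype M) (hK : IsPiHallOf (kap M) K M) :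
    ∃ M', Pair M K M' (Ms M ⊓ 𝐂(K)) := by
  have hG : Good (K ⊔ (Ms M ⊓ 𝐂(K))) M := ⟨hM, K, hK, rfl⟩
  obtain ⟨L, ⟨-, K₁, hK₁, e⟩, hL⟩ := hG.exists_P2
  obtain ⟨L', hP⟩ := pair_of_P2 hL hK₁
  obtain ⟨X, hX, hXp⟩ := exists_le_card_prime (Ks_ne_bot hM hK)
  have hu := (uniq_Ks hM hK hX hXp).1
  rcases le_K_or_le_Ks hK₁ (e ▸ hX.trans le_sup_right) hXp with h | h
  · have h1 : L' = M := hu.eq hP.hM'.1 (uniq_Ks hP.hM' hP.hK' (by rwa [hP.e']) hXp).1.le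
    subst h1
    have h2 : Ms L ⊓ 𝐂(K₁) = K := K_eq_of_Z_eq hP.hK' hK (by rw [hP.e', sup_comm, e])
    refine ⟨L, ?_⟩
    have h3 := hP.symm
    rw [h2] at h3
    rwa [h3.e]
  · have h1 : L = M := hu.eq hL.1.1 (uniq_Ks hL.1 hK₁ h hXp).1.le
    subst h1
    have h2 : K₁ = K := K_eq_of_Z_eq hK₁ hK e
    subst h2
    exact ⟨L', hP⟩

namespace Pair

variable {M K M' K' : Subgroup G}

theorem normK (h : Pair M K M' K') : M ⊓ 𝐍(K) = K ⊔ K' := h.e ▸ normK_eq_Z h.hM h.hK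

theorem dprod (h : Pair M K M' K') : DProd K K' (K ⊔ K') := h.e ▸ dprod_Z h.hK

theorem le (h : Pair M K M' K') : K ⊔ K' ≤ M := h.e ▸ Z_le h.hK

theorem le' (h : Pair M K M' K') : K ⊔ K' ≤ M' := sup_comm K K' ▸ h.symm.le

theorem isPi (h : Pair M K M' K') : IsPiSubgroup (sig M) K' := h.e ▸ isPi_Ks M K

theorem le_Ms (h : Pair M K M' K') : K' ≤ Ms M := h.e ▸ inf_le_left

theorem coprime (h : Pair M K M' K') : 𝐨(K).Coprime 𝐨(K') :=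
  (isPi_coprime h.isPi (isPi_K_sig' h.hK)).symm

theorem ne_bot (h : Pair M K M' K') : K ≠ ⊥ := kappa_hall_ne_bot h.hM h.hK

theorem le_of_isPi (h : Pair M K M' K') {Y : Subgroup G} (hY : Y ≤ K ⊔ K')
    (hπ : IsPiSubgroup (sig M) Y) : Y ≤ K' := by
  have := h.e
  subst this
  exact le_Ks_of_le_Z h.hK hY hπ

theorem uniq (h : Pair M K M' K') {X : Subgroup G} (hX : X ≤ K) (hXp : 𝐨(X).Prime) :
    UniqMax 𝐂(X) M' := (uniq_Ks h.hM' h.hK' (by rwa [h.e']) hXp).1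

theorem cyc_inf_aux (h : Pair M K M' K') (h2 : IsP2type M) :
    IsCyclic ↥(K ⊔ K') ∧ M ⊓ M' = K ⊔ K' := by
  obtain ⟨-, hp, hnil, -⟩ := P2_facts h2 h.hK
  have hn' : M' ⊓ 𝐍(K') = K ⊔ K' := by rw [h.symm.normK, sup_comm]
  constructor
  · refine h.dprod.isCyclic (isCyclic_of_card_prime hp) (isCyclic_of_rank_le_one (odd_card _)
      (isNilpotent_of_le h.le_Ms hnil) (rank_le_iff.2 fun p hp => ?_)) h.coprime
    by_cases hd : p ∣ 𝐨(K')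
    · exact (pRank_mono hp (hall_le h.hK')).trans
        (pRank_eq_one_of_ta13 (hall_isPi h.hK' p hp hd).1).le
    · rw [(pRank_eq_zero_iff hp).2 hd]
      exact zero_le_one
  · have h3 : Ms M ⊓ M' = K' := by
      by_contra hne
      have hlt : K' < Ms M ⊓ M' :=
        lt_of_le_of_ne (le_inf h.le_Ms (hall_le h.hK')) (Ne.symm hne)
      have h4 := lt_inf_norm_of_isNilpotent (isNilpotent_of_le inf_le_left hnil) hlt
      refine not_le_of_gt h4 (h.le_of_isPi ?_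
        (isPi_of_le (inf_le_left.trans inf_le_left) (isPi_Ms M)))
      rw [← hn']
      exact inf_le_inf_right _ inf_le_right
    refine le_antisymm ?_ (le_inf h.le h.le')
    rw [← hn', ← h3]
    exact le_inf inf_le_right (H1.le_normalizer_inf (inf_le_left.trans (Ms_normal M).2)
      (inf_le_right.trans (le_norm_self M')))

theorem cyc (h : Pair M K M' K') : IsCyclic ↥(K ⊔ K') := by
  rcases h.p2 with h2 | h2
  · exact (h.cyc_inf_aux h2).1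
  · rw [sup_comm]
    exact (h.symm.cyc_inf_aux h2).1

theorem inf_eq (h : Pair M K M' K') : M ⊓ M' = K ⊔ K' := by
  rcases h.p2 with h2 | h2
  · exact (h.cyc_inf_aux h2).2
  · rw [sup_comm, inf_comm]
    exact (h.symm.cyc_inf_aux h2).2

theorem cycK (h : Pair M K M' K') : IsCyclic K := isCyclic_of_le le_sup_left h.cyc

theorem hall_sig (h : Pair M K M' K') : IsPiHallOf (sig M) K' M' := by
  obtain ⟨H, hH, hle⟩ := exists_hall_ge (mmax_isSolvable h.hM'.1) (hall_le h.hK') h.isPi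
  have h1 : H ≤ Ms M := le_Ms_of_meet_Ks h.hM h.hK (hall_isPi hH)
    (by rw [h.e, inf_eq_right.2 hle]; exact h.symm.ne_bot)
  have h2 : H ≤ K' := h.le_of_isPi (h.inf_eq ▸ le_inf (h1.trans (Ms_le M)) (hall_le hH))
    (hall_isPi hH)
  rwa [← le_antisymm h2 hle]

theorem Z_le_cent1 (h : Pair M K M' K') {z : G} (hz : z ∈ K ⊔ K') : K ⊔ K' ≤ 𝐂[z] :=
  (isMulComm_iff_le_cent.1 (isMulComm_of_isCyclic h.cyc)).trans (cent_le_cent1 hz)

theorem cent1_K (h : Pair M K M' K') {x : G} (hx : x ∈ K) (hx1 : x ≠ 1) :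
    M ⊓ 𝐂[x] = K ⊔ K' := by
  refine le_antisymm ?_ (le_inf h.le (h.Z_le_cent1 (mem_sup_left hx)))
  obtain ⟨X, hX, hXp⟩ := exists_le_card_prime (H := zpowers x) (zpowers_eq_bot.not.2 hx1)
  rw [← h.e, ← norm_prime_eq_Z h.hM h.hK (hX.trans (zpowers_le.2 hx)) hXp]
  exact inf_le_inf_left _ ((cent1_le_cent_of_le_zpowers hX).trans (cent_le_norm X))

theorem cent1_le (h : Pair M K M' K') {x : G} (hx : x ∈ K) (hx1 : x ≠ 1) : 𝐂[x] ≤ M' :=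
  cent1_le_of_mem_Ks h.hM' h.hK' (by rwa [h.e']) hx1

theorem cent1_mul (h : Pair M K M' K') {x y : G} (hx : x ∈ K) (hx1 : x ≠ 1) (hy : y ∈ K')
    (hy1 : y ≠ 1) : 𝐂[x * y] = K ⊔ K' := by
  refine le_antisymm ?_ (h.Z_le_cent1 (mul_mem_sup hx hy))
  have hc := h.dprod.commute hx hy
  rw [hc.eq, cent1_mul_eq (isPiElt_of_mem h.isPi hy) (isPiElt_of_mem (isPi_K_sig' h.hK) hx)
    hc.symm, ← h.inf_eq]
  exact inf_le_inf (h.symm.cent1_le hy hy1) (h.cent1_le hx hx1)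

theorem cent1_hat (h : Pair M K M' K') {z : G} (hz : z ∈ hatSet K K') : 𝐂[z] = K ⊔ K' := by
  obtain ⟨a, ha, ha1, b, hb, hb1, rfl⟩ := h.dprod.mem_hatSet.1 hz
  exact h.cent1_mul ha ha1 hb hb1

theorem normedTI (h : Pair M K M' K') : NormedTI (hatSet K K') ⊤ (K ⊔ K') := by
  refine ⟨?_, fun h1 => h1.2.1 (one_mem _), fun z hz => hz.1, le_top, fun g hg z hz => ?_,
    fun g _ z hz h1 => ?_⟩
  · obtain ⟨⟨x, hx⟩, hx1⟩ := ne_bot_iff_exists_ne_one.1 h.ne_bot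
    obtain ⟨⟨y, hy⟩, hy1⟩ := ne_bot_iff_exists_ne_one.1 h.symm.ne_bot
    exact ⟨x * y, h.dprod.mem_hatSet.2 ⟨x, hx, fun e => hx1 (Subtype.ext e), y, hy,
      fun e => hy1 (Subtype.ext e), rfl⟩⟩
  · rwa [mem_cent1_iff_conj.1 (h.Z_le_cent1 hz.1 hg)]
  · have := h.e
    subst this
    exact mem_Z_of_conj_mem h.hM h.hK hz h1.1

theorem hat_notMem (h : Pair M K M' K') {g z : G} (hg : g ∉ M) (hz : z ∈ hatSet K K') :
    z ∉ M ^ᵍ g := by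
  intro hzM
  obtain ⟨a, ha, ha1, b, hb, hb1, rfl⟩ := h.dprod.mem_hatSet.1 hz
  have hc := h.dprod.commute ha hb
  have h1 := piPt_mem hzM (sig M)
  rw [hc.eq, piPt_mul_eq (isPiElt_of_mem h.isPi hb) (isPiElt_of_mem (isPi_K_sig' h.hK) ha)
    hc.symm] at h1
  exact hg (Ks_ti h.hM h.hK fun e => hb1 (mem_bot.1 (e ▸ mem_inf.2 ⟨by rwa [h.e], h1⟩)))

theorem card_lt (h : Pair M K M' K') : Nat.card G < 2 * (classSupp (hatSet K K') ⊤).ncard := by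
  have h1 := h.normedTI.ncard_classSupp
  have hsub : ((K ⊔ K' : Subgroup G) : Set G) ⊆ hatSet K K' ∪ (K ∪ sharp K') := by
    intro z hz
    by_cases a : z ∈ K
    · exact Or.inr (Or.inl a)
    · by_cases b : z ∈ K'
      · exact Or.inr (Or.inr ⟨b, fun e => a (e ▸ one_mem _)⟩)
      · exact Or.inl ⟨hz, a, b⟩
  have h2 := (Set.ncard_le_ncard hsub).trans ((Set.ncard_union_le _ _).trans
    (Nat.add_le_add_left (Set.ncard_union_le _ _) _))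
  rw [ncard_sharp, ← Nat.card_coe_set_eq, ← Nat.card_coe_set_eq (K : Set G)] at h2
  change 𝐨(K ⊔ K') ≤ _ + (𝐨(K) + _) at h2
  rw [Subgroup.card_top] at h1
  rw [h.dprod.card] at h1 h2
  have a1 := three_le_card h.ne_bot
  have a2 := three_le_card h.symm.ne_bot
  have a3 := odd_card K
  have a4 := odd_card K'
  have a5 := h.coprime
  have a6 : 0 < Nat.card G := Nat.card_pos
  generalize 𝐨(K) = k at *
  generalize 𝐨(K') = l at *
  have a7 : k ≠ l := by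
    rintro rfl
    rw [Nat.coprime_self] at a5
    omega
  have a8 : k * l < 2 * (hatSet K K').ncard := by
    obtain ⟨a, rfl⟩ := a3
    obtain ⟨b, rfl⟩ := a4
    obtain ⟨a, rfl⟩ : ∃ c, a = c + 1 := ⟨a - 1, by omega⟩
    obtain ⟨b, rfl⟩ : ∃ c, b = c + 1 := ⟨b - 1, by omega⟩
    have : 0 < a + b := by omega
    rw [Nat.add_sub_cancel] at h2
    nlinarith [Nat.zero_le (a * b)]
  refine Nat.lt_of_mul_lt_mul_right (a := k * l) ?_
  rw [mul_assoc 2, h1, ← mul_assoc 2, mul_comm (Nat.card G)]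
  exact Nat.mul_lt_mul_of_pos_right a8 a6

theorem eq_or_eq (h : Pair M K M' K') {X H : Subgroup G} (hX : X ≤ K ⊔ K') (hXp : 𝐨(X).Prime)
    (hH : IsCoatom H) (hC : 𝐂(X) ≤ H) : H = M ∨ H = M' := by
  rcases le_K_or_le_Ks h.hK (h.e ▸ hX) hXp with h1 | h1
  · exact Or.inr ((h.uniq h1 hXp).eq hH hC)
  · exact Or.inl ((h.symm.uniq (h.e ▸ h1) hXp).eq hH hC)

theorem conj_or_conj (h : Pair M K M' K') {H : Subgroup G} (hH : IsPtype H) :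
    Conj M H ∨ Conj M' H := by
  obtain ⟨L, hL⟩ := exists_hall (mmax_isSolvable hH.1) (kap H)
  obtain ⟨H', h'⟩ := exists_pair hH hL
  have c1 := h.card_lt
  have c2 := h'.card_lt
  have hnd : ¬ Disjoint (classSupp (hatSet K K') ⊤)
      (classSupp (hatSet L (Ms H ⊓ 𝐂(L))) ⊤) := by
    intro hd
    have := Set.ncard_le_card (classSupp (hatSet K K') ⊤ ∪ classSupp (hatSet L (Ms H ⊓ 𝐂(L))) ⊤)
    rw [Set.ncard_union_eq hd] at this
    omega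
  rw [Set.not_disjoint_iff] at hnd
  obtain ⟨_, ⟨t, ht, a, -, rfl⟩, s, hs, b, -, e⟩ := hnd
  have e1 : t = (a⁻¹ * b) * s * (a⁻¹ * b)⁻¹ := by
    rw [show (a⁻¹ * b) * s * (a⁻¹ * b)⁻¹ = a⁻¹ * (b * s * b⁻¹) * a by group, ← e]
    group
  have e2 := h.cent1_hat ht
  rw [e1, cent1_conj, h'.cent1_hat hs] at e2
  obtain ⟨X, hX, hXp⟩ := exists_le_card_prime h'.symm.ne_bot
  have hu := (h'.symm.uniq hX hXp).conj (a⁻¹ * b)
  rw [← cent_conj] at hu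
  rcases h.eq_or_eq (e2 ▸ conj_mono (hX.trans le_sup_right) _) (by rwa [card_conj]) hu.max hu.le
    with h1 | h1
  · exact Or.inl (h1 ▸ (Conj.conj H _).symm)
  · exact Or.inr (h1 ▸ (Conj.conj H _).symm)

theorem kap_eq (h : Pair M K M' K') : kap M = ta1 M := by
  obtain ⟨U, hU⟩ := ex_kappa_compl h.hM.1 h.hK
  exact (kc_core h.hM hU).2.2.2.2.2 (isMulComm_of_isCyclic h.cycK)

theorem der_eq (h : Pair M K M' K') {U : Subgroup G} (hU : KappaCompl M U K) :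
    ⁅M, M⁆ = Ms M ⊔ U := by
  obtain ⟨-, -, -, hsd, -, hreg, -⟩ := hU.context h.hM.1
  refine le_antisymm ?_ (sup_le (Ms_le_der h.hM.1) ?_)
  · have := hsd.der_le_sup
    rwa [isMulComm_iff_comm_eq_bot.1 (isMulComm_of_isCyclic h.cycK), sup_bot_eq] at this
  · conv_lhs => rw [← hreg.comm_eq le_rfl h.ne_bot hU.norm]
    exact commutator_mono (hall_le hU.hallU) (hall_le hU.hallK)

theorem sd_der (h : Pair M K M' K') : SdProd ⁅M, M⁆ K M := by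
  obtain ⟨U, hU⟩ := ex_kappa_compl h.hM.1 h.hK
  rw [h.der_eq hU]
  exact (hU.context h.hM.1).2.2.2.1

theorem conj (h : Pair M K M' K') (g : G) : Pair (M ^ᵍ g) (K ^ᵍ g) (M' ^ᵍ g) (K' ^ᵍ g) := by
  refine ⟨(isPtype_conj_iff M g).2 h.hM, (isPtype_conj_iff M' g).2 h.hM', ?_, ?_, ?_, ?_,
    fun c => h.nc (((Conj.conj M g).trans c).trans (Conj.conj M' g).symm),
    h.p2.imp (isP2type_conj_iff M g).2 (isP2type_conj_iff M' g).2⟩
  · rw [kap_conj]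
    exact hall_conj h.hK g
  · rw [kap_conj]
    exact hall_conj h.hK' g
  · rw [Ms_conj, cent_conj, ← conj_inf, h.e]
  · rw [Ms_conj, cent_conj, ← conj_inf, h.e']

/-- A commuting product of a `σ(H)`-element and a `κ(H)`-element, with `H` conjugate to `M`,
is conjugate to an element of `Ẑ`. -/
theorem mem_classSupp_hat (h : Pair M K M' K') {H : Subgroup G} (hc : Conj M H) {y y' : G}
    (hy1 : y ≠ 1) (hy : InMsig y H) (hy' : y' ∈ H ⊓ 𝐂[y]) (hy'1 : y' ≠ 1)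
    (hk : IsPiElt (kap H) y') : y * y' ∈ classSupp (hatSet K K') ⊤ := by
  obtain ⟨g, rfl⟩ := hc
  obtain ⟨m, hm, hle⟩ := exists_le_conj_hall (mmax_isSolvable hy.1) (h.conj g).hK
    (zpowers_le.2 hy'.1) (isPi_zpowers.2 hk)
  have h2 := (h.conj g).conj m
  rw [conj_eq_of_mem hm] at h2
  have h3 : y' ∈ (K ^ᵍ g) ^ᵍ m := hle (mem_zpowers y')
  have h4 : y ∈ (K' ^ᵍ g) ^ᵍ m := by
    rw [← h2.e, ← semiPrime_K hy.1 h2.hK y' h3 hy'1]
    exact mem_inf.2 ⟨hy.2, mem_cent1_comm.1 hy'.2⟩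
  rw [conj_conj, mem_conj'] at h3 h4
  obtain ⟨a, ha, rfl⟩ := h3
  obtain ⟨b, hb, rfl⟩ := h4
  refine ⟨b * a, ?_, m * g, mem_top _, by group⟩
  rw [hatSet_comm]
  exact h.symm.dprod.mem_hatSet.2 ⟨b, hb, fun e => hy1 (by rw [e]; group), a, ha,
    fun e => hy'1 (by rw [e]; group), rfl⟩

end Pair

end BG14

open BG14

/-- BG 14.7; `K* = Ms M ⊓ 𝐂(K)`, `Z = K ⊔ K*`, `Ẑ = hatSet K K*`. -/
theorem Ptype_embedding {M K : Subgroup G} (hM : IsPtype M) (hK : IsPiHallOf (kap M) K M) :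
    ∃ Mst : Subgroup G, IsPtype Mst ∧ ¬ Conj M Mst ∧
      (∀ X : Subgroup G, X ≤ K → 𝐨(X).Prime → UniqMax 𝐂(X) Mst) ∧
      (IsPiHallOf (kap Mst) (Ms M ⊓ 𝐂(K)) Mst ∧ IsPiHallOf (sig M) (Ms M ⊓ 𝐂(K)) Mst) ∧
      (Ms Mst ⊓ 𝐂(Ms M ⊓ 𝐂(K)) = K ∧ kap M = ta1 M) ∧
      (IsCyclic ↥(K ⊔ (Ms M ⊓ 𝐂(K))) ∧ M ⊓ Mst = K ⊔ (Ms M ⊓ 𝐂(K)) ∧
        (∀ x ∈ K, x ≠ 1 → M ⊓ 𝐂[x] = K ⊔ (Ms M ⊓ 𝐂(K))) ∧
        (∀ y ∈ Ms M ⊓ 𝐂(K), y ≠ 1 → Mst ⊓ 𝐂[y] = K ⊔ (Ms M ⊓ 𝐂(K))) ∧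
        ∀ x ∈ K, x ≠ 1 → ∀ y ∈ Ms M ⊓ 𝐂(K), y ≠ 1 → 𝐂[x * y] = K ⊔ (Ms M ⊓ 𝐂(K))) ∧
      (NormedTI (hatSet K (Ms M ⊓ 𝐂(K))) ⊤ (K ⊔ (Ms M ⊓ 𝐂(K))) ∧
        (∀ g : G, g ∉ M → ∀ z ∈ hatSet K (Ms M ⊓ 𝐂(K)), z ∉ M ^ᵍ g) ∧
        Nat.card G < 2 * (classSupp (hatSet K (Ms M ⊓ 𝐂(K))) ⊤).ncard) ∧
      ((IsP2type M ∧ 𝐨(K).Prime) ∨ (IsP2type Mst ∧ 𝐨(Ms M ⊓ 𝐂(K)).Prime)) ∧
      (∀ H : Subgroup G, IsPtype H → Conj M H ∨ Conj Mst H) ∧
      SdProd ⁅M, M⁆ K M := by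
  obtain ⟨M', h⟩ := exists_pair hM hK
  exact ⟨M', h.hM', h.nc, fun X hX hXp => h.uniq hX hXp, ⟨h.hK', h.hall_sig⟩, ⟨h.e', h.kap_eq⟩,
    ⟨h.cyc, h.inf_eq, fun x hx hx1 => h.cent1_K hx hx1,
      fun y hy hy1 => (h.symm.cent1_K hy hy1).trans (sup_comm _ _),
      fun x hx hx1 y hy hy1 => h.cent1_mul hx hx1 hy hy1⟩,
    ⟨h.normedTI, fun g hg z hz => h.hat_notMem hg hz, h.card_lt⟩,
    h.p2.imp (fun h2 => ⟨h2, (P2_facts h2 h.hK).2.1⟩) (fun h2 => ⟨h2, (P2_facts h2 h.hK').2.1⟩),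
    fun H hH => h.conj_or_conj hH, h.sd_der⟩

/-- BG 14.8. -/
theorem P1type_trans {M H : Subgroup G} (hM : IsP1type M) (hH : IsP1type H) : Conj M H := by
  obtain ⟨K, hK⟩ := exists_hall (mmax_isSolvable hM.1.1) (kap M)
  obtain ⟨M', h⟩ := exists_pair hM.1 hK
  refine (h.conj_or_conj hH.1).resolve_right ?_
  rintro ⟨g, rfl⟩
  exact (h.p2.resolve_left fun h2 => h2.2 hM.2).2 ((isP1type_conj_iff M' g).1 hH).2

theorem BG14.mem_sigSupp_of_cover {x r : G} (hx : SigElt x) (hr : r ∈ Rsig x) :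
    ∃ M : Subgroup G, IsCoatom M ∧ x * r ∈ classSupp (sigSupp M) ⊤ := by
  obtain ⟨hx1, M, hM⟩ := hx
  exact ⟨M, hM.1, (mem_classSupp_sigSupp hM.1).2 ⟨x, hx1, isPiElt_sig hM, r, hr, rfl⟩⟩

theorem BG14.isPtype_of_elt {M : Subgroup G} (hM : IsCoatom M) {y : G} (hy1 : y ≠ 1)
    (hk : IsPiElt (kap M) y) : IsPtype M := by
  obtain ⟨p, hp, hd⟩ := exists_prime_dvd_orderOf hy1
  exact ⟨hM, p, hk p hp hd⟩

/-- BG 14.9: covering part (the disjointness is 14.5(b) and the last statement). -/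
theorem mFT_partition_F (h : ∀ M : Subgroup G, ¬ IsPtype M) {g : G} (hg : g ≠ 1) :
    ∃ M : Subgroup G, IsCoatom M ∧ g ∈ classSupp (sigSupp M) ⊤ := by
  rcases dichotomy_or hg with ⟨x, hx, r, hr, rfl⟩ | ⟨y, -, M, hM, y', -, hy'1, hk, -⟩
  · exact mem_sigSupp_of_cover hx hr
  · exact absurd (isPtype_of_elt hM.1 hy'1 hk) (h M)

theorem mFT_partition_P {M K : Subgroup G} (hM : IsPtype M) (hK : IsPiHallOf (kap M) K M) :
    (∀ g : G, g ≠ 1 → g ∈ classSupp (hatSet K (Ms M ⊓ 𝐂(K))) ⊤ ∨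
      ∃ H : Subgroup G, IsCoatom H ∧ g ∈ classSupp (sigSupp H) ⊤) ∧
    ∀ H : Subgroup G, IsCoatom H →
      Disjoint (classSupp (hatSet K (Ms M ⊓ 𝐂(K))) ⊤) (classSupp (sigSupp H) ⊤) := by
  refine ⟨fun g hg => ?_, fun H hH => hat_disjoint hM hK hH⟩
  rcases dichotomy_or hg with ⟨x, hx, r, hr, rfl⟩ | ⟨y, hy1, H, hH, y', hy', hy'1, hk, rfl⟩
  · exact Or.inr (mem_sigSupp_of_cover hx hr)
  · obtain ⟨M', h⟩ := exists_pair hM hK
    left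
    rcases h.conj_or_conj (isPtype_of_elt hH.1 hy'1 hk) with c | c
    · exact h.mem_classSupp_hat c hy1 hH hy' hy'1 hk
    · rw [hatSet_comm]
      exact h.symm.mem_classSupp_hat c hy1 hH hy' hy'1 hk

theorem BG14.exists_two_sig {g : G} (hg : g ≠ 1) :
    ∃ L N : Subgroup G, IsCoatom L ∧ IsCoatom N ∧ IsPiElt (sig L ∪ sig N) g := by
  rcases dichotomy_or hg with ⟨x, ⟨hx1, L, hL⟩, r, hr, rfl⟩ |
    ⟨y, hy1, H, hH, y', hy', hy'1, hk, rfl⟩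
  · by_cases hr1 : r = 1
    · rw [hr1, mul_one]
      exact ⟨L, L, hL.1, hL.1, (isPiElt_sig hL).mono Set.subset_union_left⟩
    · exact ⟨L, Nsig x, hL.1, Nsig_max hx1 (multiSig_of_mem_Rsig hr hr1),
        ((isPiElt_sig hL).mono Set.subset_union_left).mul
          ((isPiElt_of_mem (isPi_Rsig x) hr).mono Set.subset_union_right) (commute_Rsig hr)⟩
  · obtain ⟨K, hK, hle⟩ := exists_hall_ge (mmax_isSolvable hH.1) (zpowers_le.2 hy'.1)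
      (isPi_zpowers.2 hk)
    obtain ⟨H', h⟩ := exists_pair (isPtype_of_elt hH.1 hy'1 hk) hK
    exact ⟨H, H', hH.1, h.hM'.1, ((isPiElt_sig hH).mono Set.subset_union_left).mul
      ((isPiElt_of_mem h.symm.isPi (hle (mem_zpowers y'))).mono Set.subset_union_right)
      (mem_cent1_iff_commute.1 hy'.2)⟩

/-- BG 14.10: `ℓ_σ(g) ≤ 2`. -/
theorem ell_sigma_le_two {g : G} {M₁ M₂ M₃ : Subgroup G} (h₁ : IsCoatom M₁) (h₂ : IsCoatom M₂)
    (h₃ : IsCoatom M₃) {p₁ p₂ p₃ : ℕ} (hp₁ : p₁ ∈ sig M₁) (hp₂ : p₂ ∈ sig M₂) (hp₃ : p₃ ∈ sig M₃)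
    (hd₁ : p₁ ∣ orderOf g) (hd₂ : p₂ ∣ orderOf g) (hd₃ : p₃ ∣ orderOf g) :
    Conj M₁ M₂ ∨ Conj M₁ M₃ ∨ Conj M₂ M₃ := by
  have hg : g ≠ 1 := by
    rintro rfl
    rw [orderOf_one, Nat.dvd_one] at hd₁
    exact hp₁.1.one_lt.ne' hd₁
  obtain ⟨L, N, hL, hN, h⟩ := exists_two_sig hg
  have key : ∀ {M : Subgroup G} {p : ℕ}, IsCoatom M → p ∈ sig M → p ∣ orderOf g →
      Conj M L ∨ Conj M N := fun hM hp hd =>
    (h _ hp.1 hd).imp (conj_of_mem_sig hM hL hp) (conj_of_mem_sig hM hN hp)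
  rcases key h₁ hp₁ hd₁ with a | a <;> rcases key h₂ hp₂ hd₂ with b | b <;>
    rcases key h₃ hp₃ hd₃ with c | c
  all_goals first
    | exact Or.inl (a.trans b.symm)
    | exact Or.inr (Or.inl (a.trans c.symm))
    | exact Or.inr (Or.inr (b.trans c.symm))

end Cfsg.Agent.FT
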