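/-
BG section 14, part 6: Lemma 14.11, Corollary 14.12, Lemma 14.13.
-/
import Cfsg.Agent.FT.P.BG14_5

set_option autoImplicit false
set_option linter.unusedSectionVars false
set_option linter.unusedVariables false

namespace Cfsg.Agent.FT

open Subgroup Cfsg Cfsg.Agent
open scoped commutatorElement

universe u

variable {G : Type u} [Group G] [Finite G] [MinOdd G]

open BG14

namespace BG14

theorem exists_sigmaCompl {M E : Subgroup G} (hM : IsCoatom M) (hE : IsPiHallOf (sig M)ᶜ E M) :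
    ∃ E₁ E₂ E₃ : Subgroup G, SigmaCompl M E E₁ E₂ E₃ := by
  obtain ⟨E₂, h2⟩ := exists_hall (isSolvable_of_le_mmax hM (hall_le hE)) (ta2 M)
  obtain ⟨E₁, E₃, h⟩ := ex_tau13_compl hM hE h2
  exact ⟨E₁, E₂, E₃, h⟩

theorem Ftype_cent_eq_bot {M Q : Subgroup G} (hM : IsFtype M) {q : ℕ} (hq : q ∈ ta1 M ∪ ta3 M)
    (hQ : Q ≤ M) (hQq : 𝐨(Q) = q) : Ms M ⊓ 𝐂(Q) = ⊥ := by
  by_contra h
  have : q ∈ kap M := ⟨hq, Q, hQ, hQq, h⟩
  rw [hM.2] at this
  exact this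

theorem mem_ta13_or_ta2 {M : Subgroup G} (hM : IsCoatom M) {p : ℕ} (hp : p.Prime)
    (hd : p ∣ 𝐨(M)) (hσ : p ∉ sig M) : p ∈ ta1 M ∪ ta3 M ∨ p ∈ ta2 M := by
  rcases partition_sigma_compl hM hp hd hσ with h | h | h
  · exact Or.inl (Or.inl h)
  · exact Or.inr h
  · exact Or.inl (Or.inr h)

theorem uniq_of_ta2 {M Q : Subgroup G} (hM : IsCoatom M) {q : ℕ} (hq : q ∈ ta2 M) (hQ : Q ≤ M)
    (hQq : 𝐨(Q) = q) (hC : Ms M ⊓ 𝐂(Q) ≠ ⊥) : UniqMax 𝐂(Q) M := by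
  have hp : 𝐨(Q).Prime := hQq ▸ hq.1
  obtain ⟨⟨x, hx⟩, hx1⟩ := ne_bot_iff_exists_ne_one.1 (ne_bot_of_card_prime hp)
  have hx1' : x ≠ 1 := fun e => hx1 (Subtype.ext e)
  rw [← cent1_eq_of_card_prime hp hx hx1'] at hC ⊢
  exact cent1_nreg_sigma_uniq hM (hQ hx) hx1'
    (isPiElt_of_mem (isPi_of_card_prime hq.1 hQq hq) hx) hC

end BG14

/-- BG 14.11. -/
theorem primes_non_fitting_Ftype {M E Q : Subgroup G} (hM : IsFtype M)
    (hE : IsPiHallOf (sig M)ᶜ E M) {q : ℕ} (hq : q.Prime) (hQ : Q ≤ E) (hQq : 𝐨(Q) = q)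
    (hF : ¬ Q ≤ fittingOf E) :
    ∃ Mst : Subgroup G, IsCoatom Mst ∧
      ((q ∈ ta2 Mst ∧ UniqMax 𝐂(Q) Mst) ∨ (q ∈ kap Mst ∧ IsP1type Mst)) := by
  have hMc := hM.1
  have hEM := hall_le hE
  have hqE : q ∣ 𝐨(E) := hQq ▸ card_dvd_of_le hQ
  have hqσ : q ∉ sig M := hall_isPi hE q hq hqE
  have hq1 : q ∈ ta1 M := by
    rcases partition_sigma_compl hMc hq (hqE.trans (card_dvd_of_le hEM)) hqσ with h | h | h
    · exact h
    · obtain ⟨A, hA, hA2⟩ := exists_elem2_le hE h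
      obtain ⟨⟨h1, h2⟩, -⟩ := tau2_compl_context hMc hE h hA hA2
      exact absurd ((h2 Q hQ hQq).trans (le_fittingOf h1 (isNilpotent_of_isMulComm hA2.comm))) hF
    · obtain ⟨E₁, E₂, E₃, hS⟩ := exists_sigmaCompl hMc hE
      obtain ⟨⟨-, h1⟩, -, ⟨-, h2⟩, -⟩ := hS.context hMc
      exact absurd ((le_of_hall_normal hS.hall3 h1.2 hQ (isPi_of_card_prime hq hQq h)).trans
        (le_fittingOf h1 (isNilpotent_of_isMulComm (isMulComm_of_isCyclic h2)))) hF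
  have hC : Ms M ⊓ 𝐂(Q) = ⊥ := Ftype_cent_eq_bot hM (Or.inl hq1) (hQ.trans hEM) hQq
  have hD := der_compl_abelian hMc hE
  have hDq : 𝐨(⁅E, E⁆).Coprime q := ((Nat.Prime.coprime_iff_not_dvd hq).2 fun h =>
    hq1.2.2.2 (h.trans (card_dvd_of_le (commutator_mono hEM hEM)))).symm
  have hQD : Q ≤ 𝐍(⁅E, E⁆) := hQ.trans (der_normal E).2
  have h1 := (comm_sigma'_elem1_cyclic hMc ((der_le E).trans hEM)
    (isPi_of_le (der_le E) (hall_isPi hE)) hq hqσ hQq (le_inf (hQ.trans hEM) hQD) hC hD hDq).1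
  have h2 : ⁅⁅E, E⁆, Q⁆ ≠ ⊥ := by
    intro h
    refine hF (le_sup_right.trans (le_fittingOf (N := ⁅E, E⁆ ⊔ Q)
      ⟨sup_le (der_le E) hQ, le_norm_of_der_le le_sup_left (sup_le (der_le E) hQ)⟩
      (isNilpotent_of_isMulComm (isMulComm_sup hD
        (isMulComm_of_isCyclic (isCyclic_of_card_prime (hQq ▸ hq)))
        (cent_comm.1 (comm_eq_bot_iff.1 h))))))
  obtain ⟨X, hX, hXp⟩ := exists_le_card_prime h2
  have hXE : X ≤ E := hX.trans ((comm_le_left_iff.2 hQD).trans (der_le E))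
  have hp2 : 𝐨(X) ∈ ta2 M := by
    refine (mem_ta13_or_ta2 hMc hXp (card_dvd_of_le (hXE.trans hEM))
      (hall_isPi hE _ hXp (card_dvd_of_le hXE))).resolve_left fun h => ?_
    have := Ftype_cent_eq_bot hM h (hXE.trans hEM) rfl
    rw [inf_eq_left.2 (cent_comm.1 (hX.trans h1))] at this
    exact Ms_ne_bot hMc this
  obtain ⟨A, hA, hA2⟩ := exists_elem2_le hE hp2
  obtain ⟨⟨hnA, h3⟩, -⟩ := tau2_compl_context hMc hE hp2 hA hA2
  have hAQ : ⁅A, Q⁆ ≠ ⊥ := by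
    intro h
    have h4 := H1.centralizer_inf_commutator_eq_bot hD hQD (by rw [hQq]; exact hDq.symm)
    exact ne_bot_of_card_prime hXp (le_bot_iff.1
      (h4 ▸ le_inf ((h3 X hXE rfl).trans (comm_eq_bot_iff.1 h)) hX))
  have h5 := (tau1_act_tau2 hMc hE hp2 hA hA2 hq1 hQ hQq hC hAQ).2.2.1
  obtain ⟨L, hL, hN⟩ := mmax_exists (norm_ne_top_of_isPGroup hXp hA2.pgrp
    (hA2.ne_bot hXp two_ne_zero))
  obtain ⟨h6, h7, -⟩ := primes_norm_tau2 hMc hE hp2 hA hA2 hL hN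
  have hAL : A ≤ Ms L := le_Ms_of_isPi hL ((le_norm_self A).trans hN)
    (isPi_of_isPGroup hXp hA2.pgrp (h6 _ hp2).1)
  have hQL : Q ≤ L := hQ.trans (hnA.2.trans hN)
  have hCL : Ms L ⊓ 𝐂(Q) ≠ ⊥ := fun h => ne_bot_of_card_prime (h5 ▸ hXp)
    (le_bot_iff.1 (h ▸ inf_le_inf_right _ hAL))
  refine ⟨L, hL, ?_⟩
  rcases h7 q hq (dvd_relIndex_of_not_le hq (isPGroup_of_card_prime hQq) hQ
    (H1.le_normalizer_centralizer hnA.2) fun h => hAQ (comm_eq_bot_iff.2 (cent_comm.1 h)))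
    with h | h
  · have hk : q ∈ kap L := ⟨Or.inl h, Q, hQL, hQq, hCL⟩
    refine Or.inr ⟨hk, (IsPtype.p1_or_p2 ⟨hL, q, hk⟩).resolve_right fun h8 => ?_⟩
    obtain ⟨K, hK⟩ := exists_hall (mmax_isSolvable hL) (kap L)
    exact (h6 _ hp2).2 ((P2_facts h8 hK).1 ▸ (h6 _ hp2).1)
  · exact Or.inl ⟨h, uniq_of_ta2 hL h hQL hQq hCL⟩

theorem BG14.Ms_inf_Ms {M L : Subgroup G} (hM : IsCoatom M) (hL : IsCoatom L) (h : ¬ Conj M L) :
    Ms M ⊓ Ms L = ⊥ :=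
  isPi_disjoint (isPi_Ms M) (isPi_mono (sig_subset_compl hL hM fun c => h c.symm) (isPi_Ms L))

/-- `M_σ ∩ L` centralizes `M ∩ L_σ`. -/
theorem BG14.Ms_inf_le_cent {M L U : Subgroup G} (hM : IsCoatom M) (hL : IsCoatom L)
    (h : ¬ Conj M L) (hUM : U ≤ M) (hUL : U ≤ Ms L) : Ms M ⊓ L ≤ 𝐂(U) := by
  refine comm_eq_bot_iff.1 (le_bot_iff.1 (Ms_inf_Ms hM hL h ▸ le_inf ?_ ?_))
  · exact (commutator_mono inf_le_left hUM).trans (comm_le_left_iff.2 (Ms_normal M).2)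
  · exact (commutator_mono inf_le_right hUL).trans (comm_le_right_iff.2 (Ms_normal L).2)

/-- BG 14.12. -/
theorem P2type_signalizer {M Mst U K R H : Subgroup G} (hM : IsP2type M) (h : KappaCompl M U K)
    (hMst : IsCoatom Mst) (hCK : 𝐂(K) ≤ Mst) {r : ℕ} (hr : r.Prime) (hR : IsSyl r R U)
    (hH : IsCoatom H) (hN : 𝐍(R) ≤ H) :
    IsFtype H ∧ U ≤ Ms H ∧ SdProd U K (M ⊓ H) ∧ ¬ H ⊓ 𝐍(U) ≤ M ∧ K ≤ fittingOf (H ⊓ Mst) ∧
      IsPiHallOf (sig H)ᶜ (H ⊓ Mst) H := by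
  have hMc := hM.1.1
  obtain ⟨M', hP⟩ := exists_pair hM.1 h.hallK
  have hq := (P2_facts hM h.hallK).2.1
  have hu := hP.uniq le_rfl hq
  obtain rfl : Mst = M' := hu.eq hMst hCK
  have hF := frob_UK hM h
  obtain ⟨hE, hsd, -, -, -, -, hUc⟩ := h.context hMc
  replace hUc := hUc hF.ne_botR
  have hUM := hall_le h.hallU
  have hR1 : R ≠ ⊥ := by
    rintro rfl
    rw [norm_bot, top_le_iff] at hN
    exact hH.1 hN
  have hrU := hall_isPi h.hallU r hr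
    ((prime_dvd_card_of_isPGroup hr hR.pgrp hR1).trans (card_dvd_of_le hR.le))
  have hEH : U ⊔ K ≤ H :=
    hsd.le_norm.trans ((hR.norm_le_of_isNilpotent hr (isNilpotent_of_isMulComm hUc)).trans hN)
  have hUH : U ≤ H := le_sup_left.trans hEH
  have hKH : K ≤ H := le_sup_right.trans hEH
  have hnM : ¬ Conj M H := by
    rintro ⟨g, rfl⟩
    have h1 : IsSyl r R (M ^ᵍ g) := ((hR.trans_hall hr h.hallU hrU).conj g).of_card_eq hr
      (hR.le.trans hUH) (card_conj R g).symm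
    refine hrU (Or.inl ?_)
    rw [← sig_conj M g]
    exact ⟨hr, (prime_dvd_card_of_isPGroup hr hR.pgrp hR1).trans (card_dvd_of_le h1.le), R, h1, hN⟩
  have hnM' : ¬ Conj Mst H := by
    rintro ⟨g, rfl⟩
    have hg : g ∈ Mst := Ks_ti hP.hM' hP.hK' (by rw [hP.e', inf_eq_left.2 hKH]; exact hF.ne_botR)
    rw [conj_eq_of_mem hg] at hUH
    refine hF.ne_botK (le_bot_iff.1 (hF.cent_eq_bot ▸ le_inf le_rfl ?_))
    exact (hP.inf_eq ▸ le_inf hUM hUH : U ≤ _).trans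
      ((isMulComm_iff_le_cent.1 (isMulComm_of_isCyclic hP.cyc)).trans (cent_anti le_sup_left))
  have hHF : IsFtype H := (isFtype_or_isPtype hH).resolve_right fun h1 =>
    (hP.conj_or_conj h1).elim hnM hnM'
  have hqσ : 𝐨(K) ∈ sig Mst := hP.symm.isPi _ hq dvd_rfl
  have hKσ : IsPiSubgroup (sig H)ᶜ K := isPi_mono (sig_subset_compl hMst hH hnM') hP.symm.isPi
  obtain ⟨D, hD, hKD⟩ := ex_sigma_compl hH hKH hKσ
  have hsdH := sdprod_sigma hH hD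
  have hKF : K ≤ fittingOf D := by
    by_contra hn
    obtain ⟨L, hL, h1 | h1⟩ := primes_non_fitting_Ftype hHF hD hq hKD rfl hn
    · rw [hu.eq hL h1.2.le] at h1
      exact h1.1.2.1 hqσ
    · rcases hP.conj_or_conj h1.2.1 with ⟨g, rfl⟩ | ⟨g, rfl⟩
      · exact hM.2 ((isP1type_conj_iff M g).1 h1.2).2
      · exact kap_subset_compl _ h1.1 (by rwa [sig_conj])
  have hKQ : K ≤ pCoreOf 𝐨(K) D := by
    rw [← pCoreOf_fittingOf hq, pCoreOf_eq hq]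
    exact le_piCoreOf_of_isNilpotent (H2.isNilpotent_fittingOf D) hKF
      (isPi_of_card_prime hq rfl rfl)
  have hQn := pCoreOf_normal 𝐨(K) D
  have hQp : IsPGroup 𝐨(K) (pCoreOf 𝐨(K) D) := by
    rw [← isPi_singleton_iff hq, pCoreOf_eq hq]
    exact isPi_piCoreOf _ _
  have hUs : U ≤ Ms H := by
    have hn : H ≤ 𝐍(Ms H ⊔ pCoreOf 𝐨(K) D) := by
      conv_lhs => rw [← hsdH.sup]
      exact sup_le (le_sup_left.trans (le_norm_self _)) (H1.le_normalizer_sup hsdH.norm hQn.2)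
    have h1 : U ≤ Ms H ⊔ pCoreOf 𝐨(K) D := by
      conv_lhs => rw [← hF.comm_eq]
      exact (commutator_mono hUH (hKQ.trans le_sup_right)).trans (comm_le_right_iff.2 hn)
    refine le_Ms_of_isPi hH hUH fun p hp hd => ?_
    rw [sup_comm] at h1
    have h2 := (hd.trans (card_dvd_of_le h1)).trans (H1.card_sup_dvd (hQn.1.trans hsdH.norm))
    rcases (Nat.Prime.dvd_mul hp).1 h2 with h3 | h3
    · rw [eq_of_prime_dvd_card_of_isPGroup hq hp hQp h3] at hd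
      exact absurd hd ((Nat.Prime.coprime_iff_not_dvd hq).1 hF.coprime.symm)
    · exact isPi_Ms H p hp h3
  have hMH : U ⊔ K = M ⊓ H := by
    have h1 := ((sdprod_sigma hMc hE).inf_of_le_right hEH (hEH.trans (le_norm_self H))).sup
    have h2 : Ms M ⊓ H = ⊥ := le_bot_iff.1 (cent_U_eq_bot hMc h hF.ne_botK ▸
      le_inf inf_le_left (Ms_inf_le_cent hMc hH hnM hUM hUs))
    rwa [h2, bot_sup_eq] at h1
  have hDM : D ≤ Mst := by
    have hQc := sigma'_nil_abelian hH (hQn.1.trans (hall_le hD)) (isPi_of_le hQn.1 (hall_isPi hD))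
      (isNilpotent_of_isPGroup hq hQp)
    refine hQn.2.trans ?_
    by_cases hc : IsCyclic (pCoreOf 𝐨(K) D)
    · exact (norm_le_norm_of_le_cyclic hc hKQ).trans hu.norm_le_of_cent
    · exact norm_noncyclic_sigma hMst hqσ hQp
        ((isMulComm_iff_le_cent.1 hQc).trans ((cent_anti hKQ).trans hCK)) hc
  have hHM : D = H ⊓ Mst := by
    have h1 := (hsdH.inf_of_le_right hDM (hDM.trans (le_norm_self _))).sup
    have h2 : Ms H ⊓ 𝐂(K) = ⊥ := by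
      rcases mem_ta13_or_ta2 hH hq (card_dvd_of_le hKH) (hKσ _ hq dvd_rfl) with h3 | h3
      · exact Ftype_cent_eq_bot hHF h3 hKH rfl
      · by_contra h4
        exact hnM' (hu.eq hH (uniq_of_ta2 hH h3 hKH rfl h4).le ▸ Conj.refl _)
    have h3 : Ms H ⊓ Mst = ⊥ := le_bot_iff.1 (h2 ▸ le_inf inf_le_left
      (Ms_inf_le_cent hH hMst (fun c => hnM' c.symm) hKH hP.symm.le_Ms))
    rwa [h3, bot_sup_eq] at h1
  refine ⟨hHF, hUs, hMH ▸ hsd, fun hle => ?_, hHM ▸ hKF, hHM ▸ hD⟩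
  rcases eq_or_lt_of_le hUs with h1 | h1
  · have h2 : H ≤ M := (le_inf le_rfl (h1 ▸ (Ms_normal H).2)).trans hle
    exact hnM (mmax_eq_of_le' hH hMc h2 ▸ Conj.refl _)
  · have h2 := lt_inf_norm_of_isNilpotent
      (notP1type_Ms_nil hH fun h3 => h3.1.not_isFtype hHF) h1
    refine not_le_of_gt h2 (le_of_hall_normal
      (hsd.hall (isPi_of_le hUs (isPi_Ms H)) hKσ).1 hsd.le_norm ?_
      (isPi_of_le inf_le_left (isPi_Ms H)))
    rw [hMH]
    exact le_inf ((inf_le_inf_right _ (Ms_le H)).trans hle) (inf_le_left.trans (Ms_le H))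

theorem BG14.not_betG_of_ta2 {M : Subgroup G} (hM : IsCoatom M) {p : ℕ} (hp : p ∈ ta2 M) :
    p ∉ betG G := by
  obtain ⟨A, hA, hA2⟩ := (le_pRank_iff hp.1 (n := 2) (H := M)).1 hp.2.2.ge
  exact (sigma'_rank2_max hM hp.1 hp.2.1 hA hA2).2

/-- BG 14.13(a). -/
theorem non_disjoint_signalizer_frobenius {x : G} {M : Subgroup G} (hx1 : x ≠ 1)
    (hx : MultiSig x) (hM : InMsig x M) (h : ¬ IsPiSubgroup (sig (Nsig x))ᶜ M) :
    IsFtype M ∧ ta2 M = ∅ := by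
  have hMc := hM.1
  obtain ⟨hu, -, hx2, -, h5⟩ := signalizer_context_multi hx1 hx
  obtain ⟨-, h2s, hsb, -⟩ := h5 M hM
  have hnc := ((Nsig_spec hx1 hx).2.2.2.2 M hM).1
  set N := Nsig x with hNdef
  have hN := hu.max
  simp only [IsPiSubgroup, not_forall, Set.mem_compl_iff, not_not] at h
  obtain ⟨q, hq, hqM, hqN⟩ := h
  have hqβ : q ∈ bet N := hsb q ⟨hq, hqM⟩ hqN
  have hqσ : q ∉ sig M := fun h => hnc (conj_of_mem_sig hMc hN h hqN)
  have hq13 : q ∈ ta1 M ∪ ta3 M := (mem_ta13_or_ta2 hMc hq hqM hqσ).resolve_right fun h =>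
    not_betG_of_ta2 hMc h hqβ.2
  have huQ : ∀ Q : Subgroup G, 𝐨(Q) = q → ∃ g : G, UniqMax 𝐂(Q) (N ^ᵍ g) := by
    intro Q hQ
    obtain ⟨g, hg⟩ := sigma_cj_le hN (isPi_of_card_prime hq hQ hqN)
    obtain ⟨P, hP⟩ := exists_isSyl hq (Ms N)
    have := (cent_der_sigma_uniq hN hqN (hg.trans (Ms_le N)) (by rwa [card_conj]) (Or.inl hqβ)
      hP).1.conj g⁻¹
    rw [cent_conj, conj_conj_inv] at this
    exact ⟨_, this⟩
  obtain ⟨p, hp, hpx⟩ := exists_prime_dvd_orderOf hx1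
  have hp2 : p ∈ ta2 N := hx2 p hp hpx
  have hF : IsFtype M := by
    refine (isFtype_or_isPtype hMc).resolve_right fun hP => ?_
    obtain ⟨K, hK⟩ := exists_hall (mmax_isSolvable hMc) (kap M)
    rcases hP.p1_or_p2 with h1 | h1
    · have hqk : q ∈ kap M := (h1.2 q hq hqM).resolve_left hqσ
      obtain ⟨Q, hQ, hQq⟩ := exists_le_card_eq_prime hq ((hall_dvd_card_iff hK hq hqk).2 hqM)
      obtain ⟨M', hPair⟩ := exists_pair hP hK
      obtain ⟨g, hg⟩ := huQ Q hQq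
      have e : M' = N ^ᵍ g := hg.eq hPair.hM'.1 (hPair.uniq hQ (hQq ▸ hq)).le
      have h3 := pRank_le_one_of_isCyclic hp hPair.symm.cycK
      rw [hall_pRank_eq hp hPair.hall_sig (h2s hp2), e, pRank_conj hp, hp2.2.2] at h3
      exact absurd h3 (by decide)
    · exact not_betG_of_ta2 hN hp2 ((P2_facts h1 hK).1 ▸ h2s hp2 : p ∈ bet M).2
  refine ⟨hF, Set.eq_empty_of_forall_notMem fun r hr => ?_⟩
  obtain ⟨E, hE⟩ := exists_hall (mmax_isSolvable hMc) (sig M)ᶜ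
  obtain ⟨Q, hQ, hQq⟩ := exists_le_card_eq_prime hq ((hall_dvd_card_iff hE hq hqσ).2 hqM)
  obtain ⟨A, hA, hA2⟩ := exists_elem2_le hE hr
  obtain ⟨g, hg⟩ := huQ Q hQq
  have hrN : pRank r N ≤ 1 := by
    have h1 : r ∉ sig N := fun h1 =>
      not_betG_of_ta2 hMc hr (hsb r (ta2_subset_piOf M hr) h1).2
    have h2 := sigma'_pRank_le hN hr.1 h1
    by_contra h3
    exact hr.2.1 (h2s ⟨hr.1, h1, by omega⟩)
  have hAQ : ⁅A, Q⁆ ≠ ⊥ := by
    intro h1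
    have := le_pRank hr.1 ((comm_eq_bot_iff.1 h1).trans hg.le) hA2
    rw [pRank_conj hr.1] at this
    omega
  have hq1 : q ∈ ta1 M := by
    refine hq13.resolve_right fun h1 => hAQ (comm_eq_bot_iff.2 (cent_comm.1 ?_))
    obtain ⟨E₁, E₂, E₃, hS⟩ := exists_sigmaCompl hMc hE
    exact (le_of_hall_normal hS.hall3 (hS.context hMc).1.2.2 hQ
      (isPi_of_card_prime hq hQq h1)).trans
      (le_sup_left.trans (tau1_cent_tau2_factor hMc hS hr hA hA2).1)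
  obtain ⟨⟨h1, h2, -⟩, h3, h4, -⟩ := tau1_act_tau2 hMc hE hr hA hA2 hq1 hQ hQq
    (Ftype_cent_eq_bot hF hq13 (hQ.trans (hall_le hE)) hQq) hAQ
  have h6 : ⁅A, Q⁆ ≤ N := by
    rw [h2]
    exact inf_le_right.trans ((cent_le_cent1 hM.2).trans hu.le)
  obtain ⟨n, -, hn⟩ := conj_of_pRank_le_one hr.1 (M := N ^ᵍ g) (by rwa [pRank_conj hr.1])
    (inf_le_right.trans hg.le) h4 (conj_mono h6 g) (by rwa [card_conj])
  exact h3 ⟨n * g, by rw [← hn, conj_conj]⟩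

end Cfsg.Agent.FT
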