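/-
BG section 15, part 1: 15.1, 15.2.
-/
import Cfsg.Agent.FT.BG14

set_option autoImplicit false

namespace Cfsg.Agent.FT

open Subgroup Cfsg Cfsg.Agent
open scoped commutatorElement

universe u

variable {G : Type u} [Group G] [Finite G]

namespace BG15

open BG13

theorem semiReg_sup {K A B : Subgroup G} {π : Set ℕ} (hA : SemiReg K A) (hB : SemiReg K B)
    (h1 : IsPiSubgroup π A) (h2 : IsPiSubgroup πᶜ B) (hc : B ≤ 𝐂(A)) : SemiReg K (A ⊔ B) := by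
  have hh := hall_of_sup (π := πᶜ) (hc.trans (cent_le_norm A)) h2 (by rwa [compl_compl])
  refine semiReg_of_prime fun X hX hXp => ?_
  by_cases h : 𝐨(X) ∈ π
  · exact hA.cent_eq_bot (le_of_hall_normal hh.2 (sup_le (le_norm_self A) (hc.trans (cent_le_norm A)))
      hX (isPi_of_card_prime hXp rfl (by rwa [compl_compl]))) (ne_bot_of_card_prime hXp)
  · exact hB.cent_eq_bot (le_of_hall_normal hh.1 (sup_le ((cent_comm.1 hc).trans (cent_le_norm B))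
      (le_norm_self B)) hX (isPi_of_card_prime hXp rfl h)) (ne_bot_of_card_prime hXp)

theorem exists_reg_same_order {K U : Subgroup G} (hU : IsMulCommutative U)
    (h : ∀ p : ℕ, p.Prime → ∀ u ∈ U, IsPiElt {p} u →
      ∃ z ∈ U, orderOf z = orderOf u ∧ SemiReg K (zpowers z)) :
    ∀ u ∈ U, ∃ z ∈ U, orderOf z = orderOf u ∧ SemiReg K (zpowers z) := by
  intro u
  induction hn : orderOf u using Nat.strong_induction_on generalizing u with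
  | _ n ih =>
  intro hu
  by_cases h1 : u = 1
  · exact ⟨1, one_mem _, h1 ▸ hn, fun x hx hx1 => (hx1 (by simpa using hx)).elim⟩
  obtain ⟨p, hp, hd⟩ := Nat.exists_prime_and_dvd (orderOf_eq_one_iff.not.2 h1)
  have h2 := (commute_piPt {p} {p}ᶜ u).orderOf_mul_eq_mul_orderOf_of_coprime
    ((isPiElt_piPt _ u).coprime (isPiElt_piPt _ u))
  rw [piPt_mul_piPt_compl] at h2
  have h3 : 1 < orderOf (piPt {p} u) := lt_of_le_of_ne (orderOf_pos _) fun h3 =>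
    piPt_eq_one_iff.1 (orderOf_eq_one_iff.1 h3.symm) p hp hd rfl
  obtain ⟨a, ha, ha1, ha2⟩ := h p hp _ (piPt_mem hu _) (isPiElt_piPt _ u)
  obtain ⟨b, hb, hb1, hb2⟩ := ih _ (by
    rw [← hn, h2]; exact lt_mul_of_one_lt_left (orderOf_pos _) h3) _ rfl (piPt_mem hu {p}ᶜ)
  have h4 : IsPiElt {p} a := fun r hr h => isPiElt_piPt _ u r hr (ha1 ▸ h)
  have h5 : IsPiElt {p}ᶜ b := fun r hr h => isPiElt_piPt _ u r hr (hb1 ▸ h)
  have h6 := isMulComm_iff_le_cent.1 hU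
  have h7 : Commute a b := mem_cent.1 (h6 hb) a ha
  refine ⟨a * b, mul_mem ha hb, by
    rw [h7.orderOf_mul_eq_mul_orderOf_of_coprime (h4.coprime h5), ha1, hb1, ← h2, hn],
    (semiReg_sup ha2 hb2 (isPi_zpowers.2 h4) (isPi_zpowers.2 h5) ((zpowers_le.2 hb).trans
      (h6.trans (cent_anti (zpowers_le.2 ha))))).mono le_rfl (zpowers_le.2 (mul_mem
      (mem_sup_left (mem_zpowers a)) (mem_sup_right (mem_zpowers b))))⟩

section bar

variable {Y N K R : Subgroup G} [(N.subgroupOf Y).Normal]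

theorem bar_inf_cent1 (hK : K ≤ Y) (hn : R ≤ 𝐍(K)) (hc : 𝐨(R).Coprime 𝐨(K))
    {x : Y} (hx : (x : G) ∈ R) :
    H1.bar Y N K ⊓ 𝐂[H1.qmk Y N x] = H1.bar Y N (K ⊓ 𝐂[(x : G)]) := by
  rw [← cent_zpowers, ← cent_zpowers, ← H1.bar_zpowers]
  exact H1.bar_inf_centralizer_bar (zpowers_le.2 x.2) hK ((zpowers_le.2 hx).trans hn)
    (H1.coprime_of_le hc (zpowers_le.2 hx) le_rfl) (Or.inl inferInstance)

theorem semiReg_bar (hK : K ≤ Y) (hn : R ≤ 𝐍(K)) (hc : 𝐨(R).Coprime 𝐨(K))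
    (h : ∀ x ∈ R, x ≠ 1 → K ⊓ 𝐂[x] ≤ N) : SemiReg (H1.bar Y N K) (H1.bar Y N R) := by
  intro z hz hz1
  obtain ⟨x, hx, rfl⟩ := H1.mem_bar.1 hz
  rw [bar_inf_cent1 hK hn hc hx, H1.bar_eq_bot_iff (inf_le_left.trans hK)]
  exact h x hx fun h => hz1 (by rw [show x = 1 from Subtype.ext h, map_one])

theorem semiPrime_bar (hK : K ≤ Y) (hR : R ≤ Y) (hn : R ≤ 𝐍(K)) (hc : 𝐨(R).Coprime 𝐨(K))
    (hs : Group.IsSolvable R ∨ Group.IsSolvable K) (h : SemiPrime K R) :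
    SemiPrime (H1.bar Y N K) (H1.bar Y N R) := by
  intro z hz hz1
  obtain ⟨x, hx, rfl⟩ := H1.mem_bar.1 hz
  rw [bar_inf_cent1 hK hn hc hx, H1.bar_inf_centralizer_bar hR hK hn hc hs,
    h x hx fun h => hz1 (by rw [show x = 1 from Subtype.ext h, map_one])]

end bar

/-- Thompson's theorem for a section. -/
theorem nilMod_of_prime_reg {L V R : Subgroup G} (hL : L ≤ 𝐍(V)) (hRL : R ≤ 𝐍(L))
    (hRV : R ≤ 𝐍(V)) (hR : 𝐨(R).Prime) (hc : 𝐨(R).Coprime 𝐨(L)) (h : L ⊓ 𝐂(R) ≤ V) :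
    NilMod L V := by
  haveI := H1.normal_subgroupOf_of_le (le_refl 𝐍(V))
  by_cases h1 : R ≤ V
  · refine nilMod_of_le ((H1.commutator_sup_centralizer hRL hc (Or.inl
      (H1.isSolvable_of_isMulCommutative (isMulComm_of_isCyclic (isCyclic_of_card_prime hR))))).ge.trans
      (sup_le ((commutator_mono le_rfl h1).trans (comm_le_right_iff.2 hL)) h))
  rw [nilMod_iff_bar hL]
  refine nilpotent_of_prime_reg (R := H1.bar 𝐍(V) V R) (H1.bar_le_normalizer hRL) ?_ ?_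
  · rcases (Nat.dvd_prime hR).1 (H1.card_bar_dvd (Y := 𝐍(V)) (N := V) R) with h2 | h2
    · exact (h1 ((H1.bar_eq_bot_iff hRV).1 (card_eq_one.1 h2))).elim
    · rwa [h2]
  · rw [H1.bar_inf_centralizer_bar hRV hL hRL hc (Or.inl (H1.isSolvable_of_isMulCommutative
      (isMulComm_of_isCyclic (isCyclic_of_card_prime hR)))),
      H1.bar_eq_bot_iff (inf_le_left.trans hL)]
    exact h

theorem comm_le_of_nilMod {L V A B : Subgroup G} (h : NilMod L V) (hL : L ≤ 𝐍(V)) (hA : A ≤ L)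
    (hB : B ≤ L) (hc : 𝐨(A).Coprime 𝐨(B)) : ⁅A, B⁆ ≤ V := by
  haveI := H1.normal_subgroupOf_of_le hL
  exact (H1.bar_le_centralizer_iff hA hB).1 (le_cent_of_coprime_of_isNilpotent
    ((nilMod_iff_bar le_rfl).1 h) (H1.bar_mono hA) (H1.bar_mono hB) (H1.coprime_bar hc))

theorem exists_isElem_two {X : Subgroup G} (ho : Odd 𝐨(X)) (hn : Group.IsNilpotent X)
    (h : ¬ IsCyclic X) : ∃ p : ℕ, p.Prime ∧ ∃ A, A ≤ X ∧ IsElem p 2 A :=
  le_rank_iff'.1 (two_le_rank_of_not_isCyclic ho hn h)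

variable [MinOdd G] {M U K : Subgroup G}

theorem not_mem_kap_reg (hM : IsCoatom M) {X : Subgroup G} (hX : X ≤ M) (hXp : 𝐨(X).Prime)
    (h1 : 𝐨(X) ∈ ta1 M ∪ ta3 M) (h2 : 𝐨(X) ∉ kap M) : Ms M ⊓ 𝐂(X) = ⊥ :=
  by_contra fun h => h2 ⟨h1, X, hX, rfl, h⟩

theorem kappa_c (hM : IsCoatom M) (h : KappaCompl M U K) {X : Subgroup G} (hX : X ≤ U)
    (hX1 : X ≠ ⊥) (hC : Ms M ⊓ 𝐂(X) ≠ ⊥) :
    UniqMax 𝐂(X) M ∧ IsCyclic X ∧ IsPiSubgroup (ta2 M) X := by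
  obtain ⟨⟨y, hy⟩, hy1⟩ := (ne_bot_iff_exists_ne_one).1 hC
  have h1 : ∀ x ∈ X, x ≠ 1 → IsPiElt (ta2 M) x ∧ UniqMax 𝐂[x] M := fun x hx hx1 => by
    have h2 := isPiElt_of_mem h.hallU.2.1 (hX hx)
    rcases pi_of_cent_sigma hM hy.1 (fun h => hy1 (Subtype.ext h))
      (mem_inf.2 ⟨h.hallU.1 (hX hx), mem_cent1_comm.1 (cent_le_cent1 hx hy.2)⟩) hx1
      (h2.mono (Set.compl_subset_compl.2 Set.subset_union_left)) with h3 | h3
    · exact (hx1 (h3.1.eq_one (h2.mono (Set.compl_subset_compl.2 Set.subset_union_right)))).elim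
    · exact ⟨h3.1, h3.2.2⟩
  have h2 : IsPiSubgroup (ta2 M) X := isPi_iff_forall_elt.2 fun x hx => by
    by_cases hx1 : x = 1
    · exact hx1 ▸ isPiElt_one _
    · exact (h1 x hx hx1).1
  have hE := (h.context hM).1
  obtain ⟨E₂, h3, h4⟩ := exists_hall_ge (isSolvable_of_le_mmax hM hE.1) (hX.trans le_sup_left) h2
  have h5 : IsCyclic X := by_contra fun h5 => by
    obtain ⟨p, hp, A, hA, hA2⟩ := exists_isElem_two (odd_card X) (isNilpotent_of_isMulComm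
      (isMulComm_of_le h4 (tau2_compl_abelian hM hE h3))) h5
    exact hC (eq_bot_iff.2 ((tau2_context hM (h2 p hp ((hA2.prime_dvd two_ne_zero).trans
      (card_dvd_of_le hA))) (hA.trans (hX.trans h.hallU.1)) hA2).2.2.1 ▸
      inf_le_inf_left _ (cent_anti hA)))
  refine ⟨?_, h5, h2⟩
  obtain ⟨x, rfl⟩ := isCyclic_iff_zpowers.1 h5
  rw [cent_zpowers]
  exact (h1 x (mem_zpowers x) fun h => hX1 (by rw [h, zpowers_one_eq_bot])).2

theorem kappa_local (hM : IsCoatom M) (h : KappaCompl M U K) {p : ℕ} (hp : p.Prime) {u : G}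
    (hu : u ∈ U) (hπ : IsPiElt {p} u) : ∃ z ∈ U, orderOf z = orderOf u ∧ SemiReg (Ms M) (zpowers z) := by
  by_cases h1 : SemiReg (Ms M) (zpowers u)
  · exact ⟨u, hu, rfl, h1⟩
  obtain ⟨X, hX, hXp, h2⟩ : ∃ X ≤ zpowers u, 𝐨(X).Prime ∧ Ms M ⊓ 𝐂(X) ≠ ⊥ := by
    by_contra hc
    push Not at hc
    exact h1 (semiReg_of_prime hc)
  have hup := (isPiElt_singleton_iff hp).1 hπ
  obtain rfl := eq_of_prime_dvd_card_of_isPGroup hp hXp hup (card_dvd_of_le hX)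
  have hXU := hX.trans (zpowers_le.2 hu)
  obtain ⟨k1, -, k2⟩ := kappa_c hM h hXU (ne_bot_of_card_prime hXp) h2
  have ht := k2 _ hXp dvd_rfl
  obtain ⟨S, hS, h3⟩ := exists_isSyl_ge hp hup (zpowers_le.2 hu)
  have hSM := hS.trans_hall hp h.hallU (h.hallU.2.1 _ hp (card_dvd_of_le hXU))
  obtain ⟨A, hA, hA2⟩ := (le_pRank_iff hp).1 ht.2.2.ge
  obtain ⟨g, hg, hgM⟩ := SetLike.not_le_iff_exists.1
    ((tau2_context hM ht hA hA2).1 S hSM).2.1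
  have h4 : zpowers (g * u * g⁻¹) ≤ U := by
    rw [zpowers_conj]; exact (conj_le_of_mem_norm h3 hg).trans hS.le
  refine ⟨g * u * g⁻¹, zpowers_le.1 h4, (MulAut.conj g).orderOf_eq u,
    semiReg_of_prime fun Y hY hYp => by_contra fun h5 => hgM ?_⟩
  have h6 := (kappa_c hM h (hY.trans h4) (ne_bot_of_card_prime hYp) h5).1
  rw [zpowers_conj] at hY
  have h7 : Y = X ^ᵍ g := eq_of_card_prime_of_isCyclic hp
    ((isCyclic_map_iff (conj_injective g)).2 inferInstance) hY (conj_mono hX g)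
    (eq_of_prime_dvd_card_of_isPGroup hp hYp ((isPGroup_map_iff (conj_injective g)).2 hup)
      (card_dvd_of_le hY)) (card_conj X g)
  rw [h7, cent_conj] at h6
  exact k1.mem_of_conj_le h6.le

theorem isPtype_of_ne_bot (hM : IsCoatom M) (hK : IsPiHallOf (kap M) K M) (h : K ≠ ⊥) :
    IsPtype M := by
  obtain ⟨p, hp, hd⟩ := exists_prime_dvd_card h
  exact ⟨hM, p, hK.2.1 p hp hd⟩

theorem ne_bot_of_isPtype (hM : IsPtype M) (hK : IsPiHallOf (kap M) K M) : K ≠ ⊥ := by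
  obtain ⟨p, hp⟩ := hM.2
  exact ne_bot_of_prime_dvd (kap_subset hp).1
    ((hall_dvd_card_iff hK (kap_subset hp).1 hp).2 (kap_subset hp).2.1)

theorem der2_le_Ms (hM : IsCoatom M) : ⁅⁅M, M⁆, ⁅M, M⁆⁆ ≤ Ms M := by
  obtain ⟨E, hE, -⟩ := ex_sigma_compl hM bot_le (isPi_bot _)
  have h1 := (sdprod_sigma hM hE).der_le_sup
  have h2 : ⁅E, E⁆ ≤ 𝐍(Ms M) := (der_le E).trans (hE.1.trans (Ms_normal M).2)
  exact (commutator_mono h1 h1).trans (der_sup_le (le_norm_self _) h2 (der_le _)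
    (comm_le_left_iff.2 h2) ((isMulComm_iff_comm_eq_bot.1 (der_compl_abelian hM hE)).le.trans bot_le))

theorem sdprod_der (hM : IsPtype M) (hK : IsPiHallOf (kap M) K M) : SdProd ⁅M, M⁆ K M := by
  obtain ⟨_, -, -, -, -, -, -, -, -, -, h⟩ := Ptype_embedding hM hK
  exact h

theorem isCyclic_Z (hM : IsPtype M) (hK : IsPiHallOf (kap M) K M) :
    IsCyclic ↥(K ⊔ (Ms M ⊓ 𝐂(K))) := by
  obtain ⟨_, -, -, -, -, -, h, -⟩ := Ptype_embedding hM hK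
  exact h.1

end BG15

open BG13 BG15

variable [MinOdd G]

/-- BG 15.1. -/
theorem kappa_structure {M U K : Subgroup G} (hM : IsCoatom M) (h : KappaCompl M U K) :
    (IsCyclic K ∧ ⁅⁅M, M⁆, ⁅M, M⁆⁆ ≤ Ms M) ∧
      (K ≠ ⊥ → SdProd (Ms M) U ⁅M, M⁆ ∧ IsMulCommutative U) ∧
      (∀ X : Subgroup G, X ≤ U → X ≠ ⊥ → Ms M ⊓ 𝐂(X) ≠ ⊥ →
        UniqMax 𝐂(X) M ∧ IsCyclic X ∧ IsPiSubgroup (ta2 M) X) ∧
      IsMulCommutative ↥(⨆ x ∈ sharp (Ms M), U ⊓ 𝐂[x]) ∧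
      (U ≠ ⊥ → ∃ U₀ : Subgroup G, U₀ ≤ U ∧ Monoid.exponent U₀ = Monoid.exponent U ∧
        Frob (Ms M) U₀) := by
  obtain ⟨hE, -, k1, k2, -, -, k3⟩ := h.context hM
  by_cases hK : K = ⊥
  · subst hK
    rw [sup_bot_eq] at hE
    have hF := ((h.eq_bot_iff hM).1.1 rfl).2
    obtain ⟨⟨A, -, hA, hA1⟩, h1⟩ := typeF_complement hM hE fun e he he1 hπ => by
      obtain ⟨X, hX, hXp⟩ := exists_le_card_prime (H := zpowers e) (by simpa using he1)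
      exact eq_bot_iff.2 (not_mem_kap_reg hM (hX.trans ((zpowers_le.2 he).trans hE.1)) hXp
        (isPi_zpowers.2 hπ _ hXp (card_dvd_of_le hX)) (by simp [hF]) ▸
        inf_le_inf_left _ ((cent_zpowers e).ge.trans (cent_anti hX)))
    exact ⟨⟨inferInstance, der2_le_Ms hM⟩, fun h => (h rfl).elim, fun X => kappa_c hM h,
      isMulComm_of_le (iSup₂_le fun x hx => hA1 x hx.1 hx.2) hA, fun _ => h1⟩
  have hP := isPtype_of_ne_bot hM h.hallK hK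
  have hc : IsCyclic K := isCyclic_of_le le_sup_left (isCyclic_Z hP h.hallK)
  have hU := k3 hK
  refine ⟨⟨hc, der2_le_Ms hM⟩, fun _ => ⟨?_, hU⟩, fun X => kappa_c hM h,
    isMulComm_of_le (iSup₂_le fun x _ => inf_le_left) hU, fun hU1 => ?_⟩
  · rwa [H1.eq_of_le_of_card_le (k2.der_le_sup.trans (sup_le le_rfl
      ((isMulComm_iff_comm_eq_bot.1 (isMulComm_of_isCyclic hc)).le.trans bot_le)))
      (Nat.eq_of_mul_eq_mul_right (Nat.pos_of_ne_zero (card_ne_zero K))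
        (k2.card.symm.trans (sdprod_der hP h.hallK).card)).le]
  · obtain ⟨u, hu⟩ : ∃ u : U, orderOf u = Monoid.exponent U := by
      letI : CommGroup U := { mul_comm := fun a b => mul_comm' a b }
      exact Monoid.exists_orderOf_eq_exponent Monoid.ExponentExists.of_finite
    obtain ⟨z, hz, h1, h2⟩ := exists_reg_same_order hU
      (fun p hp u hu => kappa_local hM h hp hu) u u.2
    have h3 : Monoid.exponent (zpowers z) = Monoid.exponent U := by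
      rw [IsCyclic.exponent_eq_card, Nat.card_zpowers, h1, orderOf_coe, hu]
    refine ⟨zpowers z, zpowers_le.2 hz, h3, Ms_ne_bot hM, fun h4 => hU1 ?_,
      (zpowers_le.2 hz).trans k1.norm, h2⟩
    rw [h4, Monoid.exp_eq_one_of_subsingleton, eq_comm, Monoid.exp_eq_one_iff] at h3
    exact eq_bot_of_subsingleton U

namespace BG15

theorem MF_le_Ms {M : Subgroup G} (hM : IsCoatom M) : MF M ≤ Ms M :=
  le_Ms hM (MF_le M) fun p hp hd => by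
    have h1 := isSyl_pCoreOf_of_dvd_MF hp hd
    have h2 := hd.trans (card_dvd_of_le (MF_le M))
    exact ⟨hp, h2, _, h1, (mmax_normal hM (pCoreOf_normal p M) (h1.ne_bot hp h2)).le⟩

end BG15

theorem Fcore_eq_Ms_iff {M : Subgroup G} (hM : IsCoatom M) :
    MF M = Ms M ↔ Group.IsNilpotent (Ms M) :=
  ⟨fun h => h ▸ isNilpotent_MF M, fun h => le_antisymm (MF_le_Ms hM)
    (le_MF (Ms_normal M) h (hall_isHallIn (Ms_hall hM).1))⟩

namespace BG15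

/-- The part of 15.2 that does not mention `D`. -/
theorem Fcore_first {M K : Subgroup G} (hM : IsCoatom M) (hn : ¬ Group.IsNilpotent (Ms M))
    (hK : IsPiHallOf (kap M) K M) :
    IsP1type M ∧ SdProd (Ms M) K M ∧ Ms M = ⁅M, M⁆ ∧ SemiPrime (Ms M) K ∧
      𝐨(Ms M ⊓ 𝐂(K)).Prime ∧ Ms M ⊓ 𝐂(K) ≤ pCoreOf 𝐨(Ms M ⊓ 𝐂(K)) M ∧
      NilMod (Ms M) (pCoreOf 𝐨(Ms M ⊓ 𝐂(K)) M) ∧
      IsSyl 𝐨(Ms M ⊓ 𝐂(K)) (pCoreOf 𝐨(Ms M ⊓ 𝐂(K)) M) M := by
  have hP1 : IsP1type M := by_contra fun h => hn (notP1type_Ms_nil hM h)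
  obtain ⟨U, hU⟩ := ex_kappa_compl hM hK
  obtain ⟨-, -, -, k1, k2, -⟩ := hU.context hM
  rw [(hU.eq_bot_iff hM).2.1.2 hP1, sup_bot_eq] at k1
  have k3 : Ms M = ⁅M, M⁆ := H1.eq_of_le_of_card_le (Ms_le_der hM)
    (Nat.eq_of_mul_eq_mul_right (Nat.pos_of_ne_zero (card_ne_zero K))
      ((sdprod_der hP1.1 hK).card.symm.trans k1.card)).le
  have hc : 𝐨(K).Coprime 𝐨(Ms M) := coprime_Ms (isPi_mono (kap_subset_compl M) hK.2.1) le_rfl
  have hq : 𝐨(Ms M ⊓ 𝐂(K)).Prime := by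
    obtain ⟨_, -, -, -, -, -, -, -, h, -⟩ := Ptype_embedding hP1.1 hK
    exact (h.resolve_left fun h => h.1.2 hP1.2).2
  set q := 𝐨(Ms M ⊓ 𝐂(K))
  have k4 : Ms M ⊓ 𝐂(K) ≤ fittingOf (Ms M) := (inf_eq_bot_or_le_of_card_prime hq _).resolve_left
    fun h => hn (isNilpotent_of_le ((coprime_der_sdprod k1 hc.symm (isSolvable_of_le_mmax hM
      (Ms_le M)) k3.le).1.ge.trans (odd_primact_comm_le_fitting (k1.sup.symm ▸ mmax_isSolvable hM)
      (odd_card _) k1.norm hc.symm k2 (eq_bot_iff.2 (h ▸ le_inf (inf_le_inf_right _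
        (H2.fittingOf_le _)) inf_le_left)))) inferInstance)
  have k5 : Ms M ⊓ 𝐂(K) ≤ pCoreOf q M := H2.le_pCoreOf_of_le_fittingOf
    (isPGroup_of_card_prime rfl) (k4.trans (fittingOf_le_of_normal (Ms_normal M)))
  obtain ⟨R, hR, hRp⟩ := exists_le_card_prime (ne_bot_of_isPtype hP1.1 hK)
  have hQ := pCoreOf_normal q M
  have k6 : NilMod (Ms M) (pCoreOf q M) := nilMod_of_prime_reg ((Ms_le M).trans hQ.2)
    (hR.trans k1.norm) (hR.trans (hK.1.trans hQ.2)) hRp (H1.coprime_of_le hc hR le_rfl)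
    ((k2.cent_eq hR (ne_bot_of_card_prime hRp)).le.trans k5)
  have hqs : q ∈ sig M := isPi_Ms M q hq (card_dvd_of_le inf_le_left)
  have k7 := hall_piCoreOf_of_nilMod (normal_of_le hQ (le_Ms hM hQ.1 (isPi_of_isPGroup hq
    (H2.isPGroup_pCoreOf q M) hqs)) (Ms_le M)) k6 ((isPi_singleton_iff hq).2 (H2.isPGroup_pCoreOf q M))
  have k8 := ((isSyl_iff_hall hq).2 k7).trans_hall hq (Ms_hall hM).1 hqs
  refine ⟨hP1, k1, k3, k2, hq, k5, k6, ?_⟩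
  rwa [k8.pCoreOf_eq hq ((Ms_normal M).2.trans (norm_le_norm_piCoreOf _ _))]

theorem Fcore_second {M K Q D : Subgroup G} (hM : IsCoatom M) (hn : ¬ Group.IsNilpotent (Ms M))
    (hπ : IsPiSubgroup (sig M)ᶜ K) (hK1 : K ≠ ⊥) (h1 : SdProd (Ms M) K M)
    (h2 : SemiPrime (Ms M) K) (hq : 𝐨(Ms M ⊓ 𝐂(K)).Prime) (h3 : Ms M ⊓ 𝐂(K) ≤ Q)
    (h4 : NilMod (Ms M) Q) (hQ : Q ⊲ M) (hS : IsSyl 𝐨(Ms M ⊓ 𝐂(K)) Q M)
    (hD : SdProd Q D (Ms M)) (hKD : K ≤ 𝐍(D)) :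
    𝐨(K).Prime ∧ ¬ D ≤ 𝐂(Q) ∧ ⁅Ms M, Ms M⁆ ≤ fittingOf M ∧ fittingOf M = Q ⊔ (M ⊓ 𝐂(Q)) ∧
      fittingOf M ≤ Ms M ∧ Group.IsNilpotent D ∧ ChiefFactor M (Q ⊓ 𝐂(D)) Q ∧
      (Q ⊓ 𝐂(D)).relIndex Q = 𝐨(Ms M ⊓ 𝐂(K)) ^ 𝐨(K) ∧
      fittingOf M = M ⊓ centMod Q (Q ⊓ 𝐂(D)) ∧
      fittingOf M = Ms M ⊓ centMod (Ms M ⊓ 𝐂(K)) (Q ⊓ 𝐂(D)) := by
  set q := 𝐨(Ms M ⊓ 𝐂(K))
  have hsM := mmax_isSolvable hM
  have hDs := hD.le_right
  have hQs := hD.le_left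
  have hDM := hDs.trans (Ms_le M)
  have hKM := h1.le_right
  have hQn := isNilpotent_of_isPGroup hq hS.pgrp
  have hDn : Group.IsNilpotent D :=
    (h4.mono hDs le_rfl).isNilpotent_of_disj hD.disj
  have hDQ : 𝐨(D).Coprime 𝐨(Q) := by
    haveI := Fact.mk hq
    refine H1.coprime_card_of_isPGroup hS.pgrp (hq.coprime_iff_not_dvd.2 ?_).symm
    rw [← hD.relIndex_left]
    exact (hS.of_le hQs (Ms_le M)).ndvd
  have hDc : ¬ D ≤ 𝐂(Q) := fun h => hn ((DProd.mk hD.sup h hD.disj).isNilpotent hQn hDn)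
  have hsup : Q ⊔ D ⊔ K = M := by rw [hD.sup, h1.sup]
  have key : ∀ U V : Subgroup G, U ≤ Q → U ≤ 𝐍(V) → D ≤ 𝐍(U) → D ≤ 𝐍(V) → K ≤ 𝐍(U) → K ≤ 𝐍(V) →
      U ⊓ (Ms M ⊓ 𝐂(K)) ≤ V → U ≤ V ⊔ Q ⊓ 𝐂(D) := by
    intro U V hU hUV hDU hDV hKU hKV h
    obtain ⟨R, hR, hRp⟩ := exists_le_card_prime hK1
    have h5 : U ⊔ D ≤ Ms M := sup_le (hU.trans hQs) hDs
    have h6 := comm_le_of_nilMod (nilMod_of_prime_reg (sup_le hUV hDV) (hR.trans
      (H1.le_normalizer_sup hKU hKD)) (hR.trans hKV) hRp (coprime_Ms (isPi_of_le hR hπ) h5) (by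
        have h6 := (inf_le_inf_right _ h5).trans (h2.cent_eq hR (ne_bot_of_card_prime hRp)).le
        refine le_trans (le_inf ?_ h6) h
        have h7 := sup_inf_of_le_left hDU hU
        rw [inf_comm D, hD.disj, sup_bot_eq] at h7
        exact (le_inf inf_le_left (h6.trans h3)).trans h7.le)) (sup_le hUV hDV) le_sup_left
      le_sup_right (H1.coprime_of_le hDQ le_rfl hU).symm
    exact (H1.commutator_sup_centralizer hDU (H1.coprime_of_le hDQ le_rfl hU)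
      (Or.inl (H1.isSolvable_of_le hDM hsM))).ge.trans (sup_le_sup h6 (inf_le_inf_right _ hU))
  set Q₀ := Q ⊓ 𝐂(D) with hQ₀
  have hDQ0 : D ≤ 𝐍(Q₀) := (cent_comm.1 inf_le_right).trans (cent_le_norm _)
  have hKQ0 : K ≤ 𝐍(Q₀) :=
    H1.le_normalizer_inf (hKM.trans hQ.2) (H1.le_normalizer_centralizer hKD)
  have hlt : Q₀ < Q := lt_of_le_of_ne inf_le_left fun h => hDc (cent_comm.1 (h.ge.trans inf_le_right))
  have nrm : ∀ A V : Subgroup G, A ≤ M → A ≤ 𝐍(V) → A ≤ 𝐍(Q ⊓ 𝐍(V)) := fun A V hA h =>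
    H1.le_normalizer_inf (hA.trans hQ.2) (H1.le_normalizer_normalizer h)
  have h5 : ¬ (Q ⊓ 𝐍(Q₀)) ⊓ (Ms M ⊓ 𝐂(K)) ≤ Q₀ := fun h => (lt_inf_norm_of_isNilpotent hQn hlt).not_ge
    ((key _ _ inf_le_left inf_le_right (nrm D _ hDM hDQ0) hDQ0 (nrm K _ hKM hKQ0) hKQ0 h).trans
      (sup_idem _).le)
  have h6 : ¬ Ms M ⊓ 𝐂(K) ≤ Q₀ := fun h => h5 (inf_le_right.trans h)
  have h7 : Ms M ⊓ 𝐂(K) ≤ Q ⊓ 𝐍(Q₀) := (inf_eq_bot_or_le_of_card_prime hq _).resolve_left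
    fun h => h5 (by rw [inf_comm, h]; exact bot_le)
  have h8 : Q ≤ 𝐍(Q₀) := by_contra fun h => by
    have h8 : Q ⊓ 𝐍(Q₀) < Q := lt_of_le_of_ne inf_le_left fun h' => h (h'.ge.trans inf_le_right)
    exact (lt_inf_norm_of_isNilpotent hQn h8).not_ge ((key _ _ inf_le_left inf_le_right
      (nrm D _ hDM (nrm D _ hDM hDQ0)) (nrm D _ hDM hDQ0) (nrm K _ hKM (nrm K _ hKM hKQ0))
      (nrm K _ hKM hKQ0) (inf_le_right.trans h7)).trans
      (sup_le le_rfl (le_inf inf_le_left (le_norm_self _))))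
  have hM0 : M ≤ 𝐍(Q₀) := hsup ▸ sup_le (sup_le h8 hDQ0) hKQ0
  have hch : ChiefFactor M Q₀ Q := ⟨hlt, hQ.1, hM0, hQ.2, fun W h9 h10 h11 => by
    rcases inf_eq_bot_or_le_of_card_prime hq W with h | h
    · exact Or.inl (le_antisymm ((key W ⊥ h10 (by rw [norm_bot]; exact le_top) (hDM.trans h11)
        (by rw [norm_bot]; exact le_top) (hKM.trans h11) (by rw [norm_bot]; exact le_top)
        (by rw [inf_comm, h])).trans (bot_sup_eq _).le) h9)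
    · exact Or.inr (le_antisymm h10 ((key Q W le_rfl (hQ.1.trans h11) (hDM.trans hQ.2)
        (hDM.trans h11) (hKM.trans hQ.2) (hKM.trans h11) (inf_le_right.trans h)).trans
        (sup_le le_rfl h9)))⟩
  haveI := H1.normal_subgroupOf_of_le hM0
  have hKQ : 𝐨(K).Coprime 𝐨(Q) := coprime_Ms hπ hQs
  have hKb : 𝐨(H1.bar M Q₀ K) = 𝐨(K) := by
    rw [H1.card_bar hKM, ← H1.card_inf_mul_relIndex Q₀ K, inf_comm,
      H1.inf_eq_bot_of_coprime' (H1.coprime_of_le hKQ le_rfl inf_le_left), card_bot, one_mul]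
  have hD1 : D ⊓ 𝐂(K) = ⊥ := eq_bot_iff.2 (hD.disj ▸ le_inf ((inf_le_inf_right _ hDs).trans h3)
    inf_le_left)
  have hfr : Frob (H1.bar M Q₀ D) (H1.bar M Q₀ K) := ⟨fun h => hDc (by
      have := (H1.bar_eq_bot_iff hDM).1 h
      rw [← inf_eq_right.2 (this.trans inf_le_left), hD.disj]; exact bot_le),
    fun h => hK1 (by rwa [h, card_bot, eq_comm, card_eq_one] at hKb), H1.bar_le_normalizer hKD,
    semiReg_bar hDM hKD (coprime_Ms hπ hDs) fun x hx hx1 => by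
      rw [(h2.mono hDs le_rfl) x hx hx1, hD1]; exact bot_le⟩
  have hsK := H1.isSolvable_of_le hKM hsM
  have hDK : D ⊔ K ≤ M := sup_le hDM hKM
  obtain ⟨k1, k2, k3⟩ := hfr.primact (M := H1.bar M Q₀ Q) (by
      rw [← H1.bar_sup hDM hKM]; exact H1.isSolvable_bar (H1.isSolvable_of_le hDK hsM))
    (by rw [← H1.bar_sup hDM hKM]; exact (odd_card _).of_dvd_nat (H1.card_bar_dvd _))
    (fun h => hlt.not_ge ((H1.bar_eq_bot_iff hQ.1).1 h)) (H1.isNilpotent_bar hQ.1 hQn)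
    (H1.bar_le_normalizer (hDM.trans hQ.2)) (H1.bar_le_normalizer (hKM.trans hQ.2)) (by
      rw [← H1.bar_sup hDM hKM, sup_comm]
      exact H1.coprime_bar (Nat.Coprime.coprime_dvd_right (H1.card_sup_dvd hKD)
        (hKQ.symm.mul_right hDQ.symm)))
    (by rw [H1.bar_inf_centralizer_bar hDM hQ.1 (hDM.trans hQ.2) hDQ
      (Or.inl (H1.isSolvable_of_le hDM hsM)), H1.bar_self])
    (semiPrime_bar hQ.1 hKM (hKM.trans hQ.2) hKQ (Or.inl hsK) (h2.mono hQs le_rfl))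
  have h9 : Q ⊓ 𝐂(K) = Ms M ⊓ 𝐂(K) := le_antisymm (inf_le_inf_right _ hQs) (le_inf h3 inf_le_right)
  have h10 : 𝐨(H1.bar M Q₀ Q ⊓ 𝐂(H1.bar M Q₀ K)) = q := by
    rw [H1.bar_inf_centralizer_bar hKM hQ.1 (hKM.trans hQ.2) hKQ (Or.inl hsK), h9]
    refine ((Nat.dvd_prime hq).1 (H1.card_bar_dvd _)).resolve_left fun h => h6 ?_
    exact (H1.bar_eq_bot_iff (h3.trans hQ.1)).1 (card_eq_one.1 h)
  rw [hKb] at k1
  rw [h10, hKb, H1.card_bar hQ.1] at k2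
  have k4 : ⁅D, D⁆ ≤ centMod Q Q₀ := le_centMod_iff.2 ⟨(der_le D).trans hDQ0, by
    have := k3 (isCyclic_of_card_prime (h10 ▸ hq))
    rw [← H1.bar_commutator hDM hDM, H1.bar_le_centralizer_iff ((der_le D).trans hDM) hQ.1] at this
    rwa [commutator_comm]⟩
  obtain ⟨_, -, k5, -⟩ := chief_elem hsM hch
  have k6 : Q ≤ M ⊓ centMod Q Q₀ := le_inf hQ.1 (le_centMod_iff.2 ⟨h8, k5⟩)
  have hC : M ⊓ centMod Q Q₀ ⊲ M := ⟨inf_le_left, H1.le_normalizer_inf (le_norm_self M)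
    (norm_le_norm_centMod hQ.2 hM0)⟩
  have k7 : M ⊓ centMod Q Q₀ ≤ Ms M := by
    have h11 := hall_inf_normal (h1.hall (isPi_Ms M) hπ).2 hC
    refine le_Ms hM inf_le_left (by
      have := (hall_eq_bot_iff h11).1 (by_contra fun h => ?_)
      · rwa [compl_compl] at this
      have h12 : K ≤ centMod Q Q₀ := ((inf_eq_bot_or_le_of_card_prime k1 _).resolve_left h).trans
        inf_le_right
      have h13 := (H1.bar_le_centralizer_iff (N := Q₀) hQ.1 hKM).2 (le_centMod_iff.1 h12).2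
      rw [inf_eq_left.2 h13, H1.card_bar hQ.1, k2] at h10
      exact k1.one_lt.ne' (Nat.pow_right_injective hq.two_le (h10.trans (pow_one q).symm)))
  have k8 : Q ⊔ D ⊓ (M ⊓ centMod Q Q₀) = M ⊓ centMod Q Q₀ := by
    rw [← sup_inf_of_le_left hD.norm k6, hD.sup, inf_eq_right.2 k7]
  have k9 : D ⊓ (M ⊓ centMod Q Q₀) ≤ 𝐂(Q) := H1.le_centralizer_of_commutator_le
    (inf_le_left.trans hD.norm) (H1.coprime_of_le hDQ inf_le_left le_rfl)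
    (le_centMod_iff.1 (inf_le_right.trans inf_le_right)).2
    (inf_le_left.trans (cent_comm.1 inf_le_right))
  have k10 : fittingOf M = M ⊓ centMod Q Q₀ := le_antisymm (le_inf (H2.fittingOf_le M)
    (le_centMod_iff.2 ⟨(H2.fittingOf_le M).trans hM0,
      fitting_le_centMod_chief ⟨le_rfl, le_norm_self M⟩ hch⟩))
    (le_fittingOf hC ((DProd.mk k8 k9 (eq_bot_iff.2 (hD.disj ▸ inf_le_inf_left _
      inf_le_left))).isNilpotent hQn (isNilpotent_of_le inf_le_left hDn)))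
  have k11 : ⁅Ms M, Ms M⁆ ≤ M ⊓ centMod Q Q₀ := hD.der_le_sup.trans
    (sup_le k6 (le_inf ((der_le D).trans hDM) k4))
  refine ⟨k1, hDc, k10 ▸ k11, ?_, k10 ▸ k7, hDn, hch, k2, k10, ?_⟩
  · rw [k10]
    refine le_antisymm (k8.ge.trans (sup_le_sup_left (le_inf (inf_le_left.trans hDM) k9) _))
      (sup_le k6 (le_inf inf_le_left (le_centMod_iff.2 ⟨inf_le_left.trans hM0, ?_⟩)))
    rw [comm_eq_bot_iff.2 (cent_comm.1 inf_le_right)]
    exact bot_le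
  have k12 : M ⊓ centMod Q Q₀ ≤ Ms M ⊓ centMod (Ms M ⊓ 𝐂(K)) Q₀ := le_inf k7 (le_centMod_iff.2
    ⟨inf_le_left.trans hM0, (commutator_mono h3 inf_le_right).trans (le_centMod_iff.1 le_rfl).2⟩)
  rw [k10]
  refine le_antisymm k12 ?_
  set C := Ms M ⊓ centMod (Ms M ⊓ 𝐂(K)) Q₀
  have hCM : C ≤ M := inf_le_left.trans (Ms_le M)
  have k13 : M ≤ 𝐍(C) := h1.sup ▸ sup_le (le_norm_of_der_le (k11.trans k12) inf_le_left)
    (H1.le_normalizer_inf h1.norm (norm_le_norm_centMod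
      ((cent_comm.1 inf_le_right).trans (cent_le_norm _)) hKQ0))
  have k14 : ⁅C, Ms M ⊓ 𝐂(K)⁆ ≤ Q₀ := by
    rw [commutator_comm]; exact (le_centMod_iff.1 (inf_le_right : C ≤ _)).2
  have k15 := (hch.min (Q ⊓ centMod C Q₀) (le_inf inf_le_left (le_centMod_iff.2
    ⟨le_norm_self _, comm_le_right_iff.2 (hCM.trans hM0)⟩)) inf_le_left
    (H1.le_normalizer_inf hQ.2 (norm_le_norm_centMod k13 hM0))).resolve_left fun h => h6
      (h ▸ le_inf h3 (le_centMod_iff.2 ⟨h3.trans h8, k14⟩))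
  refine le_inf hCM (le_centMod_iff.2 ⟨hCM.trans hM0, ?_⟩)
  rw [commutator_comm]
  exact (le_centMod_iff.1 (k15.ge.trans inf_le_right)).2

end BG15

/-- BG 15.2, second part. -/
theorem Fcore_structure {M K : Subgroup G} (hM : IsCoatom M) (hne : MF M ≠ Ms M)
    (hK : IsPiHallOf (kap M) K M) :
    IsP1type M ∧ SdProd (Ms M) K M ∧ Ms M = ⁅M, M⁆ ∧ 𝐨(K).Prime ∧
      ∃ q : ℕ, q.Prime ∧ 𝐨(Ms M ⊓ 𝐂(K)) = q ∧ q ∈ piOf (MF M) ∧ q ∈ bet M ∧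
        IsSyl q (pCoreOf q M) M ∧ Ms M ⊓ 𝐂(K) ≤ pCoreOf q M ∧
        (⁅Ms M, Ms M⁆ ≤ fittingOf M ∧ fittingOf M = pCoreOf q M ⊔ (M ⊓ 𝐂(pCoreOf q M)) ∧
          fittingOf M < Ms M) ∧
        ∀ D : Subgroup G, SdProd (pCoreOf q M) D (Ms M) → K ≤ 𝐍(D) →
          Group.IsNilpotent D ∧ ChiefFactor M (pCoreOf q M ⊓ 𝐂(D)) (pCoreOf q M) ∧
          (pCoreOf q M ⊓ 𝐂(D)).relIndex (pCoreOf q M) = q ^ 𝐨(K) ∧
          fittingOf M = M ⊓ centMod (pCoreOf q M) (pCoreOf q M ⊓ 𝐂(D)) ∧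
          fittingOf M = Ms M ⊓ centMod (Ms M ⊓ 𝐂(K)) (pCoreOf q M ⊓ 𝐂(D)) := by
  have hn : ¬ Group.IsNilpotent (Ms M) := fun h => hne ((Fcore_eq_Ms_iff hM).2 h)
  obtain ⟨k1, k2, k3, k4, hq, k5, k6, k7⟩ := Fcore_first hM hn hK
  have hπ := isPi_mono (kap_subset_compl M) hK.2.1
  have hQ := pCoreOf_normal 𝐨(Ms M ⊓ 𝐂(K)) M
  have h2 := fun D => Fcore_second (D := D) hM hn hπ (ne_bot_of_isPtype k1.1 hK) k2 k4 hq k5 k6 hQ k7
  set q := 𝐨(Ms M ⊓ 𝐂(K))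
  have hqs : q ∈ sig M := isPi_Ms M q hq (card_dvd_of_le inf_le_left)
  have hS : IsSyl q (pCoreOf q M) (Ms M) :=
    k7.of_le (le_Ms hM hQ.1 (isPi_of_isPGroup hq k7.pgrp hqs)) (Ms_le M)
  obtain ⟨D, hD, hKD⟩ := H1.exists_invariant_isPiHallOf k2.norm (coprime_Ms hπ le_rfl)
    (isSolvable_of_le_mmax hM (Ms_le M)) {q}ᶜ
  obtain ⟨l1, l2, l3, l4, l5, -⟩ := h2 D (sdProd_of_hall ((isSyl_iff_hall hq).1 hS) hD
    ((Ms_le M).trans hQ.2)) hKD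
  refine ⟨k1, k2, k3, l1, q, hq, rfl, ⟨hq, card_dvd_of_le (k5.trans (k7.le_MF hq hQ.2))⟩,
    by_contra fun h => l2 ((beta_max_pdiv hM hq h).2.1.le_cent hq hS.pgrp hS.le hD.1
      ((isPi_compl_singleton_iff' hq).1 hD.2.1) (hD.1.trans ((Ms_le M).trans hQ.2))), k7, k5,
    ⟨l3, l4, lt_of_le_of_ne l5 fun h => hn (h ▸ inferInstance)⟩,
    fun D h3 h4 => (h2 D h3 h4).2.2.2.2.2⟩

/-- BG 15.2, first part. -/
theorem Fcore_basic {M : Subgroup G} (hM : IsCoatom M) :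
    MF M ≠ ⊥ ∧ MF M ≤ Ms M ∧ Ms M ≤ ⁅M, M⁆ ∧ ⁅M, M⁆ < M := by
  refine ⟨?_, MF_le_Ms hM, Ms_le_der hM,
    H1.commutator_lt_of_isSolvable (mmax_isSolvable hM) (mmax_ne_bot hM)⟩
  by_cases h : MF M = Ms M
  · exact h ▸ Ms_ne_bot hM
  obtain ⟨K, hK⟩ := exists_hall (mmax_isSolvable hM) (kap M)
  obtain ⟨-, -, -, -, q, hq, -, h1, -⟩ := Fcore_structure hM h hK
  exact ne_bot_of_prime_dvd hq h1.2

end Cfsg.Agent.FT
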