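/-
BG section 15, part 2: 15.3 - 15.9.
-/
import Cfsg.Agent.FT.P.BG15_1
import Cfsg.Agent.H3.PBasic

set_option autoImplicit false

namespace Cfsg.Agent.FT

open Subgroup Cfsg Cfsg.Agent
open scoped commutatorElement

universe u

variable {G : Type u} [Group G] [Finite G]

namespace BG15

theorem isExtraspecial_of_card_cube {p : ℕ} (hp : p.Prime) {P : Subgroup G} (h : 𝐨(P) = p ^ 3)
    (he : ∀ x ∈ P, x ^ p = 1) (hna : ¬ IsMulCommutative P) (hZ : 𝐨(𝐙(P)) = p) :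
    IsExtraspecial p P := by
  haveI := Fact.mk hp
  have hP := isPGroup_of_card_eq h
  have h1 : ⁅P, P⁆ ≤ 𝐙(P) := by
    haveI := H1.normal_subgroupOf_of_le (center_normal P).2
    refine (H1.isMulCommutative_bar_iff (Y := P) le_rfl).1
      (IsPGroup.isMulCommutative_of_card_eq_prime_sq (p := p) ?_)
    have h1 := H1.card_mul_relIndex (center_normal P).1
    rw [hZ, h, pow_succ'] at h1
    rw [H1.card_bar le_rfl, Nat.eq_of_mul_eq_mul_left hp.pos h1]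
  have h2 : ⁅P, P⁆ = 𝐙(P) := (eq_bot_or_eq_of_card_prime (hZ ▸ hp) h1).resolve_left
    fun h => hna (isMulComm_iff_comm_eq_bot.2 h)
  refine ⟨⟨hP, map_injective P.subtype_injective ?_, map_injective P.subtype_injective ?_⟩, ?_⟩
  · rw [map_subtype_center]
    exact le_antisymm (H1.frattiniOf_le hp h1 fun x hx => by rw [he x hx]; exact one_mem _)
      (h2 ▸ H1.commutator_le_frattiniOf (isNilpotent_of_isPGroup hp hP))
  · rw [map_subtype_center, map_subtype_der, h2]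
  · rw [← hZ, ← map_subtype_center, H2.card_map_subtype]

end BG15

open BG13 BG15

variable [MinOdd G]

/-- BG 15.3(a). -/
theorem cent_hall_sigma_tau2 {M H : Subgroup G} (hM : IsCoatom M) (hH : IsHallIn H (Ms M))
    (hH1 : H ≠ ⊥) :
    ∃ X : Subgroup G, IsCyclic X ∧ IsPiSubgroup (ta2 M) X ∧
      SdProd (Ms M ⊓ 𝐂(H)) X (M ⊓ 𝐂(H)) := by
  obtain ⟨X, hX⟩ := exists_hall (isSolvable_of_le_mmax hM (inf_le_left (b := 𝐂(H)))) (sig M)ᶜ
  have h1 := hall_inf_of_hall_normal (Ms_hall hM).1 (Ms_normal M).2 (inf_le_left (b := 𝐂(H)))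
  rw [← inf_assoc, inf_eq_left.2 (Ms_le M)] at h1
  have hXM := hX.1.trans inf_le_left
  have hHX := cent_comm.1 (hX.1.trans inf_le_right)
  suffices h : IsCyclic X ∧ IsPiSubgroup (ta2 M) X from ⟨X, h.1, h.2, sdProd_of_hall h1 hX
    (norm_Ms_inf_cent inf_le_left (inf_le_right.trans (cent_le_norm H)))⟩
  by_cases hX1 : X = ⊥
  · exact hX1 ▸ ⟨inferInstance, isPi_bot _⟩
  have h2 : IsPiSubgroup (sig M ∪ kap M)ᶜ X := fun p hp hd h => h.elim (hX.2.1 p hp hd) fun h => by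
    obtain ⟨P, hP, hPp⟩ := exists_le_card_eq_prime hp hd
    obtain ⟨K, hK, hPK⟩ := exists_hall_ge (mmax_isSolvable hM) (hP.trans hXM)
      (isPi_of_card_prime hp hPp h)
    obtain ⟨U, hU⟩ := ex_kappa_compl hM hK
    have h3 : H ≤ Ms M ⊓ 𝐂(K) := (le_inf hH.1 (hHX.trans (cent_anti hP))).trans
      ((hU.context hM).2.2.2.2.1.cent_eq hPK (ne_bot_of_card_prime (hPp ▸ hp))).le
    obtain ⟨r, hr, hrd⟩ := exists_prime_dvd_card hH1
    obtain ⟨S, hS⟩ := exists_isSyl hr H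
    exact ((Ptype_structure ⟨hM, p, h⟩ hK).2.2.2.1 r hr (hrd.trans (card_dvd_of_le h3)) S
      (hS.trans_hall hr hH.hall ⟨hr, hrd⟩)).2 (hS.le.trans h3)
  obtain ⟨K, hK⟩ := exists_hall (mmax_isSolvable hM) (kap M)
  obtain ⟨U, hU⟩ := ex_kappa_compl hM hK
  obtain ⟨g, hg, h3⟩ := exists_conj_le_hall (mmax_isSolvable hM) hU.hallU hXM h2
  obtain ⟨-, h4, h5⟩ := kappa_c hM hU h3 (conj_eq_bot_iff.not.2 hX1) fun h => hH1 (by
    rw [cent_conj, ← conj_eq_of_mem_norm ((Ms_normal M).2 hg), ← conj_inf, conj_eq_bot_iff] at h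
    exact eq_bot_iff.2 (h ▸ le_inf hH.1 hHX))
  exact ⟨(isCyclic_map_iff (conj_injective g)).1 h4, (isPi_conj_iff _ _).1 h5⟩

/-- BG 15.3(b). -/
theorem sigma_hall_tame {M H : Subgroup G} (hM : IsCoatom M) (hH : IsHallIn H (Ms M))
    {x g : G} (hx : x ∈ H) (hg : g * x * g⁻¹ ∈ H) :
    ∃ n ∈ M ⊓ 𝐍(H), n * x * n⁻¹ = g * x * g⁻¹ := by
  by_cases hx1 : x = 1
  · exact ⟨1, one_mem _, by simp [hx1]⟩
  obtain ⟨m, hm, h1⟩ : ∃ m ∈ M, m * x * m⁻¹ = g * x * g⁻¹ := by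
    obtain ⟨k1, -, k2⟩ := signalizer_context ⟨hx1, M, hM, hH.1 hx⟩
    obtain ⟨r, ⟨hr, h1⟩, -⟩ := k2 M (M ^ᵍ g⁻¹) ⟨hM, hH.1 hx⟩ ⟨isCoatom_conj hM _, by
      rw [Ms_conj, mem_conj, inv_inv]; exact hH.1 hg⟩
    refine ⟨g * r, (mmax_conj_eq_iff hM).1 (by rw [← conj_conj, ← h1, conj_inv_conj]), ?_⟩
    rw [← mem_cent1_iff_conj.1 (k1.1 hr)]
    conv_lhs => rw [mem_cent1_iff_conj.1 (k1.1 hr)]
    group
  suffices h : M ≤ 𝐍(H) ∨ ∃ Q : Subgroup G, M ≤ 𝐍(Q) ∧ 𝐨(H).Coprime 𝐨(Q) ∧ Q ⊔ (M ⊓ 𝐍(H)) = M by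
    rcases h with h | ⟨Q, h2, h3, h4⟩
    · exact ⟨m, ⟨hm, h hm⟩, h1⟩
    have h5 : H ≤ M ⊓ 𝐍(H) := le_inf (hH.1.trans (Ms_le M)) (le_norm_self H)
    obtain ⟨u, hu, c, hc, rfl⟩ := pprod_trans_coprime (mmax_isSolvable hM) h4 h2
      ((zpowers_le.2 hx).trans h5) (H1.coprime_of_le h3 (zpowers_le.2 hx) le_rfl) hm
      (by rw [← zpowers_conj, h1]; exact (zpowers_le.2 hg).trans h5)
    refine ⟨u, hu, ?_⟩
    have h6 : c * x * c⁻¹ = x := mem_cent1_iff_conj.1 (cent_zpowers x ▸ (mem_inf.1 hc).2)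
    rw [← h1]
    conv_lhs => rw [← h6]
    group
  by_cases hn : Group.IsNilpotent (Ms M)
  · exact Or.inl ((Ms_normal M).2.trans (norm_le_norm_hall_of_isNilpotent hn hH.hall))
  obtain ⟨K, hK⟩ := exists_hall (mmax_isSolvable hM) (kap M)
  obtain ⟨-, -, -, -, hq, -, k1, k2⟩ := Fcore_first hM hn hK
  have hqs : 𝐨(Ms M ⊓ 𝐂(K)) ∈ sig M := isPi_Ms M _ hq (card_dvd_of_le inf_le_left)
  generalize 𝐨(Ms M ⊓ 𝐂(K)) = q at *
  have hQ := pCoreOf_normal q M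
  have hQs := le_Ms hM hQ.1 (isPi_of_isPGroup hq k2.pgrp hqs)
  have h2 := fun π (h : q ∈ π) => hall_piCoreOf_of_nilMod (normal_of_le hQ hQs (Ms_le M)) k1
    (isPi_of_isPGroup hq k2.pgrp h)
  by_cases h3 : q ∈ piOf H
  · rw [hall_eq_piCoreOf (h2 _ h3) hH.hall]
    exact Or.inl ((Ms_normal M).2.trans (norm_le_norm_piCoreOf _ _))
  have h4 := h2 _ (Set.mem_insert q (piOf H))
  have h5 : piCoreOf (insert q (piOf H)) (Ms M) ⊲ M :=
    ⟨h4.1.trans (Ms_le M), (Ms_normal M).2.trans (norm_le_norm_piCoreOf _ _)⟩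
  have h6 := hall_of_le hH.hall (le_piCoreOf_of_hall h4 hH.1
    (isPi_mono (Set.subset_insert _ _) (isPi_piOf H))) h4.1
  have h7 := hall_sup_hall_compl h6 (hall_congr ((isSyl_iff_hall hq).1 (k2.of_le
    (le_piCoreOf_of_hall h4 hQs (isPi_of_isPGroup hq k2.pgrp (Set.mem_insert _ _))) h5.1))
    fun t ht hd => ⟨fun h => by rw [h]; exact h3, (h4.2.1 t ht hd).resolve_right⟩)
  refine Or.inr ⟨_, hQ.2, isPi_coprime (isPi_piOf H) (isPi_of_isPGroup hq k2.pgrp h3), ?_⟩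
  conv_rhs => rw [← hall_frattini (isSolvable_of_le_mmax hM h5.1) h6 h5, ← h7]
  rw [sup_comm H, sup_assoc, sup_eq_right.2 (le_inf (hH.1.trans (Ms_le M)) (le_norm_self H))]

/-- BG 15.4. -/
theorem nilpotent_hall_sigma {H : Subgroup G} (hn : Group.IsNilpotent H) (hH : IsHallIn H ⊤) :
    ∃ M : Subgroup G, IsCoatom M ∧ H ≤ Ms M := by
  by_cases h1 : H = ⊥
  · obtain ⟨M, hM, -⟩ := mmax_exists (ne_top_of_isNilpotent hn)
    exact ⟨M, hM, h1 ▸ bot_le⟩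
  obtain ⟨p, hp, hd⟩ := exists_prime_dvd_card h1
  obtain ⟨S, hS⟩ := exists_isSyl hp H
  have hS1 := hS.ne_bot hp hd
  obtain ⟨M, hM, hN⟩ := exists_mmax_norm hp hS.pgrp hS1
  have hHM : H ≤ M := (le_norm_self H).trans ((hS.norm_le_of_isNilpotent hp hn).trans hN)
  have hSM := (hS.trans_hall hp hH.hall ⟨hp, hd⟩).of_le (hS.le.trans hHM) le_top
  have hps : p ∈ sig M := ⟨hp, hd.trans (card_dvd_of_le hHM), S, hSM, hN⟩
  refine ⟨M, hM, le_Ms hM hHM fun q hq hqd => by_contra fun h => ?_⟩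
  obtain ⟨X, k1, k2, k3⟩ := cent_hall_sigma_tau2 hM (hall_isHallIn ((isSyl_iff_hall hp).1
    (hSM.of_le (le_Ms hM hSM.le (isPi_of_isPGroup hp hS.pgrp hps)) (Ms_le M)))) hS1
  obtain ⟨R, hR⟩ := exists_isSyl hq H
  have h2 : R ≤ M ⊓ 𝐂(S) := le_inf (hR.le.trans hHM) (le_cent_of_coprime_of_isNilpotent hn hR.le
    hS.le (coprime_card_of_isPGroup hq hp (fun h' => h (h' ▸ hps)) hR.pgrp hS.pgrp))
  have h3 := (k3.hall (isPi_of_le inf_le_left (isPi_Ms M)) (isPi_mono (ta2_subset_compl M) k2)).2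
  have h4 := k2 q hq ((hall_dvd_card_iff h3 hq h).2
    ((prime_dvd_card_of_isPGroup hq hR.pgrp (hR.ne_bot hq hqd)).trans (card_dvd_of_le h2)))
  have h5 := pRank_mono hq h2
  have h6 := pRank_le_one_of_isCyclic hq k1
  have h7 := pRank_mono hq (le_top (a := M))
  rw [← hall_pRank_eq hq h3 h, (hR.trans_hall hq hH.hall ⟨hq, hqd⟩).pRank_eq hq] at h5
  rw [h4.2.2] at h7
  omega

/-- BG 15.5. -/
theorem fitting_structure {M : Subgroup G} (hM : IsCoatom M) :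
    (IsCyclic (piCoreOf (sig M)ᶜ (fittingOf M)) ∧
        IsPiSubgroup (ta2 M) (piCoreOf (sig M)ᶜ (fittingOf M))) ∧
      (⁅⁅M, M⁆, ⁅M, M⁆⁆ ≤ fittingOf M ∧ MF M ⊔ (M ⊓ 𝐂(MF M)) = fittingOf M ∧
        DProd (fittingOf (Ms M)) (piCoreOf (sig M)ᶜ (fittingOf M)) (fittingOf M)) ∧
      NilMod ⁅M, M⁆ (MF M) ∧ (IsPtype M → fittingOf M ≤ ⁅M, M⁆) := by
  have hF : Group.IsNilpotent (fittingOf M) := inferInstance
  have h1 := dProd_piCoreOf_of_isNilpotent hF (sig M)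
  rw [piCoreOf_fittingOf] at h1
  have hY : piCoreOf (sig M)ᶜ (fittingOf M) ⊲ M := ⟨h1.le_right.trans (H2.fittingOf_le M),
    (fittingOf_normal M).2.trans (norm_le_norm_piCoreOf _ _)⟩
  have h2 : fittingOf M ≤ MF M ⊔ (M ⊓ 𝐂(MF M)) := by
    have h2 := dProd_piCoreOf_of_isNilpotent hF (piOf (MF M))
    rw [← hall_eq_piCoreOf_of_isNilpotent hF (hall_of_le (hall_MF M) (MF_le_fittingOf M)
      (H2.fittingOf_le M))] at h2
    exact h2.sup.ge.trans (sup_le_sup_left (le_inf (h2.le_right.trans (H2.fittingOf_le M))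
      h2.cent) _)
  obtain ⟨K, hK⟩ := exists_hall (mmax_isSolvable hM) (kap M)
  suffices h : (IsCyclic (piCoreOf (sig M)ᶜ (fittingOf M)) ∧
      IsPiSubgroup (ta2 M) (piCoreOf (sig M)ᶜ (fittingOf M))) ∧ ⁅⁅M, M⁆, ⁅M, M⁆⁆ ≤ fittingOf M ∧
      M ⊓ 𝐂(MF M) ≤ fittingOf M ∧ NilMod ⁅M, M⁆ (MF M) by
    refine ⟨h.1, ⟨h.2.1, le_antisymm (sup_le (MF_le_fittingOf M) h.2.2.1) h2, h1⟩, h.2.2.2,
      fun hP => h1.sup.ge.trans (sup_le ((H2.fittingOf_le _).trans (Ms_le_der hM)) ?_)⟩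
    obtain ⟨U, hU⟩ := ex_kappa_compl hM hK
    exact (le_hall_of_normal hU.hallU hY.1 (isPi_mono (fun r hr h => h.elim hr.2.1
      fun h => (kap_subset h).2.2.2 hr) h.1.2) (hU.hallU.1.trans hY.2)).trans
      ((kappa_structure hM hU).2.1 (ne_bot_of_isPtype hP hK)).1.le_right
  by_cases hn : MF M = Ms M
  · obtain ⟨X, k1, k2, k3⟩ := cent_hall_sigma_tau2 hM (hall_isHallIn (hall_self (isPi_Ms M)))
      (Ms_ne_bot hM)
    have h3 : IsMulCommutative ↥(M ⊓ 𝐂(Ms M)) := k3.sup ▸ isMulComm_sup (isMulComm_center _)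
      (isMulComm_of_isCyclic k1) (k3.le_right.trans (inf_le_right.trans (cent_anti inf_le_left)))
    have h4 := le_hall_of_normal (k3.hall (isPi_of_le inf_le_left (isPi_Ms M))
      (isPi_mono (ta2_subset_compl M) k2)).2 (le_inf hY.1 (by
        have := h1.cent
        rwa [show piCoreOf (sig M) M = Ms M from rfl,
          H2.fittingOf_eq_self (H := Ms M) (hn ▸ isNilpotent_MF M)] at this)) (isPi_piCoreOf _ _)
      (k3.le_right.trans (inf_le_left.trans hY.2))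
    rw [hn]
    exact ⟨⟨isCyclic_of_le h4 k1, isPi_of_le h4 k2⟩, (der2_le_Ms hM).trans (hn ▸ MF_le_fittingOf M),
      le_fittingOf ⟨inf_le_left, H1.le_normalizer_inf (le_norm_self M)
        (H1.le_normalizer_centralizer (Ms_normal M).2)⟩ (isNilpotent_of_isMulComm h3),
      nilMod_of_der_le (der2_le_Ms hM)⟩
  obtain ⟨-, -, k1, -, q, hq, rfl, -, -, k2, -, ⟨k3, k4, k5⟩, -⟩ := Fcore_structure hM hn hK
  have h3 := k2.le_MF hq (pCoreOf_normal _ M).2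
  rw [piCoreOf_eq_bot (π := (sig M)ᶜ) (by
    rw [compl_compl]; exact isPi_of_le k5.le (isPi_Ms M)), ← k1]
  exact ⟨⟨inferInstance, isPi_bot _⟩, k3, (inf_le_inf_left _ (cent_anti h3)).trans
    (le_sup_right.trans k4.ge), (Fcore_first hM (fun h => hn ((Fcore_eq_Ms_iff hM).2 h))
      hK).2.2.2.2.2.2.1.mono le_rfl h3⟩

/-- BG 15.6. -/
theorem Ptype_cyclics {M K : Subgroup G} (hM : IsPtype M) (hK : IsPiHallOf (kap M) K M) :
    Ms M ⊓ 𝐂(K) ≠ ⊥ ∧ IsCyclic ↥(Ms M ⊓ 𝐂(K)) ∧ Ms M ⊓ 𝐂(K) ≤ ⁅⁅M, M⁆, ⁅M, M⁆⁆ ∧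
      Ms M ⊓ 𝐂(K) ≤ MF M ∧ ¬ IsCyclic (MF M) := by
  have h1 := (Ptype_structure hM hK).2.1.1
  have h2 := sdprod_der hM hK
  have h3 : 𝐨(⁅M, M⁆).Coprime 𝐨(K) := h2.relIndex_right ▸ (hall_coprime hK).symm
  have h4 := (inf_le_inf_right _ (Ms_le_der hM.1)).trans
    (coprime_der_sdprod h2 h3 (isSolvable_of_le_mmax hM.1 (der_le M)) le_rfl).2
  refine ⟨h1, isCyclic_of_le le_sup_right (isCyclic_Z hM hK), h4, ?_, fun h => h1 ?_⟩
  · by_cases hn : MF M = Ms M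
    · exact hn ▸ inf_le_left
    obtain ⟨-, -, -, -, q, hq, -, -, -, k1, k2, -⟩ := Fcore_structure hM.1 hn hK
    exact k2.trans (k1.le_MF hq (pCoreOf_normal _ M).2)
  · have h5 : ⁅M, M⁆ ≤ MF M := le_MF (der_normal M) (isNilpotent_of_le ((le_inf (der_le M)
      (der_le_cent_of_cyclic h (MF_normal M).2)).trans (le_sup_right.trans
      (fitting_structure hM.1).2.1.2.1.le)) inferInstance) ⟨der_le M, h2.relIndex_left ▸ h3⟩
    exact eq_bot_iff.2 (h4.trans ((commutator_mono h5 h5).trans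
      (isMulComm_iff_comm_eq_bot.1 (isMulComm_of_isCyclic h)).le))

namespace BG15

theorem nonTI_core {M X : Subgroup G} (hM : IsCoatom M) {g : G} (hg : g ∉ M)
    (hX : X ≤ fittingOf M ⊓ fittingOf M ^ᵍ g) (hXp : 𝐨(X).Prime) :
    𝐨(X) ∈ sig M ∧ 𝐨(X) ∉ bet M ∧ ¬ 𝐂(X) ≤ M ∧ rank (M ⊓ 𝐂(X)) ≤ 2 ∧ ⁅M, M⁆ ≤ fittingOf M := by
  have hF : Group.IsNilpotent (fittingOf M) := inferInstance
  have hX1 := ne_bot_of_card_prime hXp
  have hXM : X ≤ M ⊓ M ^ᵍ g :=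
    hX.trans (inf_le_inf (H2.fittingOf_le M) (conj_mono (H2.fittingOf_le M) g))
  have h1 : 𝐨(X) ∈ sig M := by_contra fun h => by
    have key : ∀ Y : Subgroup G, Y ≤ fittingOf M → 𝐨(Y) = 𝐨(X) → 𝐍(Y) = M := fun Y hY h1 =>
      mmax_normal hM ⟨hY.trans (H2.fittingOf_le M), ((fittingOf_normal M).2.trans
        (norm_le_norm_piCoreOf _ _)).trans (norm_le_norm_of_le_cyclic (fitting_structure hM).1.1
        (le_piCoreOf_of_isNilpotent hF hY (isPi_of_card_prime hXp h1 h)))⟩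
        (ne_bot_of_card_prime (h1 ▸ hXp))
    have h1 := key _ (le_conj_iff.1 (hX.trans inf_le_right)) (card_conj X _)
    rw [norm_conj, key X (hX.trans inf_le_left) rfl, mmax_conj_eq_iff hM, inv_mem_iff] at h1
    exact hg h1
  have h2 : ¬ 𝐂(X) ≤ M := fun h => hg (inv_mem_iff.1 (sigma_mem_of_cent_le hM h1
    (isPGroup_of_card_prime rfl) (hXM.trans inf_le_left) h (le_conj_iff.1 (hXM.trans inf_le_right))))
  have h3 : rank (M ⊓ 𝐂(X)) ≤ 2 := by_contra fun h => h2 (((rank3_uniq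
    (ne_top_of_le_mmax hM inf_le_left) (by omega)).uniqMax hM inf_le_left).le_of_ne_top
    inf_le_right (cent_ne_top hX1))
  exact ⟨h1, ((sigma_compl_embedding hM (exists_hall (mmax_isSolvable hM) _).choose_spec).2.2
    g hg).2.1 _ hXp (card_dvd_of_le (le_inf (le_Ms hM (hXM.trans inf_le_left)
      (isPi_of_card_prime hXp rfl h1)) (hXM.trans inf_le_right))), h2, h3,
    rank_cent_fitting_der hXp (mmax_isSolvable hM) (odd_card M) (hX.trans inf_le_left)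
      (elemAb_of_card_prime hXp rfl)
      ((rank_mono (inf_le_inf_right _ (H2.fittingOf_le M))).trans h3)⟩

theorem nonTI_facts {M : Subgroup G} (hM : IsCoatom M) {g : G} (hg : g ∉ M)
    (hX : fittingOf M ⊓ fittingOf M ^ᵍ g ≠ ⊥) :
    (IsFtype M ∨ IsP1type M) ∧ MF M = Ms M ∧ ⁅M, M⁆ ≤ fittingOf M ∧
      DProd (Ms M) (piCoreOf (sig M)ᶜ (fittingOf M)) (fittingOf M) := by
  obtain ⟨X, hX, hXp⟩ := exists_le_card_prime hX
  obtain ⟨k1, k2, -, -, k3⟩ := nonTI_core hM hg hX hXp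
  have h1 := isNilpotent_of_le ((Ms_le_der hM).trans k3) inferInstance
  have h3 := (fitting_structure hM).2.1.2.2
  rw [H2.fittingOf_eq_self h1] at h3
  obtain ⟨K, hK⟩ := exists_hall (mmax_isSolvable hM) (kap M)
  exact ⟨(isFtype_or_isPtype hM).imp_right fun h => h.p1_or_p2.resolve_right fun h2 =>
    k2 (((Ptype_structure h hK).2.2.2.2.2 h2).1 ▸ k1), (Fcore_eq_Ms_iff hM).2 h1, k3, h3⟩

/-- The non-abelian case of 15.7(e), first half. -/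
theorem nonTI_nonabelian {M X : Subgroup G} (hM : IsCoatom M) (hn : Group.IsNilpotent (Ms M))
    (hna : ¬ IsMulCommutative (Ms M)) (hX : X ≤ Ms M) (hXp : 𝐨(X).Prime) (hC : ¬ 𝐂(X) ≤ M) :
    ¬ IsMulCommutative (pCoreOf 𝐨(X) (Ms M)) ∧ IsCyclic (H2.pPrimeCoreOf 𝐨(X) (Ms M)) ∧
      𝐨(omegaOne 𝐨(X) 𝐙(pCoreOf 𝐨(X) (Ms M))) = 𝐨(X) ∧ Narrow 𝐨(X) (pCoreOf 𝐨(X) (Ms M)) ∧
      ∀ Y : Subgroup G, X ≤ Y → Y ≤ pCoreOf 𝐨(X) (Ms M) → IsCyclic Y → Y = X := by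
  have hX1 := ne_bot_of_card_prime hXp
  have hU : ∀ A : Subgroup G, A ≤ M → A ≤ 𝐂(X) → ¬ InU A := fun A h1 h2 h =>
    hC ((h.uniqMax hM h1).le_of_ne_top h2 (cent_ne_top hX1))
  have hd := dProd_pCoreOf_of_isNilpotent hXp hn
  have hP := H2.isPGroup_pCoreOf 𝐨(X) (Ms M)
  have hXP : X ≤ pCoreOf 𝐨(X) (Ms M) := H2.le_pCoreOf_of_le_fittingOf (isPGroup_of_card_prime rfl)
    (by rwa [H2.fittingOf_eq_self hn])
  generalize pCoreOf 𝐨(X) (Ms M) = P at *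
  generalize H2.pPrimeCoreOf 𝐨(X) (Ms M) = O at *
  obtain ⟨p, hp⟩ : ∃ p, 𝐨(X) = p := ⟨_, rfl⟩
  rw [hp] at hXp hP ⊢
  have hOn := isNilpotent_of_le hd.le_right hn
  have hOX := hd.cent.trans (cent_anti hXP)
  have hOM := hd.le_right.trans (Ms_le M)
  have hPM := hd.le_left.trans (Ms_le M)
  have h1 : IsMulCommutative O := isMulComm_iff_le_cent.2 (le_of_forall_isSyl_le fun q hq R hR => by
    have h1 := dProd_pCoreOf_of_isNilpotent hq hOn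
    rw [← hR.eq_pCoreOf_of_isNilpotent hq hOn] at h1
    rw [← h1.sup, cent_sup]
    exact le_inf (isMulComm_iff_le_cent.1 (by_contra fun h => hU R (hR.le.trans hOM)
      (hR.le.trans hOX) (nonabelian_uniq hq hR.pgrp h))) h1.symm.cent)
  have h2 : ¬ IsMulCommutative P := fun h => hna (hd.isMulComm h h1)
  have h3 := nonabelian_uniq hXp hP h2
  obtain ⟨Z, hZ, hZp⟩ := exists_le_card_eq_prime hXp (prime_dvd_card_of_isPGroup hXp
    (hP.to_le inf_le_left) (center_ne_bot (isNilpotent_of_isPGroup hXp hP)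
      fun h => hX1 (eq_bot_iff.2 (h ▸ hXP))))
  have h4 : ¬ X ≤ 𝐂(P) := fun h => hU P hPM (cent_comm.1 h) h3
  have hZX : Z ≤ 𝐂(X) := hZ.trans (inf_le_right.trans (cent_anti hXP))
  have hA2 : IsElem p 2 (X ⊔ Z) := ((isElem_one_iff hXp).2 hp).sup ((isElem_one_iff hXp).2 hZp) hZX
    ((inf_eq_bot_or_le_of_card_prime (hp ▸ hXp) Z).resolve_right
      fun h => h4 (h.trans (hZ.trans inf_le_right)))
  have hAP : X ⊔ Z ≤ P := sup_le hXP (hZ.trans inf_le_left)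
  have hA : IsMaxElem p (X ⊔ Z) ⊤ := by_contra fun h => hU _ (hAP.trans hPM)
    (hA2.le_cent.trans (cent_anti le_sup_left)) (nonmaxElem2_uniq hXp hA2 h)
  obtain ⟨⟨-, k1⟩, ⟨Y₁, -, -, k2⟩, -⟩ := basic_maxElem2_structure hXp hA2 hA hP hAP h2
  have k3 := k2 X le_sup_left hp fun h => h4 (h.le.trans ((omegaOne_le _ _).trans inf_le_right))
  refine ⟨h2, by_contra fun h => hU O hOM hOX (cent_uniq_uniq h3 hd.cent
    (two_le_rank_of_not_isCyclic (odd_card O) hOn h)), k1, fun _ => ⟨_, hA2, hA.of_le hAP le_top⟩,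
    fun Y h5 h6 h7 => le_antisymm (fun y hy => ?_) h5⟩
  obtain ⟨a, ha, b, hb, rfl⟩ := k3.mem_iff.1 (show y ∈ P ⊓ 𝐂(X ⊔ Z) by
    rw [cent_sup]
    exact ⟨h6 hy, cent_anti h5 (isMulComm_iff_le_cent.1 (isMulComm_of_isCyclic h7) hy),
      cent_comm.1 (hZ.trans inf_le_right) (h6 hy)⟩)
  have h8 : Y ⊓ Y₁ = ⊥ := by_contra fun h => by
    obtain ⟨W, hW, hWp⟩ := exists_le_card_eq_prime hXp
      (prime_dvd_card_of_isPGroup hXp (hP.to_le (inf_le_left.trans h6)) h)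
    rw [eq_of_card_prime_of_isCyclic hXp h7 (hW.trans inf_le_left) h5 hWp hp] at hW
    exact hX1 (eq_bot_iff.2 (k3.disj ▸ le_inf le_rfl (hW.trans inf_le_right)))
  have h9 : b = 1 := mem_bot.1 (h8 ▸ mem_inf.2 ⟨(mul_mem_cancel_left (h5 ha)).1 hy, hb⟩)
  rwa [h9, mul_one]

/-- A group acting regularly on a nilpotent group has order dividing `q - 1` when the Sylow
`q`-subgroup has a cyclic centre. -/
theorem card_dvd_of_semiReg {H E Z : Subgroup G} {q : ℕ} (hZ : Z ≤ H) (hZq : 𝐨(Z) = q)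
    (hn : E ≤ 𝐍(Z)) (h : SemiReg H E) : 𝐨(E) ∣ q - 1 :=
  hZq ▸ (h.mono hZ le_rfl).card_dvd hn

end BG15

/-- BG 15.7(a),(c) (with the correction `M' ≤ F(M)` of (c)). -/
theorem nonTI_fitting_facts {M : Subgroup G} (hM : IsCoatom M)
    (h : ¬ NormedTI (sharp (fittingOf M)) ⊤ M) :
    (IsFtype M ∨ IsP1type M) ∧ MF M = Ms M ∧ ⁅M, M⁆ ≤ fittingOf M ∧
      DProd (Ms M) (piCoreOf (sig M)ᶜ (fittingOf M)) (fittingOf M) := by
  obtain ⟨g, hg, h1⟩ : ∃ g ∉ M, fittingOf M ⊓ fittingOf M ^ᵍ g ≠ ⊥ := by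
    by_contra hc
    push Not at hc
    exact h (normedTI_sharp_iff.2 ⟨fittingOf_mmax_ne_bot hM, fittingOf_normal M, le_top,
      fun g _ h1 => by_contra fun hg => h1 (hc g hg)⟩)
  exact nonTI_facts hM hg h1

/-- BG 15.7(b),(d),(e). `X = F(M) ∩ F(M)^g`. -/
theorem nonTI_fitting_structure {M E E₁ E₂ E₃ : Subgroup G} (hM : IsCoatom M)
    (hE : SigmaCompl M E E₁ E₂ E₃) {g : G} (hg : g ∉ M)
    (hX : fittingOf M ⊓ fittingOf M ^ᵍ g ≠ ⊥) :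
    (fittingOf M ⊓ fittingOf M ^ᵍ g ≤ MF M ∧ IsCyclic ↥(fittingOf M ⊓ fittingOf M ^ᵍ g)) ∧
      (E₃ = ⊥ ∧ E₂ ⊲ E ∧ IsCyclic E₁) ∧
      ((IsFtype M ∧ IsMulCommutative (MF M) ∧ rank (MF M) = 2) ∨
        ∃ p : ℕ, 𝐨(fittingOf M ⊓ fittingOf M ^ᵍ g) = p ∧ p ∈ sig M ∧ p ∉ bet M ∧
          ¬ IsMulCommutative (pCoreOf p (MF M)) ∧ IsCyclic (H2.pPrimeCoreOf p (MF M)) ∧
          ((∀ q ∈ piOf (MF M), Monoid.exponent E ∣ q - 1) ∨
            (𝐨(pCoreOf p (MF M)) = p ^ 3 ∧ IsP1type M ∧ 𝐨(E) ∣ p + 1))) := by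
  obtain ⟨k1, k2, k3, k4⟩ := nonTI_facts hM hg hX
  have hn : Group.IsNilpotent (Ms M) := k2 ▸ isNilpotent_MF M
  have core := fun X => nonTI_core (X := X) hM hg
  have hXM : fittingOf M ⊓ fittingOf M ^ᵍ g ≤ M ⊓ M ^ᵍ g :=
    inf_le_inf (H2.fittingOf_le M) (conj_mono (H2.fittingOf_le M) g)
  generalize fittingOf M ⊓ fittingOf M ^ᵍ g = X at *
  have h1 : X ≤ Ms M := le_Ms hM (hXM.trans inf_le_left) fun r hr hd => by
    obtain ⟨Y, hY, rfl⟩ := exists_le_card_eq_prime hr hd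
    exact (core Y hY hr).1
  have h2 : IsCyclic X := isCyclic_of_le (le_inf h1 (hXM.trans inf_le_right))
    ((sigma_compl_embedding hM hE.hall).2.2 g hg).1
  obtain ⟨⟨l1, -⟩, -, ⟨l2, -⟩, ⟨-, l3, -⟩, -⟩ := hE.context hM
  have hEM := hE.hall.1
  have h3 : E₃ = ⊥ := eq_bot_of_isPi_of_isPi_compl (isPi_of_le (le_piCoreOf_of_isNilpotent
    inferInstance (l1.trans ((commutator_mono hEM hEM).trans k3))
    (isPi_mono (ta3_subset_compl M) hE.hall3.2.1)) (fitting_structure hM).1.2)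
    (isPi_mono (fun r hr h => Set.disjoint_left.1 (disjoint_ta2_ta3 M) h hr) hE.hall3.2.1)
  rw [h3, bot_sup_eq] at l3
  rw [k2]
  refine ⟨⟨h1, h2⟩, ⟨h3, l3.normal, l2⟩, ?_⟩
  obtain ⟨X₁, hX₁, hp⟩ := exists_le_card_prime hX
  obtain ⟨m1, m2, m3, m4, -⟩ := core X₁ hX₁ hp
  have hP1 : IsP1type M → IsPiHallOf (kap M) E M ∧ Ms M = ⁅M, M⁆ := fun h => by
    have h4 := hall_congr hE.hall fun r hr hd => ⟨fun h4 => (h.2 r hr hd).resolve_left h4,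
      fun h4 => kap_subset_compl M h4⟩
    exact ⟨h4, H1.eq_of_le_of_card_le (Ms_le_der hM) (Nat.eq_of_mul_eq_mul_right
      (Nat.pos_of_ne_zero (card_ne_zero E))
      ((sdprod_der h.1 h4).card.symm.trans (sdprod_sigma hM hE.hall).card)).le⟩
  by_cases hab : IsMulCommutative (Ms M)
  · refine Or.inl ⟨k1.resolve_right fun h => ?_, hab, le_antisymm ((rank_mono (le_inf (Ms_le M)
      ((isMulComm_iff_le_cent.1 hab).trans (cent_anti (hX₁.trans h1))))).trans m4)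
      (two_le_rank_of_not_isCyclic (odd_card _) hn fun h => m3 ((cent_le_norm _).trans
        (mmax_normal hM ⟨hX₁.trans (h1.trans (Ms_le M)), (Ms_normal M).2.trans
          (norm_le_norm_of_le_cyclic h (hX₁.trans h1))⟩ (ne_bot_of_card_prime hp)).le))⟩
    obtain ⟨n1, -, n2, -⟩ := Ptype_cyclics h.1 (hP1 h).1
    rw [← (hP1 h).2, isMulComm_iff_comm_eq_bot.1 hab] at n2
    exact n1 (eq_bot_iff.2 n2)
  obtain ⟨n1, n2, n3, n4, n5⟩ := nonTI_nonabelian hM hn hab (hX₁.trans h1) hp m3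
  obtain ⟨p, hp'⟩ : ∃ p, 𝐨(X₁) = p := ⟨_, rfl⟩
  rw [hp'] at hp m1 m2 n1 n2 n3 n4 n5
  have hcyc : ∀ q : ℕ, q.Prime → q ≠ p → IsCyclic (pCoreOf q (Ms M)) := fun q hq h =>
    isCyclic_of_le (H2.pCoreOf_le_pPrimeCoreOf hq hp h _) n2
  have h4 : X = X₁ := n5 X hX₁ (H2.le_pCoreOf_of_le_fittingOf ((isPi_singleton_iff hp).1
    fun r hr hd => by_contra fun h => by
      obtain ⟨Y, hY, rfl⟩ := exists_le_card_eq_prime hr hd
      exact (nonTI_nonabelian hM hn hab (hY.trans h1) hr (core Y hY hr).2.2.1).1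
        (isMulComm_of_isCyclic (hcyc _ hr h))) (by rwa [H2.fittingOf_eq_self hn])) h2
  refine Or.inr ⟨p, h4 ▸ hp', m1, m2, n1, n2, ?_⟩
  have hZ : ∀ q ∈ piOf (Ms M), 𝐨(omegaOne q 𝐙(pCoreOf q (Ms M))) = q ∧
      omegaOne q 𝐙(pCoreOf q (Ms M)) ≤ pCoreOf q (Ms M) ∧
      M ≤ 𝐍(omegaOne q 𝐙(pCoreOf q (Ms M))) := fun q hq => by
    refine ⟨?_, (omegaOne_le _ _).trans inf_le_left, (Ms_normal M).2.trans
      ((H2.normalizer_le_normalizer_pCoreOf q _).trans ((norm_le_norm_center _).trans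
        (norm_le_norm_omegaOne _ q)))⟩
    by_cases h : q = p
    · exact h ▸ n3
    have h5 := H2.isPGroup_pCoreOf q (Ms M)
    exact card_omegaOne_of_isCyclic hq.1 (isCyclic_of_le inf_le_left (hcyc q hq.1 h))
      (prime_dvd_card_of_isPGroup hq.1 (h5.to_le inf_le_left) (center_ne_bot
        (isNilpotent_of_isPGroup hq.1 h5) ((isSyl_pCoreOf_of_isNilpotent hq.1 hn).ne_bot hq.1 hq.2)))
  rcases k1 with k1 | k1
  · have hU : KappaCompl M E ⊥ := ⟨by rw [k1.2, Set.union_empty]; exact hE.hall,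
      hall_bot (by rw [k1.2, Set.compl_empty]; exact fun _ _ _ => trivial), bot_le⟩
    by_cases hE1 : E = ⊥
    · refine Or.inl fun q _ => ?_
      rw [hE1, Monoid.exp_eq_one_of_subsingleton]
      exact one_dvd _
    obtain ⟨U, h5, h6, h7⟩ := (kappa_structure hM hU).2.2.2.2 hE1
    exact Or.inl fun q hq => h6 ▸ Group.exponent_dvd_nat_card.trans (card_dvd_of_semiReg
      ((hZ q hq).2.1.trans (H2.pCoreOf_le _ _)) (hZ q hq).1 (h5.trans (hEM.trans (hZ q hq).2.2))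
      h7.reg)
  obtain ⟨hK, h5⟩ := hP1 k1
  obtain ⟨U, hU⟩ := ex_kappa_compl hM hK
  have hpr := (hU.context hM).2.2.2.2.1
  have hc := (kappa_structure hM hU).1.1
  have hd := dProd_pCoreOf_of_isNilpotent hp hn
  have hP := H2.isPGroup_pCoreOf p (Ms M)
  have hEP : E ≤ 𝐍(pCoreOf p (Ms M)) :=
    hEM.trans ((Ms_normal M).2.trans (H2.normalizer_le_normalizer_pCoreOf p _))
  have h6 : Ms M ⊓ 𝐂(E) ≤ pCoreOf p (Ms M) := by
    have h6 := (Ptype_cyclics k1.1 hK).2.2.1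
    rw [← h5, hd.der_eq, isMulComm_iff_comm_eq_bot.1 (isMulComm_of_isCyclic n2), sup_bot_eq] at h6
    exact h6.trans (der_le _)
  have hreg : ∀ q ∈ piOf (Ms M), omegaOne q 𝐙(pCoreOf q (Ms M)) ⊓ 𝐂(E) = ⊥ → 𝐨(E) ∣ q - 1 :=
    fun q hq h => card_dvd_of_semiReg le_rfl (hZ q hq).1 (hEM.trans (hZ q hq).2.2)
      ((hpr.mono ((hZ q hq).2.1.trans (H2.pCoreOf_le _ _)) le_rfl).semiReg h)
  have hpp : p ∈ piOf (Ms M) := ⟨hp, hp' ▸ card_dvd_of_le (hX₁.trans h1)⟩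
  by_cases h7 : 𝐨(E) ∣ p - 1
  · refine Or.inl fun q hq => Group.exponent_dvd_nat_card.trans ?_
    by_cases h : q = p
    · exact h ▸ h7
    refine hreg q hq (eq_bot_iff.2 ?_)
    rw [← H1.inf_eq_bot_of_coprime' (coprime_card_of_isPGroup hq.1 hp h
      (H2.isPGroup_pCoreOf q (Ms M)) hP)]
    exact le_inf (inf_le_left.trans (hZ q hq).2.1)
      ((inf_le_inf_right _ ((hZ q hq).2.1.trans (H2.pCoreOf_le _ _))).trans h6)
  have hq : 𝐨(Ms M ⊓ 𝐂(E)).Prime := by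
    obtain ⟨_, -, -, -, -, -, -, -, h, -⟩ := Ptype_embedding k1.1 hK
    exact (h.resolve_left fun h => h.1.2 k1.2).2
  have hcop : 𝐨(E).Coprime 𝐨(pCoreOf p (Ms M)) := coprime_Ms hE.hall.2.1 hd.le_left
  have hSyl := (sigma_sylow m1 ((isSyl_pCoreOf_of_isNilpotent hp hn).trans_hall hp
    (Ms_hall hM).1 m1)).2
  have h8 := (inf_eq_bot_or_le_of_card_prime (n3.symm ▸ hp) 𝐂(E)).resolve_left
    fun h => h7 (hreg p hpp h)
  generalize pCoreOf p (Ms M) = P at *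
  have hp2 : p ≠ 2 := ne_two_of_dvd_card hpp.2
  have hEp : 𝐨(E).Coprime p := hcop.coprime_dvd_right (prime_dvd_card_of_isPGroup hp hP
    fun h => n1 (h ▸ inferInstance))
  have h9 : 𝐙(P) = Ms M ⊓ 𝐂(E) := by
    haveI := Fact.mk hp
    refine (eq_bot_or_eq_of_card_prime hq (le_inf (inf_le_left.trans hd.le_left) (cent_comm.1
      (H1.le_centralizer_of_centralizes_omega hp2 (hP.to_le inf_le_left)
        (hEP.trans (norm_le_norm_center P)) hEp fun x hx h => h8 (mem_omegaOne hx h))))).resolve_left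
      (center_ne_bot (isNilpotent_of_isPGroup hp hP) fun h => n1 (h ▸ inferInstance))
  have h10 : ∀ x ∈ E, x ≠ 1 → P ⊓ 𝐂[x] = 𝐙(P) := fun x hx hx1 => by
    rw [hpr.mono hd.le_left le_rfl x hx hx1, h9]
    exact le_antisymm (inf_le_inf_right _ hd.le_left) (le_inf h6 inf_le_right)
  have h11 : 𝐨(𝐙(P)) = p := by
    rw [h9]; exact eq_of_prime_dvd_card_of_isPGroup hp hq (hP.to_le h6) dvd_rfl
  have h12 : pRank p P ≤ 2 := by_contra fun h => h7 (by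
    obtain ⟨a, rfl⟩ := isCyclic_iff_zpowers.1 hc
    rw [Nat.card_zpowers] at hEp ⊢
    refine orderOf_dvd_of_pow_eq_one (by_contra fun h13 => n1 (isMulComm_iff_le_cent.2 ?_))
    exact (le_inf le_rfl (mem_cent_iff_cent1.1 ((aut_narrow' hp hp2 hP n4 hEP
      (isSolvable_of_le_mmax hM hEM) (odd_card _)).2 (by omega) a (mem_zpowers a) hEp))).trans
      ((h10 _ (pow_mem (mem_zpowers a) _) h13).le.trans inf_le_right))
  obtain ⟨S, C, o1, o2, o3, o4, o5, o6⟩ := rank2_sylow_cprod hp hSyl h12 n1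
  have h13 : C ≤ 𝐙(P) := le_inf (o1.sup ▸ le_sup_right) (by
    rw [← o1.sup, cent_sup]
    exact le_inf o1.cent (isMulComm_iff_le_cent.1 (isMulComm_of_isCyclic o5)))
  have h14 : S = P := by
    rw [← o1.sup, eq_comm, sup_eq_left]
    refine (le_omegaOne_of_exp le_rfl fun a ha => ?_).trans (o6.le.trans inf_le_left)
    exact orderOf_dvd_iff_pow_eq_one.1 (h11 ▸ orderOf_dvd_card_of_mem (h13 ha))
  subst h14
  refine Or.inr ⟨o3, k1, ?_⟩
  simpa [h7] using extraspecial_cyclic_dvd hp (isExtraspecial_of_card_cube hp o3 o4 o2 h11)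
    (n := 1) o3 hc hEp hEP h10

/-- BG 15.8. -/
theorem tau2_P2type_signalizer {M Mst U K R H : Subgroup G} (hM : IsP2type M)
    (h : KappaCompl M U K) (hMst : IsCoatom Mst) (hCK : 𝐂(K) ≤ Mst) {r : ℕ} (hr : r.Prime)
    (hR : IsSyl r R U) (hH : IsCoatom H) (hN : 𝐍(R) ≤ H) (h2 : (ta2 H).Nonempty) :
    𝐨(K).Prime ∧ ta2 H = {𝐨(K)} ∧ ta2 M = ∅ := by
  have hq := ((Ptype_structure hM.1 h.hallK).2.2.2.2.2 hM).2.1
  obtain ⟨k1, k2, k3, -, k4, hD⟩ := P2type_signalizer hM h hMst hCK hr hR hH hN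
  obtain ⟨L, hL, -, l1, ⟨l2, -⟩, ⟨l3, -⟩, -⟩ := Ptype_embedding hM.1 h.hallK
  obtain rfl : Mst = L := (l1 K le_rfl hq).eq hMst hCK
  have hKs : K ≤ Ms Mst := l3.ge.trans inf_le_left
  have hKD := k4.trans (H2.fittingOf_le _)
  have hKq : IsPGroup 𝐨(K) K := isPGroup_of_card_prime rfl
  have hqs : 𝐨(K) ∈ sig Mst := isPi_Ms Mst _ hq (card_dvd_of_le hKs)
  have hQ := pCoreOf_normal 𝐨(K) Mst
  have hS : IsSyl 𝐨(K) (pCoreOf 𝐨(K) Mst) Mst ∧
      ∀ A ≤ Ms Mst ⊓ 𝐂(K), A ≤ fittingOf Mst := by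
    by_cases hn : MF Mst = Ms Mst
    · exact ⟨isSyl_pCoreOf_of_dvd_MF hq (card_dvd_of_le (hn ▸ hKs)), fun A hA =>
        (hA.trans inf_le_left).trans (hn ▸ MF_le_fittingOf Mst)⟩
    obtain ⟨-, m0, -, -, q, -, m1, -, -, m2, -, -, m3⟩ := Fcore_structure hMst hn l2
    rw [l3] at m1 m3
    subst m1
    obtain ⟨D, hD, hKD⟩ := H1.exists_invariant_isPiHallOf m0.norm (coprime_Ms
      (isPi_mono (kap_subset_compl _) l2.2.1) le_rfl) (isSolvable_of_le_mmax hMst (Ms_le _)) {𝐨(K)}ᶜ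
    obtain ⟨-, m4, -, -, m5⟩ := m3 D (sdProd_of_hall ((isSyl_iff_hall hq).1 (m2.of_le (le_Ms hMst
      hQ.1 (isPi_of_isPGroup hq m2.pgrp hqs)) (Ms_le _))) hD ((Ms_le _).trans hQ.2)) hKD
    refine ⟨m2, fun A hA => m5 ▸ le_inf (hA.trans inf_le_left) (le_centMod_iff.2
      ⟨hA.trans (inf_le_left.trans ((Ms_le _).trans m4.normV)), ?_⟩)⟩
    rw [comm_eq_bot_iff.2 (cent_comm.1 (hA.trans inf_le_right))]
    exact bot_le
  have hU : UniqMax (pCoreOf 𝐨(K) Mst) Mst := ((Ptype_structure hL l2).2.2.2.1 _ hq (by rw [l3]) _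
    (hS.1.of_le (le_Ms hMst hQ.1 (isPi_of_isPGroup hq hS.1.pgrp hqs)) (Ms_le _))).1
  have key : ∀ p ∈ ta2 H, ∀ A ≤ H ⊓ Mst, IsElem p 2 A → p = 𝐨(K) := fun p hp A hA hA2 => by
    by_contra hne
    have h3 : A ≤ 𝐂(K) := le_cent_of_coprime_of_isNilpotent inferInstance (le_fittingOf
      (tau2_compl_context hH hD hp hA hA2).1.1 (isNilpotent_of_isMulComm hA2.comm)) k4
      (coprime_card_of_isPGroup hp.1 hq hne hA2.pgrp hKq)
    have hAL := hA.trans inf_le_right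
    have h4 : p ∈ sig Mst := by_contra fun h4 => ne_bot_of_card_prime hq (eq_bot_iff.2
      ((tau2_context hMst ⟨hp.1, h4, le_antisymm (sigma'_pRank_le hMst hp.1 h4)
        (le_pRank hp.1 hAL hA2)⟩ hAL hA2).2.2.1 ▸ le_inf hKs (cent_comm.1 h3)))
    exact sigma'_not_uniq hH (hA.trans inf_le_left) (isPi_of_isPGroup hp.1 hA2.pgrp hp.2.1)
      (cent_uniq_uniq hU.inU (le_cent_of_coprime_of_isNilpotent inferInstance (hS.2 A (le_inf
        (le_Ms hMst hAL (isPi_of_isPGroup hp.1 hA2.pgrp h4)) h3)) (H2.pCoreOf_le_fittingOf hq _)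
        (coprime_card_of_isPGroup hp.1 hq hne hA2.pgrp hS.1.pgrp))
        ((le_pRank hp.1 le_rfl hA2).trans (pRank_le_rank hp.1 A)))
  obtain ⟨p, hp⟩ := h2
  obtain ⟨A, hA, hA2⟩ := exists_elem2 hD hp
  obtain rfl := key p hp A hA hA2
  obtain ⟨⟨-, n1⟩, ⟨n2, -⟩, -⟩ := tau2_compl_context hH hD hp hA hA2
  have hKA := n1 K hKD rfl
  have h3 : ¬ IsMulCommutative (pCoreOf 𝐨(K) Mst) := fun h3 => hL.not_isFtype
    (hU.eq hH (((isMulComm_iff_le_cent.1 h3).trans (cent_anti (hS.1.le_of_normal hq hQ.2 hA2.pgrp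
      (hA.trans inf_le_right)))).trans (n2.trans inf_le_left)) ▸ k1)
  obtain ⟨o1, ⟨o2, -⟩, -⟩ := nonabelian_tau2 hH hD hp hA hA2 hS.1.pgrp h3
  refine ⟨hq, o1, Set.eq_empty_of_forall_notMem fun s hs => ?_⟩
  obtain ⟨B, hB, hB2⟩ := (le_pRank_iff hs.1).1 ((hall_pRank_eq hs.1 h.hallU
    fun h => h.elim hs.2.1 fun h => (kap_subset h).2.2.2 hs).trans hs.2.2).ge
  have h4 : A ⊓ 𝐂(Ms H) ≤ M ⊓ H := le_inf ((inf_le_right.trans (cent_anti (hB.trans k2))).trans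
    (elem2_mmax hM.1.1 hs.1 (hB.trans h.hallU.1) hB2).1) (inf_le_left.trans (hA.trans inf_le_left))
  have hU1 : U ≠ ⊥ := ((h.eq_bot_iff hM.1.1).2.2.2 hM).2
  have hfr : Frob U K := ⟨hU1, ne_bot_of_card_prime hq, h.norm, (h.context hM.1.1).2.2.2.2.2.1⟩
  obtain ⟨⟨u, hu⟩, hu1⟩ := ne_bot_iff_exists_ne_one.1 hU1
  have h5 : A ⊓ 𝐂(Ms H) ≤ Ms H := ((le_inf (h4.trans k3.sup.ge) (inf_le_right.trans
    (cent_le_cent1 (k2 hu)))).trans (hfr.cent1_le hu fun h => hu1 (Subtype.ext h))).trans k2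
  exact hp.2.1 (isPi_Ms H _ hq (o2 ▸ card_dvd_of_le h5))

/-- BG 15.9(a),(b). -/
theorem nonFtype_signalizer_base {M : Subgroup G} (hM : IsCoatom M) {x : G} (hx : x ∈ Ms M)
    (hx1 : x ≠ 1) (hC : ¬ 𝐂[x] ≤ M) (hN : ¬ IsFtype (Nsig x)) :
    IsFtype M ∧ IsP2type (Nsig x) ∧
      ∃ E : Subgroup G, IsPiHallOf (sig M)ᶜ E M ∧ IsCyclic E ∧ Frob (Ms M) E := by
  obtain ⟨k1, -, k2, k3, k4⟩ := signalizer_context_multi hx1 ((multiSig_iff hx1 ⟨hM, hx⟩).2 hC)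
  obtain ⟨-, k5, -, k6⟩ := k4 M ⟨hM, hx⟩
  have hP := k3.resolve_left hN
  generalize Nsig x = N at *
  have hs := mmax_isSolvable k1.max
  obtain ⟨K, hK⟩ := exists_hall (H1.isSolvable_of_le k6.1 hs) (kap N)
  have hK' := hall_trans hK k6 (kap_subset_compl N)
  obtain ⟨U, hU, h1⟩ := ex_kappa_compl_le k1.max k6 hK' hK.1
  obtain ⟨r, hr, hd⟩ := Nat.exists_prime_and_dvd (orderOf_eq_one_iff.not.2 hx1)
  have hrt := k2 r hr hd
  obtain ⟨R, hR⟩ := exists_isSyl hr U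
  have h2 : 𝐍(R) ≤ M := norm_noncyclic_sigma hM (k5 hrt) hR.pgrp
    (hR.le.trans (h1.le_left.trans inf_le_left)) fun h => by
      have := pRank_le_one_of_isCyclic hr h
      rw [hR.pRank_eq hr, hall_pRank_eq hr hU.hallU
        (fun h => h.elim hrt.2.1 fun h => (kap_subset h).2.2.2 hrt), hrt.2.2] at this
      omega
  obtain ⟨L, hL, hKL⟩ := mmax_exists (cent_ne_top (ne_bot_of_isPtype hP.1 hK'))
  have hF := (P2type_signalizer hP hU hL hKL hr hR hM h2).1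
  have h3 : ta2 M = ∅ := by_contra fun h => by
    have := (tau2_P2type_signalizer hP hU hL hKL hr hR hM h2 (Set.nonempty_iff_ne_empty.2 h)).2.2
    exact (this ▸ hrt : r ∈ (∅ : Set ℕ))
  obtain ⟨E, hE, -⟩ := ex_sigma_compl hM bot_le (isPi_bot _)
  obtain ⟨E₁, h4⟩ := exists_hall (isSolvable_of_le_mmax hM hE.1) (ta1 M)
  obtain ⟨E₂, E₃, h⟩ := exists_sigmaCompl1 hM hE h4
  have h5 : E₂ = ⊥ := (eq_bot_or_tau2 h).resolve_right
    fun ⟨p, hp, _⟩ => (h3 ▸ hp : p ∈ (∅ : Set ℕ))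
  obtain ⟨c, hc, hcM⟩ := SetLike.not_le_iff_exists.1 hC
  have h6 : x ∈ fittingOf M := le_fittingOf (Ms_normal M)
    (notP1type_Ms_nil hM fun h => h.1.not_isFtype hF) hx
  have h7 := (nonTI_fitting_structure hM h hcM fun h7 => hx1 (mem_bot.1 (h7 ▸ mem_inf.2 ⟨h6,
    mem_cent1_iff_conj.1 hc ▸ conj_mem_conj h6 c⟩))).2.1
  obtain ⟨-, l1, -, ⟨l2, -⟩, -⟩ := h.context hM
  have h8 := l2.sup
  rw [h5, h7.1, bot_sup_eq, bot_sup_eq] at h8
  subst h8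
  exact ⟨hF, hP, E₁, hE, h7.2.2, Ms_ne_bot hM, l1 h5, hE.1.trans (Ms_normal M).2,
    semiReg_of_prime fun X hX hXp => not_mem_kap_reg hM (hX.trans hE.1) hXp
      (Or.inl (h4.2.1 _ hXp (card_dvd_of_le hX))) (by simp [hF.2])⟩

end Cfsg.Agent.FT
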