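/-
BG section 16 / PF section 8, part 1: elementary facts on the types F and P.
-/
import Cfsg.Agent.FT.BG15

set_option autoImplicit false
set_option linter.unusedSectionVars false
set_option linter.unusedVariables false

namespace Cfsg.Agent.FT

open Subgroup Cfsg Cfsg.Agent
open scoped commutatorElement

universe u

variable {G : Type u} [Group G] [Finite G] [MinOdd G]

namespace BG16

omit [Finite G] [MinOdd G] in
theorem mem_hatSet_conj {W₁ W₂ : Subgroup G} {g x : G} :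
    x ∈ hatSet (W₁ ^ᵍ g) (W₂ ^ᵍ g) ↔ g⁻¹ * x * g ∈ hatSet W₁ W₂ := by
  rw [mem_hatSet, mem_hatSet, ← conj_sup, mem_conj, mem_conj, mem_conj]

omit [Finite G] [MinOdd G] in
theorem normedTI_conj {A B : Set G} {L : Subgroup G} (h : NormedTI A ⊤ L) (g : G)
    (hB : ∀ x, x ∈ B ↔ g⁻¹ * x * g ∈ A) : NormedTI B ⊤ (L ^ᵍ g) := by
  refine ⟨?_, fun h1 => h.one_notMem (by simpa using (hB 1).1 h1),
    fun x hx => mem_conj.2 (h.subset ((hB x).1 hx)), le_top, fun a ha x hx => ?_,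
    fun a _ x hx h1 => ?_⟩
  · obtain ⟨a, ha⟩ := h.nonempty
    exact ⟨g * a * g⁻¹, (hB _).2 (by rwa [show g⁻¹ * (g * a * g⁻¹) * g = a by group])⟩
  · have := h.norm _ (mem_conj.1 ha) _ ((hB x).1 hx)
    rw [hB]
    convert this using 1
    group
  · refine mem_conj.2 (h.ti _ (mem_top _) _ ((hB x).1 hx) ?_)
    have := (hB _).1 h1
    convert this using 1
    group

omit [MinOdd G] in
theorem isHallIn_trans {H K M : Subgroup G} (h : IsHallIn H K) (h' : IsHallIn K M) :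
    IsHallIn H M := hall_isHallIn (hall_trans h.hall h'.hall (piOf_mono h.1))

omit [MinOdd G] in
theorem isHallIn_of_le {H K M : Subgroup G} (h : IsHallIn H M) (hH : H ≤ K) (hK : K ≤ M) :
    IsHallIn H K := hall_isHallIn (hall_of_le h.hall hH hK)

omit [Finite G] [MinOdd G] in
theorem ne_one_of_conj {x g : G} (h : x ≠ 1) : g⁻¹ * x * g ≠ 1 := fun e => h (by
  have : x = g * (g⁻¹ * x * g) * g⁻¹ := by group
  rw [this, e]
  group)

omit [Finite G] [MinOdd G] in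
theorem cent1_eq_conj (x g : G) : 𝐂[x] = 𝐂[g⁻¹ * x * g] ^ᵍ g := by
  rw [← cent1_conj]
  congr 2
  group

/-- Complements of a nilpotent (or solvable) normal Hall subgroup are conjugate. -/
theorem compl_conj {H U V M : Subgroup G} (hs : Group.IsSolvable H) (hH : IsHallIn H M)
    (hU : SdProd H U M) (hV : SdProd H V M) : ∃ g ∈ H, U ^ᵍ g = V := by
  refine H1.exists_conj_eq_of_le_sup hV.norm ?_ (Or.inr hs) (by rw [sup_comm, hV.sup]; exact hU.le_right) ?_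
  · rw [← hV.relIndex_left]
    exact hH.2.symm
  · rw [← hU.relIndex_left, hV.relIndex_left]

theorem isSolvable_MF (M : Subgroup G) : Group.IsSolvable (MF M) :=
  isSolvable_of_isNilpotent (isNilpotent_MF M)

end BG16

open BG16

omit [MinOdd G] in
theorem OfTypeF.conj {M U : Subgroup G} (h : OfTypeF M U) (g : G) : OfTypeF (M ^ᵍ g) (U ^ᵍ g) := by
  obtain ⟨U₁, h1⟩ := h.inertia
  obtain ⟨U₀, h0⟩ := h.compl
  refine ⟨by rw [MF_conj, Ne, conj_eq_bot_iff]; exact h.ne_botF,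
    by rw [Ne, conj_eq_bot_iff]; exact h.ne_botU, by rw [MF_conj]; exact h.sd.conj g,
    ⟨U₁ ^ᵍ g, ⟨conj_mono h1.nrm.1 g, conj_le_norm_iff.2 h1.nrm.2⟩,
      (isMulComm_map_iff (conj_injective g)).2 h1.comm, fun x hx hx1 => ?_⟩,
    ⟨U₀ ^ᵍ g, conj_mono h0.le g, ?_, by rw [MF_conj]; exact h0.frob.conj g⟩⟩
  · rw [MF_conj, mem_conj] at hx
    rw [cent1_eq_conj x g, ← conj_inf]
    exact conj_mono (h1.cent _ hx (ne_one_of_conj hx1)) g
  · rw [exponent_map (conj_injective g), exponent_map (conj_injective g), h0.exp]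

omit [MinOdd G] in
theorem OfTypeP.conj {M U W₁ W₂ W : Subgroup G} (h : OfTypeP M U W₁ W₂ W) (g : G) :
    OfTypeP (M ^ᵍ g) (U ^ᵍ g) (W₁ ^ᵍ g) (W₂ ^ᵍ g) (W ^ᵍ g) := by
  have hi := conj_injective g
  refine ⟨h.dprod.conj g, (isCyclic_map_iff hi).2 h.cyc1, (isHallIn_map_iff hi).2 h.hall1,
    by rw [Ne, conj_eq_bot_iff]; exact h.ne_bot1, by rw [← conj_comm]; exact h.sdM.conj g,
    (isNilpotent_map_iff hi).2 h.nilU, conj_le_norm_iff.2 h.normU,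
    by rw [← conj_comm, MF_conj]; exact h.sdD.conj g,
    by rw [MF_conj, isCyclic_map_iff hi]; exact h.ncycF,
    by rw [← conj_comm, ← conj_comm, fittingOf_conj]; exact conj_mono h.der2_le g,
    by rw [MF_conj, fittingOf_conj, cent_conj, ← conj_inf, ← conj_sup, h.fit_eq],
    by rw [← conj_comm, fittingOf_conj]; exact conj_mono h.fit_le g,
    (isCyclic_map_iff hi).2 h.cyc2, by rw [Ne, conj_eq_bot_iff]; exact h.ne_bot2,
    by rw [MF_conj]; exact conj_mono h.le2F g,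
    by rw [← conj_comm, ← conj_comm]; exact conj_mono h.le2der g, fun x hx hx1 => ?_,
    normedTI_conj h.ti g fun _ => mem_hatSet_conj⟩
  rw [cent1_eq_conj x g, ← conj_comm, ← conj_inf, h.cent _ (mem_conj.1 hx) (ne_one_of_conj hx1)]

/-- Any complement of `M_F` works in the definition of type F. -/
theorem OfTypeF.of_sdProd {M U V : Subgroup G} (hM : M ≠ ⊤) (h : OfTypeF M U)
    (hV : SdProd (MF M) V M) : OfTypeF M V := by
  obtain ⟨g, hg, rfl⟩ := compl_conj (isSolvable_MF M) (isHallIn_MF M) h.sd hV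
  have := h.conj g
  rwa [conj_eq_of_mem (MF_le M hg)] at this

theorem Frob.ofTypeF {M U : Subgroup G} (h : Frob (MF M) U) (hM : MF M ⊔ U = M) : OfTypeF M U := by
  refine ⟨h.ne_botK, h.ne_botR, ⟨hM, h.norm, h.reg.disj⟩,
    ⟨⊥, ⟨bot_le, by rw [norm_bot]; exact le_top⟩, inferInstance,
      fun x hx hx1 => (h.reg.symm x hx hx1).le⟩, ⟨U, le_rfl, rfl, h⟩⟩

/-- PF (8.2)(a),(b). -/
theorem OfTypeF.context {M U : Subgroup G} (h : OfTypeF M U) :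
    (∀ U₀, TypeFCompl M U U₀ → 𝐨(U₀) = Monoid.exponent U) ∧ (IsZGroup U ↔ Frob (MF M) U) := by
  have h1 : ∀ U₀, TypeFCompl M U U₀ → 𝐨(U₀) = Monoid.exponent U := by
    intro U₀ h0
    have := odd_regular_zgroup (odd_card U₀) h0.frob.ne_botK h0.frob.norm h0.frob.reg
    rw [← h0.exp, IsZGroup.exponent_eq_card]
  refine ⟨h1, fun hZ => ?_, fun hF => odd_regular_zgroup (odd_card U) hF.ne_botK hF.norm hF.reg⟩
  obtain ⟨U₀, h0⟩ := h.compl
  have : U₀ = U := H1.eq_of_le_of_card_le h0.le (by rw [h1 U₀ h0, IsZGroup.exponent_eq_card])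
  exact this ▸ h0.frob

/-- Elementary consequences of PF (8.4). -/
theorem OfTypeP.basic {M U W₁ W₂ W : Subgroup G} (h : OfTypeP M U W₁ W₂ W) :
    SdProd U W₁ (U ⊔ W₁) ∧ SdProd (MF M) (U ⊔ W₁) M ∧ ⁅M, M⁆ ⊓ 𝐂(W₁) = W₂ ∧
      MF M ⊓ 𝐂(W₁) = W₂ ∧ SemiReg U W₁ ∧ SemiPrime ⁅M, M⁆ W₁ ∧ W ≤ M ∧ IsCyclic W ∧
      𝐨(⁅M, M⁆).Coprime 𝐨(W₁) ∧ (U ≠ ⊥ → Frob U W₁) := by
  have hU := h.sdD.le_right
  have hF := h.sdD.le_left
  have h2 : W₂ ≤ ⁅M, M⁆ := h.le2F.trans hF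
  have hC : ⁅M, M⁆ ⊓ 𝐂(W₁) = W₂ := by
    obtain ⟨x, rfl⟩ := isCyclic_iff_zpowers.1 h.cyc1
    rw [cent_zpowers]
    exact h.cent x (mem_zpowers x) (zpowers_eq_bot.not.1 h.ne_bot1)
  have hreg : SemiReg U W₁ := fun x hx hx1 => le_bot_iff.1 (h.sdD.disj ▸ le_inf
    (((inf_le_inf_right _ hU).trans (h.cent x hx hx1).le).trans h.le2F) inf_le_left)
  have hcop : 𝐨(⁅M, M⁆).Coprime 𝐨(W₁) := by
    rw [← h.sdM.relIndex_right]
    exact h.hall1.2.symm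
  refine ⟨⟨rfl, h.normU, le_bot_iff.1 (h.sdM.disj ▸ inf_le_inf_right _ hU)⟩,
    ⟨by rw [← sup_assoc, h.sdD.sup, h.sdM.sup],
      (sup_le (hU.trans (der_le M)) h.sdM.le_right).trans (MF_normal M).2, ?_⟩, hC,
    le_antisymm ((inf_le_inf_right _ hF).trans hC.le) (le_inf h.le2F (hC.ge.trans inf_le_right)),
    hreg, fun x hx hx1 => by rw [h.cent x hx hx1, hC], ?_,
    h.dprod.isCyclic h.cyc1 h.cyc2 (H1.coprime_of_le hcop.symm le_rfl h2), hcop,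
    fun hU1 => ⟨hU1, h.ne_bot1, h.normU, hreg⟩⟩
  · have h3 : (U ⊔ W₁) ⊓ ⁅M, M⁆ = U := by
      rw [sup_inf_of_le_left h.normU hU, inf_comm, h.sdM.disj, sup_bot_eq]
    exact le_bot_iff.1 (h.sdD.disj ▸ le_inf inf_le_left
      ((le_inf inf_le_right (inf_le_left.trans hF)).trans h3.le))
  · rw [← h.dprod.sup]
    exact sup_le h.sdM.le_right (h2.trans (der_le M))

theorem OfTypeP.cycTI {M U W₁ W₂ W : Subgroup G} (h : OfTypeP M U W₁ W₂ W) : CycTI ⊤ W₁ W₂ W :=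
  ⟨h.dprod, h.basic.2.2.2.2.2.2.2.1, odd_card W, h.ti⟩

theorem OfTypeP.primeTI {M U W₁ W₂ W : Subgroup G} (h : OfTypeP M U W₁ W₂ W) :
    PrimeTI M ⁅M, M⁆ W₁ W₂ W :=
  ⟨h.dprod, h.sdM, h.ne_bot1, h.hall1, h.cyc1, h.ne_bot2, h.le2F.trans h.sdD.le_left, h.cyc2,
    h.cent, odd_card W⟩

theorem BG16.isHallIn_der {M U W₁ W₂ W : Subgroup G} (h : OfTypeP M U W₁ W₂ W) :
    IsHallIn ⁅M, M⁆ M :=
  ⟨der_le M, by rw [h.sdM.relIndex_left]; exact h.basic.2.2.2.2.2.2.2.2.1⟩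

theorem BG16.isHallIn_MF_der {M U W₁ W₂ W : Subgroup G} (h : OfTypeP M U W₁ W₂ W) :
    IsHallIn (MF M) ⁅M, M⁆ := isHallIn_of_le (isHallIn_MF M) h.sdD.le_left (der_le M)

theorem BG16.coprime_MF_U {M U W₁ W₂ W : Subgroup G} (h : OfTypeP M U W₁ W₂ W) :
    𝐨(MF M).Coprime 𝐨(U) := by
  rw [← h.sdD.relIndex_left]
  exact (isHallIn_MF_der h).2

theorem BG16.hall_U {M U W₁ W₂ W : Subgroup G} (h : OfTypeP M U W₁ W₂ W) :
    IsPiHallOf (piOf (MF M))ᶜ U ⁅M, M⁆ :=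
  (h.sdD.hall (isPi_piOf _) (coprime_iff_isPi_compl.1 (coprime_MF_U h).symm)).2

/-- PF (8.5)(a),(b). -/
theorem OfTypeP.facts {M U W₁ W₂ W : Subgroup G} (h : OfTypeP M U W₁ W₂ W) :
    DProd (MF M) (U ⊓ 𝐂(MF M)) (fittingOf M) ∧ ⁅U, U⁆ ≤ 𝐂(MF M) ∧ (U ≠ ⊥ → ¬ U ≤ 𝐂(MF M)) := by
  have hU := h.sdD.le_right
  have h1 : U ⊓ fittingOf M ≤ 𝐂(MF M) :=
    le_cent_of_coprime_of_isNilpotent (H2.isNilpotent_fittingOf M) inf_le_right (MF_le_fittingOf M)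
      (H1.coprime_of_le (coprime_MF_U h).symm inf_le_left le_rfl)
  have h2 : U ⊓ 𝐂(MF M) = U ⊓ fittingOf M := le_antisymm
    (le_inf inf_le_left (h.fit_eq ▸ (inf_le_inf_right _ (hU.trans (der_le M))).trans le_sup_right))
    (le_inf inf_le_left h1)
  refine ⟨⟨?_, inf_le_right, le_bot_iff.1 (h.sdD.disj ▸ inf_le_inf_left _ inf_le_left)⟩,
    (le_inf (der_le U) ((commutator_mono hU hU).trans h.der2_le)).trans h1, fun hU1 hC => hU1 ?_⟩
  · rw [h2, ← sup_inf_of_le_left h.sdD.norm (MF_le_fittingOf M), h.sdD.sup,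
      inf_eq_right.2 h.fit_le]
  · have h3 : DProd (MF M) U ⁅M, M⁆ := ⟨h.sdD.sup, hC, h.sdD.disj⟩
    have h4 := le_MF (der_normal M) (h3.isNilpotent (isNilpotent_MF M) h.nilU) (isHallIn_der h)
    exact le_bot_iff.1 (h.sdD.disj ▸ le_inf (hU.trans h4) le_rfl)

theorem OfTypeP.not_typeF {M U W₁ W₂ W K : Subgroup G} (h : OfTypeP M U W₁ W₂ W) :
    ¬ OfTypeF M K := by
  intro hF
  obtain ⟨U₀, h0⟩ := hF.compl
  obtain ⟨p, hp, hd⟩ := exists_prime_dvd_card h.ne_bot1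
  have hpF : ¬ p ∣ 𝐨(MF M) := fun h1 => hp.one_lt.ne' (Nat.eq_one_of_dvd_coprimes
    h.basic.2.2.2.2.2.2.2.2.1 (h1.trans (card_dvd_of_le h.sdD.le_left)) hd)
  have hpK : p ∣ 𝐨(K) := by
    have := hd.trans (card_dvd_of_le h.sdM.le_right)
    rw [hF.sd.card] at this
    exact ((Nat.Prime.dvd_mul hp).1 this).resolve_left hpF
  have hp0 : p ∣ 𝐨(U₀) := by
    rw [hF.context.1 U₀ h0]
    obtain ⟨x, hx, rfl⟩ := exists_mem_orderOf_eq_prime hp hpK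
    rw [← Subgroup.orderOf_mk x hx]
    exact Monoid.order_dvd_exponent _
  obtain ⟨Y, hY, hYp⟩ := exists_le_card_eq_prime hp hp0
  obtain ⟨S, hS⟩ := exists_isSyl hp W₁
  obtain ⟨g, hg, hle⟩ := (hS.trans_hall hp h.hall1.hall ⟨hp, hd⟩).exists_conj_le hp
    (isPGroup_of_card_prime hYp) (hY.trans (h0.le.trans hF.sd.le_right))
  have hY1 : Y ≠ ⊥ := ne_bot_of_card_prime (hYp ▸ hp)
  have h1 := h0.frob.reg.cent_eq_bot hY hY1
  have h2 : MF M ⊓ 𝐂(Y ^ᵍ g) = ⊥ := by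
    rw [cent_conj, ← conj_eq_of_mem_norm ((MF_normal M).2 hg), ← conj_inf, h1, conj_bot]
  exact h.ne_bot2 (le_bot_iff.1 (h2 ▸ le_inf h.le2F
    ((h.basic.2.2.1.ge.trans inf_le_right).trans (cent_anti (hle.trans hS.le)))))

theorem OfTypeP.exists_conj {M U W₁ W₂ W U' W₁' W₂' W' : Subgroup G} (hM : M ≠ ⊤)
    (h : OfTypeP M U W₁ W₂ W) (h' : OfTypeP M U' W₁' W₂' W') :
    ∃ g ∈ M, U' = U ^ᵍ g ∧ W₁' = W₁ ^ᵍ g ∧ W₂' = W₂ ^ᵍ g ∧ W' = W ^ᵍ g := by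
  have hs : Group.IsSolvable ↥⁅M, M⁆ := H1.isSolvable_of_le (der_le M) (isSolvable_of_ne_top hM)
  obtain ⟨a, ha, e1⟩ := compl_conj hs (isHallIn_der h) h.sdM h'.sdM
  have h1 := h.conj a
  rw [conj_eq_of_mem (der_le M ha), e1] at h1
  obtain ⟨c, hc, e2⟩ := H1.invariant_isPiHallOf_conj h'.sdM.norm
    h'.basic.2.2.2.2.2.2.2.2.1.symm hs (hall_U h') h'.normU (hall_U h1) h1.normU
  have h2 := h1.conj c
  rw [conj_eq_of_mem (der_le M hc.1), e2, conj_eq_of_mem_norm (cent_le_norm _ hc.2), conj_conj,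
    conj_conj] at h2
  have e3 : W₂' = W₂ ^ᵍ (c * a) := by rw [← h'.basic.2.2.1, h2.basic.2.2.1]
  refine ⟨c * a, mul_mem (der_le M hc.1) (der_le M ha), by rw [← conj_conj, e2], ?_, e3, ?_⟩
  · rw [← conj_conj, e1, conj_eq_of_mem_norm (cent_le_norm _ hc.2)]
  · rw [← h'.dprod.sup, ← h2.dprod.sup, e3]

theorem OfTypeP.compl_conj {M U W₁ W₂ W V : Subgroup G} (h : OfTypeP M U W₁ W₂ W)
    (hV : SdProd (MF M) V ⁅M, M⁆) : ∃ g ∈ MF M, V = U ^ᵍ g := by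
  obtain ⟨g, hg, e⟩ := BG16.compl_conj (isSolvable_MF M) (isHallIn_MF_der h) h.sdD hV
  exact ⟨g, hg, e.symm⟩

theorem BG16.MF_der {M U W₁ W₂ W : Subgroup G} (h : OfTypeP M U W₁ W₂ W) :
    MF ⁅M, M⁆ = MF M := le_antisymm
  (le_MF ⟨(MF_le _).trans (der_le M), (der_normal M).2.trans (norm_le_norm_MF _)⟩
    (isNilpotent_MF _) (isHallIn_trans (isHallIn_MF _) (isHallIn_der h)))
  (le_MF (normal_of_le (MF_normal M) h.sdD.le_left (der_le M)) (isNilpotent_MF M)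
    (isHallIn_MF_der h))

omit [Finite G] [MinOdd G] in
theorem TypePPair.symm {S T W₁ W₂ W : Subgroup G} (h : TypePPair S T W₁ W₂ W) :
    TypePPair T S W₂ W₁ W :=
  ⟨h.maxT, h.maxS, h.cyc, h.dprod.symm, h.ne_bot2, h.ne_bot1, hatSet_comm W₁ W₂ ▸ h.ti, h.sdT,
    h.sdS, inf_comm S T ▸ h.inf, h.type2.symm, h.neT, h.neS,
    fun M hM h1 => (h.conj M hM h1).symm⟩

theorem TypePPair.cycTI {S T W₁ W₂ W : Subgroup G} (h : TypePPair S T W₁ W₂ W) :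
    CycTI ⊤ W₁ W₂ W := ⟨h.dprod, h.cyc, odd_card W, h.ti⟩

theorem TypePPair.not_conj {S T W₁ W₂ W : Subgroup G} (h : TypePPair S T W₁ W₂ W) :
    ¬ Conj S T := by
  rintro ⟨g, rfl⟩
  have h1 := h.dprod.coprime_of_isCyclic h.cyc
  have h2 : 𝐨(W₂) = 𝐨(W₁) := by
    rw [← h.sdT.relIndex_left, ← h.sdS.relIndex_left, ← conj_comm, relIndex_conj]
  rw [h2, Nat.coprime_self] at h1
  exact h.ne_bot1 (Subgroup.card_eq_one.1 h1)

/-- BG Theorem I, first part. -/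
theorem nilpotent_hall_tame {H : Subgroup G} (hn : Group.IsNilpotent H) (hH : IsHallIn H ⊤)
    {x g : G} (hx : x ∈ H) (hg : g * x * g⁻¹ ∈ H) : ∃ n ∈ 𝐍(H), n * x * n⁻¹ = g * x * g⁻¹ := by
  obtain ⟨M, hM, hle⟩ := nilpotent_hall_sigma hn hH
  obtain ⟨n, hn, e⟩ := sigma_hall_tame hM (isHallIn_of_le hH hle le_top) hx hg
  exact ⟨n, hn.2, e⟩

/-- PF (8.11). -/
theorem ftCore_facts {M : Subgroup G} (hM : IsCoatom M) :
    IsHallIn (MF M) ⊤ ∧ IsHallIn (Ms M) ⊤ ∧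
      ∀ p : ℕ, p.Prime → ∀ S : Subgroup G, IsSyl p S (Ms M) → S ≠ ⊥ → 𝐍(S) ≤ M := by
  have h1 := hall_isHallIn (Ms_hall hM).2
  refine ⟨isHallIn_trans (isHallIn_of_le (isHallIn_MF M) (Fcore_basic hM).2.1 (Ms_le M)) h1, h1,
    fun p hp S hS hS1 => ?_⟩
  have hσ := mem_of_isPi_of_isPGroup hp hS.pgrp hS1 (isPi_of_le hS.le (isPi_Ms M))
  exact (sigma_sylow hσ (hS.trans_hall hp (Ms_hall hM).1 hσ)).1

end Cfsg.Agent.FT
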