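/-
BG section 16 / PF section 8, part 2: the types of the maximal subgroups.
-/
import Cfsg.Agent.FT.P.BG16_1

set_option autoImplicit false
set_option linter.unusedSectionVars false
set_option linter.unusedVariables false

namespace Cfsg.Agent.FT

open Subgroup Cfsg Cfsg.Agent
open scoped commutatorElement

universe u

variable {G : Type u} [Group G] [Finite G] [MinOdd G]

open BG14 BG16

namespace BG16

theorem ftType_one_iff {M : Subgroup G} (hM : IsCoatom M) : ftType M = 1 ↔ IsFtype M :=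
  ⟨fun h => ⟨hM, ftType_eq_one_iff.1 h⟩, fun h => ftType_eq_one_iff.2 h.2⟩

theorem ftType_ne_one_iff {M : Subgroup G} (hM : IsCoatom M) : ftType M ≠ 1 ↔ IsPtype M := by
  rw [Ne, ftType_eq_one_iff]
  exact ⟨fun h => ⟨hM, Set.nonempty_iff_ne_empty.2 h⟩, fun h => h.2.ne_empty⟩

theorem ftType_two_iff {M : Subgroup G} (hM : IsCoatom M) : ftType M = 2 ↔ IsP2type M := by
  rw [ftType_eq_two_iff]
  exact ⟨fun h => ⟨⟨hM, Set.nonempty_iff_ne_empty.2 h.1⟩, h.2⟩, fun h => ⟨h.1.2.ne_empty, h.2⟩⟩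

theorem two_lt_ftType_iff {M : Subgroup G} (hM : IsCoatom M) : 2 < ftType M ↔ IsP1type M := by
  constructor
  · intro h
    exact ((ftType_ne_one_iff hM).1 (by omega)).p1_or_p2.resolve_right fun h2 => by
      have := (ftType_two_iff hM).2 h2
      omega
  · intro h
    have h1 := (ftType_ne_one_iff hM).2 h.1
    have h2 : ftType M ≠ 2 := fun e => ((ftType_two_iff hM).1 e).2 h.2
    have := (ftType_range M).1
    omega

theorem ftType_five_iff {M : Subgroup G} (hM : IsCoatom M) :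
    ftType M = 5 ↔ IsP1type M ∧ MF M = Ms M := by
  rw [← two_lt_ftType_iff hM]
  unfold ftType
  split_ifs <;> simp_all

theorem ftType_three_iff {M : Subgroup G} (hM : IsCoatom M) :
    ftType M = 3 ↔ IsP1type M ∧ MF M ≠ Ms M ∧ ⁅Ms M, Ms M⁆ ≤ MF M := by
  rw [← two_lt_ftType_iff hM]
  unfold ftType
  split_ifs <;> simp_all

theorem ftType_four_iff {M : Subgroup G} (hM : IsCoatom M) :
    ftType M = 4 ↔ IsP1type M ∧ MF M ≠ Ms M ∧ ¬ ⁅Ms M, Ms M⁆ ≤ MF M := by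
  rw [← two_lt_ftType_iff hM]
  unfold ftType
  split_ifs <;> simp_all

theorem Ms_eq_der_of_P1 {M : Subgroup G} (hM : IsP1type M) : Ms M = ⁅M, M⁆ := by
  obtain ⟨K, hK⟩ := exists_hall (mmax_isSolvable hM.1.1) (kap M)
  obtain ⟨M', hP⟩ := exists_pair hM.1 hK
  obtain ⟨U, hU⟩ := ex_kappa_compl hM.1.1 hK
  rw [hP.der_eq hU, (hU.eq_bot_iff hM.1.1).2.1.2 hM, sup_bot_eq]

theorem MF_eq_Ms_of_not_P1 {M : Subgroup G} (hM : IsCoatom M) (h : ¬ IsP1type M) :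
    MF M = Ms M := (Fcore_eq_Ms_iff hM).2 (notP1type_Ms_nil hM h)

theorem IsP2type.not_P1 {M : Subgroup G} (h : IsP2type M) : ¬ IsP1type M := fun h' => h.2 h'.2

theorem typeP_hall {M U W₁ W₂ W : Subgroup G} (hM : IsCoatom M) (h : OfTypeP M U W₁ W₂ W) :
    IsPtype M ∧ IsPiHallOf (kap M) W₁ M ∧ Ms M ⊓ 𝐂(W₁) = W₂ := by
  have hW := h.sdM.le_right
  have h2 : Ms M ⊓ 𝐂(W₁) = W₂ := le_antisymm
    ((inf_le_inf_right _ (Ms_le_der hM)).trans h.basic.2.2.1.le)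
    (le_inf (h.le2F.trans (Fcore_basic hM).2.1) (h.basic.2.2.1.ge.trans inf_le_right))
  have hk : IsPiSubgroup (kap M) W₁ := by
    intro p hp hd
    obtain ⟨X, hX, hXp⟩ := exists_le_card_eq_prime hp hd
    refine ⟨mem_ta13_iff.2 ⟨hp, der_quo_sigma' hM (by rwa [h.sdM.relIndex_left]) hp, ?_⟩, X,
      hX.trans hW, hXp, fun e => h.ne_bot2 (le_bot_iff.1
        (e ▸ h2.ge.trans (inf_le_inf_left _ (cent_anti hX))))⟩
    rw [← hall_pRank_eq hp h.hall1.hall ⟨hp, hd⟩]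
    exact le_antisymm (pRank_le_one_of_isCyclic hp h.cyc1) ((pRank_pos_iff hp).2 hd)
  have hP := isPtype_of_ne_bot hM hk h.ne_bot1
  obtain ⟨K, hK, hle⟩ := exists_hall_ge (mmax_isSolvable hM) hW hk
  obtain ⟨M', hPair⟩ := exists_pair hP hK
  have : W₁ = K := H1.eq_of_le_of_card_le hle
    (by rw [← hPair.sd_der.relIndex_left, h.sdM.relIndex_left])
  exact ⟨hP, this ▸ hK, h2⟩

theorem typeP_kappaCompl {M U W₁ W₂ W : Subgroup G} (hM : IsP2type M)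
    (h : OfTypeP M U W₁ W₂ W) : KappaCompl M U W₁ := by
  have hMc := hM.1.1
  obtain ⟨-, hK, -⟩ := typeP_hall hMc h
  obtain ⟨U₀, hU₀⟩ := ex_kappa_compl hMc hK
  obtain ⟨M', hP⟩ := exists_pair hM.1 hK
  have e := MF_eq_Ms_of_not_P1 hMc (IsP2type.not_P1 hM)
  have h1 : SdProd (MF M) U₀ ⁅M, M⁆ := by
    rw [hP.der_eq hU₀, e]
    exact (hU₀.context hMc).2.2.1
  exact ⟨hall_of_card_eq hU₀.hallU (h.sdD.le_right.trans (der_le M))
    (by rw [← h1.relIndex_left, h.sdD.relIndex_left]), hK, h.normU⟩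

theorem norm_le_of_P1 {M U W₁ W₂ W : Subgroup G} (hM : IsP1type M)
    (h : OfTypeP M U W₁ W₂ W) (hU : U ≠ ⊥) : 𝐍(U) ≤ M := by
  obtain ⟨p, hp, hd⟩ := exists_prime_dvd_card hU
  obtain ⟨S, hS⟩ := exists_isSyl hp U
  have h1 : IsSyl p S (Ms M) := by
    rw [Ms_eq_der_of_P1 hM]
    exact hS.trans_hall hp (hall_U h) (coprime_iff_isPi_compl.1 (coprime_MF_U h).symm p hp hd)
  exact (hS.norm_le_of_isNilpotent hp h.nilU).trans
    ((ftCore_facts hM.1.1).2.2 p hp S h1 (hS.ne_bot hp hd))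

theorem P2_not_norm {M U K : Subgroup G} (hM : IsP2type M) (h : KappaCompl M U K) :
    ¬ 𝐍(U) ≤ M := by
  have hF := frob_UK hM h
  obtain ⟨M', hP⟩ := exists_pair hM.1 h.hallK
  obtain ⟨r, hr, hd⟩ := exists_prime_dvd_card hF.ne_botK
  obtain ⟨R, hR⟩ := exists_isSyl hr U
  obtain ⟨H, hH, hN⟩ := mmax_exists (norm_ne_top_of_isPGroup hr hR.pgrp (hR.ne_bot hr hd))
  exact fun hle => (P2type_signalizer hM h hP.hM'.1
    (hP.uniq le_rfl (P2_facts hM h.hallK).2.1).le hr hR hH hN).2.2.2.1 (inf_le_right.trans hle)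

end BG16

/-- The link between the BG and PF notations for groups of type P. -/
theorem OfTypeP.bg_facts {M U W₁ W₂ W : Subgroup G} (hM : IsCoatom M) (h : OfTypeP M U W₁ W₂ W) :
    IsPtype M ∧ IsPiHallOf (kap M) W₁ M ∧ Ms M ⊓ 𝐂(W₁) = W₂ ∧
      (IsP1type M ↔ U = ⊥ ∨ 𝐍(U) ≤ M) ∧ (IsP1type M → Ms M = ⁅M, M⁆) ∧
      (IsP2type M → Ms M = MF M) := by
  obtain ⟨h1, h2, h3⟩ := typeP_hall hM h
  refine ⟨h1, h2, h3, ⟨fun h4 => ?_, fun h4 => h1.p1_or_p2.resolve_right fun h5 => ?_⟩,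
    Ms_eq_der_of_P1, fun h4 => (MF_eq_Ms_of_not_P1 hM (IsP2type.not_P1 h4)).symm⟩
  · by_cases hU : U = ⊥
    · exact Or.inl hU
    · exact Or.inr (norm_le_of_P1 h4 h hU)
  · have h6 := typeP_kappaCompl h5 h
    exact h4.elim (frob_UK h5 h6).ne_botK (P2_not_norm h5 h6)

theorem OfTypeP.ftType_ne_one {M U W₁ W₂ W : Subgroup G} (hM : IsCoatom M)
    (h : OfTypeP M U W₁ W₂ W) : ftType M ≠ 1 :=
  (ftType_ne_one_iff hM).2 (typeP_hall hM h).1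

theorem BG16.exists_not_ti {M : Subgroup G} (hM : IsCoatom M)
    (h : ¬ NormedTI (sharp (MF M)) ⊤ M) :
    ∃ g : G, g ∉ M ∧ fittingOf M ⊓ fittingOf M ^ᵍ g ≠ ⊥ := by
  by_contra hn
  refine h (normedTI_sharp_iff.2 ⟨(Fcore_basic hM).1, MF_normal M, le_top, fun g _ hg => ?_⟩)
  by_contra hgM
  exact hn ⟨g, hgM, fun e => hg (le_bot_iff.1
    (e ▸ inf_le_inf (MF_le_fittingOf M) (conj_mono (MF_le_fittingOf M) g)))⟩

theorem BG16.mem_piOf_MF {M : Subgroup G} (hM : IsCoatom M) (e : MF M = Ms M) {p : ℕ}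
    (hp : p ∈ sig M) : p ∈ piOf (MF M) :=
  ⟨hp.1, by rw [e]; exact (hall_dvd_card_iff (Ms_hall hM).1 hp.1 hp).2 hp.2.1⟩

theorem BG16.hall_compl_of_sd {M U : Subgroup G} (hM : IsCoatom M) (hU : SdProd (Ms M) U M) :
    IsPiHallOf (sig M)ᶜ U M :=
  (hU.hall (isPi_Ms M) fun p hp hd hσ =>
    hall_not_dvd (Ms_hall hM).1 hp hσ (by rwa [hU.relIndex_left])).2

/-- BG 16.1(a). -/
theorem ofTypeI_of_ftType {M U : Subgroup G} (hM : IsCoatom M) (h : ftType M = 1)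
    (hU : SdProd (MF M) U M) : OfTypeI M U := by
  have hF := (ftType_one_iff hM).1 h
  have e := MF_eq_Ms_of_not_P1 hM fun h1 => h1.1.not_isFtype hF
  have hE : IsPiHallOf (sig M)ᶜ U M := hall_compl_of_sd hM (e ▸ hU)
  obtain ⟨⟨A₀, h1, h2, h3⟩, E₀, h4, h5, h6⟩ := typeF_complement hM hE fun x hx hx1 hπ => by
    obtain ⟨p, hp, hd⟩ := exists_prime_dvd_orderOf hx1
    obtain ⟨X, hX, hXp⟩ := exists_le_zpowers_prime hp hd
    exact le_bot_iff.1 (Ftype_cent_eq_bot hF (hπ p hp hd)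
      (hX.trans (zpowers_le.2 (hall_le hE hx))) hXp ▸
      inf_le_inf_left _ (cent1_le_cent_of_le_zpowers hX))
  refine ⟨⟨(Fcore_basic hM).1, fun hb => h6.ne_botR (le_bot_iff.1 (hb ▸ h4)), hU,
    ⟨A₀, h1, h2, by rwa [e]⟩, ⟨E₀, h4, h5, by rwa [e]⟩⟩, ?_⟩
  by_cases hti : NormedTI (sharp (MF M)) ⊤ M
  · exact Or.inl hti
  · obtain ⟨g, hg, hX⟩ := exists_not_ti hM hti
    obtain ⟨E₁, E₂, E₃, hS⟩ := exists_sigmaCompl hM hE
    rcases (nonTI_fitting_structure hM hS hg hX).2.2 with h7 | ⟨p, -, hp, -, -, hc, h7⟩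
    · exact Or.inr (Or.inl h7.2)
    · refine Or.inr (Or.inr ⟨h7.resolve_right fun h8 => h8.2.1.1.not_isFtype hF, p,
        mem_piOf_MF hM e hp, hc⟩)

/-- BG 16.1: existence of the type P data, for a given Hall `κ`-subgroup. -/
theorem exists_ofTypeP_of_hall {M K : Subgroup G} (hM : IsPtype M) (hK : IsPiHallOf (kap M) K M) :
    ∃ U, OfTypeP M U K (Ms M ⊓ 𝐂(K)) (K ⊔ (Ms M ⊓ 𝐂(K))) := by
  have hMc := hM.1
  obtain ⟨M', hP⟩ := exists_pair hM hK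
  have hsd := hP.sd_der
  have hcop : 𝐨(K).Coprime 𝐨(⁅M, M⁆) := by
    rw [← hsd.relIndex_right]
    exact hall_coprime hK
  obtain ⟨U, hU, hn⟩ := H1.exists_invariant_isPiHallOf hsd.norm hcop
    (isSolvable_of_le_mmax hMc (der_le M)) (piOf (MF M))ᶜ
  have hFd : MF M ≤ ⁅M, M⁆ := (Fcore_basic hMc).2.1.trans (Ms_le_der hMc)
  have hsdD : SdProd (MF M) U ⁅M, M⁆ := sdProd_of_hall (hall_of_le (hall_MF M) hFd (der_le M)) hU
    ((der_le M).trans (MF_normal M).2)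
  obtain ⟨-, ⟨h1, h2, -⟩, h3, h4⟩ := fitting_structure hMc
  obtain ⟨c1, c2, c3, c4, c5⟩ := Ptype_cyclics hM hK
  refine ⟨U, dprod_Z hK, hP.cycK, hall_isHallIn hK, hP.ne_bot, hsd,
    (h3.mono hsdD.le_right le_rfl).isNilpotent_of_disj hsdD.disj, hn, hsdD, c5, h1, h2, h4 hM, c2,
    c1, c4, c3, fun x hx hx1 => ?_, hP.normedTI⟩
  have h5 : ⁅M, M⁆ ⊓ 𝐂[x] = (K ⊔ (Ms M ⊓ 𝐂(K))) ⊓ ⁅M, M⁆ := by
    rw [← hP.cent1_K hx hx1, inf_comm (M ⊓ _), ← inf_assoc, inf_eq_left.2 (der_le M)]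
  rw [h5, sup_comm, sup_inf_of_le_left (dprod_Z hK).symm.sdProd.norm (c4.trans hFd), inf_comm K,
    hsd.disj, sup_bot_eq]

theorem exists_ofTypeP {M : Subgroup G} (hM : IsCoatom M) (h : ftType M ≠ 1) :
    ∃ U W₁ W₂ W, OfTypeP M U W₁ W₂ W := by
  obtain ⟨K, hK⟩ := exists_hall (mmax_isSolvable hM) (kap M)
  obtain ⟨U, hU⟩ := exists_ofTypeP_of_hall ((ftType_ne_one_iff hM).1 h) hK
  exact ⟨U, _, _, _, hU⟩

theorem ftType_eq_one_of_ofTypeF {M U : Subgroup G} (hM : IsCoatom M) (h : OfTypeF M U) :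
    ftType M = 1 := by
  by_contra h1
  obtain ⟨U', W₁, W₂, W, h2⟩ := exists_ofTypeP hM h1
  exact h2.not_typeF h

theorem ftType_eq_one_of_frobKer {M : Subgroup G} (hM : IsCoatom M) (h : FrobKer M (MF M)) :
    ftType M = 1 := by
  obtain ⟨R, hR, e⟩ := h.exists_frob
  exact ftType_eq_one_of_ofTypeF hM (hR.ofTypeF e)

theorem OfTypeP.eq_bot_iff {M U W₁ W₂ W : Subgroup G} (hM : IsCoatom M)
    (h : OfTypeP M U W₁ W₂ W) : U = ⊥ ↔ ftType M = 5 := by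
  rw [ftType_five_iff hM]
  constructor
  · intro hU
    have h1 := (h.bg_facts hM).2.2.2.1.2 (Or.inl hU)
    refine ⟨h1, ?_⟩
    rw [Ms_eq_der_of_P1 h1, ← h.sdD.sup, hU, sup_bot_eq]
  · rintro ⟨h1, h2⟩
    rw [Ms_eq_der_of_P1 h1] at h2
    exact le_bot_iff.1 (h.sdD.disj ▸ le_inf (h.sdD.le_right.trans h2.ge) le_rfl)

/-- BG 16.1(b)-(d). -/
theorem OfTypeP.ofTypeIItoIV {M U W₁ W₂ W : Subgroup G} (hM : IsCoatom M)
    (h : OfTypeP M U W₁ W₂ W) (h5 : ftType M ≠ 5) : OfTypeIItoIV M U W₁ W₂ W := by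
  obtain ⟨h1, h2, -⟩ := typeP_hall hM h
  refine ⟨h, fun e => h5 ((h.eq_bot_iff hM).1 e), ?_, ?_⟩
  · rcases h1.p1_or_p2 with h3 | h3
    · exact (Fcore_structure hM (fun e => h5 ((ftType_five_iff hM).2 ⟨h3, e⟩)) h2).2.2.2.1
    · exact (P2_facts h3 h2).2.1
  · by_contra hn
    obtain ⟨h3, h4, -⟩ := nonTI_fitting_facts hM hn
    exact h5 ((ftType_five_iff hM).2 ⟨h3.resolve_left h1.not_isFtype, h4⟩)

theorem OfTypeP.ofTypeII_iff {M U W₁ W₂ W : Subgroup G} (hM : IsCoatom M)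
    (h : OfTypeP M U W₁ W₂ W) : OfTypeII M U W₁ W₂ W ↔ ftType M = 2 := by
  rw [ftType_two_iff hM]
  obtain ⟨h1, h2, -, h3, -, h4⟩ := h.bg_facts hM
  constructor
  · intro h5
    exact h1.p1_or_p2.resolve_left fun h6 => (h3.1 h6).elim h5.base.ne_botU h5.not_norm
  · intro h5
    have h6 := typeP_kappaCompl h5 h
    have hF := frob_UK h5 h6
    have hc := (h6.context hM).2.2.2.2.2.2 hF.ne_botR
    have e := MF_der h
    obtain ⟨U₀, a1, a2, a3⟩ := (kappa_structure hM h6).2.2.2.2 hF.ne_botK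
    refine ⟨h.ofTypeIItoIV hM (by rw [(ftType_two_iff hM).2 h5]; decide), hc, P2_not_norm h5 h6,
      ⟨by rw [e]; exact (Fcore_basic hM).1, hF.ne_botK, by rw [e]; exact h.sdD,
        ⟨U, ⟨le_rfl, le_norm_self U⟩, hc, fun _ _ _ => inf_le_left⟩,
        ⟨U₀, a1, a2, by rwa [e, ← h4 h5]⟩⟩, e⟩

theorem BG16.comm_iff {M U W₁ W₂ W : Subgroup G} (hM : IsP1type M) (h : OfTypeP M U W₁ W₂ W) :
    IsMulCommutative U ↔ ⁅Ms M, Ms M⁆ ≤ MF M := by
  rw [Ms_eq_der_of_P1 hM, isMulComm_iff_comm_eq_bot]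
  constructor
  · intro e
    have := h.sdD.der_le_sup
    rwa [e, sup_bot_eq] at this
  · intro e
    exact le_bot_iff.1 (h.sdD.disj ▸ le_inf
      ((commutator_mono h.sdD.le_right h.sdD.le_right).trans e) (der_le U))

theorem BG16.P1_ne_iff {M U W₁ W₂ W : Subgroup G} (hM : IsCoatom M) (h : OfTypeP M U W₁ W₂ W) :
    IsP1type M ∧ MF M ≠ Ms M ↔ OfTypeIItoIV M U W₁ W₂ W ∧ 𝐍(U) ≤ M := by
  have h3 := (h.bg_facts hM).2.2.2.1
  constructor
  · rintro ⟨a, b⟩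
    have h5 : ftType M ≠ 5 := fun e => b ((ftType_five_iff hM).1 e).2
    exact ⟨h.ofTypeIItoIV hM h5, (h3.1 a).resolve_left fun e => h5 ((h.eq_bot_iff hM).1 e)⟩
  · rintro ⟨a, b⟩
    have c := h3.2 (Or.inr b)
    exact ⟨c, fun e => a.ne_botU ((h.eq_bot_iff hM).2 ((ftType_five_iff hM).2 ⟨c, e⟩))⟩

theorem OfTypeP.ofTypeIII_iff {M U W₁ W₂ W : Subgroup G} (hM : IsCoatom M)
    (h : OfTypeP M U W₁ W₂ W) : OfTypeIII M U W₁ W₂ W ↔ ftType M = 3 := by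
  rw [ftType_three_iff hM]
  constructor
  · intro a
    obtain ⟨b, c⟩ := (P1_ne_iff hM h).2 ⟨a.base, a.norm⟩
    exact ⟨b, c, (comm_iff b h).1 a.comm⟩
  · rintro ⟨b, c, d⟩
    obtain ⟨e, f⟩ := (P1_ne_iff hM h).1 ⟨b, c⟩
    exact ⟨e, (comm_iff b h).2 d, f⟩

theorem OfTypeP.ofTypeIV_iff {M U W₁ W₂ W : Subgroup G} (hM : IsCoatom M)
    (h : OfTypeP M U W₁ W₂ W) : OfTypeIV M U W₁ W₂ W ↔ ftType M = 4 := by
  rw [ftType_four_iff hM]
  constructor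
  · intro a
    obtain ⟨b, c⟩ := (P1_ne_iff hM h).2 ⟨a.base, a.norm⟩
    exact ⟨b, c, fun d => a.not_comm ((comm_iff b h).2 d)⟩
  · rintro ⟨b, c, d⟩
    obtain ⟨e, f⟩ := (P1_ne_iff hM h).1 ⟨b, c⟩
    exact ⟨e, fun g => d ((comm_iff b h).1 g), f⟩

theorem OfTypeP.ofTypeV_iff {M U W₁ W₂ W : Subgroup G} (hM : IsCoatom M)
    (h : OfTypeP M U W₁ W₂ W) : OfTypeV M U W₁ W₂ W ↔ ftType M = 5 := by
  refine ⟨fun a => (h.eq_bot_iff hM).1 a.eq_bot, fun h5 => ⟨h, (h.eq_bot_iff hM).2 h5, ?_⟩⟩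
  obtain ⟨h1, e⟩ := (ftType_five_iff hM).1 h5
  by_cases hti : NormedTI (sharp (MF M)) ⊤ M
  · exact Or.inl hti
  · obtain ⟨g, hg, hX⟩ := exists_not_ti hM hti
    have hE : IsPiHallOf (sig M)ᶜ W₁ M :=
      hall_compl_of_sd hM (by rw [Ms_eq_der_of_P1 h1]; exact h.sdM)
    obtain ⟨E₁, E₂, E₃, hS⟩ := exists_sigmaCompl hM hE
    rcases (nonTI_fitting_structure hM hS hg hX).2.2 with h7 | ⟨p, -, hp, -, -, hc, h7⟩
    · exact absurd h7.1 h1.1.not_isFtype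
    · have hp' := mem_piOf_MF hM e hp
      rcases h7 with h7 | h7
      · have := h.cyc1
        exact Or.inr (Or.inl ⟨p, hp', hc, IsCyclic.exponent_eq_card (α := W₁) ▸ h7 p hp'⟩)
      · exact Or.inr (Or.inr ⟨p, hp', hc, h7.1, h7.2.2⟩)

/-- BG 16.1(f) / PF (8.10): `M_s = M_σ` is `M_F` for types I, II, V. -/
theorem Ms_eq_MF_iff {M : Subgroup G} (hM : IsCoatom M) :
    Ms M = MF M ↔ ftType M = 1 ∨ ftType M = 2 ∨ ftType M = 5 := by
  by_cases h : IsP1type M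
  · have h1 := (two_lt_ftType_iff hM).2 h
    have h2 := ftType_five_iff hM
    constructor
    · exact fun e => Or.inr (Or.inr (h2.2 ⟨h, e.symm⟩))
    · exact fun e => (h2.1 (by omega)).2.symm
  · have h1 : ¬ 2 < ftType M := fun e => h ((two_lt_ftType_iff hM).1 e)
    have h2 := (ftType_range M).1
    exact ⟨fun _ => by omega, fun _ => (MF_eq_Ms_of_not_P1 hM h).symm⟩

/-- PF (8.10): `M_s = M'` for types III, IV, V. -/
theorem Ms_eq_der {M : Subgroup G} (hM : IsCoatom M) (h : 2 < ftType M) : Ms M = ⁅M, M⁆ :=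
  Ms_eq_der_of_P1 ((two_lt_ftType_iff hM).1 h)

theorem BG16.typePPair_of_pair {M K M' K' : Subgroup G} (h : Pair M K M' K') :
    TypePPair M M' K K' (K ⊔ K') :=
  ⟨h.hM.1, h.hM'.1, h.cyc, h.dprod, h.ne_bot, h.symm.ne_bot, h.normedTI, h.sd_der, h.symm.sd_der,
    h.inf_eq, h.p2.imp (ftType_two_iff h.hM.1).2 (ftType_two_iff h.hM'.1).2,
    (ftType_ne_one_iff h.hM.1).2 h.hM, (ftType_ne_one_iff h.hM'.1).2 h.hM',
    fun H hH h1 => h.conj_or_conj ((ftType_ne_one_iff hH).1 h1)⟩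

theorem BG16.hall_kap_of_sd {S W₁ : Subgroup G} (hS : IsPtype S) (h : SdProd ⁅S, S⁆ W₁ S) :
    IsPiHallOf (kap S) W₁ S := by
  obtain ⟨K, hK⟩ := exists_hall (mmax_isSolvable hS.1) (kap S)
  obtain ⟨S', hP⟩ := exists_pair hS hK
  exact hall_of_card_eq hK h.le_right (by rw [← h.relIndex_left, hP.sd_der.relIndex_left])

theorem BG16.pair_of_typePPair {S T W₁ W₂ W : Subgroup G} (h : TypePPair S T W₁ W₂ W) :
    IsPtype S ∧ IsPiHallOf (kap S) W₁ S ∧ Ms S ⊓ 𝐂(W₁) = W₂ := by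
  have hS := (ftType_ne_one_iff h.maxS).1 h.neS
  have hT := (ftType_ne_one_iff h.maxT).1 h.neT
  have h1 := hall_kap_of_sd hS h.sdS
  have h2 := hall_kap_of_sd hT h.sdT
  obtain ⟨S', hP⟩ := exists_pair hS h1
  obtain ⟨g, rfl⟩ := (hP.conj_or_conj hT).resolve_left h.not_conj
  have h3 : 𝐨(W₂) = 𝐨(Ms S ⊓ 𝐂(W₁)) := by
    rw [H1.card_eq_of_isPiHallOf h2 (hP.conj g).hK', card_conj]
  refine ⟨hS, h1, (H1.eq_of_le_of_card_le (hP.le_of_isPi ?_ ?_) h3.ge).symm⟩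
  · rw [← hP.normK]
    exact le_inf (h.dprod.le_right.trans (h.inf.ge.trans inf_le_left))
      (h.dprod.cent.trans (cent_le_norm W₁))
  · intro p hp hd
    exact hP.isPi p hp (h3 ▸ hd)

/-- PF (8.9). -/
theorem TypePPair.exists_ofTypeP {S T W₁ W₂ W : Subgroup G} (h : TypePPair S T W₁ W₂ W) :
    ∃ U, OfTypeP S U W₁ W₂ W := by
  obtain ⟨h1, h2, h3⟩ := pair_of_typePPair h
  obtain ⟨U, hU⟩ := exists_ofTypeP_of_hall h1 h2
  rw [h3, h.dprod.sup] at hU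
  exact ⟨U, hU⟩

theorem OfTypeP.exists_pair {M U W₁ W₂ W : Subgroup G} (hM : IsCoatom M)
    (h : OfTypeP M U W₁ W₂ W) : ∃ T, TypePPair M T W₁ W₂ W := by
  obtain ⟨h1, h2, h3⟩ := typeP_hall hM h
  obtain ⟨T, hP⟩ := BG14.exists_pair h1 h2
  have := typePPair_of_pair hP
  rw [h3, h.dprod.sup] at this
  exact ⟨T, this⟩

/-- BG Theorem I, PF (8.8). -/
theorem typeP_pair_cases :
    (∀ M : Subgroup G, IsCoatom M → ftType M = 1) ∨
      ∃ S T W₁ W₂ W : Subgroup G, TypePPair S T W₁ W₂ W := by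
  by_cases h : ∀ M : Subgroup G, IsCoatom M → ftType M = 1
  · exact Or.inl h
  · push Not at h
    obtain ⟨M, hM, h1⟩ := h
    obtain ⟨U, W₁, W₂, W, h2⟩ := exists_ofTypeP hM h1
    obtain ⟨T, h3⟩ := h2.exists_pair hM
    exact Or.inr ⟨M, T, W₁, W₂, W, h3⟩

theorem BG16.exists_kappaCompl {M U : Subgroup G} (hM : IsCoatom M) (h : ftType M ≤ 2)
    (hU : SdProd (MF M) U (ftDer M)) : MF M = Ms M ∧ ∃ K, KappaCompl M U K := by
  have hn : ¬ IsP1type M := fun e => by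
    have := (two_lt_ftType_iff hM).2 e
    omega
  have e := MF_eq_Ms_of_not_P1 hM hn
  refine ⟨e, ?_⟩
  unfold ftDer at hU
  split_ifs at hU with h1
  · have hF := (ftType_one_iff hM).1 h1
    refine ⟨⊥, ?_, ?_, bot_le⟩
    · rw [hF.2, Set.union_empty]
      exact hall_compl_of_sd hM (e ▸ hU)
    · rw [hF.2]
      exact hall_bot fun _ _ _ => Set.notMem_empty _
  · obtain ⟨U₀, W₁, W₂, W, h2⟩ := exists_ofTypeP hM h1
    obtain ⟨g, hg, rfl⟩ := h2.compl_conj hU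
    have h3 := (typeP_kappaCompl (((ftType_ne_one_iff hM).1 h1).p1_or_p2.resolve_left hn)
      h2).conj g
    rw [conj_eq_of_mem (MF_le M hg)] at h3
    exact ⟨_, h3⟩

/-- PF (8.12). -/
theorem typeI_II_facts {M U : Subgroup G} (hM : IsCoatom M) (h : ftType M ≤ 2)
    (hU : SdProd (MF M) U (ftDer M)) :
    (∀ p : ℕ, p.Prime → ∀ S : Subgroup G, IsSyl p S U → IsMulCommutative S ∧ rank S ≤ 2) ∧
      (∀ X : Subgroup G, X ≤ U → X ≠ ⊥ → MF M ⊓ 𝐂(X) ≠ ⊥ → UniqMax 𝐂(X) M) ∧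
      ((ftA M \ ftA1 M).Nonempty → NormedTI (ftA M \ ftA1 M) ⊤ M) := by
  obtain ⟨e, K, hK⟩ := exists_kappaCompl hM h hU
  have hUM := hall_le hK.hallU
  have hUσ : IsPiSubgroup (sig M)ᶜ U :=
    isPi_mono (Set.compl_subset_compl.2 Set.subset_union_left) (hall_isPi hK.hallU)
  have h2 : ∀ X : Subgroup G, X ≤ U → X ≠ ⊥ → MF M ⊓ 𝐂(X) ≠ ⊥ → UniqMax 𝐂(X) M :=
    fun X hX hX1 hC => ((kappa_structure hM hK).2.2.1 X hX hX1 (e ▸ hC)).1
  have hD := (ftDer_normal M).1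
  refine ⟨fun p hp S hS => ⟨sigma'_nil_abelian hM (hS.le.trans hUM) (isPi_of_le hS.le hUσ)
    (isNilpotent_of_isPGroup hp hS.pgrp), rank_le_iff.2 fun q hq => ?_⟩, h2, fun hne => ?_⟩
  · by_cases hd : q ∣ 𝐨(S)
    · exact (pRank_mono hq (hS.le.trans hUM)).trans
        (sigma'_pRank_le hM hq (isPi_of_le hS.le hUσ q hq hd))
    · rw [(pRank_eq_zero_iff hq).2 hd]
      exact Nat.zero_le 2
  · have key : ∀ a ∈ ftA M \ ftA1 M, UniqMax 𝐂[piPt (sig M)ᶜ a] M := by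
      rintro a ⟨⟨ha, ha1, x, hx, hax⟩, hn⟩
      have hb1 : piPt (sig M)ᶜ a ≠ 1 := fun e1 => hn ⟨mem_Ms_of_isPiElt hM (hD ha)
        (by simpa using piPt_eq_one_iff.1 e1), ha1⟩
      obtain ⟨m, hm, hle⟩ := exists_conj_le_hall (isSolvable_of_le_mmax hM hD)
        (hU.hall (e ▸ isPi_Ms M) hUσ).2 (zpowers_le.2 (piPt_mem ha (sig M)ᶜ))
        (isPi_zpowers.2 (isPiElt_piPt _ a))
      have h3 := (h2 _ hle (by rw [Ne, conj_eq_bot_iff, zpowers_eq_bot]; exact hb1) (by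
        rw [cent_conj, ← conj_eq_of_mem_norm ((MF_normal M).2 (hD hm)), ← conj_inf, Ne,
          conj_eq_bot_iff, cent_zpowers, e]
        exact fun e1 => hx.2 (mem_bot.1 (e1 ▸ mem_inf.2
          ⟨hx.1, cent1_le_cent1_piPt _ a (mem_cent1_comm.1 hax)⟩)))).conj m⁻¹
      rwa [cent_conj, conj_conj_inv, conj_eq_of_mem (inv_mem (hD hm)), cent_zpowers] at h3
    refine ⟨hne, fun h1 => h1.1.2.1 rfl, fun a ha => hD ha.1.1, le_top, fun g hg a ha => ?_,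
      fun g _ a ha h1 => ?_⟩
    · have a1 := (conj_mem_ftA_conj (g := g)).2 ha.1
      have a2 := (conj_mem_ftA1_conj (g := g)).not.2 ha.2
      rw [conj_eq_of_mem hg] at a1 a2
      exact ⟨a1, a2⟩
    · have a1 := key _ h1
      rw [piPt_conj, cent1_conj] at a1
      exact (mmax_conj_eq_iff hM).1 (a1.eq (isCoatom_conj hM g) (conj_mono (key a ha).le g))

end Cfsg.Agent.FT
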