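/-
BG Theorems D, E, II and PF (8.13)-(8.18).
-/
import Cfsg.Agent.FT.BG16

set_option autoImplicit false

namespace Cfsg.Agent.FT

open Subgroup Cfsg Cfsg.Agent
open scoped commutatorElement

universe u

variable {G : Type u} [Group G] [Finite G] [MinOdd G]

namespace BG17

omit [Finite G] [MinOdd G] in
theorem ftDer_of_ne {M : Subgroup G} (h : ftType M ≠ 1) : ftDer M = ⁅M, M⁆ := if_neg h

omit [Finite G] [MinOdd G] in
theorem ftDer_of_eq {M : Subgroup G} (h : ftType M = 1) : ftDer M = M := if_pos h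

theorem Ms_le_ftDer {M : Subgroup G} (hM : IsCoatom M) : Ms M ≤ ftDer M := by
  unfold ftDer; split_ifs
  · exact Ms_le M
  · exact Ms_le_der hM

omit [Finite G] [MinOdd G] in
theorem isPtype_of_ne {M : Subgroup G} (hM : IsCoatom M) (h : ftType M ≠ 1) : IsPtype M :=
  ⟨hM, Set.nonempty_iff_ne_empty.2 fun e => h (ftType_eq_one_iff.2 e)⟩

omit [MinOdd G] in
theorem conj_mem_ftA0 {M : Subgroup G} {g x : G} (hg : g ∈ M) (hx : x ∈ ftA0 M) :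
    g * x * g⁻¹ ∈ ftA0 M := by
  have := (conj_mem_ftA0_conj (M := M) (g := g)).2 hx
  rwa [conj_eq_of_mem hg] at this

omit [MinOdd G] in
theorem conj_mem_ftA {M : Subgroup G} {g x : G} (hg : g ∈ M) (hx : x ∈ ftA M) :
    g * x * g⁻¹ ∈ ftA M := by
  have := (conj_mem_ftA_conj (M := M) (g := g)).2 hx
  rwa [conj_eq_of_mem hg] at this

omit [MinOdd G] in
theorem conj_mem_ftA1 {M : Subgroup G} {g x : G} (hg : g ∈ M) (hx : x ∈ ftA1 M) :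
    g * x * g⁻¹ ∈ ftA1 M := by
  have := (conj_mem_ftA1_conj (M := M) (g := g)).2 hx
  rwa [conj_eq_of_mem hg] at this

theorem ftR_eq_Rsig_of_le {M : Subgroup G} (hM : IsCoatom M) {x : G} (hx : x ∈ ftA1 M)
    (hC : 𝐂[x] ≤ M) : ftR M x = Rsig x := by
  rw [Rsig_eq_bot fun h => (multiSig_iff hx.2 ⟨hM, hx.1⟩).1 h hC]
  exact if_pos hC

theorem ftR_conj (M : Subgroup G) {x : G} (hx : x ≠ 1) (g : G) :
    ftR (M ^ᵍ g) (g * x * g⁻¹) = ftR M x ^ᵍ g := by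
  unfold ftR
  rw [cent1_conj, conj_le_conj_iff]
  split_ifs
  · exact (conj_bot g).symm
  · rw [Nsig_cj x g hx, MF_conj, conj_inf]

theorem dadeSupp_conj {M : Subgroup G} {A B : Set G} (g : G) (h1 : (1 : G) ∉ A)
    (h : ∀ x, g * x * g⁻¹ ∈ B ↔ x ∈ A) : dadeSupp B (ftR (M ^ᵍ g)) = dadeSupp A (ftR M) := by
  ext z
  constructor
  · rintro ⟨b, hb, r, hr, y, rfl⟩
    obtain ⟨a, rfl⟩ : ∃ a, b = g * a * g⁻¹ := ⟨g⁻¹ * b * g, by group⟩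
    have ha := (h a).1 hb
    rw [ftR_conj M (fun e => h1 (e ▸ ha))] at hr
    obtain ⟨s, hs, rfl⟩ := mem_conj'.1 hr
    exact ⟨a, ha, s, hs, y * g, by group⟩
  · rintro ⟨a, ha, s, hs, y, rfl⟩
    refine ⟨_, (h a).2 ha, g * s * g⁻¹, ?_, y * g⁻¹, by group⟩
    rw [ftR_conj M (fun e => h1 (e ▸ ha))]
    exact conj_mem_conj hs g

omit [Finite G] [MinOdd G] in
theorem subset_dadeSupp (A : Set G) (H : G → Subgroup G) : A ⊆ dadeSupp A H :=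
  fun a ha => ⟨a, ha, 1, one_mem _, 1, by group⟩

end BG17

open BG17

theorem ftA1_subset_ftA {M : Subgroup G} (hM : IsCoatom M) : ftA1 M ⊆ ftA M :=
  fun x hx => ⟨Ms_le_ftDer hM hx.1, hx.2, x, hx, self_mem_cent1 x⟩

omit [Finite G] [MinOdd G] in
theorem ftA_subset_ftA0 (M : Subgroup G) : ftA M ⊆ ftA0 M := Set.subset_union_left

omit [MinOdd G] in
theorem ftA0_subset (M : Subgroup G) : ftA0 M ⊆ sharp M := by
  rintro x (hx | hx)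
  · exact ⟨(ftDer_normal M).1 hx.1, hx.2.1⟩
  · exact ⟨hx.1, fun e => hx.2.1 (e ▸ isPiElt_one _)⟩

omit [Finite G] [MinOdd G] in
theorem ftA_subset (M : Subgroup G) : ftA M ⊆ sharp (ftDer M) := fun _ hx => ⟨hx.1, hx.2.1⟩

theorem sharp_MF_subset_ftA1 {M : Subgroup G} (hM : IsCoatom M) : sharp (MF M) ⊆ ftA1 M :=
  sharp_mono (Fcore_basic hM).2.1

theorem sharp_fitting_subset_ftA {M : Subgroup G} (hM : IsCoatom M) :
    sharp (fittingOf M) ⊆ ftA M := by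
  intro a ha
  have h1 : fittingOf M ≤ ftDer M := by
    by_cases h : ftType M = 1
    · rw [ftDer_of_eq h]; exact (fittingOf_normal M).1
    · rw [ftDer_of_ne h]; exact (fitting_structure hM).2.2.2 (isPtype_of_ne hM h)
  obtain ⟨⟨x, hx⟩, hx1⟩ := ne_bot_iff_exists_ne_one.1 (inf_center_ne_bot
    (H2.isNilpotent_fittingOf M) (normal_of_le (MF_normal M) (MF_le_fittingOf M)
      (fittingOf_normal M).1) (Fcore_basic hM).1)
  exact ⟨h1 ha.1, ha.2, x, ⟨(Fcore_basic hM).2.1 hx.1, fun e => hx1 (Subtype.ext e)⟩,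
    mem_cent1_comm.1 (cent_le_cent1 ha.1 hx.2)⟩

theorem ftA0_type1 {M : Subgroup G} (h : ftType M = 1) : ftA0 M = ftA M := by
  refine Set.union_eq_left.2 fun a ha => absurd ?_ ha.2.1
  rw [ftDer_of_eq h]
  exact isPiElt_of_mem (isPi_piOf M) ha.1

theorem ftA_eq_ftA1 {M : Subgroup G} (hM : IsCoatom M) (h : 2 < ftType M) :
    ftA M = ftA1 M ∧ ftA1 M = sharp ⁅M, M⁆ := by
  have h1 : ftA1 M = sharp ⁅M, M⁆ := by unfold ftA1; rw [Ms_eq_der hM h]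
  refine ⟨(Set.Subset.antisymm ?_ (ftA1_subset_ftA hM)), h1⟩
  rw [h1, ← ftDer_of_ne (by omega)]
  exact ftA_subset M

theorem ftA_frobKer {M : Subgroup G} (hM : IsCoatom M) (h : FrobKer M (MF M)) :
    ftA M = sharp (MF M) := by
  have h1 := (Ms_eq_MF_iff hM).2 (Or.inl (ftType_eq_one_of_frobKer hM h))
  refine Set.Subset.antisymm ?_ ((sharp_MF_subset_ftA1 hM).trans (ftA1_subset_ftA hM))
  rintro a ⟨ha, ha1, x, hx, hax⟩
  exact ⟨(frobKer_iff.1 h).2.2.2 x (h1 ▸ hx.1) hx.2 ⟨(ftDer_normal M).1 ha, hax⟩, ha1⟩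

theorem OfTypeP.ftA0_eq {M U W₁ W₂ W : Subgroup G} (hM : IsCoatom M) (h : OfTypeP M U W₁ W₂ W) :
    ftA0 M = ftA M ∪ classSupp (hatSet W₁ W₂) M ∧ Disjoint (ftA M) (classSupp (hatSet W₁ W₂) M) := by
  have hD := ftDer_of_ne (h.ftType_ne_one hM)
  obtain ⟨-, -, -, -, -, -, hWM, -, hcop, -⟩ := h.basic
  have hW1 : IsPiSubgroup (piOf ⁅M, M⁆)ᶜ W₁ := coprime_iff_isPi_compl.1 hcop.symm
  obtain ⟨hall1, hall2⟩ := h.sdM.hall (isPi_piOf _) hW1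
  have hW2 : W₂ ≤ ⁅M, M⁆ := h.le2der.trans (der_le _)
  have key : ∀ a ∈ classSupp (hatSet W₁ W₂) M,
      a ∈ M ∧ ¬ IsPiElt (piOf ⁅M, M⁆) a ∧ ¬ IsPiElt (piOf ⁅M, M⁆)ᶜ a := by
    rintro _ ⟨v, hv, g, hg, rfl⟩
    obtain ⟨a, ha, ha1, b, hb, hb1, rfl⟩ := h.dprod.mem_hatSet.1 hv
    have hab := h.dprod.commute ha hb
    have h1 := isPiElt_of_mem hW1 ha
    have h2 := isPiElt_of_mem (isPi_piOf _) (hW2 hb)
    rw [isPiElt_conj, isPiElt_conj, hab.eq]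
    refine ⟨mul_mem (mul_mem hg (hWM (mul_mem (h.dprod.le_right hb) (h.dprod.le_left ha))))
      (inv_mem hg), fun e => ha1 ?_, fun e => hb1 ?_⟩
    · rw [← piPt_compl_mul_eq h2 h1 hab.symm, piPt_eq_one_iff, compl_compl]
      exact e
    · rw [← piPt_mul_eq h2 h1 hab.symm, piPt_eq_one_iff]
      exact e
  refine ⟨?_, Set.disjoint_left.2 fun a ha hb => (key a hb).2.1
    (isPiElt_of_mem (isPi_piOf _) (hD ▸ ha.1))⟩
  unfold ftA0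
  rw [hD]
  congr 1
  refine Set.Subset.antisymm ?_ key
  rintro a ⟨ha, h1, h2⟩
  obtain ⟨g, hg, hle⟩ := exists_conj_le_hall (mmax_isSolvable hM) hall2
    (zpowers_le.2 (piPt_mem ha _)) (isPi_zpowers.2 (isPiElt_piPt (piOf ⁅M, M⁆)ᶜ a))
  have hw : piPt (piOf ⁅M, M⁆)ᶜ (g * a * g⁻¹) ∈ W₁ := by
    rw [piPt_conj]; exact hle (conj_mem_conj (mem_zpowers _) g)
  have hw1 : piPt (piOf ⁅M, M⁆)ᶜ (g * a * g⁻¹) ≠ 1 := by
    rw [Ne, piPt_eq_one_iff, compl_compl, isPiElt_conj]; exact h1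
  have hy1 : piPt (piOf ⁅M, M⁆) (g * a * g⁻¹) ≠ 1 := by
    rw [Ne, piPt_eq_one_iff, isPiElt_conj]; exact h2
  have hy : piPt (piOf ⁅M, M⁆) (g * a * g⁻¹) ∈ W₂ := by
    rw [← h.cent _ hw hw1]
    exact ⟨mem_of_hall_normal hall1 (der_normal M).2
      (piPt_mem (mul_mem (mul_mem hg ha) (inv_mem hg)) _) (isPiElt_piPt _ _),
      mem_cent1_iff_commute.2 (commute_piPt _ _ _)⟩
  refine ⟨g * a * g⁻¹, h.dprod.mem_hatSet.2 ⟨_, hw, hw1, _, hy, hy1, ?_⟩, g⁻¹, inv_mem hg, by group⟩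
  rw [(commute_piPt _ _ _).eq, piPt_mul_piPt_compl]

theorem BG17.ti_ftA {M : Subgroup G} (hM : IsCoatom M) {x g : G} (hx : x ∈ ftA M)
    (hx1 : x ∉ ftA1 M) (hg : g * x * g⁻¹ ∈ ftA M) : g ∈ M := by
  have ht : ftType M ≤ 2 := by
    by_contra! h
    exact hx1 ((ftA_eq_ftA1 hM h).1 ▸ hx)
  have hF := MF_le M
  have hFD : MF M ≤ ftDer M := (Fcore_basic hM).2.1.trans (Ms_le_ftDer hM)
  obtain ⟨U, hU⟩ := exists_sdProd_of_hall
    (hall_isHallIn (hall_of_le (hall_MF M) hFD (ftDer_normal M).1))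
    ((ftDer_normal M).1.trans (MF_normal M).2)
  refine ((typeI_II_facts hM ht hU).2.2 ⟨x, hx, hx1⟩).ti g (mem_top g) x ⟨hx, hx1⟩ ⟨hg, fun h => ?_⟩
  exact hx1 ⟨mem_piCoreOf_of_hall (Ms_hall hM).1 ((ftDer_normal M).1 hx.1)
    (isPiElt_conj.1 (isPiElt_of_mem (isPi_Ms M) h.1)), hx.2.1⟩

/-- `A₀(M) - A₁(M)` is a TI-subset. -/
theorem BG17.ti_ftA0 {M : Subgroup G} (hM : IsCoatom M) {x g : G} (hx : x ∈ ftA0 M)
    (hx1 : x ∉ ftA1 M) (hg : g * x * g⁻¹ ∈ ftA0 M) : g ∈ M := by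
  by_cases ht : ftType M = 1
  · rw [ftA0_type1 ht] at hx hg
    exact ti_ftA hM hx hx1 hg
  have hpi : ∀ y ∈ ftA M, IsPiElt (piOf (ftDer M)) y := fun y hy =>
    isPiElt_of_mem (isPi_piOf _) hy.1
  by_cases hxA : x ∈ ftA M
  · exact ti_ftA hM hxA hx1 (hg.resolve_right fun h => h.2.1 (isPiElt_conj.2 (hpi x hxA)))
  have hgA : g * x * g⁻¹ ∉ ftA M := fun h =>
    (hx.resolve_left hxA).2.1 (isPiElt_conj.1 (hpi _ h))
  obtain ⟨U, W₁, W₂, W, h⟩ := exists_ofTypeP hM ht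
  rw [(h.ftA0_eq hM).1] at hx hg
  obtain ⟨v, hv, m, hm, rfl⟩ := hx.resolve_left hxA
  obtain ⟨v', hv', m', hm', he⟩ := hg.resolve_left hgA
  have h1 : m'⁻¹ * g * m ∈ M := h.basic.2.2.2.2.2.2.1 (h.ti.ti _ (mem_top _) v hv (by
    convert hv' using 1
    calc m'⁻¹ * g * m * v * (m'⁻¹ * g * m)⁻¹ = m'⁻¹ * (g * (m * v * m⁻¹) * g⁻¹) * m' := by group
      _ = v' := by rw [he]; group))
  have := mul_mem (mul_mem hm' h1) (inv_mem hm)
  simpa [mul_assoc] using this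

/-- PF (8.13)(a), BG Theorem II (Ti). -/
theorem ftA0_fusion {M : Subgroup G} (hM : IsCoatom M) {x g : G} (hx : x ∈ ftA0 M)
    (hg : g * x * g⁻¹ ∈ ftA0 M) : ∃ m ∈ M, m * x * m⁻¹ = g * x * g⁻¹ := by
  by_cases hx1 : x ∈ ftA1 M
  · have h1 : g * x * g⁻¹ ∈ Ms M := mem_piCoreOf_of_hall (Ms_hall hM).1 (ftA0_subset M hg).1
      (isPiElt_conj.2 (isPiElt_of_mem (isPi_Ms M) hx1.1))
    obtain ⟨n, hn, he⟩ := sigma_hall_tame hM (hall_isHallIn (hall_self (isPi_Ms M))) hx1.1 h1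
    exact ⟨n, hn.1, he⟩
  · exact ⟨g, ti_ftA0 hM hx hx1 hg, rfl⟩

/-- PF (8.13)(b),(c), BG Theorem II; `L = Nsig x`. -/
theorem ftSupport_facts {M : Subgroup G} (hM : IsCoatom M) {x : G} (hx : x ∈ ftA0 M)
    (hC : ¬ 𝐂[x] ≤ M) :
    x ∈ ftA1 M ∧ UniqMax 𝐂[x] (Nsig x) ∧
      SdProd (MF (Nsig x)) (M ⊓ Nsig x) (Nsig x) ∧
      SdProd (MF (Nsig x) ⊓ 𝐂[x]) (M ⊓ 𝐂[x]) 𝐂[x] ∧
      (∀ y ∈ ftA0 M, 𝐨(MF (Nsig x)).Coprime 𝐨(M ⊓ 𝐂[y])) ∧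
      (x ∈ ftA (Nsig x) ∧ x ∉ ftA1 (Nsig x)) ∧ ftType (Nsig x) ≤ 2 ∧
      (ftType (Nsig x) = 2 → FrobKer M (MF M)) ∧ ftR M x = Rsig x := by
  have hx1 : x ∈ ftA1 M := by
    by_contra h
    exact hC fun g hg => ti_ftA0 hM hx h (by rw [mem_cent1_iff_conj.1 hg]; exact hx)
  have hIn : InMsig x M := ⟨hM, hx1.1⟩
  have hmul := (multiSig_iff hx1.2 hIn).2 hC
  obtain ⟨hu, hR, hτ, hL, hM'⟩ := signalizer_context_multi hx1.2 hmul
  obtain ⟨hsd, -, -, hhall⟩ := hM' M hIn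
  have hLm := hu.max
  have ht : ftType (Nsig x) = 1 ∨ ftType (Nsig x) = 2 :=
    hL.imp (fun h => ftType_eq_one_iff.2 h.2) fun h => ftType_eq_two_iff.2 ⟨h.1.2.ne_empty, h.2⟩
  have hF : Ms (Nsig x) = MF (Nsig x) := (Ms_eq_MF_iff hLm).2 (ht.imp_right Or.inl)
  have hRe : Rsig x = MF (Nsig x) ⊓ 𝐂[x] := by unfold Rsig; rw [hF]
  have hxσ : IsPiElt (sig M) x := isPiElt_of_mem (isPi_Ms M) hx1.1
  have hxσ' : IsPiElt (sig (Nsig x))ᶜ x := hτ.mono (ta2_subset_compl _)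
  have hnc : ¬ Conj M (Nsig x) := by
    rintro ⟨g, hg⟩
    rw [hg, sig_conj] at hxσ'
    exact hx1.2 (hxσ.eq_one hxσ')
  refine ⟨hx1, hu, hF ▸ sdprod_sigma hLm hhall, ?_, fun y hy => ?_, ⟨⟨?_, hx1.2, ?_⟩, fun h => ?_⟩,
    by omega, fun h => ?_, by rw [hRe]; exact if_neg hC⟩
  · rwa [hRe, inf_assoc, inf_eq_right.2 hu.le] at hsd
  · rw [← hF]
    by_cases hπ : IsPiSubgroup (sig (Nsig x))ᶜ M
    · exact isPi_coprime (isPi_Ms _) (isPi_of_le inf_le_left hπ)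
    obtain ⟨hMF, h2⟩ := non_disjoint_signalizer_frobenius hx1.2 hmul hIn hπ
    have key : ∀ z ∈ Ms M, z ≠ 1 → ∀ c ∈ M ⊓ 𝐂[z], IsPiElt (sig M) c := by
      intro z hz hz1 c hc
      rw [← compl_compl (sig M), ← piPt_eq_one_iff]
      by_contra h1
      obtain ⟨p, hp, hd⟩ := Nat.exists_prime_and_dvd (mt orderOf_eq_one_iff.1 h1)
      rcases pi_of_cent_sigma hM hz hz1 (piPt_mem hc _) h1 (isPiElt_piPt _ _) with h | h
      · have := h.1 p hp hd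
        rw [hMF.2] at this
        exact this
      · have := h.1 p hp hd
        rw [h2] at this
        exact this
    rw [ftA0_type1 (ftType_eq_one_iff.2 hMF.2)] at hy
    obtain ⟨hyM, hy1, z, hz, hyz⟩ := hy
    have hyM' := (ftDer_normal M).1 hyM
    have hys : y ∈ Ms M := mem_piCoreOf_of_hall (Ms_hall hM).1 hyM' (key z hz.1 hz.2 y ⟨hyM', hyz⟩)
    exact isPi_coprime' (isPi_Ms _) (isPi_iff_forall_elt.2 (key y hys hy1))
      (sigma_partition hM hLm hnc).symm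
  · have hxL : x ∈ Nsig x := hu.le (self_mem_cent1 x)
    by_cases h1 : ftType (Nsig x) = 1
    · rwa [ftDer_of_eq h1]
    rw [ftDer_of_ne h1]
    obtain ⟨U, W₁, W₂, W, h⟩ := exists_ofTypeP hLm h1
    have hκ := (h.bg_facts hLm).2.1
    have hcop := h.basic.2.2.2.2.2.2.2.2.1
    have hd : IsPiSubgroup (kap (Nsig x))ᶜ ⁅Nsig x, Nsig x⁆ := fun p hp hd hk =>
      hp.one_lt.ne' (Nat.eq_one_of_dvd_coprimes hcop hd ((hall_dvd_card_iff hκ hp hk).2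
        (hd.trans (card_dvd_of_le (der_le _)))))
    exact mem_of_hall_normal (h.sdM.hall hd (by rw [compl_compl]; exact hall_isPi hκ)).1
      (der_normal _).2 hxL (hτ.mono fun p hp hk => (kap_subset hk).2.2.2 hp)
  · obtain ⟨⟨r, hr⟩, hr1⟩ := ne_bot_iff_exists_ne_one.1 hR
    exact ⟨r, ⟨hr.1, fun e => hr1 (Subtype.ext e)⟩, mem_cent1_comm.1 hr.2⟩
  · exact hx1.2 ((isPiElt_of_mem (isPi_Ms _) h.1).eq_one hxσ')
  · obtain ⟨hMF, -, E, hE, -, hfr⟩ := nonFtype_signalizer_base hM hx1.1 hx1.2 hC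
      fun h' => by have := ftType_eq_one_iff.2 h'.2; omega
    have h1 := hfr.frobKer
    rwa [(sdprod_sigma hM hE).sup,
      (Ms_eq_MF_iff hM).2 (Or.inl (ftType_eq_one_iff.2 hMF.2))] at h1

/-- PF (8.15), first part. -/
theorem ftDade0 {M : Subgroup G} (hM : IsCoatom M) : DadeHyp M (ftA0 M) (ftR M) := by
  refine ⟨fun x hx => (ftA0_subset M hx).1, fun g hg a ha => conj_mem_ftA0 hg ha,
    fun h => (ftA0_subset M h).2 rfl, fun a ha g hg => ftA0_fusion hM ha hg, fun a ha => ?_,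
    fun a ha b hb => ?_⟩
  · unfold ftR
    split_ifs with h
    · exact ⟨by rw [bot_sup_eq, inf_eq_right.2 h], by rw [norm_bot]; exact le_top, bot_inf_eq _⟩
    · exact (ftSupport_facts hM ha h).2.2.2.1
  · unfold ftR
    split_ifs with h
    · simp
    · exact H1.coprime_of_le ((ftSupport_facts hM ha h).2.2.2.2.1 b hb) inf_le_left le_rfl

omit [Finite G] [MinOdd G] in
theorem DadeHyp.mono {L : Subgroup G} {A B : Set G} {H : G → Subgroup G} (h : DadeHyp L A H)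
    (hB : B ⊆ A) (hn : ∀ g ∈ L, ∀ b ∈ B, g * b * g⁻¹ ∈ B) : DadeHyp L B H :=
  ⟨hB.trans h.subset, hn, fun e => h.one_notMem (hB e),
    fun a ha g hg => h.fusion a (hB ha) g (hB hg), fun a ha => h.sd a (hB ha),
    fun a ha b hb => h.cop a (hB ha) b (hB hb)⟩

theorem ftDade {M : Subgroup G} (hM : IsCoatom M) : DadeHyp M (ftA M) (ftR M) :=
  (ftDade0 hM).mono (ftA_subset_ftA0 M) fun _ hg _ ha => conj_mem_ftA hg ha

theorem ftDade1 {M : Subgroup G} (hM : IsCoatom M) : DadeHyp M (ftA1 M) (ftR M) :=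
  (ftDade hM).mono (ftA1_subset_ftA hM) fun _ hg _ ha => conj_mem_ftA1 hg ha

theorem ftDadeF {M : Subgroup G} (hM : IsCoatom M) : DadeHyp M (sharp (MF M)) (ftR M) :=
  (ftDade1 hM).mono (sharp_MF_subset_ftA1 hM) fun g hg b hb => by
    have := (conj_mem_sharp_conj (g := g)).2 hb
    rwa [conj_eq_of_mem_norm ((MF_normal M).2 hg)] at this

theorem BG17.prDade_of_le {M U W₁ W₂ W H : Subgroup G} (hM : IsCoatom M)
    (h : OfTypeP M U W₁ W₂ W) (hH : H ⊲ M) (h1 : MF M ≤ H) (h2 : H ≤ Ms M) :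
    PrDade M ⁅M, M⁆ H (ftA M) (ftA0 M) (ftR M) W₁ W₂ W := by
  have hD := ftDer_of_ne (h.ftType_ne_one hM)
  exact ⟨h.cycTI, h.primeTI, ftDade0 hM, hH, h.le2F.trans h1, h2.trans (Ms_le_der hM),
    fun _ hg _ ha => conj_mem_ftA hg ha,
    fun x hx hx1 a ha => ⟨hD ▸ ha.1.1, ha.2, x, ⟨h2 hx, hx1⟩, ha.1.2⟩, hD ▸ ftA_subset M,
    (h.ftA0_eq hM).1⟩

/-- PF (8.15), second part. -/
theorem OfTypeP.prDade {M U W₁ W₂ W : Subgroup G} (hM : IsCoatom M) (h : OfTypeP M U W₁ W₂ W) :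
    PrDade M ⁅M, M⁆ (Ms M) (ftA M) (ftA0 M) (ftR M) W₁ W₂ W :=
  prDade_of_le hM h (Ms_normal M) (Fcore_basic hM).2.1 le_rfl

theorem OfTypeP.prDadeF {M U W₁ W₂ W : Subgroup G} (hM : IsCoatom M) (h : OfTypeP M U W₁ W₂ W) :
    PrDade M ⁅M, M⁆ (MF M) (ftA M) (ftA0 M) (ftR M) W₁ W₂ W :=
  prDade_of_le hM h (MF_normal M) le_rfl (Fcore_basic hM).2.1

/-- PF (8.16). -/
theorem typeII_ker_ti {M : Subgroup G} (hM : IsCoatom M) (h : ftType M = 2) :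
    NormedTI (ftA0 M) ⊤ M ∧ NormedTI (ftA M) ⊤ M ∧ NormedTI (ftA1 M) ⊤ M := by
  have hP : IsPtype M := isPtype_of_ne hM (by omega)
  obtain ⟨K, hK⟩ := exists_hall (mmax_isSolvable hM) (kap M)
  have h1 : NormedTI (ftA1 M) ⊤ M :=
    ((Ptype_structure hP hK).2.2.2.2.2 ⟨hP, (ftType_eq_two_iff.1 h).2⟩).2.2.2
  have h0 : NormedTI (ftA0 M) ⊤ M := by
    refine ⟨h1.nonempty.mono ((ftA1_subset_ftA hM).trans (ftA_subset_ftA0 M)),
      (ftDade0 hM).one_notMem, (ftDade0 hM).subset, le_top, (ftDade0 hM).norm,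
      fun g _ a ha hg => ?_⟩
    by_cases ha1 : a ∈ ftA1 M
    · obtain ⟨m, hm, he⟩ := ftA0_fusion hM ha hg
      exact h1.ti g (mem_top g) a ha1 (he ▸ conj_mem_ftA1 hm ha1)
    · exact ti_ftA0 hM ha ha1 hg
  exact ⟨h0, h0.mono (ftA_subset_ftA0 M) (h1.nonempty.mono (ftA1_subset_ftA hM))
    (ftDade hM).norm, h1⟩

theorem BG17.ftR_eq_Rsig {M : Subgroup G} (hM : IsCoatom M) {x : G} (hx : x ∈ ftA1 M) :
    ftR M x = Rsig x := by
  by_cases hC : 𝐂[x] ≤ M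
  · exact ftR_eq_Rsig_of_le hM hx hC
  · exact (ftSupport_facts hM (ftA_subset_ftA0 M (ftA1_subset_ftA hM hx)) hC).2.2.2.2.2.2.2.2

theorem dadeSupp_ftA1_eq {M : Subgroup G} (hM : IsCoatom M) :
    dadeSupp (ftA1 M) (ftR M) = classSupp (sigSupp M) ⊤ := by
  ext z
  constructor
  · rintro ⟨a, ha, r, hr, y, rfl⟩
    rw [ftR_eq_Rsig hM ha] at hr
    exact ⟨_, ⟨a, ha, r, hr, (mem_cent1.1 hr.2).symm⟩, y, mem_top y, rfl⟩
  · rintro ⟨_, ⟨a, ha, r, hr, rfl⟩, y, -, rfl⟩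
    exact ⟨a, ha, r, (ftR_eq_Rsig hM ha).symm ▸ hr, y, by rw [mem_cent1.1 hr.2]⟩

theorem dadeSupp_ftA1_conj {M : Subgroup G} (hM : IsCoatom M) (g : G) :
    dadeSupp (ftA1 (M ^ᵍ g)) (ftR (M ^ᵍ g)) = dadeSupp (ftA1 M) (ftR M) :=
  dadeSupp_conj g (ftDade1 hM).one_notMem fun _ => conj_mem_ftA1_conj

theorem dadeSupp_ftA_conj {M : Subgroup G} (hM : IsCoatom M) (g : G) :
    dadeSupp (ftA (M ^ᵍ g)) (ftR (M ^ᵍ g)) = dadeSupp (ftA M) (ftR M) :=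
  dadeSupp_conj g (ftDade hM).one_notMem fun _ => conj_mem_ftA_conj

/-- PF (8.17)(a). -/
theorem ftCore_coprime {M L : Subgroup G} (hM : IsCoatom M) (hL : IsCoatom L) (hn : ¬ Conj M L) :
    𝐨(Ms M).Coprime 𝐨(Ms L) :=
  isPi_coprime' (isPi_Ms M) (isPi_Ms L) (sigma_partition hM hL hn)

/-- PF (8.17)(a). -/
theorem exists_mmax_dvd_Ms {p : ℕ} (hp : p.Prime) (hd : p ∣ Nat.card G) :
    ∃ M : Subgroup G, IsCoatom M ∧ p ∣ 𝐨(Ms M) := by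
  obtain ⟨M, hM, h⟩ := exists_mmax_sigma hp hd
  exact ⟨M, hM, (hall_dvd_card_iff (Ms_hall hM).1 hp h).2 h.2.1⟩

/-- PF (8.17)(b). -/
theorem ncard_dadeSupp_ftA1 {M : Subgroup G} (hM : IsCoatom M) :
    (dadeSupp (ftA1 M) (ftR M)).ncard = (𝐨(Ms M) - 1) * M.index := by
  rw [dadeSupp_ftA1_eq hM, card_class_support_sigma hM]

/-- PF (8.17)(c), (8.18). -/
theorem dadeSupp_ftA1_disjoint {M L : Subgroup G} (hM : IsCoatom M) (hL : IsCoatom L)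
    (hn : ¬ Conj M L) : Disjoint (dadeSupp (ftA1 M) (ftR M)) (dadeSupp (ftA1 L) (ftR L)) := by
  rw [dadeSupp_ftA1_eq hM, dadeSupp_ftA1_eq hL]
  exact sigma_support_disjoint hM hL hn

/-- PF (8.17)(c). -/
theorem dadeSupp_ftA1_cover (h : ∀ M : Subgroup G, IsCoatom M → ftType M = 1) {g : G}
    (hg : g ≠ 1) : ∃ M : Subgroup G, IsCoatom M ∧ g ∈ dadeSupp (ftA1 M) (ftR M) := by
  obtain ⟨M, hM, h1⟩ := mFT_partition_F
    (fun M hP => hP.2.ne_empty (ftType_eq_one_iff.1 (h M hP.1))) hg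
  exact ⟨M, hM, (dadeSupp_ftA1_eq hM).symm ▸ h1⟩

/-- PF (8.17)(c). -/
theorem TypePPair.cover {S T W₁ W₂ W : Subgroup G} (h : TypePPair S T W₁ W₂ W) :
    (∀ g : G, g ≠ 1 → g ∈ classSupp (hatSet W₁ W₂) ⊤ ∨
      ∃ M : Subgroup G, IsCoatom M ∧ g ∈ dadeSupp (ftA1 M) (ftR M)) ∧
    ∀ M : Subgroup G, IsCoatom M →
      Disjoint (classSupp (hatSet W₁ W₂) ⊤) (dadeSupp (ftA1 M) (ftR M)) := by
  obtain ⟨U, hU⟩ := h.exists_ofTypeP
  obtain ⟨hP, hK, he, -⟩ := hU.bg_facts h.maxS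
  obtain ⟨h1, h2⟩ := mFT_partition_P hP hK
  rw [he] at h1 h2
  exact ⟨fun g hg => (h1 g hg).imp_right fun ⟨M, hM, h3⟩ =>
    ⟨M, hM, (dadeSupp_ftA1_eq hM).symm ▸ h3⟩, fun M hM => (dadeSupp_ftA1_eq hM).symm ▸ h2 M hM⟩

theorem BG17.uniqMax_of_inter {S T : Subgroup G} (hS : IsCoatom S) (hT : IsCoatom T)
    (hn : ¬ Conj S T) {x : G} (hx : x ∈ ftA1 S) (hxT : x ∈ ftA T) :
    x ∉ ftA1 T ∧ UniqMax 𝐂[x] T := by
  have hxσ : IsPiElt (sig T)ᶜ x :=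
    (isPiElt_of_mem (isPi_Ms S) hx.1).mono (sigma_partition hS hT hn).subset_compl_right
  have h1 : x ∉ ftA1 T := fun h => hx.2 ((isPiElt_of_mem (isPi_Ms T) h.1).eq_one hxσ)
  have ht : ftType T ≤ 2 := by
    by_contra! h
    exact h1 ((ftA_eq_ftA1 hT h).1 ▸ hxT)
  have hF : Ms T = MF T := (Ms_eq_MF_iff hT).2 (by have := ftType_range T; omega)
  obtain ⟨U, hU, hxU⟩ := exists_hall_ge (isSolvable_of_le_mmax hT (ftDer_normal T).1)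
    (zpowers_le.2 hxT.1) (isPi_zpowers.2 hxσ)
  have hsd := sdProd_of_hall (hall_of_le (Ms_hall hT).1 (Ms_le_ftDer hT) (ftDer_normal T).1) hU
    ((ftDer_normal T).1.trans (Ms_normal T).2)
  rw [hF] at hsd
  refine ⟨h1, cent_zpowers x ▸ (typeI_II_facts hT ht hsd).2.1 _ hxU
    (zpowers_ne_bot.2 hx.2) fun h => ?_⟩
  obtain ⟨-, -, z, hz, hxz⟩ := hxT
  rw [cent_zpowers, ← hF] at h
  exact hz.2 (mem_bot.1 (h ▸ ⟨hz.1, mem_cent1_comm.1 hxz⟩))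

/-- PF (8.18)(a). -/
theorem supports_iff {S T : Subgroup G} (hS : IsCoatom S) (hT : IsCoatom T) (hn : ¬ Conj S T) :
    (Supports' S T ↔ ¬ Disjoint (ftA1 S) (ftA T)) ∧
      ∀ x ∈ ftA1 S, x ∈ ftA T → ¬ 𝐂[x] ≤ S ∧ x ∉ ftA1 T := by
  have key : ∀ x ∈ ftA1 S, x ∈ ftA T → ¬ 𝐂[x] ≤ S ∧ x ∉ ftA1 T := fun x hx hxT => by
    obtain ⟨h1, h2⟩ := uniqMax_of_inter hS hT hn hx hxT
    exact ⟨fun h => hn (h2.eq hS h ▸ Conj.refl S), h1⟩
  refine ⟨⟨?_, fun h => ?_⟩, key⟩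
  · rintro ⟨x, hx, h1, h2⟩
    obtain ⟨hx1, hu, -, -, -, ⟨hxL, -⟩, -⟩ := ftSupport_facts hS (ftA_subset_ftA0 S hx) h1
    exact Set.not_disjoint_iff.2 ⟨x, hx1, hu.eq hT h2 ▸ hxL⟩
  · obtain ⟨x, hx, hxT⟩ := Set.not_disjoint_iff.1 h
    exact ⟨x, ftA1_subset_ftA hS hx, (key x hx hxT).1, (uniqMax_of_inter hS hT hn hx hxT).2.le⟩

/-- PF (8.18)(b). -/
theorem supports_conj_iff {S T : Subgroup G} (hS : IsCoatom S) (hT : IsCoatom T)
    (hn : ¬ Conj S T) :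
    (∃ g : G, Supports' S (T ^ᵍ g)) ↔
      ¬ Disjoint (dadeSupp (ftA1 S) (ftR S)) (dadeSupp (ftA T) (ftR T)) := by
  have hn' : ∀ g : G, ¬ Conj S (T ^ᵍ g) := fun g h => hn (h.trans (Conj.conj T g).symm)
  constructor
  · rintro ⟨g, h⟩
    obtain ⟨x, hx, hxT⟩ := Set.not_disjoint_iff.1
      ((supports_iff hS (isCoatom_conj hT g) (hn' g)).1.1 h)
    exact Set.not_disjoint_iff.2 ⟨x, subset_dadeSupp _ _ hx,
      dadeSupp_ftA_conj hT g ▸ subset_dadeSupp _ _ hxT⟩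
  · intro h
    obtain ⟨z, hzS, b, hb, s, hs, y', hz'⟩ := Set.not_disjoint_iff.1 h
    have hb1 : b ∉ ftA1 T := fun h1 => Set.disjoint_left.1 (dadeSupp_ftA1_disjoint hS hT hn) hzS
      ⟨b, h1, s, hs, y', hz'⟩
    have hCb : 𝐂[b] ≤ T := fun g hg => ti_ftA hT hb hb1 (by rwa [mem_cent1_iff_conj.1 hg])
    have hs1 : s = 1 := by
      unfold ftR at hs
      rwa [if_pos hCb, mem_bot] at hs
    obtain ⟨a, ha, r, hr, y, hz⟩ := hzS
    rw [ftR_eq_Rsig hS ha] at hr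
    have he : (y⁻¹ * y') * b * (y⁻¹ * y')⁻¹ = a * r := by
      rw [mem_cent1.1 hr.2]
      calc (y⁻¹ * y') * b * (y⁻¹ * y')⁻¹ = y⁻¹ * (y' * (s * b) * y'⁻¹) * y := by rw [hs1]; group
        _ = r * a := by rw [← hz', hz]; group
    have h1 := (conj_mem_ftA_conj (g := y⁻¹ * y')).2 hb
    rw [he] at h1
    have h2 : a ∈ zpowers (a * r) := by
      have := piPt_mem_zpowers (sig S) (a * r)
      rwa [piPt_mul_eq (isPiElt_of_mem (isPi_Ms S) ha.1)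
        (isPiElt_of_mem (Rsig_sigma' ha.2 ⟨hS, ha.1⟩) hr) (mem_cent1.1 hr.2)] at this
    obtain ⟨h3, -, w, hw, h4⟩ := h1
    exact ⟨y⁻¹ * y', (supports_iff hS (isCoatom_conj hT _) (hn' _)).1.2 (Set.not_disjoint_iff.2
      ⟨a, ha, zpowers_le.2 h3 h2, ha.2, w, hw, zpowers_le.2 h4 h2⟩)⟩

/-- PF (8.18)(c). -/
theorem dadeSupp_disjoint_or {S T : Subgroup G} (hS : IsCoatom S) (hT : IsCoatom T)
    (hn : ¬ Conj S T) :
    Disjoint (dadeSupp (ftA1 S) (ftR S)) (dadeSupp (ftA T) (ftR T)) ∨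
      Disjoint (dadeSupp (ftA1 T) (ftR T)) (dadeSupp (ftA S) (ftR S)) := by
  by_contra h
  rw [not_or] at h
  obtain ⟨g, x, hx, h1, h2⟩ := (supports_conj_iff hS hT hn).2 h.1
  obtain ⟨k, hk⟩ := (supports_conj_iff hT hS fun h => hn h.symm).2 h.2
  obtain ⟨-, hu, -, -, hcop, -, ht, -⟩ := ftSupport_facts hS (ftA_subset_ftA0 S hx) h1
  rw [← hu.eq (isCoatom_conj hT g) h2] at hcop ht
  rw [ftType_conj] at ht
  rw [MF_conj, card_conj, ← (Ms_eq_MF_iff hT).2 (by have := ftType_range T; omega)] at hcop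
  obtain ⟨y, hy, hyS⟩ := Set.not_disjoint_iff.1 ((supports_iff hT (isCoatom_conj hS k)
    fun h => hn (h.trans (Conj.conj S k).symm).symm).1.1 hk)
  obtain ⟨y', rfl⟩ : ∃ y', y = k * y' * k⁻¹ := ⟨k⁻¹ * y * k, by group⟩
  have hy' := conj_mem_ftA_conj.1 hyS
  have h3 : orderOf y' ∣ 𝐨(Ms T) := by
    have := orderOf_dvd_card_of_mem hy.1
    rwa [show k * y' * k⁻¹ = MulAut.conj k y' from rfl, MulEquiv.orderOf_eq] at this
  exact hy'.2.1 (orderOf_eq_one_iff.1 (Nat.eq_one_of_dvd_coprimes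
    (hcop y' (ftA_subset_ftA0 S hy')) h3
    (orderOf_dvd_card_of_mem (mem_inf.2 ⟨(ftDer_normal S).1 hy'.1, self_mem_cent1 y'⟩))))

end Cfsg.Agent.FT
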