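/-
BG appendix C, the field-theoretic lemmas C.1 and C.2.
-/
import Mathlib

set_option autoImplicit false
set_option linter.unusedSectionVars false

namespace Cfsg.Agent.FT.BGC

open Polynomial Finset

variable {F : Type*} [Field F] {p q : ℕ}

/-- BG Lemma C.1. -/
theorem le_of_inv_closed [hp : Fact p.Prime] [CharP F p] (hq : 0 < q) {N : ℕ}
    (hN : N = ∑ i ∈ range q, p ^ i)
    (h : ∀ x : F, x ^ N = 1 → (2 - x) ^ N = 1 → (2 - x⁻¹) ^ N = 1)
    {a : F} (ha : a ^ N = 1) (ha2 : (2 - a) ^ N = 1) (ha1 : a ≠ 1) : p ≤ q := by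
  classical
  have hN0 : N ≠ 0 := by
    rw [hN]
    exact (sum_pos (fun i _ => pow_pos hp.out.pos i) (nonempty_range_iff.2 hq.ne')).ne'
  obtain ⟨b, hb⟩ : ∃ b, b = 1 - a := ⟨_, rfl⟩
  have hb0 : b ≠ 0 := hb ▸ sub_ne_zero.2 ha1.symm
  have key : ∀ k : ℕ, (1 + k * b) ^ N = 1 ∧ ((1 + (k - 1) * b) / (1 + k * b)) ^ N = 1 ∧
      (2 - (1 + (k - 1) * b) / (1 + k * b)) ^ N = 1 := by
    intro k
    induction k with
    | zero =>
      have : (1 + (((0 : ℕ) : F) - 1) * b) / (1 + ((0 : ℕ) : F) * b) = a := by simp [hb]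
      rw [this]
      exact ⟨by simp, ha, ha2⟩
    | succ k ih =>
      obtain ⟨h1, h2, h3⟩ := ih
      have n0 : (1 + k * b : F) ≠ 0 := fun e => by simp [e, hN0] at h1
      have e1 : 2 - (1 + (k - 1) * b) / (1 + k * b) = (1 + ((k + 1 : ℕ) : F) * b) / (1 + k * b) := by
        field_simp; push_cast; ring
      have h4 := h _ h3 (by rwa [sub_sub_cancel])
      rw [e1] at h3 h4
      have e2 : (1 + (((k + 1 : ℕ) : F) - 1) * b) = 1 + k * b := by push_cast; ring
      rw [e2]
      rw [inv_div] at h4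
      refine ⟨?_, ?_, h4⟩
      · rwa [div_pow, h1, div_one] at h3
      · rw [← inv_div, inv_pow, h3, inv_one]
  obtain ⟨P, hP⟩ : ∃ P : F[X], P = ∏ i ∈ range q, (C (b ^ p ^ i) * X + C 1) := ⟨_, rfl⟩
  have hdeg : P.natDegree = q := by
    rw [hP, natDegree_prod]
    · rw [sum_congr rfl fun i _ => natDegree_linear (pow_ne_zero _ hb0)]; simp
    · intro i _ e
      have := natDegree_linear (b := (1 : F)) (pow_ne_zero (p ^ i) hb0)
      rw [e] at this; simp at this
  have hpos : 0 < P.degree := natDegree_pos_iff_degree_pos.1 (hdeg ▸ hq)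
  have hsub : ((range p).image (Nat.cast : ℕ → F)).val ⊆ (P - C 1).roots := by
    intro x hx
    obtain ⟨k, -, rfl⟩ := mem_image.1 (show x ∈ (range p).image (Nat.cast : ℕ → F) from hx)
    rw [mem_roots_sub_C hpos, hP, eval_prod]
    refine Eq.trans ?_ (key k).1
    rw [hN, ← prod_pow_eq_pow_sum]
    refine prod_congr rfl fun i _ => ?_
    rw [add_pow_char_pow, mul_pow, one_pow]
    have : (k : F) ^ p ^ i = k := by rw [← iterateFrobenius_def, map_natCast]
    rw [this]; simp; ring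
  have h1 := Multiset.card_le_card (Multiset.le_iff_subset (nodup _) |>.2 hsub)
  have h2 := card_roots_sub_C' (a := 1) hpos
  rw [← card_def, card_image_of_injOn (by
    rw [coe_range]; exact CharP.natCast_injOn_Iio F p), card_range] at h1
  omega

/-- BG Lemma C.2 for `q = 3`. -/
theorem exists_cubic [hp : Fact p.Prime] [CharP F p] [Fintype F] (hF : Fintype.card F = p ^ 3)
    (h2 : p ≠ 2) : ∃ a : F, a ≠ 1 ∧ a ^ (∑ i ∈ range 3, p ^ i) = 1 ∧
      (2 - a) ^ (∑ i ∈ range 3, p ^ i) = 1 := by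
  classical
  letI : Algebra (ZMod p) F := ZMod.algebra F p
  obtain ⟨c, hc⟩ : ∃ c : ZMod p, ∀ d : ZMod p, d * (d - 2) * (d - c) + (d - 1) ≠ 0 := by
    have hns : ¬ Function.Surjective fun d : ZMod p => d + (d - 1) / (d * (d - 2)) +
        if d = 2 then -2 else 0 := by
      rw [← Finite.injective_iff_surjective]
      intro hi
      have h20 : (2 : ZMod p) ≠ 0 := by
        intro e
        have : ((2 : ℕ) : ZMod p) = 0 := by exact_mod_cast e
        exact h2 ((Nat.prime_dvd_prime_iff_eq hp.out Nat.prime_two).1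
          ((ZMod.natCast_eq_zero_iff 2 p).1 this))
      exact h20 (hi (by simp [h20.symm]))
    unfold Function.Surjective at hns
    push Not at hns
    obtain ⟨c, hc⟩ := hns
    refine ⟨c, fun d hd => hc d ?_⟩
    have d0 : d ≠ 0 := by rintro rfl; simp at hd
    have d2 : d ≠ 2 := by rintro rfl; norm_num at hd
    have d2' : d - 2 ≠ 0 := sub_ne_zero.2 d2
    rw [if_neg d2]
    field_simp
    linear_combination hd
  obtain ⟨f, hf⟩ : ∃ f : (ZMod p)[X], f = X * (X - 2) * (X - C c) + (X - 1) := ⟨_, rfl⟩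
  have hdeg : f.natDegree = 3 := by rw [hf]; compute_degree!
  have hirr : Irreducible f := irreducible_of_degree_le_three_of_not_isRoot (by simp [hdeg])
    fun x hx => hc x (by simpa [hf] using hx)
  haveI := Fact.mk hirr
  have hfin : Module.finrank (ZMod p) F = 3 := by
    have := FiniteField.pow_finrank_eq_card p F
    rw [hF] at this
    exact Nat.pow_right_injective hp.out.two_le this
  obtain ⟨φ⟩ := FiniteField.nonempty_algHom_of_finrank_dvd (F := ZMod p) (K := AdjoinRoot f)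
    (L := F) (by rw [hfin, ← hdeg]; exact (finrank_quotient_span_eq_natDegree (f := f)).dvd)
  obtain ⟨a, ha⟩ : ∃ a, a = φ (AdjoinRoot.root f) := ⟨_, rfl⟩
  obtain ⟨e, he⟩ : ∃ e, e = algebraMap (ZMod p) F c := ⟨_, rfl⟩
  have r1 : a * (a - 2) * (a - e) + (a - 1) = 0 := by
    have : aeval a f = 0 := by
      rw [ha, aeval_algHom_apply, AdjoinRoot.aeval_eq, AdjoinRoot.mk_self, map_zero]
    rw [hf] at this
    simpa [he, map_ofNat] using this
  have hfr : ∀ x : F, x * (x - 2) * (x - e) + (x - 1) = 0 →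
      x ^ p * (x ^ p - 2) * (x ^ p - e) + (x ^ p - 1) = 0 := by
    intro x hx
    have := congrArg (frobenius F p) hx
    have h1 : frobenius F p e = e := by rw [he, frobenius_def, ← map_pow, ZMod.pow_card]
    simpa only [map_add, map_mul, map_sub, map_ofNat, map_one, map_zero, h1, frobenius_def]
      using this
  have n1 : a ^ p ≠ a := by
    intro h
    obtain ⟨n, hn⟩ := (mem_bot_iff_intCast p F).1 ((Subfield.mem_bot_iff_pow_eq_self F p).2 h)
    apply hc n
    apply (algebraMap (ZMod p) F).injective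
    simpa [map_ofNat, hn, ← he] using r1
  have r2 := hfr a r1
  have r3 := hfr _ r2
  have n2 : (a ^ p) ^ p ≠ a ^ p := fun h => n1 ((frobenius F p).injective h)
  have n3 : (a ^ p) ^ p ≠ a := by
    intro h
    have := FiniteField.pow_card a
    rw [hF, pow_succ, pow_two, pow_mul, pow_mul, h] at this
    exact n1 this
  have e1 : ∀ x : F, x ^ (∑ i ∈ range 3, p ^ i) = x * x ^ p * (x ^ p) ^ p := by
    intro x
    simp only [sum_range_succ, range_zero, sum_empty, pow_add, pow_zero, pow_one, one_mul, pow_two,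
      pow_mul, zero_add]
  have e2 : ∀ x : F, (2 - x) ^ p = 2 - x ^ p := by
    intro x
    have : frobenius F p (2 - x) = 2 - frobenius F p x := by rw [map_sub, map_ofNat]
    exact this
  refine ⟨a, fun h => n1 (by rw [h, one_pow]), ?_⟩
  rw [e1, e1, e2, e2]
  generalize (a ^ p) ^ p = d at *
  generalize a ^ p = b at *
  have s1 : a ^ 2 + a * b + b ^ 2 - (2 + e) * (a + b) + (2 * e + 1) = 0 :=
    mul_left_cancel₀ (sub_ne_zero.2 n1) (by linear_combination r2 - r1)
  have s2 : a ^ 2 + a * d + d ^ 2 - (2 + e) * (a + d) + (2 * e + 1) = 0 :=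
    mul_left_cancel₀ (sub_ne_zero.2 n3) (by linear_combination r3 - r1)
  have s3 : a + b + d = 2 + e :=
    mul_left_cancel₀ (sub_ne_zero.2 n2) (by linear_combination s2 - s1)
  have s4 : a * b + a * d + b * d = 2 * e + 1 := by linear_combination (a + b) * s3 - s1
  have s5 : a * b * d = 1 := by linear_combination r1 - a ^ 2 * s3 + a * s4
  exact ⟨s5, by linear_combination (-4) * s3 + 2 * s4 - s5⟩

open scoped ComplexConjugate in
/-- The character sum estimate of BG Lemma C.2. -/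
theorem sq_card_le [Fintype F] [DecidableEq F] (U : Finset F) (hU0 : ∀ u ∈ U, u ≠ 0)
    (hmul : ∀ u ∈ U, ∀ v ∈ U, u * v ∈ U) (h2 : (2 : F) ≠ 0)
    (h : ∀ x ∈ U, ∀ y ∈ U, ∀ z ∈ U, x + y = 2 * z → x = z ∧ y = z) :
    ((U.card : ℝ)) ^ 2 ≤ Fintype.card F + √(Fintype.card F) * Fintype.card F := by
  obtain ⟨ψ, hψ⟩ : ∃ ψ : AddChar F ℂ, ψ.IsPrimitive :=
    ⟨_, AddChar.FiniteField.primitiveChar_to_Complex_isPrimitive F⟩
  obtain ⟨S, hS⟩ : ∃ S : F → ℂ, ∀ c, S c = ∑ u ∈ U, ψ (c * u) := ⟨_, fun _ => rfl⟩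
  have par : ∑ c, ‖S c‖ ^ 2 = Fintype.card F * U.card := by
    have : ((∑ c, ‖S c‖ ^ 2 : ℝ) : ℂ) = Fintype.card F * U.card := by
      push_cast
      have e : ∀ c, (‖S c‖ : ℂ) ^ 2 = ∑ x ∈ U, ∑ y ∈ U, ψ (c * (x - y)) := by
        intro c
        rw [← Complex.mul_conj', hS, map_sum, sum_mul_sum]
        refine sum_congr rfl fun x _ => sum_congr rfl fun y _ => ?_
        rw [← AddChar.map_neg_eq_conj, ← AddChar.map_add_eq_mul]; congr 1; ring
      simp_rw [e]
      rw [sum_comm]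
      have e2 : ∀ x ∈ U, ∑ c : F, ∑ y ∈ U, ψ (c * (x - y)) = Fintype.card F := by
        intro x hx
        rw [sum_comm]
        simp_rw [AddChar.sum_mulShift _ hψ, sub_eq_zero]
        simp [hx]
      rw [sum_congr rfl e2]; simp [mul_comm]
    exact_mod_cast this
  have hinv : ∀ c, ∀ v ∈ U, S (c * v) = S c := by
    intro c v hv
    rw [hS, hS]
    have : U.image (fun u => v * u) = U := eq_of_subset_of_card_le
      (image_subset_iff.2 fun u hu => hmul v hv u hu)
      (card_image_of_injective _ (mul_right_injective₀ (hU0 v hv))).ge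
    conv_rhs => rw [← this, sum_image fun a _ b _ e => mul_right_injective₀ (hU0 v hv) e]
    simp_rw [mul_assoc]
  rcases Nat.eq_zero_or_pos U.card with hn | hn
  · rw [hn]; simp only [Nat.cast_zero, ne_eq, OfNat.ofNat_ne_zero, not_false_eq_true, zero_pow]
    positivity
  have hn' : (0 : ℝ) < U.card := by exact_mod_cast hn
  have bd : ∀ c, c ≠ 0 → ‖S c‖ ≤ √(Fintype.card F) := by
    intro c hc
    apply Real.le_sqrt_of_sq_le
    have : ∑ u ∈ U, ‖S (c * u)‖ ^ 2 ≤ ∑ c, ‖S c‖ ^ 2 := by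
      rw [← sum_image (s := U) (g := fun u => c * u) (f := fun d => ‖S d‖ ^ 2)
        fun a _ b _ e => mul_right_injective₀ hc e]
      exact sum_le_sum_of_subset_of_nonneg (subset_univ _) fun _ _ _ => by positivity
    rw [par, sum_congr rfl fun u hu => by rw [hinv c u hu], sum_const, nsmul_eq_mul,
      mul_comm] at this
    exact le_of_mul_le_mul_right this hn'
  have main : ∑ c, S c * S c * S (-2 * c) = Fintype.card F * U.card := by
    have e : ∀ c, S c * S c * S (-2 * c) =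
        ∑ z ∈ U, ∑ x ∈ U, ∑ y ∈ U, ψ (c * (x + y - 2 * z)) := by
      intro c
      rw [hS, hS, sum_mul_sum, mul_sum]
      refine sum_congr rfl fun z _ => ?_
      rw [sum_mul]
      refine sum_congr rfl fun x _ => ?_
      rw [sum_mul]
      refine sum_congr rfl fun y _ => ?_
      rw [← AddChar.map_add_eq_mul, ← AddChar.map_add_eq_mul]; congr 1; ring
    simp_rw [e]
    rw [sum_comm]
    have e2 : ∀ z ∈ U, ∑ c : F, ∑ x ∈ U, ∑ y ∈ U, ψ (c * (x + y - 2 * z)) = Fintype.card F := by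
      intro z hz
      rw [sum_comm, sum_eq_single_of_mem z hz]
      · rw [sum_comm, sum_eq_single_of_mem z hz]
        · rw [AddChar.sum_mulShift _ hψ, if_pos (by ring)]
        · intro y hy hne
          rw [AddChar.sum_mulShift _ hψ, if_neg fun e => hne (h z hz y hy z hz (sub_eq_zero.1 e)).2]
          simp
      · intro x hx hne
        rw [sum_comm]
        refine sum_eq_zero fun y hy => ?_
        rw [AddChar.sum_mulShift _ hψ, if_neg fun e => hne (h x hx y hy z hz (sub_eq_zero.1 e)).1]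
        simp
    rw [sum_congr rfl e2]; simp [mul_comm]
  have s0 : S 0 = U.card := by rw [hS]; simp
  rw [← add_sum_erase _ _ (mem_univ 0), mul_zero, s0] at main
  have b1 : ‖∑ c ∈ univ.erase 0, S c * S c * S (-2 * c)‖ ≤
      √(Fintype.card F) * (Fintype.card F * U.card) := by
    refine (norm_sum_le _ _).trans ?_
    rw [← par, mul_sum]
    refine le_trans (sum_le_sum fun c hc => ?_)
      (sum_le_sum_of_subset_of_nonneg (subset_univ (univ.erase 0)) fun _ _ _ => by positivity)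
    rw [norm_mul, norm_mul, ← sq, mul_comm]
    exact mul_le_mul_of_nonneg_right (bd _ (mul_ne_zero (neg_ne_zero.2 h2) (ne_of_mem_erase hc)))
      (by positivity)
  have b2 : ‖(U.card : ℂ) * U.card * U.card‖ ≤ ‖(Fintype.card F : ℂ) * U.card‖ +
      ‖∑ c ∈ univ.erase 0, S c * S c * S (-2 * c)‖ := by
    rw [eq_sub_of_add_eq main]; exact norm_sub_le _ _
  simp only [norm_mul, Complex.norm_natCast] at b2
  refine le_of_mul_le_mul_right ?_ hn'
  nlinarith

/-- BG Lemma C.2. -/
theorem exists_ne_one [hp : Fact p.Prime] [CharP F p] [Fintype F] (hF : Fintype.card F = p ^ q)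
    (h5 : 5 ≤ p) (hq : q = 3 ∨ 5 ≤ q) {N : ℕ} (hN : N = ∑ i ∈ range q, p ^ i)
    (U : Finset F) (hU : ∀ x, x ∈ U ↔ x ^ N = 1) (hc : U.card = N) :
    ∃ a : F, a ≠ 1 ∧ a ^ N = 1 ∧ (2 - a) ^ N = 1 := by
  classical
  rcases hq with rfl | hq
  · exact hN ▸ exists_cubic hF (by omega)
  by_contra hcon
  push Not at hcon
  obtain ⟨r, rfl⟩ : ∃ r, q = r + 5 := ⟨q - 5, by omega⟩
  have hN1 : p ^ (r + 4) ≤ N := by
    rw [hN]
    exact single_le_sum (f := fun i => p ^ i) (fun _ _ => Nat.zero_le _) (by simp)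
  have hN0 : N ≠ 0 := (lt_of_lt_of_le (pow_pos hp.out.pos _) hN1).ne'
  have hU0 : ∀ u ∈ U, u ≠ 0 := fun u hu e => by simpa [e, hN0] using (hU u).1 hu
  have h2 : (2 : F) ≠ 0 := by
    intro e
    have : ((2 : ℕ) : F) = 0 := by exact_mod_cast e
    have := Nat.le_of_dvd two_pos ((CharP.cast_eq_zero_iff F p 2).1 this)
    omega
  have := sq_card_le U hU0 (fun u hu v hv => by
    rw [hU] at hu hv ⊢; rw [mul_pow, hu, hv, one_mul]) h2 (fun x hx y hy z hz e => by
      have z0 := hU0 z hz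
      rw [hU] at hx hy hz
      have h1 : x / z = 1 := by
        by_contra hne
        refine hcon _ hne (by rw [div_pow, hx, hz, div_one]) ?_
        rw [show 2 - x / z = y / z by field_simp; linear_combination -e, div_pow, hy, hz, div_one]
      have h1' : x = z := (div_eq_one_iff_eq z0).1 h1
      exact ⟨h1', by linear_combination e - h1'⟩)
  rw [hc, hF] at this
  have hp5 : (5 : ℝ) ≤ p := by exact_mod_cast h5
  have hN2 : (p : ℝ) ^ (r + 4) ≤ N := by exact_mod_cast hN1
  push_cast at this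
  obtain ⟨t, ht⟩ : ∃ t : ℝ, t = (p : ℝ) ^ r := ⟨_, rfl⟩
  have t1 : 1 ≤ t := ht ▸ one_le_pow₀ (by linarith)
  rw [pow_add, ← ht] at this hN2
  have hs : √(t * (p : ℝ) ^ 5) ≤ t * (p : ℝ) ^ 3 / 2 := by
    apply Real.sqrt_le_iff.2 ⟨by positivity, ?_⟩
    have : (0 : ℝ) < t * (p : ℝ) ^ 5 := by positivity
    have h4 : (4 : ℝ) ≤ t * p := by nlinarith
    have := mul_le_mul_of_nonneg_left h4 this.le
    nlinarith
  have a1 : (t * (p : ℝ) ^ 4) ^ 2 ≤ (N : ℝ) ^ 2 := by gcongr
  have a2 : (0 : ℝ) < t * (p : ℝ) ^ 5 := by positivity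
  have a3 := mul_le_mul_of_nonneg_right hs a2.le
  have a4 : (2 : ℝ) < t * (p : ℝ) ^ 3 := by nlinarith [pow_le_pow_left₀ (by norm_num) hp5 3]
  nlinarith

end Cfsg.Agent.FT.BGC
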