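/-
BG appendix C, Lemma C.3 and Theorem C.
-/
import Cfsg.Agent.FT.Base
import Cfsg.Agent.FT.P.BGC_1

set_option autoImplicit false
set_option linter.unusedSectionVars false

namespace Cfsg.Agent.FT

open Subgroup Cfsg Cfsg.Agent
open scoped commutatorElement

universe u

variable {G : Type u} [Group G] [Finite G]

namespace BGC

/-- The hypotheses of Theorem C; `s` is the element of `P` with `f s = 1`. -/
structure Hyp (p : ℕ) {F : Type*} [Field F] [Fintype F] (P U Q : Subgroup G) (f ψ : G → F)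
    (s y : G) : Prop where
  five : 5 ≤ p
  cop : 𝐨(U).Coprime (p - 1)
  ndvd : ¬ p ∣ 𝐨(U)
  card : 𝐨(U) * (p - 1) = Fintype.card F - 1
  ne_bot : U ≠ ⊥
  bij : Set.BijOn f (P : Set G) Set.univ
  add : ∀ x ∈ P, ∀ z ∈ P, f (x * z) = f x + f z
  norm : U ≤ 𝐍(P)
  act : ∀ u ∈ U, ∀ x ∈ P, f (u * x * u⁻¹) = ψ u * f x
  inj : Set.InjOn ψ (U : Set G)
  mem : s ∈ P
  fs : f s = 1
  comm : IsMulCommutative Q
  copQ : 𝐨(Q).Coprime p
  sQ : s ∈ 𝐍(Q)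
  yQ : y ∈ Q
  tU : y * s * y⁻¹ ∈ 𝐍(U)

variable {p : ℕ} [hp : Fact p.Prime] {F : Type*} [Field F] [Fintype F] [CharP F p]
  {P U Q : Subgroup G} {f ψ : G → F} {s y : G} (h : Hyp p P U Q f ψ s y)
include h

namespace Hyp

theorem f_one : f 1 = 0 := by
  have := h.add 1 (one_mem P) 1 (one_mem P)
  rw [mul_one] at this
  exact left_eq_add.1 this

theorem f_zpow {x : G} (hx : x ∈ P) (n : ℤ) : f (x ^ n) = n * f x := by
  have := map_zpow (MonoidHom.mk' (fun x : P => Multiplicative.ofAdd (f x))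
    fun a b => congrArg Multiplicative.ofAdd (h.add a a.2 b b.2)) ⟨x, hx⟩ n
  have := congrArg Multiplicative.toAdd this
  simpa using this

theorem f_s (n : ℤ) : f (s ^ n) = n := by rw [h.f_zpow h.mem, h.fs, mul_one]

theorem f_inj {x z : G} (hx : x ∈ P) (hz : z ∈ P) (e : f x = f z) : x = z := h.bij.injOn hx hz e

theorem eq_one {x : G} (hx : x ∈ P) (e : f x = 0) : x = 1 :=
  h.f_inj hx (one_mem P) (e.trans h.f_one.symm)

theorem pow_p {x : G} (hx : x ∈ P) : x ^ p = 1 :=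
  h.eq_one (pow_mem hx p) (by rw [← zpow_natCast, h.f_zpow hx]; simp)

theorem commP {x z : G} (hx : x ∈ P) (hz : z ∈ P) : x * z = z * x :=
  h.f_inj (mul_mem hx hz) (mul_mem hz hx) (by rw [h.add x hx z hz, h.add z hz x hx, add_comm])

theorem conjP {u x : G} (hu : u ∈ U) (hx : x ∈ P) : u * x * u⁻¹ ∈ P :=
  H1.conj_mem_of_le_normalizer h.norm hu hx

theorem psi_one : ψ 1 = 1 := by
  have := h.act 1 (one_mem U) s h.mem
  simpa [h.fs] using this.symm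

theorem psi_mul {u v : G} (hu : u ∈ U) (hv : v ∈ U) : ψ (u * v) = ψ u * ψ v := by
  have h1 := h.act _ (mul_mem hu hv) s h.mem
  have h2 := h.act u hu _ (h.conjP hv h.mem)
  rw [h.act v hv s h.mem] at h2
  rw [show u * v * s * (u * v)⁻¹ = u * (v * s * v⁻¹) * u⁻¹ by group, h2, h.fs] at h1
  simpa using h1.symm

theorem psi_pow {u : G} (hu : u ∈ U) (n : ℕ) : ψ (u ^ n) = ψ u ^ n := by
  induction n with
  | zero => simpa using h.psi_one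
  | succ n ih => rw [pow_succ, h.psi_mul (pow_mem hu n) hu, ih, pow_succ]

theorem psi_pow_card {u : G} (hu : u ∈ U) : ψ u ^ 𝐨(U) = 1 := by
  rw [← h.psi_pow hu, orderOf_dvd_iff_pow_eq_one.1 (orderOf_dvd_card_of_mem hu), h.psi_one]

theorem psi_ne_zero {u : G} (hu : u ∈ U) : ψ u ≠ 0 := fun e => by
  have := h.psi_pow_card hu
  rw [e, zero_pow (card_ne_zero U)] at this
  exact zero_ne_one this

theorem psi_inv {u : G} (hu : u ∈ U) : ψ u⁻¹ = (ψ u)⁻¹ :=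
  eq_inv_of_mul_eq_one_left (by rw [← h.psi_mul (inv_mem hu) hu, inv_mul_cancel, h.psi_one])

theorem commU {u v : G} (hu : u ∈ U) (hv : v ∈ U) : Commute u v :=
  h.inj (mul_mem hu hv) (mul_mem hv hu) (by rw [h.psi_mul hu hv, h.psi_mul hv hu, mul_comm])

theorem eq_one_of_psi {u : G} (hu : u ∈ U) (e : ψ u ^ p = ψ u) : u = 1 := by
  refine h.inj hu (one_mem U) ?_
  have h1 : ψ u ^ (p - 1) = 1 := by
    refine mul_right_cancel₀ (h.psi_ne_zero hu) ?_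
    rw [← pow_succ, Nat.sub_add_cancel hp.out.one_le, e, one_mul]
  have := pow_gcd_eq_one.2 ⟨h.psi_pow_card hu, h1⟩
  rw [h.cop, pow_one] at this
  rw [this, h.psi_one]

theorem eq_one_of_pow {u : G} (hu : u ∈ U) (e : u ^ p = u) : u = 1 :=
  h.eq_one_of_psi hu (by rw [← h.psi_pow hu, e])

theorem disj {x : G} (hx : x ∈ P) (hu : x ∈ U) : x = 1 := by
  refine h.inj hu (one_mem U) ?_
  have := h.act x hu s h.mem
  rw [h.commP hx h.mem, mul_inv_cancel_right, h.fs, mul_one] at this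
  rw [← this, h.psi_one]

theorem exists_psi {x : F} (hx : x ^ 𝐨(U) = 1) : ∃ u ∈ U, ψ u = x := by
  classical
  have h1 : (Set.toFinite (U : Set G)).toFinset.image ψ = Polynomial.nthRootsFinset 𝐨(U) (1 : F) := by
    refine Finset.eq_of_subset_of_card_le (Finset.image_subset_iff.2 fun u hu => ?_) ?_
    · exact (Polynomial.mem_nthRootsFinset Nat.card_pos 1).2
        (h.psi_pow_card ((Set.Finite.mem_toFinset _).1 hu))
    · rw [Finset.card_image_of_injOn (by rw [Set.Finite.coe_toFinset]; exact h.inj),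
        ← Set.ncard_eq_toFinset_card _ _, Polynomial.nthRootsFinset_def]
      exact (Multiset.toFinset_card_le _).trans (Polynomial.card_nthRoots _ _)
  have h2 := (Polynomial.mem_nthRootsFinset Nat.card_pos 1).2 hx
  rw [← h1] at h2
  obtain ⟨u, hu, e⟩ := Finset.mem_image.1 h2
  exact ⟨u, (Set.Finite.mem_toFinset _).1 hu, e⟩

theorem split_field (x : F) : ∃ u ∈ U, ∃ n : ℤ, x = ψ u * n := by
  by_cases hx : x = 0
  · exact ⟨1, one_mem U, 0, by simp [hx]⟩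
  have h0 : x ^ (𝐨(U) * (p - 1)) = 1 := by rw [h.card]; exact FiniteField.pow_card_sub_one_eq_one x hx
  have e := Nat.gcd_eq_gcd_ab 𝐨(U) (p - 1)
  rw [h.cop] at e
  obtain ⟨u, hu, eu⟩ := h.exists_psi (x := (x ^ (p - 1)) ^ Nat.gcdB 𝐨(U) (p - 1)) (by
    rw [← zpow_natCast, ← zpow_mul, mul_comm, zpow_mul, zpow_natCast, ← pow_mul, mul_comm, h0,
      one_zpow])
  have h1 : (x ^ 𝐨(U)) ^ p = x ^ 𝐨(U) := by
    conv_lhs => rw [← Nat.sub_add_cancel hp.out.one_le, pow_succ, ← pow_mul, h0, one_mul]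
  obtain ⟨n, hn⟩ := (mem_bot_iff_intCast p F).1 (zpow_mem
    ((Subfield.mem_bot_iff_pow_eq_self F p).2 h1) (Nat.gcdA 𝐨(U) (p - 1)))
  refine ⟨u, hu, n, ?_⟩
  rw [eu, hn, ← zpow_natCast, ← zpow_natCast, ← zpow_mul, ← zpow_mul, ← zpow_add₀ hx, add_comm,
    ← e]
  simp

theorem split_iff {x₁ x₂ x₃ c u v : G} (h₁ : x₁ ∈ P) (h₂ : x₂ ∈ P) (h₃ : x₃ ∈ P) (hc : c ∈ U)
    (hu : u ∈ U) (hv : v ∈ U) :
    x₁ * c * x₂ = u * x₃ * v ↔ c = u * v ∧ f x₁ + ψ c * f x₂ = ψ u * f x₃ := by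
  rw [← h.act c hc _ h₂, ← h.act u hu _ h₃, ← h.add _ h₁ _ (h.conjP hc h₂)]
  constructor
  · intro e
    have e1 : (u * x₃ * u⁻¹)⁻¹ * (x₁ * (c * x₂ * c⁻¹)) = u * v * c⁻¹ := by
      rw [show x₁ * (c * x₂ * c⁻¹) = x₁ * c * x₂ * c⁻¹ by group, e]; group
    have e2 := h.disj (mul_mem (inv_mem (h.conjP hu h₃)) (mul_mem h₁ (h.conjP hc h₂)))
      (e1 ▸ mul_mem (mul_mem hu hv) (inv_mem hc))
    refine ⟨(mul_inv_eq_one.1 (e1 ▸ e2)).symm, by rw [inv_mul_eq_one.1 e2]⟩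
  · rintro ⟨rfl, e⟩
    have := h.f_inj (mul_mem h₁ (h.conjP hc h₂)) (h.conjP hu h₃) e
    calc _ = x₁ * (u * v * x₂ * (u * v)⁻¹) * (u * v) := by group
      _ = _ := by rw [this]; group

theorem smem (n : ℤ) : s ^ n ∈ P := zpow_mem h.mem n

theorem exists_split (i j : ℤ) {c : G} (hc : c ∈ U) :
    ∃ u ∈ U, ∃ v ∈ U, ∃ n : ℤ, s ^ i * c * s ^ j = u * s ^ n * v := by
  obtain ⟨u, hu, n, e⟩ := h.split_field (f (s ^ i) + ψ c * f (s ^ j))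
  exact ⟨u, hu, u⁻¹ * c, mul_mem (inv_mem hu) hc, n, (h.split_iff (h.smem i) (h.smem j) (h.smem n)
    hc hu (mul_mem (inv_mem hu) hc)).2 ⟨by group, by rw [e, h.f_s]⟩⟩

theorem split_frob {i j n : ℤ} {c u v : G} (hc : c ∈ U) (hu : u ∈ U) (hv : v ∈ U)
    (e : s ^ i * c * s ^ j = u * s ^ n * v) : s ^ i * c ^ p * s ^ j = u ^ p * s ^ n * v ^ p := by
  rw [h.split_iff (h.smem i) (h.smem j) (h.smem n) hc hu hv] at e
  rw [h.split_iff (h.smem i) (h.smem j) (h.smem n) (pow_mem hc p) (pow_mem hu p) (pow_mem hv p)]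
  refine ⟨by rw [e.1, (h.commU hu hv).mul_pow], ?_⟩
  have := congrArg (frobenius F p) e.2
  simp only [h.f_s, map_add, map_mul, map_intCast] at this
  rw [h.psi_pow hc, h.psi_pow hu, h.f_s, h.f_s, h.f_s]
  exact this

theorem not_split {i j : ℤ} {c : G} (hc : c ∈ U) (hi : s ^ i ≠ 1) (e : s ^ i * c * s ^ j ∈ U) :
    c = 1 ∧ s ^ i * s ^ j = 1 := by
  have h1 := ((h.split_iff (h.smem i) (h.smem j) (one_mem P) hc (one_mem U) e).1 (by group)).2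
  rw [h.f_one, mul_zero, h.f_s, h.f_s] at h1
  have hj : (j : F) ≠ 0 := fun e0 => hi (h.eq_one (h.smem i) (by
    rw [h.f_s]; simpa [e0] using h1))
  have h2 : ψ c = -i / j := by field_simp; linear_combination h1
  have h3 : c = 1 := h.eq_one_of_psi hc (by
    rw [h2, ← frobenius_def, map_div₀, map_neg, map_intCast, map_intCast])
  refine ⟨h3, h.disj (mul_mem (h.smem i) (h.smem j)) ?_⟩
  rwa [h3, mul_one] at e

theorem s_ne_one {k : ℕ} (h0 : 0 < k) (h4 : k < 5) : s ^ (k : ℤ) ≠ 1 := fun e => by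
  have := h.f_s k
  rw [e, h.f_one, Int.cast_natCast, eq_comm, CharP.cast_eq_zero_iff F p] at this
  have := Nat.le_of_dvd h0 this
  have := h.five
  omega

theorem isPGroup : IsPGroup p P := fun x => ⟨1, Subtype.ext (by simpa using h.pow_p x.2)⟩

theorem exists_ne_one : ∃ u ∈ U, u ≠ 1 := sharp_nonempty.2 h.ne_bot

theorem conjQ (k : ℤ) {x : G} (hx : x ∈ Q) : s ^ k * x * (s ^ k)⁻¹ ∈ Q :=
  (mem_normalizer_iff.1 (zpow_mem h.sQ k) x).1 hx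

theorem tU' (k : ℤ) : y * s ^ k * y⁻¹ ∈ 𝐍(U) := by
  rw [← conj_zpow]; exact zpow_mem h.tU k

theorem ti {k : ℤ} (hk : s ^ k ≠ 1) {g : G} (hg : g ∈ P ⊔ U)
    (hg' : (y * s ^ k * y⁻¹) * g * (y * s ^ k * y⁻¹)⁻¹ ∈ P ⊔ U) : g ∈ U := by
  have htU := h.tU' k
  obtain ⟨t, ht⟩ : ∃ t, t = y * s ^ k * y⁻¹ := ⟨_, rfl⟩
  rw [← ht] at hg' htU
  obtain ⟨z, hz, u, hu, rfl⟩ := (mem_sup_of_norm h.norm).1 hg
  by_cases hz1 : z = 1
  · rw [hz1, one_mul]; exact hu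
  exfalso
  have cU : ∀ v ∈ U, t * v * t⁻¹ ∈ P ⊔ U := fun v hv =>
    mem_sup_right ((mem_normalizer_iff.1 htU v).1 hv)
  have h1 : t * z * t⁻¹ ∈ P ⊔ U := by
    rw [show t * (z * u) * t⁻¹ = t * z * t⁻¹ * (t * u * t⁻¹) by group] at hg'
    exact (mul_mem_cancel_right (cU u hu)).1 hg'
  have h2 : P ^ᵍ t ≤ P ⊔ U := by
    intro w' hw'
    obtain ⟨w, hw, rfl⟩ := mem_conj'.1 hw'
    obtain ⟨v, hv, n, e⟩ := h.split_field (f w / f z)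
    have f0 : f z ≠ 0 := fun e => hz1 (h.eq_one hz e)
    have : w = v * z ^ n * v⁻¹ := h.f_inj hw (h.conjP hv (zpow_mem hz n)) (by
      rw [h.act v hv _ (zpow_mem hz n), h.f_zpow hz, ← mul_assoc, ← e, div_mul_cancel₀ _ f0])
    rw [this, show t * (v * z ^ n * v⁻¹) * t⁻¹ =
      t * v * t⁻¹ * (t * z * t⁻¹) ^ n * (t * v * t⁻¹)⁻¹ by rw [conj_zpow]; group]
    exact mul_mem (mul_mem (cU v hv) (zpow_mem h1 n)) (inv_mem (cU v hv))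
  have hsd : SdProd P U (P ⊔ U) :=
    ⟨rfl, h.norm, eq_bot_iff.2 fun x hx => h.disj (mem_inf.1 hx).1 (mem_inf.1 hx).2⟩
  have hS : IsSyl p P (P ⊔ U) := ⟨le_sup_left, h.isPGroup, hsd.relIndex_left ▸ h.ndvd⟩
  have h3 : P ^ᵍ t ≤ P := hS.le_of_normal hp.out hsd.le_norm (h.isPGroup.map _) h2
  have hq : (s ^ k)⁻¹ * t ∈ Q := by
    have := mul_mem (h.conjQ (-k) h.yQ) (inv_mem h.yQ)
    rwa [show s ^ (-k) * y * (s ^ (-k))⁻¹ * y⁻¹ = (s ^ k)⁻¹ * t by rw [ht]; group] at this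
  have hPQ : P ⊓ Q = ⊥ :=
    H1.inf_eq_bot_of_coprime' (H1.coprime_card_of_isPGroup h.isPGroup h.copQ).symm
  have h4 : (s ^ k)⁻¹ * (t * s ^ k * t⁻¹) ∈ P ⊓ Q := by
    refine mem_inf.2 ⟨mul_mem (inv_mem (h.smem k)) (h3 (conj_mem_conj (h.smem k) t)), ?_⟩
    have := mul_mem hq (h.conjQ k (inv_mem hq))
    rwa [show (s ^ k)⁻¹ * t * (s ^ k * ((s ^ k)⁻¹ * t)⁻¹ * (s ^ k)⁻¹) =
      (s ^ k)⁻¹ * (t * s ^ k * t⁻¹) by group] at this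
  rw [hPQ, mem_bot, inv_mul_eq_one, eq_mul_inv_iff_mul_eq] at h4
  have h5 : ((s ^ k)⁻¹ * t) ^ p = 1 := by
    rw [(Commute.inv_left h4).mul_pow, inv_pow, h.pow_p (h.smem k), ht, conj_pow,
      h.pow_p (h.smem k)]
    group
  have h6 : (s ^ k)⁻¹ * t = 1 := by
    rw [← orderOf_eq_one_iff]
    exact Nat.eq_one_of_dvd_coprimes h.copQ (orderOf_dvd_card_of_mem hq)
      (orderOf_dvd_iff_pow_eq_one.2 h5)
  rw [inv_mul_eq_one] at h6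
  obtain ⟨v, hv, hv1⟩ := h.exists_ne_one
  refine hv1 (h.not_split (j := -k) hv hk ?_).1
  rw [zpow_neg, h6]
  exact (mem_normalizer_iff.1 htU v).1 hv

omit h in
theorem word_eq {t u₁ v₁ u₂ v₂ u₃ v₃ s₁ s₂ s₃ : G}
    (e : (u₁ * s₁ * v₁) * t⁻¹ * (u₂ * s₂ * v₂) * t⁻¹ * (u₃ * s₃ * v₃) * (t * t) = 1) :
    (t * v₂ * t⁻¹ * u₃) * s₃ * (v₃ * ((t * t) * u₁ * (t * t)⁻¹)) * (t * t) * s₁ *
      (v₁ * (t⁻¹ * u₂ * t⁻¹⁻¹)) = t * s₂⁻¹ * t := by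
  calc _ = t * ((u₁ * s₁ * v₁ * t⁻¹ * u₂ * s₂)⁻¹ *
        ((u₁ * s₁ * v₁) * t⁻¹ * (u₂ * s₂ * v₂) * t⁻¹ * (u₃ * s₃ * v₃) * (t * t)) *
        (u₁ * s₁ * v₁ * t⁻¹ * u₂ * s₂)) * s₂⁻¹ * t := by group
    _ = _ := by rw [e]; group

theorem word_one {a b t : G} (ht : t = y * s * y⁻¹) (e : a * s * a⁻¹ * (b * s * b⁻¹) = s * s) :
    (s ^ (1 : ℤ) * ((t * t * t)⁻¹ * a * (t * t * t)⁻¹⁻¹) * s ^ (-2 : ℤ)) * t⁻¹ *
      (s ^ (3 : ℤ) * ((t * t)⁻¹ * (a⁻¹ * b) * (t * t)⁻¹⁻¹) * s ^ (-1 : ℤ)) * t⁻¹ *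
      (s ^ (2 : ℤ) * (t⁻¹ * b⁻¹ * t⁻¹⁻¹) * s ^ (-3 : ℤ)) * (t * t) = 1 := by
  have hq : ∀ k : ℤ, s ^ (-k) * t ^ k ∈ Q := by
    intro k
    have := mul_mem (h.conjQ (-k) h.yQ) (inv_mem h.yQ)
    rwa [show s ^ (-k) * y * (s ^ (-k))⁻¹ * y⁻¹ = s ^ (-k) * t ^ k by
      rw [ht, conj_zpow]; group] at this
  have hc : ∀ i j : ℤ, s ^ (-i) * t ^ (i - j) * s ^ j = t ^ (-j) * s ^ (j - i) * t ^ i := by
    intro i j
    have := mem_cent.1 (isMulComm_iff_le_cent.1 h.comm (inv_mem (hq j))) _ (hq i)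
    calc _ = s ^ (-i) * t ^ i * (s ^ (-j) * t ^ j)⁻¹ := by group
      _ = _ := by rw [this]; group
  have c1 := hc 2 3
  have c2 := hc 1 2
  have c3 := hc 3 1
  calc _ = s * t ^ (-3 : ℤ) * a * t ^ (3 : ℤ) * (s ^ (-2 : ℤ) * t ^ (2 - 3 : ℤ) * s ^ (3 : ℤ)) *
        t ^ (-2 : ℤ) * a⁻¹ * b * t ^ (2 : ℤ) * (s ^ (-1 : ℤ) * t ^ (1 - 2 : ℤ) * s ^ (2 : ℤ)) *
        t⁻¹ * b⁻¹ * t * (s ^ (-3 : ℤ) * t ^ (3 - 1 : ℤ) * s ^ (1 : ℤ)) * s⁻¹ := by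
        rw [← mul_inv_eq_one]; group
    _ = s * t ^ (-3 : ℤ) * (a * s * a⁻¹ * (b * s * b⁻¹)) * s ^ (-2 : ℤ) * t ^ (3 : ℤ) * s⁻¹ := by
      rw [c1, c2, c3]; group
    _ = 1 := by rw [e]; group

theorem rel_iff {a b : G} (ha : a ∈ U) (hb : b ∈ U) :
    a * s * a⁻¹ * (b * s * b⁻¹) = s * s ↔ ψ a + ψ b = 2 := by
  have e1 : f (a * s * a⁻¹ * (b * s * b⁻¹)) = ψ a + ψ b := by
    rw [h.add _ (h.conjP ha h.mem) _ (h.conjP hb h.mem), h.act a ha s h.mem, h.act b hb s h.mem,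
      h.fs, mul_one, mul_one]
  have e2 : f (s * s) = 2 := by rw [h.add s h.mem s h.mem, h.fs, one_add_one_eq_two]
  rw [← e1, ← e2]
  exact ⟨fun e => by rw [e], h.f_inj (mul_mem (h.conjP ha h.mem) (h.conjP hb h.mem))
    (mul_mem h.mem h.mem)⟩

theorem exp_eq {n₁ n₂ n₃ : ℤ} {t : G} (ht : t = y * s * y⁻¹) (h₁ : s ^ n₁ ≠ 1)
    (e : s ^ n₃ * (t * t) * s ^ n₁ = t * (s ^ n₂)⁻¹ * t) : s ^ (n₁ + 1) = 1 := by
  obtain ⟨Y, hY⟩ : ∃ Y : ℤ → G, ∀ k, Y k = s ^ (-k) * y⁻¹ * (s ^ (-k))⁻¹ := ⟨_, fun _ => rfl⟩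
  have hYQ : ∀ k, Y k ∈ Q := fun k => hY k ▸ h.conjQ (-k) (inv_mem h.yQ)
  have e1 : s ^ (n₁ + n₂ + n₃) * ((Y (n₂ + n₃))⁻¹ * Y (n₂ + n₃ + 1) * (Y (n₃ + 1))⁻¹ * Y (n₃ + 2) *
      (Y 2)⁻¹ * Y 0) = 1 := by
    calc _ = s ^ n₁ * t⁻¹ * s ^ n₂ * t⁻¹ * (s ^ n₃ * (t * t) * s ^ n₁) * (s ^ n₁)⁻¹ := by
          simp only [hY, ht]; rw [← mul_inv_eq_one]; group
      _ = 1 := by rw [e]; group
  have hPQ : P ⊓ Q = ⊥ :=
    H1.inf_eq_bot_of_coprime' (H1.coprime_card_of_isPGroup h.isPGroup h.copQ).symm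
  have hR : (Y (n₂ + n₃))⁻¹ * Y (n₂ + n₃ + 1) * (Y (n₃ + 1))⁻¹ * Y (n₃ + 2) * (Y 2)⁻¹ * Y 0 ∈ Q :=
    mul_mem (mul_mem (mul_mem (mul_mem (mul_mem (inv_mem (hYQ _)) (hYQ _)) (inv_mem (hYQ _)))
      (hYQ _)) (inv_mem (hYQ _))) (hYQ _)
  have e2 : s ^ (n₁ + n₂ + n₃) = 1 := by
    rw [← mem_bot, ← hPQ]
    exact mem_inf.2 ⟨h.smem _, by rw [eq_inv_of_mul_eq_one_left e1]; exact inv_mem hR⟩
  rw [e2, one_mul] at e1
  letI : CommGroup Q := { (inferInstance : Group Q) with mul_comm := h.comm.is_comm.comm }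
  obtain ⟨Z, hZ⟩ : ∃ Z : ℤ → Q, ∀ k, (Z k : G) = Y k := ⟨fun k => ⟨Y k, hYQ k⟩, fun _ => rfl⟩
  have ab : ∀ a b : Q, Additive.ofMul a = Additive.ofMul b → (a : G) = b := fun a b e => by
    rw [Additive.ofMul.injective e]
  obtain ⟨z, hz⟩ : ∃ z, z = (Y (n₂ + n₃) * (Y 0)⁻¹) * (Y (n₃ + 1) * (Y 1)⁻¹) := ⟨_, rfl⟩
  have hsQ : zpowers s ≤ 𝐍(Q) := zpowers_le.2 h.sQ
  have z1 : z ∈ ⁅Q, zpowers s⁆ := by
    rw [hz, commutator_comm]
    refine mul_mem ?_ ?_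
    · have := commutator_mem_commutator (zpow_mem_zpowers s (-(n₂ + n₃))) (hYQ 0)
      rwa [show ⁅s ^ (-(n₂ + n₃)), Y 0⁆ = Y (n₂ + n₃) * (Y 0)⁻¹ by
        simp only [hY, commutatorElement_def]; group] at this
    · have := commutator_mem_commutator (zpow_mem_zpowers s (-n₃)) (hYQ 1)
      rwa [show ⁅s ^ (-n₃), Y 1⁆ = Y (n₃ + 1) * (Y 1)⁻¹ by
        simp only [hY, commutatorElement_def]; group] at this
  have z2 : z ∈ 𝐂(zpowers s) := by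
    rw [cent_zpowers, mem_cent1]
    have a1 : s⁻¹ * z * s = (Y (n₂ + n₃ + 1) * (Y 1)⁻¹) * (Y (n₃ + 2) * (Y 2)⁻¹) := by
      simp only [hz, hY]; rw [← mul_inv_eq_one]; group
    have a2 : z⁻¹ * (s⁻¹ * z * s) = 1 := by
      rw [a1, ← e1, hz]
      simp only [← hZ]
      exact_mod_cast ab _ _ (by simp only [ofMul_mul, ofMul_inv]; abel)
    calc s * z = s * (z * (z⁻¹ * (s⁻¹ * z * s))) * 1 := by rw [a2]; group
      _ = s * (z * (z⁻¹ * (s⁻¹ * z * s))) * 1 := rfl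
      _ = z * s := by group
  have z3 : z = 1 := by
    rw [← mem_bot, ← H1.centralizer_inf_commutator_eq_bot h.comm hsQ
      (H1.coprime_card_of_isPGroup (h.isPGroup.to_le (zpowers_le.2 h.mem)) h.copQ).symm]
    exact mem_inf.2 ⟨z2, z1⟩
  have e3 : (Y 1)⁻¹ * Y (n₂ + n₃) * ((Y (n₃ + 1))⁻¹ * Y 0)⁻¹ = 1 := by
    rw [← z3, hz]
    simp only [← hZ]
    exact_mod_cast ab _ _ (by simp only [ofMul_mul, ofMul_inv]; abel)
  have e4 : s ^ (-(n₂ + n₃)) = s ^ n₁ := by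
    rw [← mul_inv_eq_one, ← inv_eq_one, ← e2]; group
  rw [hY (n₂ + n₃), e4] at e3
  have e5 : s ^ n₃ * (y * s ^ (n₁ + 1) * y⁻¹) * (s ^ n₁)⁻¹ = y * s ^ (n₃ + 1) * y⁻¹ := by
    rw [← mul_inv_eq_one, ← conj_eq_one_iff (a := s ^ (-(n₃ + 1))), ← e3]
    simp only [hY]; group
  by_contra hne
  obtain ⟨u, hu, hu1⟩ := h.exists_ne_one
  have hP : ∀ k : ℤ, s ^ k ∈ P ⊔ U := fun k => mem_sup_left (h.smem k)
  have a1 : s ^ (-n₁) * u * s ^ n₁ ∈ U := by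
    refine h.ti hne (mul_mem (mul_mem (hP _) (mem_sup_right hu)) (hP _)) ?_
    have := mul_mem (mul_mem (inv_mem (hP n₃)) (mem_sup_right
      ((mem_normalizer_iff.1 (h.tU' (n₃ + 1)) u).1 hu))) (hP n₃)
    rw [← e5] at this
    convert this using 1
    group
  exact hu1 (h.not_split hu (by rw [zpow_neg]; exact inv_ne_one.2 h₁) a1).1

/-- The key step of BG Lemma C.3. -/
theorem step {a b t : G} (ht : t = y * s * y⁻¹) (ha : a ∈ U) (hb : b ∈ U) (e : ψ a + ψ b = 2) :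
    ∃ b' ∈ U, ψ ((t * t * t)⁻¹ * a⁻¹ * (t * t * t)⁻¹⁻¹) + ψ b' = 2 := by
  have htU : t ∈ 𝐍(U) := ht ▸ h.tU
  have cj : ∀ {g : G}, g ∈ 𝐍(U) → ∀ {u : G}, u ∈ U → g * u * g⁻¹ ∈ U := fun hg u hu =>
    (mem_normalizer_iff.1 hg u).1 hu
  have t2 : t * t ∈ 𝐍(U) := mul_mem htU htU
  have t3 : t * t * t ∈ 𝐍(U) := mul_mem t2 htU
  have c₁ := cj (inv_mem t3) ha
  have c₂ := cj (inv_mem t2) (mul_mem (inv_mem ha) hb)
  have c₃ := cj (inv_mem htU) (inv_mem hb)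
  obtain ⟨u₁, hu₁, v₁, hv₁, n₁, e₁⟩ := h.exists_split 1 (-2) c₁
  obtain ⟨u₂, hu₂, v₂, hv₂, n₂, e₂⟩ := h.exists_split 3 (-1) c₂
  obtain ⟨u₃, hu₃, v₃, hv₃, n₃, e₃⟩ := h.exists_split 2 (-3) c₃
  have s1 : s ≠ 1 := by simpa using h.s_ne_one (k := 1) one_pos (by norm_num)
  have s2 : s ^ (2 : ℤ) ≠ 1 := h.s_ne_one (k := 2) two_pos (by norm_num)
  have n1 : s ^ n₁ ≠ 1 := fun e0 => s1 (by
    have := (h.not_split c₁ (i := 1) (j := -2) (by simpa using s1)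
      (by rw [e₁, e0, mul_one]; exact mul_mem hu₁ hv₁)).2
    rw [← inv_eq_one, ← this]; group)
  have n3 : s ^ n₃ ≠ 1 := fun e0 => s1 (by
    have := (h.not_split c₃ (i := 2) (j := -3) s2
      (by rw [e₃, e0, mul_one]; exact mul_mem hu₃ hv₃)).2
    rw [← inv_eq_one, ← this]; group)
  have r1 := h.word_one ht ((h.rel_iff ha hb).2 e)
  have r2 := h.word_one ht ((h.rel_iff (pow_mem ha p) (pow_mem hb p)).2 (by
    rw [h.psi_pow ha, h.psi_pow hb, ← add_pow_char, e, ← frobenius_def, map_ofNat]))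
  rw [e₁, e₂, e₃] at r1
  rw [← inv_pow a, ← inv_pow b, ← (h.commU (inv_mem ha) hb).mul_pow, ← conj_pow, ← conj_pow,
    ← conj_pow, h.split_frob c₁ hu₁ hv₁ e₁, h.split_frob c₂ hu₂ hv₂ e₂,
    h.split_frob c₃ hu₃ hv₃ e₃] at r2
  have w1 := word_eq r1
  have w2 := word_eq r2
  rw [← conj_pow, ← conj_pow, ← conj_pow, ← (h.commU (cj htU hv₂) hu₃).mul_pow,
    ← (h.commU hv₃ (cj t2 hu₁)).mul_pow, ← (h.commU hv₁ (cj (inv_mem htU) hu₂)).mul_pow] at w2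
  have m₁ := mul_mem (cj htU hv₂) hu₃
  have m₂ := mul_mem hv₃ (cj t2 hu₁)
  have m₃ := mul_mem hv₁ (cj (inv_mem htU) hu₂)
  generalize t * v₂ * t⁻¹ * u₃ = w₁ at w1 w2 m₁
  generalize v₃ * (t * t * u₁ * (t * t)⁻¹) = w₂ at w1 w2 m₂
  generalize v₁ * (t⁻¹ * u₂ * t⁻¹⁻¹) = w₃ at w1 w2 m₃
  have hP : ∀ k : ℤ, s ^ k ∈ P ⊔ U := fun k => mem_sup_left (h.smem k)
  have hU : ∀ {u : G}, u ∈ U → u ∈ P ⊔ U := fun hu => mem_sup_right hu
  have k1 : (t * t) * (s ^ n₁ * (w₃ ^ p * w₃⁻¹) * s ^ (-n₁)) * (t * t)⁻¹ =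
      (w₂ ^ p)⁻¹ * (s ^ (-n₃) * ((w₁ ^ p)⁻¹ * w₁) * s ^ n₃) * w₂ := by
    calc _ = (w₁ ^ p * s ^ n₃ * w₂ ^ p)⁻¹ * (w₁ ^ p * s ^ n₃ * w₂ ^ p * (t * t) * s ^ n₁ * w₃ ^ p) *
          (w₁ * s ^ n₃ * w₂ * (t * t) * s ^ n₁ * w₃)⁻¹ * (w₁ * s ^ n₃ * w₂) := by group
      _ = _ := by rw [w1, w2]; group
  have x₃ := mul_mem (pow_mem m₃ p) (inv_mem m₃)
  have x₁ := mul_mem (inv_mem (pow_mem m₁ p)) m₁
  have k2 : s ^ n₁ * (w₃ ^ p * w₃⁻¹) * s ^ (-n₁) ∈ U := by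
    refine h.ti s2 (mul_mem (mul_mem (hP _) (hU x₃)) (hP _)) ?_
    rw [show y * s ^ (2 : ℤ) * y⁻¹ = t * t by rw [ht, ← mul_inv_eq_one]; group, k1]
    exact mul_mem (mul_mem (inv_mem (hU (pow_mem m₂ p))) (mul_mem (mul_mem (hP _) (hU x₁))
      (hP _))) (hU m₂)
  have k3 := (h.not_split x₃ n1 k2).1
  have k4 : s ^ (-n₃) * ((w₁ ^ p)⁻¹ * w₁) * s ^ n₃ = w₂ ^ p * w₂⁻¹ := by
    calc _ = w₂ ^ p * ((w₂ ^ p)⁻¹ * (s ^ (-n₃) * ((w₁ ^ p)⁻¹ * w₁) * s ^ n₃) * w₂) * w₂⁻¹ := by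
          group
      _ = _ := by rw [← k1, k3]; group
  have k5 := (h.not_split x₁ (by rw [zpow_neg]; exact inv_ne_one.2 n3)
    (k4 ▸ mul_mem (pow_mem m₂ p) (inv_mem m₂))).1
  have k6 : w₂ ^ p * w₂⁻¹ = 1 := by rw [← k4, k5]; group
  rw [h.eq_one_of_pow m₁ (inv_mul_eq_one.1 k5), h.eq_one_of_pow m₂ (mul_inv_eq_one.1 k6),
    h.eq_one_of_pow m₃ (mul_inv_eq_one.1 k3), one_mul, mul_one, mul_one] at w1
  have k7 : s ^ n₁ = s ^ (-1 : ℤ) := by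
    rw [← mul_inv_eq_one, ← h.exp_eq ht n1 w1]; group
  rw [k7, h.split_iff (h.smem _) (h.smem _) (h.smem _) c₁ hu₁ hv₁, h.f_s, h.f_s, h.f_s] at e₁
  refine ⟨_, mul_mem hu₁ (inv_mem c₁), ?_⟩
  rw [show (t * t * t)⁻¹ * a⁻¹ * (t * t * t)⁻¹⁻¹ = ((t * t * t)⁻¹ * a * (t * t * t)⁻¹⁻¹)⁻¹ by group,
    h.psi_mul hu₁ (inv_mem c₁), h.psi_inv c₁]
  have := h.psi_ne_zero c₁
  have e' := e₁.2
  push_cast at e'
  field_simp
  linear_combination e'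

/-- BG Lemma C.3. -/
theorem inv_closed {a b : G} (ha : a ∈ U) (hb : b ∈ U) (e : ψ a + ψ b = 2) :
    ∃ b' ∈ U, ψ a⁻¹ + ψ b' = 2 := by
  obtain ⟨t, ht⟩ : ∃ t, t = y * s * y⁻¹ := ⟨_, rfl⟩
  have htU : t ∈ 𝐍(U) := ht ▸ h.tU
  have t3 : (t * t * t)⁻¹ ∈ 𝐍(U) := inv_mem (mul_mem (mul_mem htU htU) htU)
  have key : ∀ n : ℕ, ∃ b' ∈ U,
      ψ ((t * t * t)⁻¹ ^ n * a ^ ((-1 : ℤ) ^ n) * ((t * t * t)⁻¹ ^ n)⁻¹) + ψ b' = 2 := by
    intro n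
    induction n with
    | zero => exact ⟨b, hb, by simpa using e⟩
    | succ n ih =>
      obtain ⟨b', hb', e'⟩ := ih
      obtain ⟨c, hc, e''⟩ := h.step ht
        ((mem_normalizer_iff.1 (pow_mem t3 n) _).1 (zpow_mem ha _)) hb' e'
      refine ⟨c, hc, ?_⟩
      rw [← e'', pow_succ', pow_succ (-1 : ℤ), mul_neg_one, zpow_neg]
      congr 2
      generalize (t * t * t)⁻¹ = T
      generalize T ^ n = S
      group
  obtain ⟨b', hb', e'⟩ := key p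
  have hodd : Odd p := hp.out.odd_of_ne_two (by have := h.five; omega)
  have tp : (t * t * t)⁻¹ ^ p = 1 := by
    rw [← pow_three', inv_pow, ← pow_mul, mul_comm, pow_mul, ht, conj_pow,
      h.pow_p h.mem]
    group
  rw [tp, hodd.neg_one_pow] at e'
  exact ⟨b', hb', by simpa using e'⟩

end Hyp

end BGC

/-- BG Theorem C. `f` identifies `P` with the additive group of a field with `p ^ q` elements,
`ψ` identifies `U` with the norm-one elements, and `P₀` is the prime field. -/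
theorem prime_dim_normed_finField {p q : ℕ} (hp : p.Prime) (hq : q.Prime)
    (hA : Nat.Coprime ((p ^ q - 1) / (p - 1)) (p - 1))
    (F : Type*) [Field F] [Fintype F] (hF : Fintype.card F = p ^ q) {P U Q P₀ : Subgroup G}
    (f ψ : G → F) (hf : Set.BijOn f (P : Set G) Set.univ)
    (hfadd : ∀ x ∈ P, ∀ z ∈ P, f (x * z) = f x + f z) (hUP : U ≤ 𝐍(P))
    (hψ : ∀ u ∈ U, ∀ x ∈ P, f (u * x * u⁻¹) = ψ u * f x)
    (hψinj : Set.InjOn ψ (U : Set G)) (hUcard : 𝐨(U) * (p - 1) = p ^ q - 1)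
    (hP₀ : ∀ x, x ∈ P₀ ↔ x ∈ P ∧ f x ^ p = f x)
    (hQ : IsMulCommutative Q) (hQp : 𝐨(Q).Coprime p) (hP₀Q : P₀ ≤ 𝐍(Q))
    {y : G} (hy : y ∈ Q) (hP₀U : P₀ ^ᵍ y ≤ 𝐍(U)) : p ≤ q := by
  classical
  haveI := Fact.mk hp
  haveI : CharP F p := charP_of_card_eq_prime_pow hF
  by_contra hlt
  have hp1 : 0 < p - 1 := Nat.sub_pos_of_lt hp.one_lt
  have hN : 𝐨(U) = (p ^ q - 1) / (p - 1) := by rw [← hUcard, Nat.mul_div_cancel _ hp1]
  rw [← hN] at hA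
  rw [← Nat.geomSum_eq hp.two_le] at hN
  have hq2 := hq.two_le
  have hodd : Odd p := hp.odd_of_ne_two (by omega)
  have hq2' : q ≠ 2 := by
    rintro rfl
    obtain ⟨k, rfl⟩ := hodd
    have h1 : 2 ∣ 𝐨(U) := by rw [hN]; simp [Finset.sum_range_succ]; omega
    have h2 : 2 ∣ 2 * k + 1 - 1 := by simp
    exact absurd (Nat.eq_one_of_dvd_coprimes hA h1 h2) (by norm_num)
  have hq4 : q ≠ 4 := by rintro rfl; exact absurd hq (by norm_num)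
  have hp4 : p ≠ 4 := by rintro rfl; exact absurd hp (by norm_num)
  obtain ⟨s, hs, hfs⟩ := hf.surjOn (Set.mem_univ 1)
  have hs0 : s ∈ P₀ := (hP₀ s).2 ⟨hs, by rw [hfs, one_pow]⟩
  have h : BGC.Hyp p P U Q f ψ s y :=
    { five := by omega
      cop := hA
      ndvd := fun hd => by
        have h1 : p ∣ p ^ q - 1 := hUcard ▸ hd.mul_right _
        have h2 : p ∣ p ^ q := dvd_pow_self p hq.ne_zero
        have := (Nat.dvd_sub_iff_right (Nat.one_le_pow q p hp.pos) h2).1 h1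
        exact hp.not_dvd_one this
      card := by rw [hUcard, hF]
      ne_bot := by
        rintro rfl
        obtain ⟨r, rfl⟩ : ∃ r, q = r + 2 := ⟨q - 2, by omega⟩
        rw [card_bot, Finset.sum_range_succ', Finset.sum_range_succ'] at hN
        have := hp.pos
        simp at hN
        omega
      bij := hf, add := hfadd, norm := hUP, act := hψ, inj := hψinj, mem := hs, fs := hfs
      comm := hQ, copQ := hQp, sQ := hP₀Q hs0, yQ := hy, tU := hP₀U (conj_mem_conj hs0 y) }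
  obtain ⟨a, ha1, ha, ha2⟩ := BGC.exists_ne_one hF h.five (by omega) hN
    ((Set.toFinite (U : Set G)).toFinset.image ψ) (fun x => by
      rw [Finset.mem_image]
      exact ⟨fun ⟨u, hu, e⟩ => e ▸ h.psi_pow_card ((Set.Finite.mem_toFinset _).1 hu), fun hx =>
        (h.exists_psi hx).imp fun u hu => ⟨(Set.Finite.mem_toFinset _).2 hu.1, hu.2⟩⟩)
    (by rw [Finset.card_image_of_injOn (by rw [Set.Finite.coe_toFinset]; exact hψinj),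
        ← Set.ncard_eq_toFinset_card _ _]; rfl)
  refine hlt (BGC.le_of_inv_closed hq.pos hN (fun x hx hx2 => ?_) ha ha2 ha1)
  obtain ⟨u, hu, rfl⟩ := h.exists_psi hx
  obtain ⟨v, hv, e⟩ := h.exists_psi hx2
  obtain ⟨w, hw, e'⟩ := h.inv_closed hu hv (by rw [e]; ring)
  rw [← h.psi_inv hu, ← e', add_sub_cancel_left]
  exact h.psi_pow_card hw

end Cfsg.Agent.FT
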