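/-
PF (4.2) - (4.4).
-/
import Cfsg.Agent.FT.PF03
import Cfsg.Agent.FT.B.helper1_Sec

set_option autoImplicit false

namespace Cfsg.Agent.FT

open Subgroup Cfsg Cfsg.Agent
open scoped commutatorElement

universe u

variable {G : Type u} [Group G] [Finite G]

variable {L K H W₁ W₂ W : Subgroup G}

theorem PrimeTI.basic (h : PrimeTI L K W₁ W₂ W) :
    K ⊲ L ∧ W ≤ L ∧ IsCyclic W ∧ 𝐨(K).Coprime 𝐨(W₁) ∧ K.relIndex L = 𝐨(W₁) ∧ K ⊓ W = W₂ ∧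
      K ⊓ 𝐂(W₁) = W₂ ∧ ∀ x ∈ hatSet W₁ W₂, x ∉ K := by
  have hc : 𝐨(K).Coprime 𝐨(W₁) := h.sd.relIndex_right ▸ h.hall1.2.symm
  have e : K ⊓ W = W₂ := by
    rw [inf_comm, ← h.dprod.symm.sup, sup_inf_of_le_left
      (h.dprod.symm.cent.trans (cent_le_norm _)) h.le2, inf_comm, h.sd.disj, sup_bot_eq]
  refine ⟨h.sd.normal, h.dprod.sup ▸ sup_le h.sd.le_right (h.le2.trans h.sd.le_left),
    h.dprod.isCyclic h.cyc1 h.cyc2 (H1.coprime_of_le hc.symm le_rfl h.le2), hc,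
    h.sd.relIndex_left, e, ?_, fun x hx hK => hx.2.2 (e ▸ ⟨hK, h.dprod.sup ▸ hx.1⟩)⟩
  obtain ⟨x, hx⟩ := isCyclic_iff_zpowers.1 h.cyc1
  rw [← hx, cent_zpowers]
  exact h.cent x (hx ▸ mem_zpowers x) (by rintro rfl; exact h.ne_bot1 (hx ▸ zpowers_one_eq_bot))

namespace PF04

theorem comm (h : PrimeTI L K W₁ W₂ W) : IsMulCommutative W := isMulComm_of_isCyclic h.basic.2.2.1

omit [Finite G] in
theorem der_le_K (h : PrimeTI L K W₁ W₂ W) : ⁅L, L⁆ ≤ K := by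
  have := h.sd.der_le_sup
  rwa [isMulComm_iff_comm_eq_bot.1 (isMulComm_of_isCyclic h.cyc1), sup_bot_eq] at this

theorem pow_mem1 (h : PrimeTI L K W₁ W₂ W) {x : G} (hx : x ∈ W) (hx2 : x ∉ W₂) :
    x ^ 𝐨(W₂) ∈ W₁ ∧ x ^ 𝐨(W₂) ≠ 1 := by
  obtain ⟨a, ha, b, hb, rfl⟩ := h.dprod.mem_iff.1 hx
  rw [(h.dprod.commute ha hb).mul_pow, orderOf_dvd_iff_pow_eq_one.1 (orderOf_dvd_card_of_mem hb),
    mul_one]
  refine ⟨pow_mem ha _, fun e => hx2 ?_⟩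
  have := Nat.eq_one_of_dvd_coprimes (H1.coprime_of_le h.basic.2.2.2.1 h.le2 le_rfl)
    (orderOf_dvd_of_pow_eq_one e) (orderOf_dvd_card_of_mem ha)
  rwa [orderOf_eq_one_iff.1 this, one_mul]

omit [Finite G] in
theorem cent1_le (h : PrimeTI L K W₁ W₂ W) {a : G} (ha : a ∈ W₁) (h1 : a ≠ 1) : L ⊓ 𝐂[a] ≤ W := by
  intro g hg
  obtain ⟨k, hk, w, hw, rfl⟩ := h.sd.mem_iff.1 hg.1
  have h2 : w ∈ 𝐂[a] :=
    cent_le_cent1 ha (isMulComm_iff_le_cent.1 (isMulComm_of_isCyclic h.cyc1) hw)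
  have h3 : k ∈ W₂ := h.cent a ha h1 ▸ ⟨hk, (Subgroup.mul_mem_cancel_right _ h2).1 hg.2⟩
  exact W.mul_mem (h.dprod.le_right h3) (h.dprod.le_left hw)

omit [Finite G] in
theorem exists_mem1 (h : PrimeTI L K W₁ W₂ W) : ∃ x ∈ W₁, x ≠ 1 ∧ x ∈ W ∧ x ∉ W₂ ∧ x ∉ K := by
  obtain ⟨⟨x, hx⟩, h1⟩ := ne_bot_iff_exists_ne_one.1 h.ne_bot1
  have h2 : x ≠ 1 := fun e => h1 (Subtype.ext e)
  have h3 : x ∉ K := fun hK => h2 (mem_bot.1 (h.sd.disj ▸ ⟨hK, hx⟩))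
  exact ⟨x, hx, h2, h.dprod.le_left hx, fun e => h3 (h.le2 e), h3⟩

end PF04

open PF04

/-- PF (4.3)(a). -/
theorem PrimeTI.normedTI (h : PrimeTI L K W₁ W₂ W) :
    NormedTI ((W : Set G) \ W₂) L W ∧ ∀ x ∈ W, x ∉ W₂ → L ⊓ 𝐂[x] = W := by
  have hc := isMulComm_iff_le_cent.1 (comm h)
  obtain ⟨x, -, -, hx, hx2, -⟩ := exists_mem1 h
  refine ⟨⟨⟨x, hx, hx2⟩, fun e => e.2 W₂.one_mem, Set.sdiff_subset, h.basic.2.1, fun g hg a ha => ?_,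
    fun g hg a ha hga => ?_⟩, fun x hx hx2 => le_antisymm ?_ (le_inf h.basic.2.1
      (hc.trans (cent_le_cent1 hx)))⟩
  · rwa [mem_cent1_iff_conj.1 (cent_le_cent1 ha.1 (hc hg))]
  · obtain ⟨h1, h2⟩ := pow_mem1 h ha.1 ha.2
    refine cent1_le h h1 h2 ⟨hg, mem_cent1_iff_conj.2 ?_⟩
    have h3 : g * a * g⁻¹ * a⁻¹ ∈ W₂ := h.basic.2.2.2.2.2.1 ▸
      ⟨der_le_K h (commutator_mem_commutator hg (h.basic.2.1 ha.1)),
        W.mul_mem hga.1 (W.inv_mem ha.1)⟩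
    have h4 := orderOf_dvd_iff_pow_eq_one.1 (orderOf_dvd_card_of_mem h3)
    rw [Commute.mul_pow (mem_cent.1 (hc (W.inv_mem ha.1)) _ hga.1), inv_pow, mul_inv_eq_one,
      conj_pow] at h4
    exact h4
  · obtain ⟨h1, h2⟩ := pow_mem1 h hx hx2
    exact (inf_le_inf_left _ (cent1_le_cent1_pow x _)).trans (cent1_le h h1 h2)

/-- PF (4.3)(a). -/
theorem PrimeTI.cycTI (h : PrimeTI L K W₁ W₂ W) : CycTI L W₁ W₂ W := by
  refine ⟨h.dprod, h.basic.2.2.1, h.odd, h.normedTI.1.mono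
    (fun x hx => ⟨h.dprod.sup ▸ hx.1, hx.2.2⟩) ?_ fun g hg a ha => ?_⟩
  · obtain ⟨⟨x, hx⟩, h1⟩ := ne_bot_iff_exists_ne_one.1 h.ne_bot1
    obtain ⟨⟨y, hy⟩, h2⟩ := ne_bot_iff_exists_ne_one.1 h.ne_bot2
    exact ⟨_, h.dprod.mem_hatSet.2 ⟨x, hx, fun e => h1 (Subtype.ext e), y, hy,
      fun e => h2 (Subtype.ext e), rfl⟩⟩
  · rwa [mem_cent1_iff_conj.1 (cent_le_cent1 (h.dprod.sup ▸ ha.1)
      (isMulComm_iff_le_cent.1 (comm h) hg))]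

/-- Every element of `L ∖ K` is conjugate in `L` to an element of `W ∖ W₂`. -/
theorem PrimeTI.exists_conj_mem (h : PrimeTI L K W₁ W₂ W) {g : G} (hg : g ∈ L) (hK : g ∉ K) :
    g ∈ classSupp ((W : Set G) \ W₂) L := by
  obtain ⟨hKL, -, -, hc, -⟩ := h.basic
  have hH := (h.sd.hall (isPi_piOf K) (coprime_iff_isPi_compl.1 hc.symm)).1
  have h1 : piPt (piOf K)ᶜ g ≠ 1 := fun e => hK (mem_of_hall_normal hH hKL.2 hg
    (compl_compl (piOf K) ▸ piPt_eq_one_iff.1 e))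
  obtain ⟨n, hn, hn'⟩ := H1.exists_conj_le_of_le_sup (B := zpowers (piPt (piOf K)ᶜ g)) h.sd.norm
    hc.symm (Or.inl (isSolvable_of_isNilpotent (isNilpotent_of_isMulComm
      (isMulComm_of_isCyclic h.cyc1))))
    (by rw [sup_comm, h.sd.sup]; exact zpowers_le.2 (piPt_mem hg _))
    (coprime_iff_isPi_compl.2 (isPi_zpowers.2 (isPiElt_piPt _ _)))
  have hnL := hKL.1 hn
  refine ⟨n * g * n⁻¹, ⟨cent1_le h (hn' (conj_mem_conj (mem_zpowers _) n))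
    (fun e => h1 (conj_eq_one_iff.1 e)) ⟨L.mul_mem (L.mul_mem hnL hg) (L.inv_mem hnL), ?_⟩,
    fun e => hK ?_⟩, n⁻¹, L.inv_mem hnL, by group⟩
  · rw [cent1_conj]
    exact conj_mem_conj (cent1_le_cent1_piPt _ g (self_mem_cent1 g)) n
  · have := H1.conj_mem_of_le_normalizer' hKL.2 hnL (h.le2 e)
    rwa [show n⁻¹ * (n * g * n⁻¹) * n = g by group] at this

theorem PrimeTI.bar {Y N : Subgroup G} [(N.subgroupOf Y).Normal] (h : PrimeTI L K W₁ W₂ W)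
    (hY : L ≤ Y) (hN : N ≤ K) (hs : Group.IsSolvable K ∨ Group.IsSolvable W₁) (h2 : ¬ W₂ ≤ N) :
    PrimeTI (H1.bar Y N L) (H1.bar Y N K) (H1.bar Y N W₁) (H1.bar Y N W₂) (H1.bar Y N W) := by
  obtain ⟨hKL, hWL, -, hc, -⟩ := h.basic
  have hK := hKL.1.trans hY
  have h1 := h.sd.le_right.trans hY
  have h2' := h.le2.trans hK
  have hsd : SdProd (H1.bar Y N K) (H1.bar Y N W₁) (H1.bar Y N L) :=
    ⟨by rw [← H1.bar_sup hK h1, h.sd.sup], H1.bar_le_normalizer h.sd.norm,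
      H1.inf_eq_bot_of_coprime' (H1.coprime_bar hc)⟩
  refine ⟨⟨by rw [← H1.bar_sup h1 h2', h.dprod.sup], (H1.bar_le_centralizer_iff h2' h1).2
    ((comm_eq_bot_iff.2 h.dprod.cent).le.trans bot_le), H1.inf_eq_bot_of_coprime'
      (H1.coprime_bar (H1.coprime_of_le hc.symm le_rfl h.le2))⟩, hsd,
    fun e => h.ne_bot1 (eq_bot_iff.2 (h.sd.disj ▸ le_inf
      (((H1.bar_eq_bot_iff h1).1 e).trans hN) le_rfl)),
    ⟨hsd.le_right, hsd.relIndex_right ▸ H1.coprime_bar hc.symm⟩, isCyclic_bar h1 h.cyc1,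
    fun e => h2 ((H1.bar_eq_bot_iff h2').1 e), H1.bar_mono h.le2, isCyclic_bar h2' h.cyc2,
    fun z hz hz1 => ?_, odd_card_bar h.odd⟩
  obtain ⟨y, hy, rfl⟩ := H1.mem_bar.1 hz
  have hyS : zpowers (y : G) ≤ W₁ := zpowers_le.2 hy
  rw [← cent_zpowers, ← H1.bar_zpowers, H1.bar_inf_centralizer_bar (hyS.trans h1) hK
    (hyS.trans h.sd.norm) (H1.coprime_of_le hc.symm hyS le_rfl)
    (H1.isSolvable_or_of_le hs.symm hyS le_rfl), cent_zpowers,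
    h.cent y hy fun e => hz1 (by rw [show y = 1 from Subtype.ext e, map_one])]

theorem PrimeTI.delt_cases (L W₁ W₂ : Subgroup G) (β : G → ℂ) :
    delt L W₁ W₂ β = 1 ∨ delt L W₁ W₂ β = -1 :=
  dsign_cases _

/-- PF (4.3)(b). -/
theorem PrimeTI.mu2_mem_Irr (h : PrimeTI L K W₁ W₂ W) {ω : G → ℂ} (hω : ω ∈ Irr W) :
    mu2 L W₁ W₂ ω ∈ Irr L :=
  (h.cycTI.σ_dirr hω).dabs_mem

theorem PrimeTI.mu2_injOn (h : PrimeTI L K W₁ W₂ W) : Set.InjOn (mu2 L W₁ W₂) (Irr W) := by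
  intro ω hω ω' hω' e
  by_contra hne
  have h1 := h.cycTI.ip_σ hω hω'
  rw [if_neg hne, ← dsign_smul_dabs (cycσ L W₁ W₂ ω), ← dsign_smul_dabs (cycσ L W₁ W₂ ω')] at h1
  change ip L (_ • mu2 L W₁ W₂ ω) (_ • mu2 L W₁ W₂ ω') = 0 at h1
  rw [e, ip_smul_left, ip_smul_right, ip_irr_self (h.mu2_mem_Irr hω'), mul_one, map_intCast] at h1
  exact mul_ne_zero (dsign_ne_zero _) (dsign_ne_zero _) h1

theorem PrimeTI.ip_mu2 (h : PrimeTI L K W₁ W₂ W) {α α' β β' : G → ℂ} (hα : α ∈ irrKer W W₂)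
    (hα' : α' ∈ irrKer W W₂) (hβ : β ∈ irrKer W W₁) (hβ' : β' ∈ irrKer W W₁) :
    ip L (mu2 L W₁ W₂ (α * β)) (mu2 L W₁ W₂ (α' * β')) = if α = α' ∧ β = β' then 1 else 0 := by
  have h1 := h.dprod.mul_mem_Irr hα hβ
  have h2 := h.dprod.mul_mem_Irr hα' hβ'
  rw [ip_irr (h.mu2_mem_Irr h1) (h.mu2_mem_Irr h2)]
  exact if_congr ((h.mu2_injOn.eq_iff h1 h2).trans (h.dprod.mul_eq_mul_iff hα hα' hβ hβ')) rfl rfl

namespace PF04

theorem apply_ker {N : Subgroup G} (h : PrimeTI L K W₁ W₂ W) {α : G → ℂ} (hα : α ∈ irrKer W N)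
    {x : G} (hx : x ∈ N) : α x = 1 := by
  rw [apply_of_mem_cfKer ((mem_irrKer.1 hα).2 hx), (h.cycTI.isLin (mem_irrKer.1 hα).1).2.1]

theorem one2 (h : PrimeTI L K W₁ W₂ W) : cf1 W ∈ irrKer W W₂ := cf1_mem_irrKer h.dprod.le_right

theorem one1 (h : PrimeTI L K W₁ W₂ W) : cf1 W ∈ irrKer W W₁ := cf1_mem_irrKer h.dprod.le_left

theorem one_mul' {N : Subgroup G} {β : G → ℂ} (hβ : β ∈ irrKer W N) : cf1 W * β = β :=
  cf1_mul (irr_mem_CF (mem_irrKer.1 hβ).1)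

theorem mul_one' {N : Subgroup G} {β : G → ℂ} (hβ : β ∈ irrKer W N) : β * cf1 W = β :=
  mul_cf1 (irr_mem_CF (mem_irrKer.1 hβ).1)

theorem ind_sub_σ (h : PrimeTI L K W₁ W₂ W) {α α' β : G → ℂ} (hα : α ∈ irrKer W W₂)
    (hα' : α' ∈ irrKer W W₂) (hβ : β ∈ irrKer W W₁) :
    ind L W (α * β - α' * β) = cycσ L W₁ W₂ (α * β) - cycσ L W₁ W₂ (α' * β) := by
  by_cases e : α = α'
  · simp [e]
  have h1 := h.dprod.mul_mem_Irr hα hβ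
  have h2 := h.dprod.mul_mem_Irr hα' hβ
  have hon : α * β - α' * β ∈ CFon W ((W : Set G) \ W₂) :=
    mem_CFon_of (sub_mem (irr_mem_CF h1) (irr_mem_CF h2)) fun x hx hx2 => by
      have : x ∈ W₂ := by_contra fun hn => hx2 ⟨hx, hn⟩
      simp [apply_ker h hα this, apply_ker h hα' this]
  have := h.cycTI.symm.eq_signed_sub (ε := 1) (vchar_ind h.basic.2.1
    (sub_mem (irr_mem_VChar h1) (irr_mem_VChar h2))) (by
      rw [nsq_eq_of_ip_eq (h.normedTI.1.ip_ind hon hon), nsq_sub_of_orth (ip_irr_of_ne h1 h2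
        fun e' => e ((h.dprod.mul_eq_mul_iff hα hα' hβ hβ).1 e').1), nsq_irr h1, nsq_irr h2]
      norm_num) (Or.inl rfl) hβ hα hα' e fun x hx => by
      rw [h.normedTI.1.ind_apply hon ⟨h.dprod.symm.sup ▸ hx.1, hx.2.1⟩]
      simp [mul_comm]
  rw [this, cycσ_comm, mul_comm β, mul_comm β]
  simp

theorem dsign_σ (h : PrimeTI L K W₁ W₂ W) {α β : G → ℂ} (hα : α ∈ irrKer W W₂)
    (hβ : β ∈ irrKer W W₁) : dsign (cycσ L W₁ W₂ (α * β)) = delt L W₁ W₂ β := by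
  have := congrFun (ind_sub_σ h hα (one2 h) hβ) 1
  rw [ind_one h.basic.2.1, one_mul' hβ, Pi.sub_apply, Pi.sub_apply, Pi.mul_apply,
    apply_ker h hα W₂.one_mem, one_mul, sub_self, mul_zero, eq_comm, sub_eq_zero] at this
  rw [delt, dsign, dsign, this]

end PF04

/-- PF (4.3)(b). -/
theorem PrimeTI.σ_eq (h : PrimeTI L K W₁ W₂ W) {α β : G → ℂ} (hα : α ∈ irrKer W W₂)
    (hβ : β ∈ irrKer W W₁) :
    cycσ L W₁ W₂ (α * β) = (delt L W₁ W₂ β : ℂ) • mu2 L W₁ W₂ (α * β) := by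
  rw [← dsign_σ h hα hβ]; exact (dsign_smul_dabs _).symm

/-- PF (4.3)(b). -/
theorem PrimeTI.ind_sub (h : PrimeTI L K W₁ W₂ W) {α α' β : G → ℂ} (hα : α ∈ irrKer W W₂)
    (hα' : α' ∈ irrKer W W₂) (hβ : β ∈ irrKer W W₁) :
    ind L W (α * β - α' * β) =
      (delt L W₁ W₂ β : ℂ) • (mu2 L W₁ W₂ (α * β) - mu2 L W₁ W₂ (α' * β)) := by
  rw [ind_sub_σ h hα hα' hβ, h.σ_eq hα hβ, h.σ_eq hα' hβ, smul_sub]

namespace PF04

theorem ind_eq_σ (h : PrimeTI L K W₁ W₂ W) {γ : G → ℂ} (hγ : γ ∈ CFon W ((W : Set G) \ W₂)) :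
    ind L W γ = cycσ L W₁ W₂ γ := by
  have e := eq_sum_irr hγ.1
  rw [h.dprod.sum_Irr] at e
  have h0 : ∑ α ∈ irrKer W W₂, ∑ β ∈ irrKer W W₁, ip W γ (α * β) • β = 0 := by
    funext x
    by_cases hx : x ∈ W
    · obtain ⟨a, ha, b, hb, rfl⟩ := h.dprod.mem_iff.1 hx
      rw [Pi.zero_apply, ← hγ.2 b fun hb' => hb'.2 hb]
      conv_rhs => rw [e]
      simp only [Finset.sum_apply, Pi.smul_apply, Pi.mul_apply]
      refine Finset.sum_congr rfl fun α hα => Finset.sum_congr rfl fun β hβ => ?_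
      rw [apply_ker h hα hb, one_mul, mem_cfKer.1 ((mem_irrKer.1 hβ).2 ha)]
    · simp only [Finset.sum_apply, Pi.smul_apply, Pi.zero_apply]
      exact Finset.sum_eq_zero fun α _ => Finset.sum_eq_zero fun β hβ => by
        rw [CF_off (irr_mem_CF (mem_irrKer.1 hβ).1) hx, smul_zero]
  have e2 : γ = ∑ α ∈ irrKer W W₂, ∑ β ∈ irrKer W W₁, ip W γ (α * β) • (α * β - cf1 W * β) := by
    refine e.trans ((sub_zero _).symm.trans ?_)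
    rw [← h0, ← Finset.sum_sub_distrib]
    refine Finset.sum_congr rfl fun α _ => ?_
    rw [← Finset.sum_sub_distrib]
    exact Finset.sum_congr rfl fun β hβ => by rw [smul_sub, one_mul' hβ]
  rw [e2]
  simp only [map_sum, map_smul]
  refine Finset.sum_congr rfl fun α hα => Finset.sum_congr rfl fun β hβ => ?_
  rw [ind_sub_σ h hα (one2 h) hβ, map_sub]

theorem eq_on_of_ip (h : PrimeTI L K W₁ W₂ W) {ψ φ : G → ℂ} (hψ : ψ ∈ CF L) (hφ : φ ∈ CF W)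
    (ho : ∀ ω ∈ Irr W, ip L (cycσ L W₁ W₂ ω) ψ = ip W ω φ) {x : G} (hx : x ∈ W) (hx2 : x ∉ W₂) :
    ψ x = φ x := by
  refine sub_eq_zero.1 (eq_zero_on_of_orth_CFon (ψ := ψ - φ) Set.sdiff_subset h.normedTI.1.norm
    (fun g hg y => by rw [Pi.sub_apply, Pi.sub_apply, CF_conj hψ (h.basic.2.1 hg), CF_conj hφ hg])
    (fun γ hγ => ?_) x ⟨hx, hx2⟩)
  rw [ip_sub_right, ← ip_ind_left h.basic.2.1 γ hψ, ind_eq_σ h hγ, sub_eq_zero,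
    eq_sum_irr hγ.1, map_sum, ip_sum_left, ip_sum_left]
  exact Finset.sum_congr rfl fun ω hω => by rw [map_smul, ip_smul_left, ip_smul_left, ho ω hω]

theorem delt_mul_self (L W₁ W₂ : Subgroup G) (β : G → ℂ) :
    (delt L W₁ W₂ β : ℂ) * delt L W₁ W₂ β = 1 := dsign_mul_self _

theorem delt_ne_zero (L W₁ W₂ : Subgroup G) (β : G → ℂ) : (delt L W₁ W₂ β : ℂ) ≠ 0 :=
  dsign_ne_zero _

end PF04

/-- PF (4.3)(c). -/
theorem PrimeTI.mu2_apply (h : PrimeTI L K W₁ W₂ W) {α β : G → ℂ} (hα : α ∈ irrKer W W₂)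
    (hβ : β ∈ irrKer W W₁) {x : G} (hx : x ∈ W) (hx2 : x ∉ W₂) :
    mu2 L W₁ W₂ (α * β) x = delt L W₁ W₂ β * (α * β) x := by
  have h1 := irr_mem_CF (h.dprod.mul_mem_Irr hα hβ)
  rw [← eq_on_of_ip h (h.cycTI.σ_mem_CF h1) h1
    (fun ω hω => h.cycTI.isCycIso.iso ω (irr_mem_CF hω) _ h1) hx hx2, h.σ_eq hα hβ,
    Pi.smul_apply, smul_eq_mul, ← mul_assoc, delt_mul_self, one_mul]

/-- PF (4.3)(c). -/
theorem PrimeTI.vanish_of_orth (h : PrimeTI L K W₁ W₂ W) {ψ : G → ℂ} (hψ : ψ ∈ CF L)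
    (ho : ∀ ω ∈ Irr W, ip L ψ (mu2 L W₁ W₂ ω) = 0) {x : G} (hx : x ∈ W) (hx2 : x ∉ W₂) :
    ψ x = 0 :=
  eq_on_of_ip h hψ (zero_mem _) (fun ω hω => by
    rw [← dsign_smul_dabs (cycσ L W₁ W₂ ω), ip_smul_left, ip_zero_right]
    exact mul_eq_zero_of_right _ (ip_eq_zero_symm (ho ω hω))) hx hx2

/-- PF (4.3)(d). -/
theorem PrimeTI.mu2_dg_mod (h : PrimeTI L K W₁ W₂ W) {α β : G → ℂ} (hα : α ∈ irrKer W W₂)
    (hβ : β ∈ irrKer W W₁) : (𝐨(W₁) : ℤ) ∣ dg (mu2 L W₁ W₂ (α * β)) - delt L W₁ W₂ β := by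
  have h1 := h.dprod.mul_mem_Irr hα hβ
  have h2 := h.mu2_mem_Irr h1
  obtain ⟨n, hn⟩ := vchar_ip_int (sub_mem (vchar_res h.sd.le_right (irr_mem_VChar h2))
    (vchar_int_smul (vchar_res h.dprod.le_left (irr_mem_VChar h1)) (delt L W₁ W₂ β)))
    (cf1_mem_VChar W₁)
  rw [ip_eq_sum_of_supp (A := {1}) (Set.singleton_subset_iff.2 W₁.one_mem) (fun x hx hx1 => by
    rw [Pi.sub_apply, Pi.smul_apply, res_of_mem _ hx, res_of_mem _ hx, h.mu2_apply hα hβ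
      (h.dprod.le_left hx) (fun e => hx1 (mem_bot.1 (h.dprod.disj ▸ ⟨hx, e⟩))), smul_eq_mul,
      sub_self]), sum_fs_singleton, inv_mul_eq_iff_eq_mul₀ (card_ne_zero_C W₁)] at hn
  refine ⟨n, ?_⟩
  simp only [Pi.sub_apply, Pi.smul_apply, res_one, cf1_one, map_one, mul_one, irr_one_eq h2,
    (h.cycTI.isLin h1).2.1, smul_eq_mul] at hn
  exact_mod_cast hn

namespace PF04

theorem dsign_dabs_cfAut {φ : G → ℂ} (hφ : Dirr H φ) (u : ℂ →+* ℂ) :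
    dsign (cfAut u φ) = dsign φ ∧ dabs (cfAut u φ) = cfAut u (dabs φ) :=
  dsign_dabs_of_eq (cfAut_mem_Irr u hφ.dabs_mem) (dsign_cases φ) (by
    conv_lhs => rw [← dsign_smul_dabs φ]
    rw [cfAut_smul, map_intCast])

theorem image_cfAut_irrKer (u : ℂ →+* ℂ) (K N : Subgroup G) :
    (irrKer K N).image (cfAut u) = irrKer K N :=
  Finset.eq_of_subset_of_card_le (Finset.image_subset_iff.2 fun _ hx => cfAut_mem_irrKer u hx)
    (Finset.card_image_of_injective _ (cfAut_injective u)).ge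

end PF04

theorem PrimeTI.delt_cfAut (h : PrimeTI L K W₁ W₂ W) (u : ℂ →+* ℂ) {β : G → ℂ}
    (hβ : β ∈ irrKer W W₁) : delt L W₁ W₂ (cfAut u β) = delt L W₁ W₂ β := by
  have h1 := (mem_irrKer.1 hβ).1
  rw [delt, ← h.cycTI.cfAut_σ u (irr_mem_CF h1), (dsign_dabs_cfAut (h.cycTI.σ_dirr h1) u).1, delt]

theorem PrimeTI.mu2_cfAut (h : PrimeTI L K W₁ W₂ W) (u : ℂ →+* ℂ) {ω : G → ℂ} (hω : ω ∈ Irr W) :
    mu2 L W₁ W₂ (cfAut u ω) = cfAut u (mu2 L W₁ W₂ ω) := by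
  rw [mu2, ← h.cycTI.cfAut_σ u (irr_mem_CF hω), (dsign_dabs_cfAut (h.cycTI.σ_dirr hω) u).2, mu2]

theorem PrimeTI.muR_eq (h : PrimeTI L K W₁ W₂ W) (β : G → ℂ) :
    muR L W₁ W₂ β = ∑ α ∈ irrKer W W₂, mu2 L W₁ W₂ (α * β) := by
  rw [muR, h.dprod.sup]

theorem PrimeTI.muR_cfAut (h : PrimeTI L K W₁ W₂ W) (u : ℂ →+* ℂ) {β : G → ℂ}
    (hβ : β ∈ irrKer W W₁) : muR L W₁ W₂ (cfAut u β) = cfAut u (muR L W₁ W₂ β) := by
  rw [h.muR_eq, h.muR_eq, cfAut_sum, ← image_cfAut_irrKer u W W₂,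
    Finset.sum_image (cfAut_injective u).injOn, image_cfAut_irrKer]
  exact Finset.sum_congr rfl fun α hα => by
    rw [← cfAut_mul, h.mu2_cfAut u (h.dprod.mul_mem_Irr hα hβ)]

end Cfsg.Agent.FT
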