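/-
PF (4.4), (4.5).
-/
import Cfsg.Agent.FT.P.PF04_1

set_option autoImplicit false

namespace Cfsg.Agent.FT

open Subgroup Cfsg Cfsg.Agent
open scoped commutatorElement

universe u

variable {G : Type u} [Group G] [Finite G]

variable {L K H W₁ W₂ W : Subgroup G}

open PF04

namespace PF04

theorem card2 (h : PrimeTI L K W₁ W₂ W) : (irrKer W W₂).card = 𝐨(W₁) :=
  (h.dprod.card_irrKer_of_comm (comm h)).1

theorem card1 (h : PrimeTI L K W₁ W₂ W) : (irrKer W W₁).card = 𝐨(W₂) :=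
  (h.dprod.card_irrKer_of_comm (comm h)).2

omit [Finite G] in
theorem hat_le (h : PrimeTI L K W₁ W₂ W) {x : G} (hx : x ∈ hatSet W₁ W₂) : x ∈ W :=
  h.dprod.sup ▸ hx.1

theorem res_irrKer (h : PrimeTI L K W₁ W₂ W) {χ : G → ℂ} (hχ : χ ∈ irrKer L K) :
    res W χ ∈ irrKer W W₂ ∧ mu2 L W₁ W₂ (res W χ) = χ := by
  have h1 := ((isLin_of_mem_irrKer (der_le_K h) hχ).res h.basic.2.1).mem_Irr
  have h2 := mem_irrKer.1 hχ
  refine ⟨mem_irrKer.2 ⟨h1, le_cfKer_res h.dprod.le_right (h.le2.trans h2.2)⟩, ?_⟩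
  rw [mu2, ← h.cycTI.eq_σ_of_eqOn (Or.inl h2.1) h1 fun x hx => (res_of_mem _ (hat_le h hx)).symm,
    dabs_irr h2.1]

theorem irrKer_eq (h : PrimeTI L K W₁ W₂ W) :
    irrKer L K = (irrKer W W₂).image (mu2 L W₁ W₂) :=
  Finset.eq_of_subset_of_card_le
    (fun _ hχ => Finset.mem_image.2 ⟨_, (res_irrKer h hχ).1, (res_irrKer h hχ).2⟩)
    (Finset.card_image_le.trans (by
      rw [card2 h, card_irrKer_of_der_le (der_le_K h) h.sd.le_left, h.sd.relIndex_left]))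

theorem mu2_mem_irrKer (h : PrimeTI L K W₁ W₂ W) {α : G → ℂ} (hα : α ∈ irrKer W W₂) :
    mu2 L W₁ W₂ α ∈ irrKer L K :=
  irrKer_eq h ▸ Finset.mem_image_of_mem _ hα

theorem mu2_lin (h : PrimeTI L K W₁ W₂ W) {α : G → ℂ} (hα : α ∈ irrKer W W₂) :
    IsLin L (mu2 L W₁ W₂ α) ∧ res W (mu2 L W₁ W₂ α) = α :=
  ⟨isLin_of_mem_irrKer (der_le_K h) (mu2_mem_irrKer h hα),
    h.mu2_injOn (mem_irrKer.1 (res_irrKer h (mu2_mem_irrKer h hα)).1).1 (mem_irrKer.1 hα).1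
      (res_irrKer h (mu2_mem_irrKer h hα)).2⟩

theorem mu2_apply_K (h : PrimeTI L K W₁ W₂ W) {α : G → ℂ} (hα : α ∈ irrKer W W₂) {x : G}
    (hx : x ∈ K) : mu2 L W₁ W₂ α x = 1 :=
  (mu2_lin h hα).1.mem_cfKer_iff.1 ((mem_irrKer.1 (mu2_mem_irrKer h hα)).2 hx)

theorem sum_mu2 (h : PrimeTI L K W₁ W₂ W) :
    ∑ α ∈ irrKer W W₂, mu2 L W₁ W₂ α = (𝐨(W₁) : ℂ) • cf1 K := by
  have := (gallagher h.sd.normal (isChar_cf1 L)
    (by rw [res_cf1 h.sd.le_left]; exact cf1_mem_Irr K)).2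
  rw [res_cf1 h.sd.le_left, ind_cf1_normal h.sd.normal, h.sd.relIndex_left, irrKer_eq h,
    Finset.sum_image (h.mu2_injOn.mono (irrKer_subset W W₂))] at this
  rw [this]
  exact Finset.sum_congr rfl fun α hα => by
    rw [(mu2_lin h hα).1.2.1, one_smul, mul_cf1 (mu2_lin h hα).1.mem_CF]

theorem mu2_mul (h : PrimeTI L K W₁ W₂ W) {α β : G → ℂ} (hα : α ∈ irrKer W W₂)
    (hβ : β ∈ irrKer W W₁) : mu2 L W₁ W₂ (α * β) = mu2 L W₁ W₂ α * mu2 L W₁ W₂ β := by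
  have h1 := (mu2_lin h hα).1.mul_mem_Irr (h.mu2_mem_Irr (mem_irrKer.1 hβ).1)
  refine (dsign_dabs_of_eq h1 (PrimeTI.delt_cases L W₁ W₂ β) (h.cycTI.eq_σ_of_eqOn
    (dirr_sign_smul (Or.inl h1) (PrimeTI.delt_cases L W₁ W₂ β)) (h.dprod.mul_mem_Irr hα hβ)
    fun x hx => ?_).symm).2
  have h2 := h.mu2_apply (one2 h) hβ (hat_le h hx) hx.2.2
  rw [one_mul' hβ] at h2
  rw [Pi.smul_apply, Pi.mul_apply, Pi.mul_apply, h2, ← res_of_mem (mu2 L W₁ W₂ α) (hat_le h hx),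
    (mu2_lin h hα).2, smul_eq_mul, mul_left_comm, ← mul_assoc (delt L W₁ W₂ β : ℂ),
    delt_mul_self, one_mul]

theorem ip_mu2_muR (h : PrimeTI L K W₁ W₂ W) {α β β' : G → ℂ} (hα : α ∈ irrKer W W₂)
    (hβ : β ∈ irrKer W W₁) (hβ' : β' ∈ irrKer W W₁) :
    ip L (mu2 L W₁ W₂ (α * β)) (muR L W₁ W₂ β') = if β = β' then 1 else 0 := by
  rw [h.muR_eq, ip_sum_right, Finset.sum_congr rfl fun α' hα' => h.ip_mu2 hα hα' hβ hβ']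
  by_cases e : β = β'
  · simp [e, hα]
  · simp [e]

theorem ip_muR_muR (h : PrimeTI L K W₁ W₂ W) {β β' : G → ℂ}
    (hβ : β ∈ irrKer W W₁) (hβ' : β' ∈ irrKer W W₁) :
    ip L (muR L W₁ W₂ β) (muR L W₁ W₂ β') = if β = β' then (𝐨(W₁) : ℂ) else 0 := by
  rw [h.muR_eq β, ip_sum_left, Finset.sum_congr rfl fun α hα => ip_mu2_muR h hα hβ hβ',
    Finset.sum_const, card2 h]
  split_ifs <;> simp

end PF04

/-- PF (4.5)(a). -/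
theorem PrimeTI.res_mu2 (h : PrimeTI L K W₁ W₂ W) {β : G → ℂ} (hβ : β ∈ irrKer W W₁) :
    res K (mu2 L W₁ W₂ β) ∈ Irr K ∧
      (∀ α ∈ irrKer W W₂, mu2 L W₁ W₂ (α * β) = mu2 L W₁ W₂ α * mu2 L W₁ W₂ β ∧
        res K (mu2 L W₁ W₂ (α * β)) = res K (mu2 L W₁ W₂ β) ∧
        mu2 L W₁ W₂ (α * β) 1 = mu2 L W₁ W₂ β 1) ∧
      ind L K (res K (mu2 L W₁ W₂ β)) = muR L W₁ W₂ β ∧
      muR L W₁ W₂ β = (𝐨(W₁) : ℂ) • res K (mu2 L W₁ W₂ β) ∧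
      dg (muR L W₁ W₂ β) = 𝐨(W₁) * dg (mu2 L W₁ W₂ β) := by
  have h1 := h.mu2_mem_Irr (mem_irrKer.1 hβ).1
  have h2 : muR L W₁ W₂ β = (𝐨(W₁) : ℂ) • res K (mu2 L W₁ W₂ β) := by
    rw [h.muR_eq, Finset.sum_congr rfl fun α hα => mu2_mul h hα hβ, ← Finset.sum_mul, sum_mu2 h,
      smul_mul_assoc, cf1_mul_eq_res]
  have h3 : ind L K (res K (mu2 L W₁ W₂ β)) = muR L W₁ W₂ β := by
    rw [ind_res_normal h.sd.normal (irr_mem_CF h1), h2, h.sd.relIndex_left]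
  refine ⟨((irr_isChar h1).res h.sd.le_left).mem_Irr_iff.2 (nsq_eq_one_iff.2 ?_),
    fun α hα => ⟨mu2_mul h hα hβ, res_congr fun x hx => ?_, ?_⟩, h3, h2, dg_eq_of ?_⟩
  · have := ip_mu2_muR h (one2 h) hβ hβ
    rw [one_mul' hβ, if_pos rfl, ← h3, ip_ind_right h.sd.le_left (irr_mem_CF h1)] at this
    rwa [ip_res_left]
  · rw [mu2_mul h hα hβ, Pi.mul_apply, mu2_apply_K h hα hx, one_mul]
  · rw [mu2_mul h hα hβ, Pi.mul_apply, mu2_apply_K h hα K.one_mem, one_mul]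
  · rw [h2, Pi.smul_apply, res_one, irr_one_eq h1, smul_eq_mul, Nat.cast_mul]

/-- PF (4.4). -/
theorem PrimeTI.col_zero (h : PrimeTI L K W₁ W₂ W) :
    mu2 L W₁ W₂ (cf1 W) = cf1 L ∧ delt L W₁ W₂ (cf1 W) = 1 ∧
      irrKer L K = (irrKer W W₂).image (mu2 L W₁ W₂) ∧
      (∀ α ∈ irrKer W W₂, IsLin L (mu2 L W₁ W₂ α) ∧ res W (mu2 L W₁ W₂ α) = α) ∧
      muR L W₁ W₂ (cf1 W) = (𝐨(W₁) : ℂ) • cf1 K := by
  have h1 : mu2 L W₁ W₂ (cf1 W) = cf1 L := by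
    rw [mu2, h.cycTI.σ_cf1, dabs_irr (cf1_mem_Irr L)]
  exact ⟨h1, by rw [delt, h.cycTI.σ_cf1, dsign_irr (cf1_mem_Irr L)], irrKer_eq h,
    fun α hα => mu2_lin h hα, by rw [(h.res_mu2 (one1 h)).2.2.2.1, h1, res_cf1 h.sd.le_left]⟩

theorem PrimeTI.res_mu2_injOn (h : PrimeTI L K W₁ W₂ W) :
    Set.InjOn (fun β => res K (mu2 L W₁ W₂ β)) (irrKer W W₁) ∧
      Set.InjOn (muR L W₁ W₂) (irrKer W W₁) := by
  have h2 : Set.InjOn (muR L W₁ W₂) (irrKer W W₁) := fun β hβ β' hβ' e => by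
    by_contra hne
    have := ip_muR_muR h hβ hβ'
    rw [if_neg hne, ← e, ip_muR_muR h hβ hβ, if_pos rfl] at this
    exact card_ne_zero_C W₁ this
  exact ⟨fun β hβ β' hβ' e => h2 hβ hβ' (by
    rw [(h.res_mu2 hβ).2.2.2.1, (h.res_mu2 hβ').2.2.2.1, show res K _ = res K _ from e]), h2⟩

theorem PrimeTI.star_facts (h : PrimeTI L K W₁ W₂ W) {β : G → ℂ} (hβ : β ∈ irrKer W W₁) :
    delt L W₁ W₂ (star β) = delt L W₁ W₂ β ∧ muR L W₁ W₂ (star β) = star (muR L W₁ W₂ β) ∧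
      (∀ ω ∈ Irr W, mu2 L W₁ W₂ (star ω) = star (mu2 L W₁ W₂ ω)) ∧
      (β ≠ cf1 W → star β ≠ β ∧ star β ≠ cf1 W ∧ star (muR L W₁ W₂ β) ≠ muR L W₁ W₂ β) := by
  have h1 : muR L W₁ W₂ (star β) = star (muR L W₁ W₂ β) := h.muR_cfAut (starRingEnd ℂ) hβ
  refine ⟨h.delt_cfAut (starRingEnd ℂ) hβ, h1, fun ω hω => h.mu2_cfAut (starRingEnd ℂ) hω,
    fun hne => ?_⟩
  have h2 : star β ≠ β := fun e => hne ((odd_star_irr_eq_iff h.odd (mem_irrKer.1 hβ).1).1 e)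
  exact ⟨h2, fun e => hne (by rw [← star_star β, e, star_cf1]),
    fun e => h2 (h.res_mu2_injOn.2 (star_mem_irrKer hβ) hβ (h1.trans e))⟩

theorem PrimeTI.muR_facts (h : PrimeTI L K W₁ W₂ W) {β : G → ℂ} (hβ : β ∈ irrKer W W₁) :
    IsChar L (muR L W₁ W₂ β) ∧ muR L W₁ W₂ β ∉ Irr L ∧ nsq L (muR L W₁ W₂ β) = 𝐨(W₁) ∧
      muR L W₁ W₂ β ∈ seqIndT K L ∧
      ∀ β' ∈ irrKer W W₁,
        ip L (muR L W₁ W₂ β) (muR L W₁ W₂ β') = (if β = β' then (𝐨(W₁) : ℂ) else 0) ∧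
        ∀ α ∈ irrKer W W₂, ip L (mu2 L W₁ W₂ (α * β)) (muR L W₁ W₂ β') = if β = β' then 1 else 0 := by
  have h1 : nsq L (muR L W₁ W₂ β) = 𝐨(W₁) :=
    nsq_eq_of_ip (by rw [ip_muR_muR h hβ hβ, if_pos rfl]; simp)
  obtain ⟨a1, -, a2, -⟩ := h.res_mu2 hβ
  refine ⟨a2 ▸ (irr_isChar a1).ind h.sd.le_left, fun e => h.ne_bot1 ?_, h1,
    mem_seqIndT.2 ⟨_, a1, a2⟩, fun β' hβ' => ⟨ip_muR_muR h hβ hβ', fun α hα =>
      ip_mu2_muR h hα hβ hβ'⟩⟩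
  rw [nsq_irr e] at h1
  exact card_eq_one.1 (by exact_mod_cast h1.symm)

namespace PF04

theorem ncard_fixed_le (h : PrimeTI L K W₁ W₂ W) {g : G} (hg : g ∈ W₁) (h1 : g ≠ 1) :
    {χ : G → ℂ | χ ∈ Irr K ∧ g ∈ inertia χ}.ncard ≤ 𝐨(W₂) := by
  rw [brauer_perm (h.sd.norm hg)]
  refine le_trans (Set.ncard_le_ncard (t := (fun x => classSupp {x} K) '' (W₂ : Set G)) ?_)
    ((Set.ncard_image_le (Set.toFinite _)).trans_eq (Nat.card_coe_set_eq _).symm)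
  rintro _ ⟨⟨x, hx, rfl⟩, hC⟩
  have hgS : zpowers g ≤ W₁ := zpowers_le.2 hg
  obtain ⟨k, hk, hkx⟩ := H1.exists_conj_mem_centralizer (hgS.trans h.sd.norm)
    (H1.coprime_of_le h.basic.2.2.2.1.symm hgS le_rfl)
    (Or.inl (isSolvable_of_isNilpotent (isNilpotent_of_isMulComm
      (isMulComm_of_isCyclic inferInstance)))) x (by
      intro a ha
      obtain ⟨n, rfl⟩ := mem_powers_iff_mem_zpowers.2 ha
      have : g ^ n * x * (g ^ n)⁻¹ ∈ classSupp {x} K := by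
        induction n with
        | zero => exact subset_classSupp _ _ (by simp)
        | succ n ih =>
          have := hC _ (ih (pow_mem (mem_zpowers g) n))
          rwa [show g * (g ^ n * x * (g ^ n)⁻¹) * g⁻¹ = g ^ (n + 1) * x * (g ^ (n + 1))⁻¹ by
            rw [pow_succ']; group] at this
      obtain ⟨_, rfl, k, hk, e⟩ := this
      exact ⟨k, hk, e⟩)
  rw [cent_zpowers] at hkx
  refine ⟨k * x * k⁻¹, h.cent g hg h1 ▸ ⟨K.mul_mem (K.mul_mem hk hx) (K.inv_mem hk), hkx⟩, ?_⟩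
  ext y
  constructor
  · rintro ⟨_, rfl, l, hl, rfl⟩
    exact ⟨x, rfl, l * k, K.mul_mem hl hk, by group⟩
  · rintro ⟨_, rfl, l, hl, rfl⟩
    exact ⟨_, rfl, l * k⁻¹, K.mul_mem hl (K.inv_mem hk), by group⟩

theorem fixed_eq (h : PrimeTI L K W₁ W₂ W) {g : G} (hg : g ∈ W₁) (h1 : g ≠ 1) :
    (fun β => res K (mu2 L W₁ W₂ β)) '' (irrKer W W₁) =
      {χ : G → ℂ | χ ∈ Irr K ∧ g ∈ inertia χ} := by
  refine Set.eq_of_subset_of_ncard_le ?_ ?_ ((Irr K).finite_toSet.subset fun _ hx => hx.1)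
  · rintro _ ⟨β, hβ, rfl⟩
    exact ⟨(h.res_mu2 hβ).1, le_inertia_res h.sd.le_norm
      (irr_mem_CF (h.mu2_mem_Irr (mem_irrKer.1 hβ).1)) (h.sd.le_right hg)⟩
  · rw [h.res_mu2_injOn.1.ncard_image, Set.ncard_coe_finset, card1 h]
    exact ncard_fixed_le h hg h1

theorem ncard_fixed (h : PrimeTI L K W₁ W₂ W) {g : G} (hg : g ∈ W₁) (h1 : g ≠ 1) :
    {χ : G → ℂ | χ ∈ Irr K ∧ g ∈ inertia χ}.ncard = 𝐨(W₂) := by
  rw [← fixed_eq h hg h1, h.res_mu2_injOn.1.ncard_image, Set.ncard_coe_finset, card1 h]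

end PF04

/-- PF (4.5)(b). -/
theorem PrimeTI.irr_cases (h : PrimeTI L K W₁ W₂ W) {θ : G → ℂ} (hθ : θ ∈ Irr K) :
    (∃ β ∈ irrKer W W₁, θ = res K (mu2 L W₁ W₂ β)) ∨
      (ind L K θ ∈ Irr L ∧ ∀ ω ∈ Irr W, ind L K θ ≠ mu2 L W₁ W₂ ω) := by
  refine or_iff_not_imp_left.2 fun hn => ⟨(ind_mem_Irr_iff h.sd.normal hθ).2 fun g hg => ?_,
    fun ω hω e => ?_⟩
  · obtain ⟨k, hk, w, hw, rfl⟩ := h.sd.mem_iff.1 hg.1
    by_cases h1 : w = 1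
    · rwa [h1, mul_one]
    · obtain ⟨β, hβ, e⟩ := (fixed_eq h hw h1).ge ⟨hθ, (Subgroup.mul_mem_cancel_left _
        (le_inertia (irr_mem_CF hθ) hk)).1 hg.2⟩
      exact absurd ⟨β, hβ, e.symm⟩ hn
  · obtain ⟨α, hα, β, hβ, rfl⟩ := h.dprod.exists_mul hω
    obtain ⟨x, -, -, hx, hx2, hxK⟩ := exists_mem1 h
    have := h.mu2_apply hα hβ hx hx2
    rw [← e, CFon_off (ind_mem_CFon_normal h.sd.le_norm θ) hxK] at this
    exact mul_ne_zero (delt_ne_zero _ _ _ _) ((h.cycTI.isLin hω).ne_zero hx) this.symm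

/-- PF (4.5)(b), for the set of induced characters. -/
theorem PrimeTI.seqIndT_cases (h : PrimeTI L K W₁ W₂ W) {φ : G → ℂ} (hφ : φ ∈ seqIndT K L) :
    (∃ β ∈ irrKer W W₁, φ = muR L W₁ W₂ β) ∨
      (φ ∈ Irr L ∧ (∀ ω ∈ Irr W, ip L φ (mu2 L W₁ W₂ ω) = 0)) := by
  obtain ⟨θ, hθ, rfl⟩ := mem_seqIndT.1 hφ
  rcases h.irr_cases hθ with ⟨β, hβ, rfl⟩ | ⟨h1, h2⟩
  · exact Or.inl ⟨β, hβ, (h.res_mu2 hβ).2.2.1⟩
  · exact Or.inr ⟨h1, fun ω hω => ip_irr_of_ne h1 (h.mu2_mem_Irr hω) (h2 ω hω)⟩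

/-- PF (4.5)(b), last statement. -/
theorem PrimeTI.irr_L_cases (h : PrimeTI L K W₁ W₂ W) {χ : G → ℂ} (hχ : χ ∈ Irr L) :
    (∃ ω ∈ Irr W, χ = mu2 L W₁ W₂ ω) ∨ χ ∈ seqIndT K L := by
  obtain ⟨θ, hθ⟩ := exists_constt_res h.sd.le_left hχ
  have hθ' := (mem_constt.1 hθ).1
  have h1 := (mem_constt.1 ((mem_constt_ind_iff h.sd.le_left hθ' hχ).2 hθ)).2
  rcases h.irr_cases hθ' with ⟨β, hβ, rfl⟩ | ⟨h2, -⟩
  · rw [(h.res_mu2 hβ).2.2.1, h.muR_eq, ip_sum_left] at h1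
    obtain ⟨α, hα, h2⟩ := Finset.exists_ne_zero_of_sum_ne_zero h1
    have h3 := h.dprod.mul_mem_Irr hα hβ
    exact Or.inl ⟨_, h3, (irr_eq_of_ip_ne_zero (h.mu2_mem_Irr h3) hχ h2).symm⟩
  · exact Or.inr (mem_seqIndT.2 ⟨θ, hθ', irr_eq_of_ip_ne_zero h2 hχ h1⟩)

theorem PrimeTI.not_le_cfKer (h : PrimeTI L K W₁ W₂ W) {β : G → ℂ} (hβ : β ∈ irrKer W W₁)
    (h1 : β ≠ cf1 W) :
    ¬ W₂ ≤ cfKer (res K (mu2 L W₁ W₂ β)) ∧ ¬ W₂ ≤ cfKer (muR L W₁ W₂ β) := by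
  have hβ' := (mem_irrKer.1 hβ).1
  have h2 : ¬ W₂ ≤ cfKer (res K (mu2 L W₁ W₂ β)) := fun hk => by
    rw [(irr_isChar (h.mu2_mem_Irr hβ')).le_cfKer_res_iff h.le2 h.sd.le_left] at hk
    refine h1 (h.dprod.eq_cf1_of_mem_irrKer (mem_irrKer.2 ⟨hβ', fun y hy => ?_⟩) hβ)
    obtain ⟨x, hx1, -, hx, hx2, -⟩ := exists_mem1 h
    have e1 := h.mu2_apply (one2 h) hβ hx hx2
    have e2 := h.mu2_apply (one2 h) hβ (W.mul_mem (h.dprod.le_right hy) hx)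
      fun e => hx2 ((Subgroup.mul_mem_cancel_left _ hy).1 e)
    rw [one_mul' hβ] at e1 e2
    rw [mem_cfKer.1 (hk hy), e1, (h.cycTI.isLin hβ').2.2 y (h.dprod.le_right hy) x hx,
      apply_ker h hβ hx1, mul_one, mul_one] at e2
    rw [(h.cycTI.isLin hβ').mem_cfKer_iff]
    exact ((mul_eq_left₀ (delt_ne_zero _ _ _ _)).1 e2.symm)
  exact ⟨h2, by rwa [(h.res_mu2 hβ).2.2.2.1, cfKer_smul (card_ne_zero_C W₁)]⟩

/-- The number of `j` with `N ≤ Ker μ_j` (apply (4.5) in `L / N`). -/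
theorem PrimeTI.card_muR_ker {N : Subgroup G} (h : PrimeTI L K W₁ W₂ W) (hN : N ≤ K)
    (hNL : L ≤ 𝐍(N)) (hs : Group.IsSolvable K) :
    {β : G → ℂ | β ∈ irrKer W W₁ ∧ N ≤ cfKer (muR L W₁ W₂ β)}.ncard = N.relIndex W₂ := by
  by_cases h2 : W₂ ≤ N
  · rw [relIndex_eq_one.2 h2, Set.ncard_eq_one]
    refine ⟨cf1 W, Set.eq_singleton_iff_unique_mem.2 ⟨⟨one1 h, ?_⟩, fun β hβ =>
      by_contra fun hne => (h.not_le_cfKer hβ.1 hne).2 (h2.trans hβ.2)⟩⟩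
    rw [h.col_zero.2.2.2.2, cfKer_smul (card_ne_zero_C W₁)]
    exact hN.trans (le_cfKer_cf1 K)
  have := H1.normal_subgroupOf_of_le hNL
  have hb := h.bar le_rfl hN (Or.inl hs) h2
  obtain ⟨g, hg, hg1, -, -, hgK⟩ := exists_mem1 h
  have hgL := h.sd.le_right hg
  have hp := pullPair_bar hN h.sd.le_left
  have hp0 := pullPair_bar_bot (hN.trans h.sd.le_left)
  have hgb : H1.qmk L N ⟨g, hgL⟩ ∈ H1.bar L N W₁ := H1.qmk_mem_bar hg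
  rw [← H1.card_bar (h.le2.trans h.sd.le_left), ← ncard_fixed hb hgb
    fun e => hgK (hN (H1.qmk_eq_one_iff.1 e)),
    ← (h.res_mu2_injOn.1.mono (fun β hβ => hβ.1)).ncard_image,
    ← Set.InjOn.ncard_image (f := cfPull L (H1.qmk L N)) fun φ hφ ψ hψ e =>
      hp.pull_injOn (fun _ => (irr_isChar hφ.1).off) (fun _ => (irr_isChar hψ.1).off) e]
  congr 1
  ext θ
  constructor
  · rintro ⟨β, ⟨hβ, hk⟩, rfl⟩
    rw [(h.res_mu2 hβ).2.2.2.1, cfKer_smul (card_ne_zero_C W₁)] at hk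
    obtain ⟨ψ, hψ, e⟩ := hp.exists_pull_irr hp0 (mem_irrKer.2 ⟨(h.res_mu2 hβ).1, hk⟩)
    refine ⟨ψ, ⟨hψ, (hp.mem_inertia_pull_iff (irr_mem_CF hψ) (hb.sd.norm hgb)).1 ?_⟩, e⟩
    rw [e]
    exact ((fixed_eq h hg hg1).le ⟨β, hβ, rfl⟩).2
  · rintro ⟨ψ, ⟨hψ, hi⟩, rfl⟩
    have h3 := mem_irrKer.1 (hp.pull_mem_irrKer hp0 hψ)
    obtain ⟨β, hβ, e⟩ := (fixed_eq h hg hg1).ge
      ⟨h3.1, (hp.mem_inertia_pull_iff (irr_mem_CF hψ) (hb.sd.norm hgb)).2 hi⟩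
    refine ⟨β, ⟨hβ, ?_⟩, e⟩
    rw [(h.res_mu2 hβ).2.2.2.1, cfKer_smul (card_ne_zero_C W₁), show res K _ = _ from e]
    exact h3.2

end Cfsg.Agent.FT
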