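/-
PF (4.6) - (4.10).
-/
import Cfsg.Agent.FT.P.PF04_2

set_option autoImplicit false

namespace Cfsg.Agent.FT

open Subgroup Cfsg Cfsg.Agent
open scoped commutatorElement

universe u

variable {G : Type u} [Group G] [Finite G]

variable {L K H W₁ W₂ W : Subgroup G}

open PF04

variable {A A₀ : Set G} {R : G → Subgroup G}

theorem PrDade.basic (h : PrDade L K H A A₀ R W₁ W₂ W) :
    A ⊆ A₀ ∧ DadeHyp L A R ∧ hatSet W₁ W₂ ⊆ A₀ ∧ sharp H ⊆ A ∧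
      (∀ x ∈ classSupp (hatSet W₁ W₂) L, 𝐂[x] ≤ L ∧ R x = ⊥ ∧ x ∉ K) ∧
      ∀ α ∈ CF L, ∀ x ∈ hatSet W₁ W₂, FT.dade A₀ R α x = α x := by
  have h1 : A ⊆ A₀ := h.defA0 ▸ Set.subset_union_left
  have h2 : classSupp (hatSet W₁ W₂) L ⊆ A₀ := h.defA0 ▸ Set.subset_union_right
  have h3 := (subset_classSupp _ L).trans h2
  refine ⟨h1, ⟨h1.trans h.dade.subset, h.normA, fun e => h.dade.one_notMem (h1 e),
    fun a ha g hg => h.dade.fusion a (h1 ha) g (h1 hg), fun a ha => h.dade.sd a (h1 ha),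
    fun a ha b hb => h.dade.cop a (h1 ha) b (h1 hb)⟩, h3,
    fun x hx => h.centA x hx.1 hx.2 ⟨⟨h.leHK hx.1, self_mem_cent1 x⟩, hx.2⟩, fun x hx => ?_,
    fun α hα x hx => h.dade.dade_id hα (h3 hx)⟩
  have h4 : 𝐂[x] ≤ L := by
    obtain ⟨v, hv, g, hg, rfl⟩ := hx
    rw [cent1_conj]
    exact conj_le_of_mem (((top_inf_eq _).ge.trans (h.cycTI.ti.cent1_le hv)).trans
      h.primeTI.basic.2.1) hg
  refine ⟨h4, (h.dade.signalizer_eq_bot_iff (h2 hx)).2 h4, fun hK => ?_⟩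
  obtain ⟨v, hv, g, hg, rfl⟩ := hx
  have := H1.conj_mem_of_le_normalizer' h.primeTI.sd.le_norm hg hK
  rw [show g⁻¹ * (g * v * g⁻¹) * g = v by group] at this
  exact h.primeTI.basic.2.2.2.2.2.2.2 v hv this

/-- PF (4.7). -/
theorem PrDade.irr_on (h : PrDade L K H A A₀ R W₁ W₂ W) {θ : G → ℂ} (hθ : θ ∈ Irr K)
    (hk : ¬ H ≤ cfKer θ) : θ ∈ CFon K (insert 1 A) ∧ ind L K θ ∈ CFon L (insert 1 A) := by
  have h1 : ∀ x ∈ K, x ∉ insert 1 A → θ x = 0 := fun x hx hA =>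
    irr_reg_off_ker (normal_of_le h.nrmH h.leHK h.primeTI.sd.le_left) hθ hk
      (eq_bot_iff.2 fun y hy => mem_bot.2 (by_contra fun hy1 => hA (Or.inr (h.centA y hy.1 hy1
        ⟨⟨hx, mem_cent1_comm.1 hy.2⟩, fun e => hA (Or.inl e)⟩))))
  refine ⟨mem_CFon_of (irr_mem_CF hθ) h1, ind_mem_CFon_of_norm ?_ h1⟩
  rintro g hg a (rfl | ha)
  · exact Or.inl (by simp)
  · exact Or.inr (h.normA g hg a ha)

theorem PrDade.seqIndD_on (h : PrDade L K H A A₀ R W₁ W₂ W) {φ : G → ℂ}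
    (hφ : φ ∈ seqIndD K L H ⊥) : φ ∈ CFon L (insert 1 A) := by
  obtain ⟨θ, hθ, rfl⟩ := mem_seqIndD.1 hφ
  exact (h.irr_on (mem_irrKerD.1 hθ).1 (mem_irrKerD.1 hθ).2.2).2

theorem PrDade.Zs0_on (h : PrDade L K H A A₀ R W₁ W₂ W) {S : Finset (G → ℂ)}
    (hS : S ⊆ seqIndD K L H ⊥) {φ : G → ℂ} (hφ : φ ∈ Zs0 S) :
    φ ∈ CFon L A ∧ φ ∈ CFon L A₀ ∧ φ ∈ VChar L ∧ FT.dade A₀ R φ ∈ VChar ⊤ ∧
      ∀ x ∈ hatSet W₁ W₂, FT.dade A₀ R φ x = 0 := by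
  have h1 := Zs0_le_CFon (fun χ hχ => h.seqIndD_on (hS hχ)) hφ
  have h2 := CFon_mono L h.basic.1 h1
  have h3 : φ ∈ VChar L := Zs_le_VChar (fun χ hχ => by
    obtain ⟨θ, hθ, rfl⟩ := mem_seqIndD.1 (hS hχ)
    exact vchar_ind h.primeTI.sd.le_left (irr_mem_VChar (mem_irrKerD.1 hθ).1)) hφ.1
  exact ⟨h1, h2, h3, h.dade.vchar h2 h3, fun x hx => by
    rw [h.basic.2.2.2.2.2 φ h1.1 x hx,
      CFon_off h1 fun e => h.primeTI.basic.2.2.2.2.2.2.2 x hx (h.subA e).1]⟩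

/-- PF (4.7). -/
theorem PrDade.muR_mem (h : PrDade L K H A A₀ R W₁ W₂ W) {β : G → ℂ} (hβ : β ∈ irrKer W W₁)
    (h1 : β ≠ cf1 W) :
    res K (mu2 L W₁ W₂ β) ∈ irrKerD K H ⊥ ∧ muR L W₁ W₂ β ∈ seqIndD K L H ⊥ := by
  have h2 : res K (mu2 L W₁ W₂ β) ∈ irrKerD K H ⊥ := mem_irrKerD.2 ⟨(h.primeTI.res_mu2 hβ).1,
    bot_le, fun e => (h.primeTI.not_le_cfKer hβ h1).1 (h.le2H.trans e)⟩
  exact ⟨h2, mem_seqIndD.2 ⟨_, h2, (h.primeTI.res_mu2 hβ).2.2.1⟩⟩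

/-- PF (4.8). -/
theorem PrimeTI.delt_eq_of_dg (h : PrimeTI L K W₁ W₂ W) {β γ : G → ℂ} (hβ : β ∈ irrKer W W₁)
    (hγ : γ ∈ irrKer W W₁) (hd : mu2 L W₁ W₂ β 1 = mu2 L W₁ W₂ γ 1) :
    delt L W₁ W₂ β = delt L W₁ W₂ γ := by
  have h1 := h.mu2_dg_mod (one2 h) hβ
  have h2 := h.mu2_dg_mod (one2 h) hγ
  rw [one_mul' hβ, dg_congr hd] at h1
  rw [one_mul' hγ] at h2
  have h3 := dvd_sub h1 h2
  have h4 := h.cycTI.basic.2.2.1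
  rcases PrimeTI.delt_cases L W₁ W₂ β with e | e <;>
    rcases PrimeTI.delt_cases L W₁ W₂ γ with e' | e' <;> rw [e, e'] at h3 ⊢
  · have := Int.le_of_dvd (by norm_num) ((dvd_neg.2 h3).trans (dvd_of_eq (b := 2) (by ring)))
    omega
  · have := Int.le_of_dvd (by norm_num) (h3.trans (dvd_of_eq (b := 2) (by ring)))
    omega

namespace PF04

theorem sub_mu2_aux (h : PrDade L K H A A₀ R W₁ W₂ W) {α β γ : G → ℂ} (hα : α ∈ irrKer W W₂)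
    (hβ : β ∈ irrKer W W₁) (hβ1 : β ≠ cf1 W) (hγ : γ ∈ irrKer W W₁) (hγ1 : γ ≠ cf1 W)
    (hd : mu2 L W₁ W₂ β 1 = mu2 L W₁ W₂ γ 1) :
    mu2 L W₁ W₂ (α * β) - mu2 L W₁ W₂ (α * γ) ∈ CFon L A₀ ∧
      FT.dade A₀ R (mu2 L W₁ W₂ (α * β) - mu2 L W₁ W₂ (α * γ)) =
        (delt L W₁ W₂ β : ℂ) • (cycσ ⊤ W₁ W₂ (α * β) - cycσ ⊤ W₁ W₂ (α * γ)) := by
  have hp := h.primeTI
  have e := hp.delt_eq_of_dg hβ hγ hd
  have i1 := hp.mu2_mem_Irr (hp.dprod.mul_mem_Irr hα hβ)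
  have i2 := hp.mu2_mem_Irr (hp.dprod.mul_mem_Irr hα hγ)
  have hCF := sub_mem (irr_mem_CF i1) (irr_mem_CF i2)
  have hon : mu2 L W₁ W₂ (α * β) - mu2 L W₁ W₂ (α * γ) ∈ CFon L A₀ := by
    refine mem_CFon_of hCF fun x hx hA => ?_
    by_cases hK : x ∈ K
    · by_cases h1 : x = 1
      · rw [h1, Pi.sub_apply, ((hp.res_mu2 hβ).2.1 α hα).2.2, ((hp.res_mu2 hγ).2.1 α hα).2.2, hd,
          sub_self]
      · have key : ∀ β ∈ irrKer W W₁, β ≠ cf1 W → mu2 L W₁ W₂ (α * β) x = 0 := fun β hβ hβ1 => by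
          have := mem_irrKerD.1 (h.muR_mem hβ hβ1).1
          rw [← res_of_mem (mu2 L W₁ W₂ (α * β)) hK, ((hp.res_mu2 hβ).2.1 α hα).2.1]
          exact CFon_off (h.irr_on this.1 this.2.2).1 fun e => e.elim h1 fun e => hA (h.basic.1 e)
        rw [Pi.sub_apply, key β hβ hβ1, key γ hγ hγ1, sub_self]
    · obtain ⟨y, hy, g, hg, rfl⟩ := hp.exists_conj_mem hx hK
      have h1 : y ∈ W₁ := by_contra fun h1 => hA (h.defA0 ▸ Or.inr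
        ⟨y, ⟨hp.dprod.sup ▸ hy.1, h1, hy.2⟩, g, hg, rfl⟩)
      rw [CF_conj hCF hg, Pi.sub_apply, hp.mu2_apply hα hβ hy.1 hy.2, hp.mu2_apply hα hγ hy.1 hy.2,
        e, Pi.mul_apply, Pi.mul_apply, apply_ker hp hβ h1, apply_ker hp hγ h1, sub_self]
  refine ⟨hon, ?_⟩
  by_cases hne : β = γ
  · simp [hne]
  refine h.cycTI.eq_signed_sub (h.dade.vchar hon (sub_mem (irr_mem_VChar i1) (irr_mem_VChar i2)))
    ?_ (PrimeTI.delt_cases L W₁ W₂ β) hα hβ hγ hne fun x hx => ?_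
  · rw [nsq_eq_of_ip_eq (h.dade.iso hon hon), nsq_sub_of_orth (by
      rw [hp.ip_mu2 hα hα hβ hγ, if_neg fun e => hne e.2]), nsq_irr i1, nsq_irr i2]
    norm_num
  · rw [h.basic.2.2.2.2.2 _ hCF x hx, Pi.sub_apply, hp.mu2_apply hα hβ (hat_le hp hx) hx.2.2,
      hp.mu2_apply hα hγ (hat_le hp hx) hx.2.2, e, mul_sub]

end PF04

/-- PF (4.8). -/
theorem PrDade.sub_mu2 (h : PrDade L K H A A₀ R W₁ W₂ W) {α β γ : G → ℂ} (hα : α ∈ irrKer W W₂)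
    (hβ : β ∈ irrKer W W₁) (hβ1 : β ≠ cf1 W) (hγ : γ ∈ irrKer W W₁) (hγ1 : γ ≠ cf1 W)
    (hd : mu2 L W₁ W₂ β 1 = mu2 L W₁ W₂ γ 1) :
    mu2 L W₁ W₂ (α * β) - mu2 L W₁ W₂ (α * γ) ∈ CFon L A₀ ∧
      FT.dade A₀ R (mu2 L W₁ W₂ (α * β) - mu2 L W₁ W₂ (α * γ)) =
        (delt L W₁ W₂ β : ℂ) • (cycσ ⊤ W₁ W₂ (α * β) - cycσ ⊤ W₁ W₂ (α * γ)) ∧
      FT.dade A₀ R (muR L W₁ W₂ β - muR L W₁ W₂ γ) =
        (delt L W₁ W₂ β : ℂ) • (etaCol W₁ W₂ β - etaCol W₁ W₂ γ) := by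
  refine ⟨(sub_mu2_aux h hα hβ hβ1 hγ hγ1 hd).1, (sub_mu2_aux h hα hβ hβ1 hγ hγ1 hd).2, ?_⟩
  rw [h.primeTI.muR_eq, h.primeTI.muR_eq, h.cycTI.etaCol_eq, h.cycTI.etaCol_eq,
    ← Finset.sum_sub_distrib, ← Finset.sum_sub_distrib, map_sum, Finset.smul_sum]
  exact Finset.sum_congr rfl fun α hα => (sub_mu2_aux h hα hβ hβ1 hγ hγ1 hd).2

/-- PF (4.9). -/
theorem PrDade.uniform_muR_coherent (h : PrDade L K H A A₀ R W₁ W₂ W) {γ : G → ℂ}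
    (hγ : γ ∈ irrKer W W₁) (hγ1 : γ ≠ cf1 W) {T : Finset (G → ℂ)}
    (hT : ∀ φ ∈ T, ∃ β ∈ irrKer W W₁, β ≠ cf1 W ∧ φ = muR L W₁ W₂ β ∧ φ 1 = muR L W₁ W₂ γ 1) :
    ∃ τ₁, CohWith L T (FT.dade A₀ R) τ₁ ∧
      ∀ β ∈ irrKer W W₁, τ₁ (muR L W₁ W₂ β) = (delt L W₁ W₂ γ : ℂ) • etaCol W₁ W₂ β := by
  have hp := h.primeTI
  obtain ⟨τ, hτ⟩ := exists_linear_of_orth (H := L) (S := (irrKer W W₁).image (muR L W₁ W₂))
    (fun χ hχ => by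
      obtain ⟨β, hβ, rfl⟩ := Finset.mem_image.1 hχ
      rw [(hp.muR_facts hβ).2.2.1]
      exact card_ne_zero_R W₁)
    (fun χ hχ ψ hψ hne => by
      obtain ⟨β, hβ, rfl⟩ := Finset.mem_image.1 hχ
      obtain ⟨β', hβ', rfl⟩ := Finset.mem_image.1 hψ
      rw [ip_muR_muR hp hβ hβ', if_neg fun e => hne (congrArg _ e)])
    (fun φ => (delt L W₁ W₂ γ : ℂ) •
      etaCol W₁ W₂ (Function.invFunOn (muR L W₁ W₂) (irrKer W W₁) φ))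
  have hτ' : ∀ β ∈ irrKer W W₁, τ (muR L W₁ W₂ β) = (delt L W₁ W₂ γ : ℂ) • etaCol W₁ W₂ β :=
    fun β hβ => by
      rw [hτ _ (Finset.mem_image_of_mem _ hβ), hp.res_mu2_injOn.2.leftInvOn_invFunOn hβ]
  refine ⟨τ, ⟨iso_Zs_of_gen fun χ hχ ψ hψ => ?_, fun φ hφ => map_mem_of_mem_Zs (fun χ hχ => ?_) hφ,
    fun φ hφ => ?_⟩, hτ'⟩
  · obtain ⟨β, hβ, -, rfl, -⟩ := hT χ hχ
    obtain ⟨β', hβ', -, rfl, -⟩ := hT ψ hψ
    rw [hτ' β hβ, hτ' β' hβ', ip_smul_left, ip_smul_right, map_intCast, ← mul_assoc,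
      delt_mul_self, one_mul, (h.cycTI.ip_etaCol (one2 hp) hβ hβ').2.1, ip_muR_muR hp hβ hβ']
  · obtain ⟨β, hβ, -, rfl, -⟩ := hT χ hχ
    rw [hτ' β hβ]
    exact vchar_int_smul (h.cycTI.ip_etaCol (one2 hp) hβ hβ).2.2.1 _
  · obtain ⟨c, rfl⟩ := mem_Zs_iff'.1 hφ.1
    have h1 : ∑ χ ∈ T, (c χ : ℂ) = 0 := by
      have := hφ.2
      rw [Finset.sum_apply, Finset.sum_congr rfl (g := fun χ => (c χ : ℂ) * muR L W₁ W₂ γ 1)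
        fun χ hχ => by rw [Pi.smul_apply, (hT χ hχ).choose_spec.2.2.2, smul_eq_mul],
        ← Finset.sum_mul] at this
      refine (mul_eq_zero.1 this).resolve_right ?_
      rw [(hp.res_mu2 hγ).2.2.2.1, Pi.smul_apply, res_one]
      exact mul_ne_zero (card_ne_zero_C W₁)
        (irr_one_ne_zero (hp.mu2_mem_Irr (mem_irrKer.1 hγ).1))
    have h2 : ∑ χ ∈ T, (c χ : ℂ) • χ = ∑ χ ∈ T, (c χ : ℂ) • (χ - muR L W₁ W₂ γ) := by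
      simp only [smul_sub, Finset.sum_sub_distrib, ← Finset.sum_smul, h1, zero_smul, sub_zero]
    rw [h2, map_sum, map_sum]
    refine Finset.sum_congr rfl fun χ hχ => ?_
    obtain ⟨β, hβ, hβ1, rfl, hd⟩ := hT χ hχ
    have hd' : mu2 L W₁ W₂ β 1 = mu2 L W₁ W₂ γ 1 := by
      rw [(hp.res_mu2 hγ).2.2.2.1, (hp.res_mu2 hβ).2.2.2.1, Pi.smul_apply, Pi.smul_apply, res_one,
        res_one] at hd
      exact mul_left_cancel₀ (card_ne_zero_C W₁) hd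
    rw [map_smul, map_smul, (h.sub_mu2 (one2 hp) hβ hβ1 hγ hγ1 hd').2.2, map_sub, hτ' β hβ,
      hτ' γ hγ, hp.delt_eq_of_dg hβ hγ hd', ← smul_sub]

/-- PF (4.10). -/
theorem PrDade.sub2_mu2 (h : PrDade L K H A A₀ R W₁ W₂ W) {α β : G → ℂ} (hα : α ∈ irrKer W W₂)
    (hβ : β ∈ irrKer W W₁) :
    (delt L W₁ W₂ β : ℂ) • mu2 L W₁ W₂ (α * β) - (delt L W₁ W₂ β : ℂ) • mu2 L W₁ W₂ β -
        mu2 L W₁ W₂ α + cf1 L ∈ CFon L (classSupp (hatSet W₁ W₂) L) ∧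
      FT.dade A₀ R ((delt L W₁ W₂ β : ℂ) • mu2 L W₁ W₂ (α * β) -
          (delt L W₁ W₂ β : ℂ) • mu2 L W₁ W₂ β - mu2 L W₁ W₂ α + cf1 L) =
        cycσ ⊤ W₁ W₂ (α * β) - cycσ ⊤ W₁ W₂ β - cycσ ⊤ W₁ W₂ α + cf1 ⊤ := by
  have hp := h.primeTI
  have h1 := h.cycTI.sub_mul_sub_mem hα (one2 hp) hβ (one1 hp)
  rw [one_mul' hβ, mul_one' hα, one_mul' (one1 hp), sub_right_comm] at h1
  have e1 := hp.σ_eq (one2 hp) hβ
  have e2 := hp.σ_eq hα (one1 hp)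
  rw [one_mul' hβ] at e1
  rw [mul_one' hα, hp.col_zero.2.1, Int.cast_one, one_smul] at e2
  have h2 := hp.cycTI.isCycIso.ind _ h1
  rw [map_add, map_sub, map_sub, hp.σ_eq hα hβ, e1, e2, hp.cycTI.σ_cf1] at h2
  have h3 := h.cycTI.isCycIso.ind _ h1
  rw [map_add, map_sub, map_sub, h.cycTI.σ_cf1] at h3
  rw [h2, h3]
  have h4 := ind_mem_CFon L (H := W) fun x _ hx => CFon_off h1 hx
  exact ⟨h4, by
    rw [h.dade.dade_eq_ind (h.defA0 ▸ Set.subset_union_right)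
      (fun a ha => (h.basic.2.2.2.2.1 a ha).1) h4, ind_ind le_top hp.basic.2.1]⟩

end Cfsg.Agent.FT
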