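/-
PF section 5: sets of induced characters.
-/
import Cfsg.Agent.FT.PF04

set_option autoImplicit false

namespace Cfsg.Agent.FT

open Subgroup Cfsg Cfsg.Agent
open scoped commutatorElement

universe u

variable {G : Type u} [Group G] [Finite G]

section SeqInd

variable {K L H M : Subgroup G}

theorem seqIndT_facts (h : K ⊲ L) {φ : G → ℂ} (hφ : φ ∈ seqIndT K L) :
    IsChar L φ ∧ φ ∈ CFon L (K : Set G) ∧ φ ∈ VChar L ∧ φ ≠ 0 ∧ 0 < dg φ ∧ φ 1 = dg φ ∧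
      K.relIndex L ∣ dg φ ∧ 1 ≤ nsq L φ ∧ star φ 1 = φ 1 := by
  obtain ⟨θ, hθ, rfl⟩ := mem_seqIndT.1 hφ
  have hc := (irr_isChar hθ).ind h.1
  have h0 := ind_irr_ne_zero h.1 hθ
  exact ⟨hc, ind_mem_CFon_normal h.2 θ, hc.mem_VChar, h0, hc.dg_pos h0, hc.one_eq,
    ⟨_, (irr_isChar hθ).dg_ind h.1⟩, vchar_one_le_nsq hc.mem_VChar h0, hc.star_one⟩

theorem seqIndT_orth (h : K ⊲ L) {φ ψ : G → ℂ} (hφ : φ ∈ seqIndT K L) (hψ : ψ ∈ seqIndT K L)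
    (hne : φ ≠ ψ) : ip L φ ψ = 0 := by
  obtain ⟨θ, hθ, rfl⟩ := mem_seqIndT.1 hφ
  obtain ⟨θ', hθ', rfl⟩ := mem_seqIndT.1 hψ
  exact ip_ind_irr_of_ne h hθ hθ' hne

theorem ind_cf1_mem_seqIndT (K L : Subgroup G) : ind L K (cf1 K) ∈ seqIndT K L :=
  mem_seqIndT.2 ⟨_, cf1_mem_Irr K, rfl⟩

theorem Zs0_seqIndT (h : K ⊲ L) {S : Finset (G → ℂ)} (hS : S ⊆ seqIndT K L) {φ : G → ℂ}
    (hφ : φ ∈ Zs0 S) : φ ∈ CFon L (sharp K) ∧ φ ∈ VChar L :=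
  ⟨mem_CFon_sharp (Zs_le_of_subset (fun _ hχ => (seqIndT_facts h (hS hχ)).2.1) hφ.1) hφ.2,
    Zs_le_VChar (fun _ hχ => (seqIndT_facts h (hS hχ)).2.2.1) hφ.1⟩

/-- Every class function of `L` supported on `K` is a combination of induced characters. -/
theorem eq_sum_seqIndT (h : K ⊲ L) {φ : G → ℂ} (hφ : φ ∈ CFon L (K : Set G)) :
    φ = ∑ ξ ∈ seqIndT K L, (ip L φ ξ / nsq L ξ) • ξ := by
  set ψ := φ - ∑ ξ ∈ seqIndT K L, (ip L φ ξ / nsq L ξ) • ξ with hψ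
  have h1 : ψ ∈ CFon L (K : Set G) :=
    sub_mem hφ (Submodule.sum_mem _ fun ξ hξ =>
      Submodule.smul_mem _ _ (seqIndT_facts h hξ).2.1)
  have h2 : ∀ η ∈ seqIndT K L, ip L ψ η = 0 := by
    intro η hη
    rw [hψ, ip_sub_left, ip_sum_left, Finset.sum_eq_single η]
    · have : (nsq L η : ℂ) ≠ 0 := by
        have := (seqIndT_facts h hη).2.2.2.2.2.2.2.1
        exact_mod_cast (by linarith : nsq L η ≠ 0)
      rw [ip_smul_left, ip_self, div_mul_cancel₀ _ this, sub_self]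
    · intro ξ hξ hne
      rw [ip_smul_left, seqIndT_orth h hξ hη hne, mul_zero]
    · intro hn; exact (hn hη).elim
  have h3 : res K ψ = 0 := by
    refine eq_zero_of_ip_irr (res_mem_CF h.1 h1.1) fun θ hθ => ?_
    rw [ip_res_left, ← ip_ind_right h.1 h1.1]
    exact h2 _ (mem_seqIndT.2 ⟨θ, hθ, rfl⟩)
  rw [res_eq_self h1.2] at h3
  exact sub_eq_zero.1 h3

theorem mem_seqIndD_iff_ker (h : K ⊲ L) (hH : L ≤ 𝐍(H)) (hM : L ≤ 𝐍(M)) {φ : G → ℂ} :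
    φ ∈ seqIndD K L H M ↔ φ ∈ seqIndT K L ∧ M ≤ cfKer φ ∧ ¬ H ≤ cfKer φ := by
  constructor
  · intro hφ
    obtain ⟨θ, hθ, rfl⟩ := mem_seqIndD.1 hφ
    obtain ⟨h1, h2, h3⟩ := mem_irrKerD.1 hθ
    exact ⟨mem_seqIndT.2 ⟨θ, h1, rfl⟩, (le_cfKer_ind_irr_iff h.1 hM h1).2 h2,
      fun e => h3 ((le_cfKer_ind_irr_iff h.1 hH h1).1 e)⟩
  · rintro ⟨hφ, h2, h3⟩
    obtain ⟨θ, hθ, rfl⟩ := mem_seqIndT.1 hφ
    exact mem_seqIndD.2 ⟨θ, mem_irrKerD.2 ⟨hθ, (le_cfKer_ind_irr_iff h.1 hM hθ).1 h2,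
      fun e => h3 ((le_cfKer_ind_irr_iff h.1 hH hθ).2 e)⟩, rfl⟩

theorem ind_mem_seqIndD_iff (h : K ⊲ L) (hH : L ≤ 𝐍(H)) (hM : L ≤ 𝐍(M)) {θ : G → ℂ}
    (hθ : θ ∈ Irr K) : ind L K θ ∈ seqIndD K L H M ↔ θ ∈ irrKerD K H M := by
  rw [mem_seqIndD_iff_ker h hH hM, mem_irrKerD, le_cfKer_ind_irr_iff h.1 hM hθ,
    le_cfKer_ind_irr_iff h.1 hH hθ]
  exact ⟨fun e => ⟨hθ, e.2⟩, fun e => ⟨mem_seqIndT.2 ⟨θ, hθ, rfl⟩, e.2⟩⟩

theorem PF05.ind_eq_ind_cf1_iff (h : K ⊲ L) {θ : G → ℂ} (hθ : θ ∈ Irr K) :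
    ind L K θ = ind L K (cf1 K) ↔ θ = cf1 K := by
  refine ⟨fun e => ?_, fun e => by rw [e]⟩
  obtain ⟨g, hg, e'⟩ := mem_cfClass.1 ((ind_eq_ind_iff h (cf1_mem_Irr K) hθ).1 e.symm)
  rw [← e', cfConj_cf1_of_norm (h.2 hg)]

theorem seqIndD_self_bot (h : K ⊲ L) :
    seqIndD K L K ⊥ = (seqIndT K L).erase (ind L K (cf1 K)) := by
  ext φ
  rw [Finset.mem_erase, mem_seqIndD, mem_seqIndT]
  constructor
  · rintro ⟨θ, hθ, rfl⟩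
    obtain ⟨h1, -, h3⟩ := mem_irrKerD.1 hθ
    exact ⟨fun e => h3 ((irr_eq_cf1_iff h1).1 ((PF05.ind_eq_ind_cf1_iff h h1).1 e)), θ, h1, rfl⟩
  · rintro ⟨hne, θ, hθ, rfl⟩
    exact ⟨θ, mem_irrKerD.2 ⟨hθ, bot_le, fun e => hne (by rw [(irr_eq_cf1_iff hθ).2 e])⟩, rfl⟩

theorem PF05.ne_cf1 (hH : H ≤ K) {θ : G → ℂ} (hθ : θ ∈ irrKerD K H M) : θ ≠ cf1 K := by
  rintro rfl
  exact (mem_irrKerD.1 hθ).2.2 (hH.trans (le_cfKer_cf1 K))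

theorem seqIndD_orth_cf1 (h : K ⊲ L) (hH : H ≤ K) {φ : G → ℂ} (hφ : φ ∈ seqIndD K L H M) :
    ip L φ (cf1 L) = 0 ∧ ip L φ (ind L K (cf1 K)) = 0 := by
  obtain ⟨θ, hθ, rfl⟩ := mem_seqIndD.1 hφ
  have h1 := (mem_irrKerD.1 hθ).1
  have h2 := PF05.ne_cf1 hH hθ
  refine ⟨?_, ip_ind_irr_of_ne h h1 (cf1_mem_Irr K) fun e =>
    h2 ((PF05.ind_eq_ind_cf1_iff h h1).1 e)⟩
  rw [ip_ind_left h.1 _ (cf1_mem_CF L), ← ip_res_right, res_cf1 h.1]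
  exact ip_irr_of_ne h1 (cf1_mem_Irr K) h2

theorem PF05.relIndex_split (h : K ⊲ L) {θ : G → ℂ} (hθ : θ ∈ Irr K) :
    K.relIndex (L ⊓ inertia θ) * (inertia θ).relIndex L = K.relIndex L := by
  rw [← inf_relIndex_left L (inertia θ)]
  exact relIndex_mul_relIndex _ _ _ (le_inf h.1 (le_inertia (irr_mem_CF hθ))) inf_le_left

/-- The irreducible members of a set of induced characters. -/
theorem card_filter_ind_irr (h : K ⊲ L) {S : Finset (G → ℂ)} (hS : S ⊆ seqIndT K L)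
    (hi : S ⊆ Irr L) :
    K.relIndex L * S.card = {θ : G → ℂ | θ ∈ Irr K ∧ ind L K θ ∈ S}.ncard := by
  classical
  set X := (Irr K).filter fun θ => ind L K θ ∈ S with hX
  have e1 : {θ : G → ℂ | θ ∈ Irr K ∧ ind L K θ ∈ S} = (X : Set (G → ℂ)) := by
    ext θ; simp [hX]
  have hXI : X ⊆ Irr K := Finset.filter_subset _ _
  have hXL : ∀ θ ∈ X, ∀ g ∈ L, cfConj g θ ∈ X := by
    intro θ hθ g hg
    obtain ⟨h1, h2⟩ := Finset.mem_filter.1 hθ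
    refine Finset.mem_filter.2 ⟨cfConj_mem_Irr_of_norm h1 (h.2 hg), ?_⟩
    rwa [ind_cfConj_of_norm hg (h.2 hg)]
  have e2 : X.image (ind L K) = S := by
    ext φ
    rw [Finset.mem_image]
    constructor
    · rintro ⟨θ, hθ, rfl⟩; exact (Finset.mem_filter.1 hθ).2
    · intro hφ
      obtain ⟨θ, hθ, rfl⟩ := mem_seqIndT.1 (hS hφ)
      exact ⟨θ, Finset.mem_filter.2 ⟨hθ, hφ⟩, rfl⟩
  obtain ⟨s1, s2⟩ := sum_image_ind h hXI hXL (fun _ => (1 : ℕ))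
  rw [e1, Set.ncard_coe_finset, Finset.card_eq_sum_ones X, s1, e2, mul_comm,
    ← smul_eq_mul, ← Finset.sum_const]
  refine Finset.sum_congr rfl fun φ hφ => ?_
  obtain ⟨θ, hθ, rfl⟩ := mem_seqIndT.1 (hS hφ)
  rw [s2 θ (Finset.mem_filter.2 ⟨hθ, hφ⟩), ← Finset.card_eq_sum_ones, card_cfClass,
    ← PF05.relIndex_split h hθ, relIndex_eq_one.2 ((ind_mem_Irr_iff h hθ).1 (hi hφ)), one_mul]

/-- Sum of squares of degrees over an `L`-invariant set of irreducible characters of `K`. -/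
theorem sum_image_ind_dg_sq (h : K ⊲ L) {X : Finset (G → ℂ)} (hX : X ⊆ Irr K)
    (hXL : ∀ θ ∈ X, ∀ g ∈ L, cfConj g θ ∈ X) :
    ∑ φ ∈ X.image (ind L K), (dg φ : ℝ) ^ 2 / nsq L φ =
      K.relIndex L * ∑ θ ∈ X, (dg θ : ℝ) ^ 2 := by
  obtain ⟨s1, s2⟩ := sum_image_ind h hX hXL (fun θ => (dg θ : ℝ) ^ 2)
  rw [s1, Finset.mul_sum]
  refine Finset.sum_congr rfl fun φ hφ => ?_
  obtain ⟨θ, hθ, rfl⟩ := Finset.mem_image.1 hφ
  have hθ' := hX hθ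
  rw [s2 θ hθ, Finset.sum_congr rfl (g := fun _ => (dg θ : ℝ) ^ 2), Finset.sum_const,
    card_cfClass, nsq_ind_irr h hθ', (irr_isChar hθ').dg_ind h.1, ← PF05.relIndex_split h hθ']
  · have : (K.relIndex (L ⊓ inertia θ) : ℝ) ≠ 0 := by
      exact_mod_cast CH1.relIndex_ne_zero' _ _
    rw [nsmul_eq_mul]; push_cast; field_simp
  · intro ψ hψ
    rw [dg_congr (CH1.apply_one_of_mem_cfClass hψ)]

theorem sum_seqIndD_square (h : K ⊲ L) (hHK : H ≤ K) (hH : L ≤ 𝐍(H)) (hM : L ≤ 𝐍(M))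
    (hMH : M ≤ H) :
    ∑ φ ∈ seqIndD K L H M, (dg φ : ℝ) ^ 2 / nsq L φ =
      H.relIndex L * ((M.relIndex H : ℝ) - 1) := by
  rw [seqIndD, sum_image_ind_dg_sq h (irrKerD_subset K H M)
    fun θ hθ g hg => cfConj_mem_irrKerD hθ (h.2 hg) (hH hg) (hM hg)]
  have e := sum_irrKerD_dg_sq (K := K) ⟨hHK, h.1.trans hH⟩ (h.1.trans hM) hMH
  have e' : ∑ χ ∈ irrKerD K H M, (dg χ : ℝ) ^ 2 + H.relIndex K =
      H.relIndex K * M.relIndex H := by exact_mod_cast e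
  rw [← relIndex_mul_relIndex H K L hHK h.1, eq_sub_of_add_eq e']
  push_cast; ring

theorem seqIndD_nonempty (L : Subgroup G) (hM : M ⊲ K) (h : ¬ H ≤ M) :
    (seqIndD K L H M).Nonempty :=
  (irrKerD_nonempty hM h).image _

/-- PF (1.5)(e) for sets of induced characters of a group of odd order. -/
theorem seqIndD_odd (h : K ⊲ L) (hH : H ≤ K) (ho : Odd 𝐨(L)) {φ : G → ℂ}
    (hφ : φ ∈ seqIndD K L H M) : ip L φ (star φ) = 0 ∧ star φ ≠ φ := by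
  have h1 := (seqIndT_facts h (seqIndD_subset_T K L H M hφ)).2.2.2.2.2.2.2.1
  obtain ⟨θ, hθ, rfl⟩ := mem_seqIndD.1 hφ
  have h2 := odd_induced_orth h ho (mem_irrKerD.1 hθ).1 (PF05.ne_cf1 hH hθ)
  refine ⟨h2, fun e => ?_⟩
  rw [e, ip_self] at h2
  have : nsq L (ind L K θ) = 0 := by exact_mod_cast h2
  linarith

end SeqInd

end Cfsg.Agent.FT
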