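/-
PF section 5: coherence, elementary facts, (5.3)(a), (5.4), (5.5).
-/
import Cfsg.Agent.FT.P.PF05_1

set_option autoImplicit false

namespace Cfsg.Agent.FT

open Subgroup Cfsg Cfsg.Agent
open scoped commutatorElement ComplexConjugate

universe u

variable {G : Type u} [Group G] [Finite G]

section Elementary

variable {L : Subgroup G} {S S₁ S₂ : Finset (G → ℂ)} {τ τ' τ₁ τ₂ : (G → ℂ) →ₗ[ℂ] (G → ℂ)}
  {R : (G → ℂ) → Finset (G → ℂ)}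

omit [Group G] [Finite G] in
theorem ConjSub.trans (h : ConjSub S₁ S₂) (h' : S₂ ⊆ S) : ConjSub S₁ S :=
  ⟨h.1.trans h', h.2⟩

omit [Group G] [Finite G] in
theorem conjSub_pair {χ : G → ℂ} (h : χ ∈ S) (h' : star χ ∈ S) : ConjSub {χ, star χ} S := by
  refine ⟨Finset.insert_subset h (Finset.singleton_subset_iff.2 h'), fun ψ hψ => ?_⟩
  rcases Finset.mem_insert.1 hψ with rfl | hψ
  · simp
  · rw [Finset.mem_singleton.1 hψ]; simp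

theorem CohWith.subgen (h : CohWith L S τ τ₁) (hS : ∀ χ ∈ S₁, χ ∈ Zs S) : CohWith L S₁ τ τ₁ := by
  have e : Zs S₁ ≤ Zs S := Submodule.span_le.2 hS
  exact ⟨fun φ hφ ψ hψ => h.iso φ (e hφ) ψ (e hψ), fun φ hφ => h.vchar φ (e hφ),
    fun φ hφ => h.agree φ ⟨e hφ.1, hφ.2⟩⟩

theorem CohWith.mono (h : CohWith L S τ τ₁) (hS : S₁ ⊆ S) : CohWith L S₁ τ τ₁ :=
  h.subgen fun _ hχ => mem_Zs_of_mem (hS hχ)

theorem Coherent.mono (h : Coherent L S τ) (hS : S₁ ⊆ S) : Coherent L S₁ τ :=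
  h.imp fun _ h => h.mono hS

theorem coherent_empty (L : Subgroup G) (τ : (G → ℂ) →ₗ[ℂ] (G → ℂ)) : Coherent L ∅ τ := by
  have e : ∀ φ ∈ Zs (∅ : Finset (G → ℂ)), φ = 0 := by
    intro φ hφ
    obtain ⟨c, rfl⟩ := mem_Zs_iff.1 hφ
    simp
  refine ⟨τ, fun φ hφ ψ hψ => ?_, fun φ hφ => ?_, fun _ _ => rfl⟩
  · rw [e φ hφ]; simp
  · rw [e φ hφ, map_zero]; exact zero_mem _

theorem CohWith.congr (h : CohWith L S τ τ₁) (e : ∀ φ ∈ Zs0 S, τ φ = τ' φ) : CohWith L S τ' τ₁ :=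
  ⟨h.iso, h.vchar, fun φ hφ => (h.agree φ hφ).trans (e φ hφ)⟩

theorem Coherent.congr (h : Coherent L S τ) (e : ∀ φ ∈ Zs0 S, τ φ = τ' φ) : Coherent L S τ' :=
  h.imp fun _ h => h.congr e

theorem CohWith.nsq_eq (h : CohWith L S τ τ₁) {φ : G → ℂ} (hφ : φ ∈ Zs S) :
    nsq ⊤ (τ₁ φ) = nsq L φ :=
  nsq_eq_of_ip_eq (h.iso φ hφ φ hφ)

theorem CohWith.dirr (h : CohWith L S τ τ₁) {χ : G → ℂ} (hχ : χ ∈ S) (hi : χ ∈ Irr L) :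
    Dirr ⊤ (τ₁ χ) :=
  dirr_of_nsq_one (h.vchar χ (mem_Zs_of_mem hχ)) ((h.nsq_eq (mem_Zs_of_mem hχ)).trans (nsq_irr hi))

theorem Subcoherent.mono (h : Subcoherent L S τ R) (hS : ConjSub S₁ S) :
    Subcoherent L S₁ τ R :=
  ⟨fun χ hχ => h.char χ (hS.1 hχ), fun χ hχ => h.not_real χ (hS.1 hχ), hS.2,
    fun φ hφ ψ hψ => h.iso φ (Zs0_mono hS.1 hφ) ψ (Zs0_mono hS.1 hψ),
    fun φ hφ => h.vchar φ (Zs0_mono hS.1 hφ),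
    fun χ hχ ψ hψ => h.orth χ (hS.1 hχ) ψ (hS.1 hψ), fun χ hχ => h.R_vchar χ (hS.1 hχ),
    fun χ hχ => h.R_on χ (hS.1 hχ), fun χ hχ => h.R_sum χ (hS.1 hχ),
    fun χ hχ ψ hψ => h.R_orth χ (hS.1 hχ) ψ (hS.1 hψ)⟩

theorem PF05.sub_star_mem (h : Subcoherent L S τ R) {χ : G → ℂ} (hχ : χ ∈ S) :
    χ - star χ ∈ Zs0 S :=
  sub_mem_Zs0 (mem_Zs_of_mem hχ) (mem_Zs_of_mem (h.conj_mem χ hχ)) (h.char χ hχ).star_one.symm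

theorem Subcoherent.congr (h : Subcoherent L S τ R) (e : ∀ φ ∈ Zs0 S, τ φ = τ' φ) :
    Subcoherent L S τ' R :=
  ⟨h.char, h.not_real, h.conj_mem,
    fun φ hφ ψ hψ => by rw [← e φ hφ, ← e ψ hψ]; exact h.iso φ hφ ψ hψ,
    fun φ hφ => by rw [← e φ hφ]; exact h.vchar φ hφ, h.orth, h.R_vchar, h.R_on,
    fun χ hχ => by rw [← e _ (PF05.sub_star_mem h hχ)]; exact h.R_sum χ hχ, h.R_orth⟩

theorem Subcoherent.facts (h : Subcoherent L S τ R) {χ : G → ℂ} (hχ : χ ∈ S) :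
    χ ≠ 0 ∧ 0 < dg χ ∧ 1 ≤ nsq L χ ∧ ip L χ (star χ) = 0 ∧ χ - star χ ∈ Zs0 S ∧
      ((R χ).card : ℝ) = 2 * nsq L χ ∧ ∀ α ∈ R χ, Dirr ⊤ α := by
  have h0 : χ ≠ 0 := by
    rintro rfl
    exact h.not_real _ hχ (star_zero _)
  have hc := h.char χ hχ
  have h1 := h.orth χ hχ _ (h.conj_mem χ hχ) (h.not_real χ hχ).symm
  have h2 := PF05.sub_star_mem h hχ
  refine ⟨h0, hc.dg_pos h0, vchar_one_le_nsq hc.mem_VChar h0, h1, h2, ?_,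
    fun α hα => dirr_of_nsq_one (h.R_vchar χ hχ α hα) ((h.R_on χ hχ).nsq hα)⟩
  rw [← (h.R_on χ hχ).nsq_sum, ← h.R_sum χ hχ, nsq_eq_of_ip_eq (h.iso _ h2 _ h2),
    nsq_sub_of_orth h1, nsq_star, two_mul]

/-- `R χ` is determined by `τ`. -/
theorem Subcoherent.mem_R_iff (h : Subcoherent L S τ R) {χ α : G → ℂ} (hχ : χ ∈ S) :
    α ∈ R χ ↔ Dirr ⊤ α ∧ ip ⊤ (τ (χ - star χ)) α = 1 := by
  have hd := (h.facts hχ).2.2.2.2.2.2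
  rw [h.R_sum χ hχ]
  refine ⟨fun hα => ⟨hd α hα, ?_⟩, fun ⟨h1, h2⟩ => ?_⟩
  · rw [(h.R_on χ hχ).ip_sum subset_rfl hα, if_pos hα]
  · by_contra hn
    have h3 : (ip ⊤ (∑ β ∈ R χ, β) α).re ≤ 0 := by
      rw [ip_sum_left, Complex.re_sum]
      refine Finset.sum_nonpos fun β hβ => ?_
      rcases (hd β hβ).ip_cases h1 with rfl | rfl | e
      · exact (hn hβ).elim
      · rw [ip_neg_left, h1.ip_self]; simp
      · rw [e]; simp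
    rw [h2] at h3
    norm_num at h3

/-- A coherence criterion: the values on `S` are prescribed, `S` is pairwise orthogonal. -/
theorem exists_cohWith_of_values (h0 : ∀ χ ∈ S, nsq L χ ≠ 0)
    (ho : ∀ χ ∈ S, ∀ ψ ∈ S, χ ≠ ψ → ip L χ ψ = 0) (f : (G → ℂ) → G → ℂ)
    (hv : ∀ χ ∈ S, f χ ∈ VChar ⊤) (hi : ∀ χ ∈ S, ∀ ψ ∈ S, ip ⊤ (f χ) (f ψ) = ip L χ ψ)
    (ha : ∀ c : (G → ℂ) → ℤ, ∑ χ ∈ S, (c χ : ℂ) * χ 1 = 0 →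
      τ (∑ χ ∈ S, (c χ : ℂ) • χ) = ∑ χ ∈ S, (c χ : ℂ) • f χ) :
    ∃ τ₁, CohWith L S τ τ₁ ∧ ∀ χ ∈ S, τ₁ χ = f χ := by
  obtain ⟨τ₁, e⟩ := exists_linear_of_orth h0 ho f
  refine ⟨τ₁, ⟨iso_Zs_of_gen fun χ hχ ψ hψ => ?_,
    fun φ hφ => map_mem_of_mem_Zs (fun χ hχ => ?_) hφ, fun φ hφ => ?_⟩, e⟩
  · rw [e χ hχ, e ψ hψ, hi χ hχ ψ hψ]
  · rw [e χ hχ]; exact hv χ hχ
  · obtain ⟨c, rfl⟩ := mem_Zs_iff'.1 hφ.1
    rw [ha c (by simpa [Finset.sum_apply] using hφ.2), map_sum]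
    exact Finset.sum_congr rfl fun χ hχ => by rw [map_smul, e χ hχ]

theorem PF05.ip_sub_star {φ ξ : G → ℂ} (h1 : ip L φ ξ = 0) (h2 : ip L φ (star ξ) = 0) :
    ip L (φ - star φ) (ξ - star ξ) = 0 := by
  rw [ip_sub_left, ip_sub_right, ip_sub_right, h1, h2, ip_star_star, ip_eq_zero_symm h1,
    ip_star_left, ip_eq_zero_symm h2]
  simp

/-- PF (5.3)(a). -/
theorem irr_subcoherent (hS : ConjSub S (Irr L)) (hr : ∀ χ ∈ S, star χ ≠ χ)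
    (hi : ∀ φ ∈ Zs0 S, ∀ ψ ∈ Zs0 S, ip ⊤ (τ φ) (τ ψ) = ip L φ ψ)
    (hv : ∀ φ ∈ Zs0 S, τ φ ∈ VChar ⊤ ∧ τ φ 1 = 0) : ∃ R, Subcoherent L S τ R := by
  have hz : ∀ χ ∈ S, χ - star χ ∈ Zs0 S := fun χ hχ =>
    sub_mem_Zs0 (mem_Zs_of_mem hχ) (mem_Zs_of_mem (hS.2 χ hχ))
      (irr_isChar (hS.1 hχ)).star_one.symm
  have key : ∀ χ ∈ S, ∃ a ∈ Irr (⊤ : Subgroup G), ∃ b ∈ Irr (⊤ : Subgroup G), a ≠ b ∧
      τ (χ - star χ) = a - b := by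
    intro χ hχ
    refine vchar_norm_two (hv _ (hz χ hχ)).1 ?_ (hv _ (hz χ hχ)).2
    rw [nsq_eq_of_ip_eq (hi _ (hz χ hχ) _ (hz χ hχ)), nsq_sub_of_orth
      (ip_irr_of_ne (hS.1 hχ) (star_mem_Irr (hS.1 hχ)) (hr χ hχ).symm), nsq_star,
      nsq_irr (hS.1 hχ)]
    norm_num
  choose! a ha b hb hab e using key
  have hne : ∀ χ ∈ S, a χ ≠ -b χ := by
    intro χ hχ e'
    have := ip_irr_of_ne (ha χ hχ) (hb χ hχ) (hab χ hχ)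
    rw [e', ip_neg_left, ip_irr_self (hb χ hχ)] at this
    norm_num at this
  refine ⟨fun χ => {a χ, -b χ}, fun χ hχ => irr_isChar (hS.1 hχ), hr, hS.2, hi, hv,
    fun χ hχ ψ hψ => ip_irr_of_ne (hS.1 hχ) (hS.1 hψ), fun χ hχ α hα => ?_,
    fun χ hχ => ⟨fun α hα => ?_, fun α hα β hβ hn => ?_⟩, fun χ hχ => ?_,
    fun ξ hξ φ hφ h1 h2 α hα β hβ => ?_⟩
  · simp only [Finset.mem_insert, Finset.mem_singleton] at hα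
    rcases hα with rfl | rfl
    · exact irr_mem_VChar (ha χ hχ)
    · exact neg_mem (irr_mem_VChar (hb χ hχ))
  · simp only [Finset.mem_insert, Finset.mem_singleton] at hα
    rcases hα with rfl | rfl
    · exact ip_irr_self (ha χ hχ)
    · simp [ip_irr_self (hb χ hχ)]
  · simp only [Finset.mem_insert, Finset.mem_singleton] at hα hβ
    have := ip_irr_of_ne (ha χ hχ) (hb χ hχ) (hab χ hχ)
    rcases hα with rfl | rfl <;> rcases hβ with rfl | rfl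
    · exact (hn rfl).elim
    · simp [this]
    · simp [ip_eq_zero_symm this]
    · exact (hn rfl).elim
  · rw [Finset.sum_pair (hne χ hχ), e χ hχ, sub_eq_add_neg]
  · have h3 := hi _ (hz φ hφ) _ (hz ξ hξ)
    rw [PF05.ip_sub_star h1 h2, e φ hφ, e ξ hξ] at h3
    have h4 := (hv _ (hz φ hφ)).2
    have h5 := (hv _ (hz ξ hξ)).2
    rw [e φ hφ, Pi.sub_apply, sub_eq_zero] at h4
    rw [e ξ hξ, Pi.sub_apply, sub_eq_zero] at h5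
    obtain ⟨k1, k2, k3, k4⟩ := vchar_pairs_orthonormal (u := 1) (v := 1) (Or.inl (ha φ hφ))
      (Or.inl (hb φ hφ)) (Or.inl (ha ξ hξ)) (Or.inl (hb ξ hξ))
      (ip_irr_of_ne (ha φ hφ) (hb φ hφ) (hab φ hφ)) (ip_irr_of_ne (ha ξ hξ) (hb ξ hξ) (hab ξ hξ))
      one_ne_zero one_ne_zero (by simpa using h3) h4 (by simpa using h5)
    simp only [Finset.mem_insert, Finset.mem_singleton] at hα hβ
    rcases hα with rfl | rfl <;> rcases hβ with rfl | rfl <;> simp [k1, k2, k3, k4]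

/-- PF (5.4), core form: `X - Y` plays the role of `τ₁ (χ - ψ)`. -/
theorem Subcoherent.norm_core (h : Subcoherent L S τ R) {χ X Y : G → ℂ} (hχ : χ ∈ S)
    (hv : X - Y ∈ VChar ⊤) (hip : ip ⊤ (X - Y) (τ (χ - star χ)) = ip L χ χ)
    (hY : ∀ α ∈ R χ, ip ⊤ Y α = 0) :
    nsq L χ ≤ nsq ⊤ X ∧
      (nsq ⊤ X ≤ nsq L χ → ∃ E ⊆ R χ, X = ∑ α ∈ E, α ∧ (E.card : ℝ) = nsq L χ) := by
  have hon := h.R_on χ hχ
  have key : ∀ α ∈ R χ, ∃ n : ℤ, ip ⊤ X α = n := by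
    intro α hα
    obtain ⟨n, hn⟩ := vchar_ip_int hv (h.R_vchar χ hχ α hα)
    exact ⟨n, by rw [← hn, ip_sub_left, hY α hα, sub_zero]⟩
  choose! c hc using key
  have h1 : ∑ α ∈ R χ, (c α : ℝ) = nsq L χ := by
    rw [h.R_sum χ hχ, ip_sum_right, ip_self, Finset.sum_congr rfl (g := fun α => (c α : ℂ))
      fun α hα => by rw [ip_sub_left, hY α hα, sub_zero, hc α hα]] at hip
    exact_mod_cast hip
  have h2 := hon.nsq_eq_proj X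
  rw [Finset.sum_congr rfl (g := fun α => (c α : ℝ) ^ 2)
    fun α hα => by rw [hc α hα, Complex.norm_intCast, sq_abs]] at h2
  have h3 : ∀ α ∈ R χ, (c α : ℝ) ≤ (c α : ℝ) ^ 2 := fun α _ => by
    exact_mod_cast Int.le_self_sq (c α)
  have h4 := Finset.sum_le_sum h3
  have h5 := nsq_nonneg ⊤ (X - ∑ α ∈ R χ, ip ⊤ X α • α)
  refine ⟨by linarith, fun hle => ?_⟩
  have h6 := (Finset.sum_eq_sum_iff_of_le h3).1 (by linarith)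
  have h7 : X = ∑ α ∈ R χ, ip ⊤ X α • α := sub_eq_zero.1 (eq_zero_of_nsq_top (by linarith))
  have h8 : ∀ α ∈ R χ, c α = 0 ∨ c α = 1 := by
    intro α hα
    have : c α = c α ^ 2 := by exact_mod_cast h6 α hα
    have : c α * (c α - 1) = 0 := by linarith
    rcases mul_eq_zero.1 this with e | e
    · exact Or.inl e
    · exact Or.inr (by linarith)
  refine ⟨(R χ).filter fun α => c α = 1, Finset.filter_subset _ _, ?_, ?_⟩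
  · rw [Finset.sum_filter]
    refine h7.trans (Finset.sum_congr rfl fun α hα => ?_)
    rw [hc α hα]
    rcases h8 α hα with e | e <;> simp [e]
  · rw [← h1, Finset.card_filter]
    push_cast
    refine Finset.sum_congr rfl fun α hα => ?_
    rcases h8 α hα with e | e <;> simp [e]

theorem PF05.ip_sub_sub_star (h : Subcoherent L S τ R) {χ ψ : G → ℂ} (hχ : χ ∈ S)
    (h1 : ip L χ ψ = 0) (h2 : ip L (star χ) ψ = 0) :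
    ip L (χ - ψ) (χ - star χ) = ip L χ χ := by
  rw [ip_sub_left, ip_sub_right, ip_sub_right, (h.facts hχ).2.2.2.1, ip_eq_zero_symm h1,
    ip_eq_zero_symm h2]
  simp

/-- PF (5.4). -/
theorem Subcoherent.norm (h : Subcoherent L S τ R) {χ ψ X Y : G → ℂ} (hχ : χ ∈ S)
    (h1 : ip L χ ψ = 0) (h2 : ip L (star χ) ψ = 0)
    (hv : X - Y ∈ VChar ⊤) (hn : ip ⊤ (X - Y) (X - Y) = ip L (χ - ψ) (χ - ψ))
    (hip : ip ⊤ (X - Y) (τ (χ - star χ)) = ip L (χ - ψ) (χ - star χ))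
    (hXY : ip ⊤ X Y = 0) (hY : ∀ α ∈ R χ, ip ⊤ Y α = 0) :
    nsq L χ ≤ nsq ⊤ X ∧ (nsq L ψ ≤ nsq ⊤ Y →
      nsq ⊤ X = nsq L χ ∧ nsq ⊤ Y = nsq L ψ ∧ ∃ E ⊆ R χ, X = ∑ α ∈ E, α) := by
  rw [PF05.ip_sub_sub_star h hχ h1 h2] at hip
  obtain ⟨k1, k2⟩ := h.norm_core hχ hv hip hY
  have k3 := nsq_eq_of_ip_eq hn
  rw [nsq_sub_of_orth hXY, nsq_sub_of_orth h1] at k3
  refine ⟨k1, fun hle => ⟨by linarith, by linarith, ?_⟩⟩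
  obtain ⟨E, hE, e, -⟩ := k2 (by linarith)
  exact ⟨E, hE, e⟩

theorem Subcoherent.split (h : Subcoherent L S τ R) {χ β : G → ℂ} (hχ : χ ∈ S) (hβ : β ∈ VChar ⊤) :
    ∃ X ∈ Zs (R χ), ∃ Y ∈ VChar ⊤, β = X - Y ∧ X ∈ VChar ⊤ ∧ ip ⊤ X Y = 0 ∧
      ∀ α ∈ R χ, ip ⊤ Y α = 0 := by
  obtain ⟨c, -, h2, -⟩ := (h.R_on χ hχ).exists_split (h.R_vchar χ hχ) hβ
  have hX : ∑ α ∈ R χ, (c α : ℂ) • α ∈ Zs (R χ) := mem_Zs_iff'.2 ⟨c, rfl⟩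
  have hX' := Zs_le_VChar (h.R_vchar χ hχ) hX
  have h3 : ∀ α ∈ R χ, ip ⊤ (∑ α ∈ R χ, (c α : ℂ) • α - β) α = 0 := fun α hα => by
    rw [← neg_sub, ip_neg_left, h2 α hα, neg_zero]
  exact ⟨_, hX, _, sub_mem hX' hβ, by abel, hX',
    ip_eq_zero_of_mem_Zs_left hX fun α hα => ip_eq_zero_symm (h3 α hα), h3⟩

/-- PF (5.5). -/
theorem Subcoherent.coherent_sum (h : Subcoherent L S τ R) (hS : ConjSub S₁ S)
    (hc : CohWith L S₁ τ τ₁) {χ : G → ℂ} (hχ : χ ∈ S₁) : ∃ E ⊆ R χ, τ₁ χ = ∑ α ∈ E, α := by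
  have h1 := mem_Zs_of_mem hχ
  have h2 := PF05.sub_star_mem (h.mono hS) hχ
  obtain ⟨E, hE, e, -⟩ := (h.norm_core (X := τ₁ χ) (Y := 0) (hS.1 hχ)
    (by rw [sub_zero]; exact hc.vchar χ h1)
    (by rw [sub_zero, ← hc.agree _ h2, hc.iso _ h1 _ h2.1, ip_sub_right,
      (h.facts (hS.1 hχ)).2.2.2.1, sub_zero]) (fun _ _ => ip_zero_left _ _)).2 (hc.nsq_eq h1).le
  exact ⟨E, hE, e⟩

theorem PF05.ip_map_left {φ α : G → ℂ} (hφ : φ ∈ Zs S) (h : ∀ χ ∈ S, ip ⊤ (τ χ) α = 0) :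
    ip ⊤ (τ φ) α = 0 := by
  refine ip_eq_zero_of_mem_Zs_left (map_mem_Zs_image τ hφ) fun χ hχ => ?_
  obtain ⟨ξ, hξ, rfl⟩ := Finset.mem_image.1 hχ
  exact h ξ hξ

theorem PF05.R_orth (h : Subcoherent L S τ R) {χ ξ : G → ℂ} (hχ : χ ∈ S) (hξ : ξ ∈ S)
    (h1 : χ ≠ ξ) (h2 : χ ≠ star ξ) : ∀ α ∈ R χ, ∀ β ∈ R ξ, ip ⊤ α β = 0 :=
  h.R_orth ξ hξ χ hχ (h.orth χ hχ ξ hξ h1) (h.orth χ hχ _ (h.conj_mem ξ hξ) h2)

theorem PF05.Zs_orth (h : Subcoherent L S τ R) {χ ξ : G → ℂ} (hχ : χ ∈ S) (hξ : ξ ∈ S)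
    (h1 : χ ≠ ξ) (h2 : χ ≠ star ξ) {X Y : G → ℂ} (hX : X ∈ Zs (R χ)) (hY : Y ∈ Zs (R ξ)) :
    ip ⊤ X Y = 0 :=
  ip_eq_zero_of_mem_Zs_left hX fun α hα => ip_eq_zero_of_mem_Zs_right hY fun β hβ =>
    PF05.R_orth h hχ hξ h1 h2 α hα β hβ

omit [Group G] [Finite G] in
theorem PF05.sum_mem_Zs {E F : Finset (G → ℂ)} (h : E ⊆ F) : ∑ α ∈ E, α ∈ Zs F :=
  Submodule.sum_mem _ fun _ hα => mem_Zs_of_mem (h hα)

theorem Subcoherent.coherent_ortho_supp (h : Subcoherent L S τ R) (hS : ConjSub S₁ S)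
    (hc : CohWith L S₁ τ τ₁) {χ : G → ℂ} (hχ : χ ∈ S) (hn : χ ∉ S₁) {φ : G → ℂ}
    (hφ : φ ∈ Zs S₁) : ∀ α ∈ R χ, ip ⊤ (τ₁ φ) α = 0 := by
  intro α hα
  refine PF05.ip_map_left hφ fun ξ hξ => ?_
  obtain ⟨E, hE, e⟩ := h.coherent_sum hS hc hξ
  rw [e]
  refine PF05.Zs_orth h (hS.1 hξ) hχ ?_ ?_ (PF05.sum_mem_Zs hE) (mem_Zs_of_mem hα)
  · rintro rfl; exact hn hξ
  · rintro rfl; exact hn (by simpa using hS.2 _ hξ)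

theorem Subcoherent.coherent_ortho (h : Subcoherent L S τ R) (h₁ : ConjSub S₁ S)
    (hc₁ : CohWith L S₁ τ τ₁) (h₂ : ConjSub S₂ S) (hc₂ : CohWith L S₂ τ τ₂)
    (hd : Disjoint S₁ S₂) {φ ψ : G → ℂ} (hφ : φ ∈ Zs S₁) (hψ : ψ ∈ Zs S₂) :
    ip ⊤ (τ₁ φ) (τ₂ ψ) = 0 := by
  refine ip_eq_zero_symm (PF05.ip_map_left hψ fun ξ hξ => ?_)
  obtain ⟨E, hE, e⟩ := h.coherent_sum h₂ hc₂ hξ
  rw [e]
  exact ip_eq_zero_of_mem_Zs_left (PF05.sum_mem_Zs hE) fun α hα => ip_eq_zero_symm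
    (h.coherent_ortho_supp h₁ hc₁ (h₂.1 hξ) (Finset.disjoint_right.1 hd hξ) hφ α hα)

theorem PF05.nsq_ne_zero (h : Subcoherent L S τ R) : ∀ χ ∈ S, nsq L χ ≠ 0 := fun χ hχ => by
  have := (h.facts hχ).2.2.1
  linarith

theorem PF05.one_ne_zero (h : Subcoherent L S τ R) {χ : G → ℂ} (hχ : χ ∈ S) : χ 1 ≠ 0 := by
  rw [(h.char χ hχ).one_eq]
  exact_mod_cast (h.facts hχ).2.1.ne'

theorem PF05.one_int (h : Subcoherent L S τ R) {φ : G → ℂ} (hφ : φ ∈ Zs S) : ∃ n : ℤ, φ 1 = n :=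
  vchar_one_int (Zs_le_VChar (fun χ hχ => (h.char χ hχ).mem_VChar) hφ)

theorem Subcoherent.bridge_coherent (h : Subcoherent L S τ R) (h₁ : ConjSub S₁ S)
    (hc₁ : CohWith L S₁ τ τ₁) (h₂ : ConjSub S₂ S) (hc₂ : CohWith L S₂ τ τ₂)
    (hd : Disjoint S₁ S₂) {χ φ : G → ℂ} (hχ : χ ∈ S₁) (hφ : φ ∈ Zs S₂) (h1 : χ 1 = φ 1)
    (e : τ (χ - φ) = τ₁ χ - τ₂ φ) :
    ∃ τ₃, CohWith L (S₁ ∪ S₂) τ τ₃ ∧ (∀ ψ ∈ S₁, τ₃ ψ = τ₁ ψ) ∧ ∀ ψ ∈ S₂, τ₃ ψ = τ₂ ψ := by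
  have hU : S₁ ∪ S₂ ⊆ S := Finset.union_subset h₁.1 h₂.1
  set f : (G → ℂ) → G → ℂ := fun ψ => if ψ ∈ S₁ then τ₁ ψ else τ₂ ψ with hf
  have f1 : ∀ ψ ∈ S₁, f ψ = τ₁ ψ := fun ψ hψ => if_pos hψ
  have f2 : ∀ ψ ∈ S₂, f ψ = τ₂ ψ := fun ψ hψ => if_neg (Finset.disjoint_right.1 hd hψ)
  have o12 : ∀ ξ ∈ S₁, ∀ ψ ∈ S₂, ip L ξ ψ = 0 := fun ξ hξ ψ hψ =>
    h.orth ξ (h₁.1 hξ) ψ (h₂.1 hψ) (by rintro rfl; exact Finset.disjoint_right.1 hd hψ hξ)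
  refine Exists.imp (fun τ₃ k => ⟨k.1,
    fun ψ hψ => (k.2 ψ (Finset.mem_union_left _ hψ)).trans (f1 ψ hψ),
    fun ψ hψ => (k.2 ψ (Finset.mem_union_right _ hψ)).trans (f2 ψ hψ)⟩)
    (exists_cohWith_of_values (τ := τ)
    (fun ξ hξ => PF05.nsq_ne_zero h ξ (hU hξ)) (fun ξ hξ ψ hψ => h.orth ξ (hU hξ) ψ (hU hψ)) f
    (fun ξ hξ => ?_) (fun ξ hξ ψ hψ => ?_) fun c hc => ?_)
  · rcases Finset.mem_union.1 hξ with hξ | hξ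
    · rw [f1 ξ hξ]; exact hc₁.vchar _ (mem_Zs_of_mem hξ)
    · rw [f2 ξ hξ]; exact hc₂.vchar _ (mem_Zs_of_mem hξ)
  · rcases Finset.mem_union.1 hξ with hξ | hξ <;> rcases Finset.mem_union.1 hψ with hψ | hψ
    · rw [f1 ξ hξ, f1 ψ hψ, hc₁.iso _ (mem_Zs_of_mem hξ) _ (mem_Zs_of_mem hψ)]
    · rw [f1 ξ hξ, f2 ψ hψ, o12 ξ hξ ψ hψ,
        h.coherent_ortho h₁ hc₁ h₂ hc₂ hd (mem_Zs_of_mem hξ) (mem_Zs_of_mem hψ)]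
    · rw [f2 ξ hξ, f1 ψ hψ, ip_eq_zero_symm (o12 ψ hψ ξ hξ), ip_eq_zero_symm
        (h.coherent_ortho h₁ hc₁ h₂ hc₂ hd (mem_Zs_of_mem hψ) (mem_Zs_of_mem hξ))]
    · rw [f2 ξ hξ, f2 ψ hψ, hc₂.iso _ (mem_Zs_of_mem hξ) _ (mem_Zs_of_mem hψ)]
  · rw [Finset.sum_union hd] at hc
    rw [Finset.sum_union hd, Finset.sum_union hd,
      Finset.sum_congr rfl (s₁ := S₁) (f := fun ξ => (c ξ : ℂ) • f ξ)
        (g := fun ξ => τ₁ ((c ξ : ℂ) • ξ)) (fun ξ hξ => by rw [f1 ξ hξ, map_smul]),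
      Finset.sum_congr rfl (s₁ := S₂) (f := fun ξ => (c ξ : ℂ) • f ξ)
        (g := fun ξ => τ₂ ((c ξ : ℂ) • ξ)) (fun ξ hξ => by rw [f2 ξ hξ, map_smul]),
      ← map_sum, ← map_sum]
    have m1 : ∑ ξ ∈ S₁, (c ξ : ℂ) • ξ ∈ Zs S₁ := mem_Zs_iff'.2 ⟨c, rfl⟩
    have m2 : ∑ ξ ∈ S₂, (c ξ : ℂ) • ξ ∈ Zs S₂ := mem_Zs_iff'.2 ⟨c, rfl⟩
    have hc' : (∑ ξ ∈ S₁, (c ξ : ℂ) • ξ) 1 + (∑ ξ ∈ S₂, (c ξ : ℂ) • ξ) 1 = 0 := by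
      simpa [Finset.sum_apply] using hc
    generalize ∑ ξ ∈ S₁, (c ξ : ℂ) • ξ = η₁ at m1 hc'
    generalize ∑ ξ ∈ S₂, (c ξ : ℂ) • ξ = η₂ at m2 hc'
    obtain ⟨n, hn⟩ := PF05.one_int h (Zs_mono h₁.1 m1)
    obtain ⟨m, hm⟩ := PF05.one_int h (mem_Zs_of_mem (h₁.1 hχ))
    have hm0 : (m : ℂ) ≠ 0 := hm ▸ PF05.one_ne_zero h (h₁.1 hχ)
    have a1 := hc₁.agree _ (sub_mem_Zs0 (intCast_smul_mem_Zs m1 m)
      (intCast_smul_mem_Zs (mem_Zs_of_mem hχ) n) (by simp [hn, hm, mul_comm]))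
    have a2 := hc₂.agree ((m : ℂ) • η₂ + (n : ℂ) • φ) ⟨add_mem (intCast_smul_mem_Zs m2 m)
      (intCast_smul_mem_Zs hφ n), by
        simp only [Pi.add_apply, Pi.smul_apply, smul_eq_mul, ← h1, hm]
        linear_combination (m : ℂ) * hc' - (m : ℂ) * hn⟩
    refine smul_right_injective _ hm0 ?_
    simp only [map_sub, map_add, map_smul] at a1 a2 e ⊢
    linear_combination (norm := module) -a1 - a2 + (n : ℂ) • e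

end Elementary

end Cfsg.Agent.FT
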