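/-
PF (5.6), (5.7), (5.9).
-/
import Cfsg.Agent.FT.P.PF05_2

set_option autoImplicit false

namespace Cfsg.Agent.FT

open Subgroup Cfsg Cfsg.Agent
open scoped commutatorElement ComplexConjugate

universe u

variable {G : Type u} [Group G] [Finite G]

section Elementary

variable {L : Subgroup G} {S S₁ S₂ : Finset (G → ℂ)} {τ τ' τ₁ τ₂ : (G → ℂ) →ₗ[ℂ] (G → ℂ)}
  {R : (G → ℂ) → Finset (G → ℂ)}

/-- Coherence of a pair `{χ, star χ}` with prescribed values. -/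
theorem PF05.pair_values (h : Subcoherent L S τ R) {χ X X' : G → ℂ} (hχ : χ ∈ S)
    (hv : X ∈ VChar ⊤) (hn : nsq ⊤ X = nsq L χ) (hn' : nsq ⊤ X' = nsq L χ) (ho : ip ⊤ X X' = 0)
    (e : τ (χ - star χ) = X - X') :
    ∃ τ₂, CohWith L {χ, star χ} τ τ₂ ∧ τ₂ χ = X ∧ τ₂ (star χ) = X' := by
  have hne := (h.not_real χ hχ).symm
  have hp := conjSub_pair hχ (h.conj_mem χ hχ)
  obtain ⟨-, -, -, k1, k2, -⟩ := h.facts hχ
  set f : (G → ℂ) → G → ℂ := fun ψ => if ψ = χ then X else X' with hf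
  have f1 : f χ = X := if_pos rfl
  have f2 : f (star χ) = X' := if_neg hne.symm
  have hv' : X' ∈ VChar ⊤ := by
    have := sub_mem hv (h.vchar _ k2).1
    rwa [e, sub_sub_cancel] at this
  refine Exists.imp (fun τ₃ k => ⟨k.1, (k.2 _ (by simp)).trans f1, (k.2 _ (by simp)).trans f2⟩)
    (exists_cohWith_of_values (τ := τ) (fun ξ hξ => PF05.nsq_ne_zero h ξ (hp.1 hξ))
      (fun ξ hξ ψ hψ => h.orth ξ (hp.1 hξ) ψ (hp.1 hψ)) f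
      (fun ξ hξ => ?_) (fun ξ hξ ψ hψ => ?_) fun c hc => ?_)
  · simp only [Finset.mem_insert, Finset.mem_singleton] at hξ
    rcases hξ with rfl | rfl
    · rwa [f1]
    · rwa [f2]
  · simp only [Finset.mem_insert, Finset.mem_singleton] at hξ hψ
    rcases hξ with rfl | rfl <;> rcases hψ with rfl | rfl
    · rw [f1, ip_self, ip_self, hn]
    · rw [f1, f2, ho, k1]
    · rw [f1, f2, ip_eq_zero_symm ho, ip_eq_zero_symm k1]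
    · rw [f2, ip_self, ip_self, hn', nsq_star]
  · rw [Finset.sum_pair hne, (h.char χ hχ).star_one, ← add_mul,
      mul_eq_zero_iff_right (PF05.one_ne_zero h hχ), add_eq_zero_iff_neg_eq] at hc
    rw [Finset.sum_pair hne, Finset.sum_pair hne, f1, f2, ← hc, map_add, map_smul, map_smul]
    rw [map_sub] at e
    linear_combination (norm := module) (c χ : ℂ) • e

theorem PF05.pair_cohWith (h : Subcoherent L S τ R) {χ X : G → ℂ} (hχ : χ ∈ S)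
    (hv : X ∈ VChar ⊤) (hn : nsq ⊤ X = nsq L χ) (hip : ip ⊤ X (τ (χ - star χ)) = ip L χ χ) :
    ∃ τ₂, CohWith L {χ, star χ} τ τ₂ ∧ τ₂ χ = X := by
  obtain ⟨-, -, -, k1, k2, -⟩ := h.facts hχ
  obtain ⟨τ₂, k3, k4, -⟩ := PF05.pair_values h (X' := X - τ (χ - star χ)) hχ hv hn (by
    rw [nsq_sub, hip, ip_self, nsq_eq_of_ip_eq (h.iso _ k2 _ k2), nsq_sub_of_orth k1, nsq_star, hn,
      Complex.ofReal_re]
    ring) (by rw [ip_sub_right, hip, ip_self, ip_self, hn, sub_self]) (by abel)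
  exact ⟨τ₂, k3, k4⟩

theorem PF05.orth_of_notMem (h : Subcoherent L S τ R) (h₁ : ConjSub S₁ S) {χ : G → ℂ}
    (hχ : χ ∈ S) (hn : χ ∉ S₁) {φ : G → ℂ} (hφ : φ ∈ Zs S₁) :
    ip L χ φ = 0 ∧ ip L (star χ) φ = 0 := by
  refine ⟨ip_eq_zero_of_mem_Zs_right hφ fun ξ hξ => h.orth _ hχ _ (h₁.1 hξ) ?_,
    ip_eq_zero_of_mem_Zs_right hφ fun ξ hξ => h.orth _ (h.conj_mem _ hχ) _ (h₁.1 hξ) ?_⟩
  · rintro rfl; exact hn hξ
  · rintro rfl; exact hn (by simpa using h₁.2 _ hξ)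

/-- PF (5.6.3), reused in (9.11.8). -/
theorem Subcoherent.extend_coherent_with (h : Subcoherent L S τ R) (h₁ : ConjSub S₁ S)
    (hc₁ : CohWith L S₁ τ τ₁) {χ φ X : G → ℂ} (hφ : φ ∈ S₁) (hχ : χ ∈ S) (hn : χ ∉ S₁) {a : ℤ}
    (h1 : χ 1 = a * φ 1) (hX : ip ⊤ X ((a : ℂ) • τ₁ φ) = 0)
    (e : τ (χ - (a : ℂ) • φ) = X - (a : ℂ) • τ₁ φ) :
    Coherent L (insert χ (insert (star χ) S₁)) τ := by
  have m1 : (a : ℂ) • φ ∈ Zs S₁ := intCast_smul_mem_Zs (mem_Zs_of_mem hφ) a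
  have m2 : χ - (a : ℂ) • φ ∈ Zs0 S :=
    sub_mem_Zs0 (mem_Zs_of_mem hχ) (Zs_mono h₁.1 m1) (by simpa using h1)
  have m3 := PF05.sub_star_mem h hχ
  obtain ⟨o1, o2⟩ := PF05.orth_of_notMem h h₁ hχ hn m1
  rw [← map_smul] at hX e
  have hv : X ∈ VChar ⊤ := by
    have := add_mem (h.vchar _ m2).1 (hc₁.vchar _ m1)
    rwa [e, sub_add_cancel] at this
  have k1 := nsq_eq_of_ip_eq (h.iso _ m2 _ m2)
  rw [e, nsq_sub_of_orth hX, nsq_sub_of_orth o1, hc₁.nsq_eq m1, add_left_inj] at k1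
  have k2 := h.iso _ m2 _ m3
  have k3 : ip ⊤ (τ₁ ((a : ℂ) • φ)) (τ (χ - star χ)) = 0 := by
    rw [h.R_sum χ hχ, ip_sum_right]
    exact Finset.sum_eq_zero (h.coherent_ortho_supp h₁ hc₁ hχ hn m1)
  rw [PF05.ip_sub_sub_star h hχ o1 o2, e, ip_sub_left, k3, sub_zero] at k2
  obtain ⟨τ₂, k4, k5⟩ := PF05.pair_cohWith h hχ hv k1 k2
  have hd : Disjoint {χ, star χ} S₁ := by
    rw [Finset.disjoint_insert_left, Finset.disjoint_singleton_left]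
    exact ⟨hn, fun e => hn (by simpa using h₁.2 _ e)⟩
  obtain ⟨τ₃, k6, -⟩ := h.bridge_coherent (conjSub_pair hχ (h.conj_mem χ hχ)) k4 h₁ hc₁ hd
    (χ := χ) (by simp) m1 (by simpa using h1) (by rw [k5, e])
  rw [Finset.insert_union, Finset.singleton_union] at k6
  exact ⟨τ₃, k6⟩

/-- PF (5.6). -/
theorem Subcoherent.extend_coherent (h : Subcoherent L S τ R) (h₁ : ConjSub S₁ S)
    {ξ₁ χ : G → ℂ} (hξ : ξ₁ ∈ S₁) (hχ : χ ∈ S) (hn : χ ∉ S₁) (hc : Coherent L S₁ τ)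
    (hd : dg ξ₁ ∣ dg χ)
    (hb : 2 * (dg χ : ℝ) * dg ξ₁ < ∑ ξ ∈ S₁, (dg ξ : ℝ) ^ 2 / nsq L ξ) :
    Coherent L (insert χ (insert (star χ) S₁)) τ := by
  obtain ⟨τ₁, hc⟩ := hc
  obtain ⟨a, ha⟩ := hd
  have one : ∀ ξ ∈ S, ξ 1 = dg ξ := fun ξ hξ => (h.char ξ hξ).one_eq
  have hξS := h₁.1 hξ
  have z1 := mem_Zs_of_mem hξ
  have h1 : χ 1 = ((a : ℤ) : ℂ) * ξ₁ 1 := by
    rw [one χ hχ, one ξ₁ hξS, ha]; push_cast; ring
  have m1 : ((a : ℤ) : ℂ) • ξ₁ ∈ Zs S₁ := intCast_smul_mem_Zs z1 a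
  have m2 : χ - ((a : ℤ) : ℂ) • ξ₁ ∈ Zs0 S :=
    sub_mem_Zs0 (mem_Zs_of_mem hχ) (Zs_mono h₁.1 m1) (by simpa using h1)
  have m3 := PF05.sub_star_mem h hχ
  obtain ⟨o1, o2⟩ := PF05.orth_of_notMem h h₁ hχ hn m1
  obtain ⟨X, hX, Y, hY, e, hXv, oXY, oY⟩ := h.split hχ (h.vchar _ m2).1
  have oX : ∀ φ ∈ Zs S₁, ip ⊤ X (τ₁ φ) = 0 := fun φ hφ =>
    ip_eq_zero_of_mem_Zs_left hX fun α hα =>
      ip_eq_zero_symm (h.coherent_ortho_supp h₁ hc hχ hn hφ α hα)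
  suffices hs : Y = ((a : ℤ) : ℂ) • τ₁ ξ₁ by
    exact h.extend_coherent_with h₁ hc hξ hχ hn h1 (hs ▸ oXY) (hs ▸ e)
  -- the norm of `Y`
  have k1 := (h.norm hχ o1 o2 (e ▸ (h.vchar _ m2).1) (e ▸ h.iso _ m2 _ m2) (e ▸ h.iso _ m2 _ m3)
    oXY oY).1
  have k2 := nsq_eq_of_ip_eq (h.iso _ m2 _ m2)
  rw [e, nsq_sub_of_orth oXY, nsq_sub_of_orth o1] at k2
  set Z := ((a : ℤ) : ℂ) • τ₁ ξ₁ - Y with hZ
  have hZv : Z ∈ VChar ⊤ := sub_mem (vchar_int_smul (hc.vchar _ z1) _) hY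
  obtain ⟨l, hl⟩ := vchar_ip_int hZv (hc.vchar _ z1)
  have k3 : nsq ⊤ Z ≤ 2 * a * l := by
    have : Y = ((a : ℤ) : ℂ) • τ₁ ξ₁ - Z := by rw [hZ]; abel
    rw [this, nsq_sub, ← map_smul, hc.nsq_eq m1, map_smul, ip_smul_left, ip_comm_of_int hl] at k2
    have e2 : ((((a : ℤ) : ℂ)) * (l : ℂ)).re = a * l := by
      simp
    rw [e2] at k2
    linarith
  have k4 : ∀ ξ ∈ S₁, (dg ξ₁ : ℂ) * ip ⊤ Z (τ₁ ξ) = l * dg ξ := by
    intro ξ hξ'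
    have z2 := mem_Zs_of_mem hξ'
    have m4 : (dg ξ₁ : ℂ) • ξ - (dg ξ : ℂ) • ξ₁ ∈ Zs0 S₁ :=
      sub_mem_Zs0 (natCast_smul_mem_Zs z2 _) (natCast_smul_mem_Zs z1 _)
        (by simp [one ξ (h₁.1 hξ'), one ξ₁ hξS, mul_comm])
    have k5 := h.iso _ m2 _ (Zs0_mono h₁.1 m4)
    rw [e, ← hc.agree _ m4, ip_sub_left, oX _ m4.1, ip_sub_left,
      (PF05.orth_of_notMem h h₁ hχ hn m4.1).1, ← hc.iso _ m1 _ m4.1, map_smul, map_sub, map_smul,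
      map_smul] at k5
    have k6 : ip ⊤ Z ((dg ξ₁ : ℂ) • τ₁ ξ - (dg ξ : ℂ) • τ₁ ξ₁) = 0 := by
      rw [hZ, ip_sub_left]; linear_combination k5
    rw [ip_sub_right, ip_smul_right, ip_smul_right, hl, Complex.conj_natCast,
      Complex.conj_natCast] at k6
    linear_combination k6
  set s := ∑ ξ ∈ S₁, (dg ξ : ℝ) ^ 2 / nsq L ξ with hs
  set V := ∑ ξ ∈ S₁, (((dg ξ : ℝ) / nsq L ξ : ℝ) : ℂ) • τ₁ ξ with hV
  have nz : ∀ ξ ∈ S₁, nsq L ξ ≠ 0 := fun ξ hξ => PF05.nsq_ne_zero h ξ (h₁.1 hξ)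
  have k5 : nsq ⊤ V = s := by
    rw [hV, nsq_sum_of_orth]
    · refine Finset.sum_congr rfl fun ξ hξ => ?_
      rw [nsq_real_smul, hc.nsq_eq (mem_Zs_of_mem hξ)]
      have := nz ξ hξ
      field_simp
    · intro ξ hξ ξ' hξ' hne
      rw [ip_smul_left, ip_smul_right, hc.iso _ (mem_Zs_of_mem hξ) _ (mem_Zs_of_mem hξ'),
        h.orth _ (h₁.1 hξ) _ (h₁.1 hξ') hne, mul_zero, mul_zero]
  have k6 : (dg ξ₁ : ℂ) * ip ⊤ Z V = ((l * s : ℝ) : ℂ) := by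
    rw [hV, ip_sum_right, Finset.mul_sum, hs, Finset.mul_sum, Complex.ofReal_sum]
    refine Finset.sum_congr rfl fun ξ hξ => ?_
    rw [ip_smul_right, Complex.conj_ofReal, mul_left_comm, k4 ξ hξ]
    push_cast; ring
  have k7 := norm_ip_sq_le ⊤ Z V
  have k8 : (dg ξ₁ : ℝ) ^ 2 * ‖ip ⊤ Z V‖ ^ 2 = (l * s) ^ 2 := by
    have := congrArg (fun z => ‖z‖ ^ 2) k6
    simpa only [norm_mul, Complex.norm_natCast, mul_pow, Complex.norm_real, Real.norm_eq_abs,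
      sq_abs] using this
  have d0 : (0 : ℝ) < dg ξ₁ := by exact_mod_cast (h.facts hξS).2.1
  have a0 : (0 : ℝ) < a := by
    have := (h.facts hχ).2.1
    rw [ha] at this
    exact_mod_cast Nat.pos_of_mul_pos_left this
  rw [ha] at hb
  push_cast at hb
  have s0 : 0 < s := lt_trans (by positivity) hb
  have k9 : (l : ℝ) ^ 2 * s ≤ (dg ξ₁ : ℝ) ^ 2 * nsq ⊤ Z := by
    refine le_of_mul_le_mul_right ?_ s0
    rw [k5] at k7
    nlinarith [mul_le_mul_of_nonneg_left k7 (sq_nonneg (dg ξ₁ : ℝ))]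
  have l0 : l = 0 := by
    by_contra hl0
    have p1 : (0 : ℝ) < (l : ℝ) ^ 2 := by positivity
    have p2 : (l : ℝ) ≤ (l : ℝ) ^ 2 := by exact_mod_cast Int.le_self_sq l
    have p3 := mul_lt_mul_of_pos_left hb p1
    have p4 := mul_le_mul_of_nonneg_left k3 (sq_nonneg (dg ξ₁ : ℝ))
    have p5 := mul_le_mul_of_nonneg_left p2 (by positivity : (0 : ℝ) ≤ 2 * a * (dg ξ₁ : ℝ) ^ 2)
    nlinarith
  rw [l0] at k3
  have : Z = 0 := eq_zero_of_nsq_top (le_antisymm (by simpa using k3) (nsq_nonneg _ _))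
  exact (sub_eq_zero.1 this).symm

theorem Subcoherent.pivot_coherence (h : Subcoherent L S τ R) {η₁ ζ₁ : G → ℂ} (hη : η₁ ∈ S)
    (hζ : ζ₁ ∈ VChar ⊤)
    (hp : ∀ η ∈ S, η ≠ η₁ → ∃ a : ℕ, η 1 = a * η₁ 1 ∧
      ip ⊤ (τ (η - (a : ℂ) • η₁)) ζ₁ = -(a : ℂ) * ip L η₁ η₁)
    (hn : nsq ⊤ ζ₁ = nsq L η₁) : ∃ τ₁, CohWith L S τ τ₁ ∧ τ₁ η₁ = ζ₁ := by
  have key : ∀ η ∈ S, ∃ a : ℕ, η 1 = a * η₁ 1 ∧
      ip ⊤ (τ (η - (a : ℂ) • η₁)) ζ₁ = ip L (η - (a : ℂ) • η₁) η₁ := by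
    intro η hη'
    by_cases e : η = η₁
    · exact ⟨1, by simp [e], by simp [e]⟩
    · obtain ⟨a, k1, k2⟩ := hp η hη' e
      exact ⟨a, k1, by rw [k2, ip_sub_left, h.orth _ hη' _ hη e, ip_smul_left]; ring⟩
  choose! a ha hb using key
  have n0 := PF05.one_ne_zero h hη
  have a1 : (a η₁ : ℂ) = 1 := by
    have := ha η₁ hη
    exact mul_right_cancel₀ n0 (by rw [← this, one_mul])
  have m : ∀ η ∈ S, η - (a η : ℂ) • η₁ ∈ Zs0 S := fun η hη' =>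
    sub_mem_Zs0 (mem_Zs_of_mem hη') (natCast_smul_mem_Zs (mem_Zs_of_mem hη) _)
      (by simpa using ha η hη')
  refine Exists.imp (fun τ₃ k => ⟨k.1, (k.2 _ hη).trans (by simp [a1])⟩)
    (exists_cohWith_of_values (τ := τ) (PF05.nsq_ne_zero h) h.orth
      (fun η => τ (η - (a η : ℂ) • η₁) + (a η : ℂ) • ζ₁)
      (fun ξ hξ => add_mem (h.vchar _ (m ξ hξ)).1 (vchar_nat_smul hζ _))
      (fun ξ hξ ψ hψ => ?_) fun c hc => ?_)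
  · have e1 : ip ⊤ ζ₁ ζ₁ = ip L η₁ η₁ := by rw [ip_self, ip_self, hn]
    have e2 : ip ⊤ ζ₁ (τ (ψ - (a ψ : ℂ) • η₁)) = ip L η₁ (ψ - (a ψ : ℂ) • η₁) := by
      rw [← conj_ip, hb ψ hψ, conj_ip]
    rw [ip_add_left, ip_add_right, ip_add_right, h.iso _ (m ξ hξ) _ (m ψ hψ), ip_smul_right,
      ip_smul_left, ip_smul_left, ip_smul_right, hb ξ hξ, e1, e2]
    simp only [ip_sub_left, ip_sub_right, ip_smul_left, ip_smul_right]
    ring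
  · have e1 : ∑ χ ∈ S, (c χ : ℂ) * a χ = 0 := by
      rw [Finset.sum_congr rfl (g := fun χ => (c χ : ℂ) * a χ * η₁ 1)
        (fun χ hχ => by rw [ha χ hχ, mul_assoc]), ← Finset.sum_mul] at hc
      exact (mul_eq_zero.1 hc).resolve_right n0
    simp only [map_sum, map_sub, map_smul, smul_add, smul_sub, Finset.sum_add_distrib,
      Finset.sum_sub_distrib, smul_smul, ← Finset.sum_smul, e1, zero_smul, sub_zero, add_zero]

theorem PF05.exists_X (h : Subcoherent L S τ R) {χ ξ : G → ℂ} (hχ : χ ∈ S) (hξ : ξ ∈ S)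
    (h1 : ξ ≠ χ) (h2 : ξ ≠ star χ) (hd : χ 1 = ξ 1) :
    ∃ E ⊆ R χ, (E.card : ℝ) = nsq L χ ∧ ∃ X₁ ∈ Zs (R ξ), τ (χ - ξ) = ∑ α ∈ E, α - X₁ := by
  have m1 : χ - ξ ∈ Zs0 S := sub_mem_Zs0 (mem_Zs_of_mem hχ) (mem_Zs_of_mem hξ) hd
  have m2 : ξ - χ ∈ Zs0 S := sub_mem_Zs0 (mem_Zs_of_mem hξ) (mem_Zs_of_mem hχ) hd.symm
  have h3 : χ ≠ star ξ := fun e => h2 (by rw [e, star_star])
  obtain ⟨X, hX, Y₁, hY₁, e₁, hXv, o₁, oY₁⟩ := h.split hχ (h.vchar _ m1).1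
  obtain ⟨X₁, hX₁, Y, hY, e₂, hXv₁, o₂, oY⟩ := h.split hξ hY₁
  have e₃ : τ (ξ - χ) = X₁ - (X + Y) := by
    rw [← neg_sub, map_neg, e₁, e₂]; abel
  have k1 := (h.norm_core hξ (e₃ ▸ (h.vchar _ m2).1)
    (by
      rw [← e₃, h.iso _ m2 _ (PF05.sub_star_mem h hξ)]
      exact PF05.ip_sub_sub_star h hξ (h.orth _ hξ _ hχ h1)
        (h.orth _ (h.conj_mem _ hξ) _ hχ h3.symm))
    (fun α hα => by
      rw [ip_add_left, oY α hα, PF05.Zs_orth h hχ hξ h1.symm h3 hX (mem_Zs_of_mem hα),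
        add_zero])).1
  have k2 : nsq ⊤ Y₁ = nsq ⊤ X₁ + nsq ⊤ Y := by rw [e₂, nsq_sub_of_orth o₂]
  have k3 := nsq_nonneg ⊤ Y
  obtain ⟨k4, k5, E, hE, k6⟩ := (h.norm hχ (h.orth _ hχ _ hξ h1.symm)
    (h.orth _ (h.conj_mem _ hχ) _ hξ h2.symm) (e₁ ▸ (h.vchar _ m1).1) (e₁ ▸ h.iso _ m1 _ m1)
    (e₁ ▸ h.iso _ m1 _ (PF05.sub_star_mem h hχ)) o₁ oY₁).2 (by linarith)
  have k7 : Y = 0 := eq_zero_of_nsq_top (by linarith)
  refine ⟨E, hE, ?_, X₁, hX₁, by rw [e₁, e₂, k7, k6, sub_zero]⟩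
  rw [← k4, k6, ((h.R_on χ hχ).mono hE).nsq_sum]

theorem PF05.ip_sum_sum {E F : Finset (G → ℂ)} (h : ON ⊤ F) (hE : E ⊆ F) :
    ip ⊤ (∑ α ∈ F, α) (∑ α ∈ E, α) = E.card := by
  rw [ip_sum_right, Finset.sum_congr rfl (g := fun _ => (1 : ℂ))
    fun α hα => by rw [h.ip_sum subset_rfl (hE hα), if_pos (hE hα)]]
  simp

/-- PF (5.7). -/
theorem Subcoherent.uniform_degree_coherence (h : Subcoherent L S τ R)
    (hd : ∀ χ ∈ S, ∀ ψ ∈ S, χ 1 = ψ 1) : Coherent L S τ := by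
  rcases S.eq_empty_or_nonempty with rfl | ⟨χ, hχ⟩
  · exact coherent_empty L τ
  suffices hs : ∃ E ⊆ R χ, (E.card : ℝ) = nsq L χ ∧
      ∀ ξ ∈ S, ξ ≠ χ → ξ ≠ star χ → ip ⊤ (τ (χ - ξ)) (∑ α ∈ E, α) = ip L χ χ by
    obtain ⟨E, hE, k1, k2⟩ := hs
    obtain ⟨τ₁, k3, -⟩ := h.pivot_coherence (ζ₁ := ∑ α ∈ E, α) hχ
      (Zs_le_VChar (h.R_vchar χ hχ) (PF05.sum_mem_Zs hE)) (fun η hη hne => ⟨1, by
        simpa using hd _ hη _ hχ, by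
        rw [Nat.cast_one, one_smul, ← neg_sub, map_neg, ip_neg_left, neg_one_mul, neg_inj]
        by_cases e : η = star χ
        · rw [e, h.R_sum χ hχ, PF05.ip_sum_sum (h.R_on χ hχ) hE, ip_self, ← k1]; simp
        · exact k2 η hη hne e⟩) (by rw [((h.R_on χ hχ).mono hE).nsq_sum, k1])
    exact ⟨τ₁, k3⟩
  by_cases hex : ∃ ξ ∈ S, ξ ≠ χ ∧ ξ ≠ star χ
  · obtain ⟨ξ₁, hξ₁, n1, n2⟩ := hex
    obtain ⟨E, hE, k1, X₁, hX₁, e₁⟩ := PF05.exists_X h hχ hξ₁ n1 n2 (hd _ hχ _ hξ₁)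
    have hX := PF05.sum_mem_Zs hE
    have oo : ∀ ξ ∈ S, ξ ≠ χ → ξ ≠ star χ → ∀ Y ∈ Zs (R ξ), ∀ X ∈ Zs (R χ), ip ⊤ Y X = 0 :=
      fun ξ hξ a b Y hY X hX => PF05.Zs_orth h hξ hχ a b hY hX
    have k2 : ip ⊤ (τ (χ - ξ₁)) (∑ α ∈ E, α) = ip L χ χ := by
      rw [e₁, ip_sub_left, oo _ hξ₁ n1 n2 _ hX₁ _ hX, sub_zero, ip_self, ip_self,
        ((h.R_on χ hχ).mono hE).nsq_sum, k1]
    refine ⟨E, hE, k1, fun ξ hξ n3 n4 => ?_⟩
    by_cases e1 : ξ = ξ₁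
    · rw [e1, k2]
    by_cases e2 : ξ = star ξ₁
    · have : χ - ξ = (χ - ξ₁) + (ξ₁ - star ξ₁) := by rw [e2]; abel
      rw [this, map_add, ip_add_left, k2, h.R_sum _ hξ₁,
        oo _ hξ₁ n1 n2 _ (PF05.sum_mem_Zs subset_rfl) _ hX, add_zero]
    obtain ⟨E', hE', -, X₂, hX₂, e₂⟩ := PF05.exists_X h hχ hξ n3 n4 (hd _ hχ _ hξ)
    have hX' := PF05.sum_mem_Zs hE'
    have k3 := h.iso _ (sub_mem_Zs0 (mem_Zs_of_mem hχ) (mem_Zs_of_mem hξ) (hd _ hχ _ hξ)) _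
      (sub_mem_Zs0 (mem_Zs_of_mem hχ) (mem_Zs_of_mem hξ₁) (hd _ hχ _ hξ₁))
    rw [e₁, ip_sub_right] at k3
    have k4 : ip ⊤ (τ (χ - ξ)) X₁ = 0 := by
      rw [e₂, ip_sub_left, ip_eq_zero_symm (oo _ hξ₁ n1 n2 _ hX₁ _ hX'),
        PF05.Zs_orth h hξ hξ₁ e1 e2 hX₂ hX₁, sub_zero]
    rw [k4, sub_zero] at k3
    rw [k3, ip_sub_left, ip_sub_right, ip_sub_right, h.orth _ hχ _ hξ₁ n1.symm,
      h.orth _ hξ _ hχ n3, h.orth _ hξ _ hξ₁ e1]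
    simp
  · obtain ⟨n, hn⟩ := vchar_nsq_nat (h.char χ hχ).mem_VChar
    have k1 := (h.facts hχ).2.2.2.2.2.1
    rw [hn] at k1
    have k2 : (R χ).card = 2 * n := by exact_mod_cast k1
    obtain ⟨E, hE, k3⟩ := Finset.exists_subset_card_eq (s := R χ) (n := n) (by omega)
    exact ⟨E, hE, by rw [k3, hn], fun ξ hξ n1 n2 => (hex ⟨ξ, hξ, n1, n2⟩).elim⟩

theorem Subcoherent.pair_degree_coherence (h : Subcoherent L S τ R) {φ₁ φ₂ : G → ℂ}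
    (h₁ : φ₁ ∈ S) (h₂ : φ₂ ∈ S) (hd : φ₁ 1 = φ₂ 1) :
    ∃ S₁, φ₁ ∈ S₁ ∧ φ₂ ∈ S₁ ∧ ConjSub S₁ S ∧ Coherent L S₁ τ := by
  have hS : ConjSub (S.filter fun χ => χ 1 = φ₁ 1) S := by
    refine ⟨Finset.filter_subset _ _, fun χ hχ => ?_⟩
    obtain ⟨k1, k2⟩ := Finset.mem_filter.1 hχ
    exact Finset.mem_filter.2 ⟨h.conj_mem χ k1, (h.char χ k1).star_one.trans k2⟩
  exact ⟨S.filter fun χ => χ 1 = φ₁ 1, Finset.mem_filter.2 ⟨h₁, rfl⟩,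
    Finset.mem_filter.2 ⟨h₂, hd.symm⟩, hS,
    (h.mono hS).uniform_degree_coherence fun χ hχ ψ hψ =>
      (Finset.mem_filter.1 hχ).2.trans (Finset.mem_filter.1 hψ).2.symm⟩

theorem Subcoherent.dual_coherence (h : Subcoherent L S τ R) (hc : CohWith L S τ τ₁)
    (h2 : S.card ≤ 2) : ∃ τ₂, CohWith L S τ τ₂ ∧ ∀ χ ∈ S, τ₂ χ = -τ₁ (star χ) := by
  rcases S.eq_empty_or_nonempty with rfl | ⟨χ, hχ⟩
  · exact ⟨τ₁, hc, by simp⟩
  have hχ' := h.conj_mem χ hχ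
  have hS : {χ, star χ} = S := Finset.eq_of_subset_of_card_le (conjSub_pair hχ hχ').1
    (by rwa [Finset.card_pair (h.not_real χ hχ).symm])
  have z1 := mem_Zs_of_mem hχ
  have z2 := mem_Zs_of_mem hχ'
  obtain ⟨τ₂, k1, k2, k3⟩ := PF05.pair_values h (X := -τ₁ (star χ)) (X' := -τ₁ χ) hχ
    (neg_mem (hc.vchar _ z2)) (by rw [nsq_neg, hc.nsq_eq z2, nsq_star])
    (by rw [nsq_neg, hc.nsq_eq z1])
    (by rw [ip_neg_left, ip_neg_right, hc.iso _ z2 _ z1, ip_eq_zero_symm (h.facts hχ).2.2.2.1,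
      neg_neg])
    (by rw [← hc.agree _ (PF05.sub_star_mem h hχ), map_sub]; abel)
  refine ⟨τ₂, hS ▸ k1, fun ξ hξ => ?_⟩
  rw [← hS, Finset.mem_insert, Finset.mem_singleton] at hξ
  rcases hξ with rfl | rfl
  · exact k2
  · rw [k3, star_star]

/-- PF (5.9)(a): applies to every Dade isometry (`dade_cfAut`, `DadeHyp.dade_one`) and to
induction. -/
theorem CohWith.cfAut_eq (h : CohWith L S τ τ₁) {u : ℂ →+* ℂ}
    (hτ : ∀ φ ∈ Zs0 S, τ (cfAut u φ) = cfAut u (τ φ) ∧ τ φ 1 = 0)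
    (hS : ∀ χ ∈ S, cfAut u χ ∈ S) {χ ψ : G → ℂ} (hχ : χ ∈ S) (hi : χ ∈ Irr L) (hψ : ψ ∈ S)
    (hi' : ψ ∈ Irr L) (hne : ψ ≠ χ) : cfAut u (τ₁ χ) = τ₁ (cfAut u χ) := by
  have z1 := mem_Zs_of_mem hχ
  have z2 := mem_Zs_of_mem hψ
  have z3 := mem_Zs_of_mem (hS χ hχ)
  have z4 := mem_Zs_of_mem (hS ψ hψ)
  have m1 : (dg ψ : ℂ) • χ - (dg χ : ℂ) • ψ ∈ Zs0 S :=
    sub_mem_Zs0 (natCast_smul_mem_Zs z1 _) (natCast_smul_mem_Zs z2 _)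
      (by simp [irr_one_eq hi, irr_one_eq hi', mul_comm])
  have m2 : cfAut u ((dg ψ : ℂ) • χ - (dg χ : ℂ) • ψ) ∈ Zs0 S :=
    ⟨cfAut_mem_Zs hS m1.1, by rw [cfAut_apply, m1.2, map_zero]⟩
  have m3 : χ - cfAut u χ ∈ Zs0 S := sub_mem_Zs0 z1 z3 ((irr_isChar hi).cfAut_one u).symm
  obtain ⟨e1, e2⟩ := hτ _ m1
  have e3 := (hτ _ m3).2
  rw [← h.agree _ m1] at e1 e2
  rw [← h.agree _ m2] at e1
  rw [← h.agree _ m3, map_sub, Pi.sub_apply, sub_eq_zero] at e3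
  simp only [cfAut_sub, cfAut_smul, map_natCast, map_sub, map_smul] at e1
  simp only [map_sub, map_smul, Pi.sub_apply, Pi.smul_apply, smul_eq_mul] at e2
  have da := h.dirr (hS χ hχ) (cfAut_mem_Irr u hi)
  have dc := (h.dirr hχ hi).cfAut u
  have dd := (h.dirr hψ hi').cfAut u
  have oab : ip ⊤ (τ₁ (cfAut u ψ)) (τ₁ (cfAut u χ)) = 0 := by
    rw [h.iso _ z4 _ z3]
    exact ip_irr_of_ne (cfAut_mem_Irr u hi') (cfAut_mem_Irr u hi)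
      fun e => hne (cfAut_injective u e)
  have ocd : ip ⊤ (cfAut u (τ₁ ψ)) (cfAut u (τ₁ χ)) = 0 := by
    rw [ip_cfAut_vchar' u (h.vchar _ z2) (h.vchar _ z1), h.iso _ z2 _ z1, ip_irr_of_ne hi' hi hne]
  have c1 : cfAut u (τ₁ χ) 1 = τ₁ χ 1 := by
    obtain ⟨n, hn⟩ := vchar_one_int (h.vchar _ z1)
    rw [cfAut_apply, hn, map_intCast]
  have d1 : cfAut u (τ₁ ψ) 1 = τ₁ ψ 1 := by
    obtain ⟨n, hn⟩ := vchar_one_int (h.vchar _ z2)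
    rw [cfAut_apply, hn, map_intCast]
  have p1 : (0 : ℝ) < dg ψ := by exact_mod_cast irr_dg_pos hi'
  have p2 : (0 : ℝ) < dg χ := by exact_mod_cast irr_dg_pos hi
  have k := congrArg (fun φ => ip ⊤ φ (τ₁ (cfAut u χ))) e1
  simp only [ip_sub_left, ip_smul_left, oab, da.ip_self] at k
  rcases dc.ip_cases da with e | e | e
  · exact e
  · exfalso
    have : ip ⊤ (cfAut u (τ₁ ψ)) (τ₁ (cfAut u χ)) = 0 := by
      rw [e, ip_neg_right, neg_eq_zero] at ocd; exact ocd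
    rw [this, e, ip_neg_left, da.ip_self] at k
    have k' : ((dg ψ : ℝ) : ℂ) = 0 := by push_cast; linear_combination k / 2
    exact p1.ne' (by exact_mod_cast k')
  · exfalso
    rw [e] at k
    rcases dd.ip_cases da with e' | e' | e'
    · rw [e', da.ip_self] at k
      have k' : ((dg ψ + dg χ : ℝ) : ℂ) = 0 := by push_cast; linear_combination k
      have : (dg ψ + dg χ : ℝ) = 0 := by exact_mod_cast k'
      linarith
    · rw [e', ip_neg_left, da.ip_self] at k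
      rw [e', Pi.neg_apply, ← e3] at d1
      have k' : (dg ψ : ℂ) * (2 * τ₁ χ 1) = 0 := by
        linear_combination e2 - τ₁ ψ 1 * k - (dg ψ : ℂ) * d1
      rcases mul_eq_zero.1 k' with k' | k'
      · exact p1.ne' (by exact_mod_cast k')
      · exact (h.dirr hχ hi).one_ne_zero (by linear_combination k' / 2)
    · rw [e'] at k
      have k' : ((dg ψ : ℝ) : ℂ) = 0 := by push_cast; linear_combination k
      exact p1.ne' (by exact_mod_cast k')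

/-- PF (5.9)(a) for complex conjugation. -/
theorem CohWith.star_eq {A : Set G} {D : G → Subgroup G} (hD : DadeHyp L A D)
    (h : CohWith L S (dade A D) τ₁) (hS : ∀ χ ∈ S, star χ ∈ S) {χ : G → ℂ} (hχ : χ ∈ S)
    (hi : χ ∈ Irr L) (hne : star χ ≠ χ) : star (τ₁ χ) = τ₁ (star χ) :=
  h.cfAut_eq (u := starRingEnd ℂ) (fun φ _ => ⟨dade_cfAut _ φ, hD.dade_one φ⟩) hS hχ hi
    (hS χ hχ) (star_mem_Irr hi) hne

/-- PF (5.9)(b). -/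
theorem DadeHyp.dade_irr_sub_star {A : Set G} {D : G → Subgroup G} (hD : DadeHyp L A D)
    {χ : G → ℂ} (hi : χ ∈ Irr L) (hχ : χ ∈ CFon L (insert 1 A)) :
    ∃ ψ ∈ Irr ⊤, dade A D (χ - star χ) = ψ - star ψ := by
  by_cases hne : star χ = χ
  · exact ⟨cf1 ⊤, cf1_mem_Irr _, by simp [hne]⟩
  have m1 : χ - star χ ∈ CFon L A := mem_CFon_of_insert_one (sub_mem hχ (star_mem_CFon hχ))
    (by rw [Pi.sub_apply, (irr_isChar hi).star_one, sub_self])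
  have m2 : χ - star χ ∈ VChar L :=
    sub_mem (irr_mem_VChar hi) (irr_mem_VChar (star_mem_Irr hi))
  obtain ⟨a, ha, b, hb, hab, e⟩ := vchar_norm_two (hD.vchar m1 m2) (by
    rw [nsq_eq_of_ip_eq (hD.iso m1 m1), nsq_sub_of_orth
      (ip_irr_of_ne hi (star_mem_Irr hi) (Ne.symm hne)), nsq_star, nsq_irr hi]
    norm_num) (hD.dade_one _)
  refine ⟨a, ha, ?_⟩
  have e2 := dade_star (A := A) (H := D) (χ - star χ)
  rw [star_sub, star_star, ← neg_sub, map_neg, e, star_sub] at e2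
  have e3 := congrArg (fun φ => ip ⊤ φ b) e2
  simp only [ip_neg_left, ip_sub_left, ip_irr_of_ne ha hb hab, ip_irr_self hb] at e3
  rw [e, irr_eq_of_ip_ne_zero (star_mem_Irr ha) hb fun e4 => ?_]
  rw [e4, ip_irr (star_mem_Irr hb) hb] at e3
  split_ifs at e3 <;> norm_num at e3

end Elementary

end Cfsg.Agent.FT
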