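/-
PF (5.3)(b), (5.8).
-/
import Cfsg.Agent.FT.P.PF05_3

set_option autoImplicit false

namespace Cfsg.Agent.FT

open Subgroup Cfsg Cfsg.Agent
open scoped commutatorElement ComplexConjugate

universe u

variable {G : Type u} [Group G] [Finite G]

section PrimeDade

variable {L K H W₁ W₂ W : Subgroup G} {A A₀ : Set G} {D : G → Subgroup G} {S : Finset (G → ℂ)}

namespace PF05

/-- The family `R(μ_j)` of PF (5.3)(b). -/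
noncomputable def Rmu (L W₁ W₂ W : Subgroup G) (β : G → ℂ) : Finset (G → ℂ) :=
  (irrKer W W₂).image (fun α => (delt L W₁ W₂ β : ℂ) • cycσ ⊤ W₁ W₂ (α * β)) ∪
    (irrKer W W₂).image (fun α => -((delt L W₁ W₂ β : ℂ) • cycσ ⊤ W₁ W₂ (α * star β)))

theorem mem_Rmu {β ρ : G → ℂ} (hρ : ρ ∈ Rmu L W₁ W₂ W β) :
    (∃ α ∈ irrKer W W₂, ρ = (delt L W₁ W₂ β : ℂ) • cycσ ⊤ W₁ W₂ (α * β)) ∨
      ∃ α ∈ irrKer W W₂, ρ = -((delt L W₁ W₂ β : ℂ) • cycσ ⊤ W₁ W₂ (α * star β)) := by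
  rcases Finset.mem_union.1 hρ with h | h <;> obtain ⟨α, hα, e⟩ := Finset.mem_image.1 h
  · exact Or.inl ⟨α, hα, e.symm⟩
  · exact Or.inr ⟨α, hα, e.symm⟩

theorem ip_Rmu_σ (h : CycTI ⊤ W₁ W₂ W) {β ρ α γ : G → ℂ} (hβ : β ∈ irrKer W W₁)
    (hρ : ρ ∈ Rmu L W₁ W₂ W β) (hα : α ∈ irrKer W W₂) (hγ : γ ∈ irrKer W W₁) (h1 : β ≠ γ)
    (h2 : star β ≠ γ) : ip ⊤ ρ (cycσ ⊤ W₁ W₂ (α * γ)) = 0 := by
  rcases mem_Rmu hρ with ⟨α', hα', rfl⟩ | ⟨α', hα', rfl⟩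
  · rw [ip_smul_left, h.ip_σ_mul hα' hα hβ hγ, if_neg (fun e => h1 e.2), mul_zero]
  · rw [ip_neg_left, ip_smul_left, h.ip_σ_mul hα' hα (star_mem_irrKer hβ) hγ,
      if_neg (fun e => h2 e.2), mul_zero, neg_zero]

theorem ip_Rmu_right {β ρ φ : G → ℂ} (hρ : ρ ∈ Rmu L W₁ W₂ W β)
    (h1 : ∀ α ∈ irrKer W W₂, ip ⊤ φ (cycσ ⊤ W₁ W₂ (α * β)) = 0)
    (h2 : ∀ α ∈ irrKer W W₂, ip ⊤ φ (cycσ ⊤ W₁ W₂ (α * star β)) = 0) : ip ⊤ φ ρ = 0 := by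
  rcases mem_Rmu hρ with ⟨α', hα', rfl⟩ | ⟨α', hα', rfl⟩
  · rw [ip_smul_right, h1 _ hα', mul_zero]
  · rw [ip_neg_right, ip_smul_right, h2 _ hα', mul_zero, neg_zero]

theorem Rmu_dirr (h : CycTI ⊤ W₁ W₂ W) {β ρ : G → ℂ} (hβ : β ∈ irrKer W W₁)
    (hρ : ρ ∈ Rmu L W₁ W₂ W β) : Dirr ⊤ ρ := by
  rcases mem_Rmu hρ with ⟨α', hα', rfl⟩ | ⟨α', hα', rfl⟩
  · exact dirr_sign_smul (h.σ_dirr (h.dprod.mul_mem_Irr hα' hβ)) (PrimeTI.delt_cases _ _ _ _)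
  · exact (dirr_sign_smul (h.σ_dirr (h.dprod.mul_mem_Irr hα' (star_mem_irrKer hβ)))
      (PrimeTI.delt_cases _ _ _ _)).neg

theorem Rmu_on (h : CycTI ⊤ W₁ W₂ W) {β : G → ℂ} (hβ : β ∈ irrKer W W₁) (hne : star β ≠ β) :
    ON ⊤ (Rmu L W₁ W₂ W β) := by
  have hβ' := star_mem_irrKer hβ
  refine ⟨fun ρ hρ => (Rmu_dirr h hβ hρ).ip_self, fun ρ hρ ρ' hρ' hn => ?_⟩
  rcases mem_Rmu hρ with ⟨α, hα, rfl⟩ | ⟨α, hα, rfl⟩ <;>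
    rcases mem_Rmu hρ' with ⟨α', hα', rfl⟩ | ⟨α', hα', rfl⟩
  · rw [ip_smul_left, ip_smul_right, h.ip_σ_mul hα hα' hβ hβ, if_neg (fun e => hn (by rw [e.1]))]
    simp
  · rw [ip_neg_right, ip_smul_left, ip_smul_right, h.ip_σ_mul hα hα' hβ hβ',
      if_neg (fun e => hne e.2.symm)]
    simp
  · rw [ip_neg_left, ip_smul_left, ip_smul_right, h.ip_σ_mul hα hα' hβ' hβ,
      if_neg (fun e => hne e.2)]
    simp
  · rw [ip_neg_left, ip_neg_right, ip_smul_left, ip_smul_right, h.ip_σ_mul hα hα' hβ' hβ',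
      if_neg (fun e => hn (by rw [e.1]))]
    simp

theorem Rmu_sum (h : CycTI ⊤ W₁ W₂ W) {β : G → ℂ} (hβ : β ∈ irrKer W W₁) (hne : star β ≠ β) :
    ∑ ρ ∈ Rmu L W₁ W₂ W β, ρ =
      (delt L W₁ W₂ β : ℂ) • (etaCol W₁ W₂ β - etaCol W₁ W₂ (star β)) := by
  have hβ' := star_mem_irrKer hβ
  have hδ := PF04.delt_ne_zero L W₁ W₂ β
  have inj : ∀ γ ∈ irrKer W W₁, ∀ α ∈ irrKer W W₂, ∀ α' ∈ irrKer W W₂,
      (delt L W₁ W₂ β : ℂ) • cycσ ⊤ W₁ W₂ (α * γ) = (delt L W₁ W₂ β : ℂ) • cycσ ⊤ W₁ W₂ (α' * γ) →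
      α = α' := by
    intro γ hγ α hα α' hα' e
    have e' := h.on_image_σ.2 (h.dprod.mul_mem_Irr hα hγ) (h.dprod.mul_mem_Irr hα' hγ)
      (smul_right_injective _ hδ e)
    exact ((h.dprod.mul_eq_mul_iff hα hα' hγ hγ).1 e').1
  rw [Rmu, Finset.sum_union, Finset.sum_image (fun α hα α' hα' e => inj β hβ α hα α' hα' e),
    Finset.sum_image (fun α hα α' hα' e => inj _ hβ' α hα α' hα' (neg_injective e)),
    h.etaCol_eq, h.etaCol_eq, smul_sub, Finset.smul_sum, Finset.smul_sum, Finset.sum_neg_distrib,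
    sub_eq_add_neg]
  rw [Finset.disjoint_left]
  intro ρ h1 h2
  obtain ⟨α, hα, e⟩ := Finset.mem_image.1 h1
  obtain ⟨α', hα', e'⟩ := Finset.mem_image.1 h2
  have k := congrArg (fun φ => ip ⊤ φ (cycσ ⊤ W₁ W₂ (α * β))) (e.trans e'.symm)
  simp only [ip_neg_left, ip_smul_left, h.ip_σ_mul hα hα hβ hβ, h.ip_σ_mul hα' hα hβ' hβ, hne,
    and_false, and_self, if_true, if_false, mul_zero, neg_zero, mul_one] at k
  exact hδ k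

theorem muR_facts (h : PrDade L K H A A₀ D W₁ W₂ W) {β : G → ℂ} (hβ : β ∈ irrKer W W₁)
    (hr : star (muR L W₁ W₂ β) ≠ muR L W₁ W₂ β) :
    star β ≠ β ∧ β ≠ cf1 W ∧ star β ≠ cf1 W ∧ FT.dade A₀ D (muR L W₁ W₂ β - star (muR L W₁ W₂ β)) =
      (delt L W₁ W₂ β : ℂ) • (etaCol W₁ W₂ β - etaCol W₁ W₂ (star β)) := by
  obtain ⟨-, k2, k3, k4⟩ := h.primeTI.star_facts hβ
  have h1 : star β ≠ β := fun e => hr (by rw [← k2, e])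
  have h2 : β ≠ cf1 W := fun e => h1 (by rw [e, star_cf1])
  have h3 := (k4 h2).2.1
  refine ⟨h1, h2, h3, ?_⟩
  rw [← k2]
  refine (h.sub_mu2 (PF04.one2 h.primeTI) hβ h2 (star_mem_irrKer hβ) h3 ?_).2.2
  rw [k3 β (irrKer_subset _ _ hβ),
    (irr_isChar (h.primeTI.mu2_mem_Irr (irrKer_subset _ _ hβ))).star_one]

end PF05

open PF05

/-- PF (5.3)(b). -/
theorem PrDade.subcoherent (h : PrDade L K H A A₀ D W₁ W₂ W) (hS : ConjSub S (seqIndD K L H ⊥))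
    (hr : ∀ χ ∈ S, star χ ≠ χ) :
    ∃ R, Subcoherent L S (FT.dade A₀ D) R ∧
      (∀ φ ∈ S, φ ∈ Irr L → ∀ ω ∈ Irr W, ∀ α ∈ R φ, ip ⊤ α (cycσ ⊤ W₁ W₂ ω) = 0) ∧
      ∀ β ∈ irrKer W W₁, R (muR L W₁ W₂ β) =
        (irrKer W W₂).image (fun α => (delt L W₁ W₂ β : ℂ) • cycσ ⊤ W₁ W₂ (α * β)) ∪
        (irrKer W W₂).image (fun α => -((delt L W₁ W₂ β : ℂ) • cycσ ⊤ W₁ W₂ (α * star β))) := by
  classical
  have hp := h.primeTI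
  have hc := h.cycTI
  have hK := hp.basic.1
  have hT : S ⊆ seqIndT K L := hS.1.trans (seqIndD_subset_T K L H ⊥)
  have hi : ∀ φ ∈ Zs0 S, ∀ ψ ∈ Zs0 S, ip ⊤ (FT.dade A₀ D φ) (FT.dade A₀ D ψ) = ip L φ ψ :=
    fun φ hφ ψ hψ => h.dade.iso (h.Zs0_on hS.1 hφ).2.1 (h.Zs0_on hS.1 hψ).2.1
  have hv : ∀ φ ∈ Zs0 S, FT.dade A₀ D φ ∈ VChar ⊤ ∧ FT.dade A₀ D φ 1 = 0 :=
    fun φ hφ => ⟨(h.Zs0_on hS.1 hφ).2.2.2.1, h.dade.dade_one φ⟩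
  set S₀ := S.filter fun φ => φ ∈ Irr L with hS₀
  have sub0 : S₀ ⊆ S := Finset.filter_subset _ _
  obtain ⟨R₀, h₀⟩ := irr_subcoherent (L := L) (S := S₀) (τ := FT.dade A₀ D)
    ⟨fun φ hφ => (Finset.mem_filter.1 hφ).2, fun φ hφ => Finset.mem_filter.2
      ⟨hS.2 φ (sub0 hφ), star_mem_Irr (Finset.mem_filter.1 hφ).2⟩⟩ (fun φ hφ => hr φ (sub0 hφ))
    (fun φ hφ ψ hψ => hi φ (Zs0_mono sub0 hφ) ψ (Zs0_mono sub0 hψ))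
    fun φ hφ => hv φ (Zs0_mono sub0 hφ)
  set R : (G → ℂ) → Finset (G → ℂ) := fun φ =>
    if e : ∃ β ∈ irrKer W W₁, φ = muR L W₁ W₂ β then Rmu L W₁ W₂ W e.choose else R₀ φ with hR
  have r1 : ∀ β ∈ irrKer W W₁, R (muR L W₁ W₂ β) = Rmu L W₁ W₂ W β := by
    intro β hβ
    have e : ∃ β' ∈ irrKer W W₁, muR L W₁ W₂ β = muR L W₁ W₂ β' := ⟨β, hβ, rfl⟩
    rw [hR]
    simp only [dif_pos e]
    rw [← hp.res_mu2_injOn.2 hβ e.choose_spec.1 e.choose_spec.2]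
  have r2 : ∀ φ ∈ Irr L, R φ = R₀ φ := by
    intro φ hφ
    refine dif_neg ?_
    rintro ⟨β, hβ, rfl⟩
    exact (hp.muR_facts hβ).2.1 hφ
  have cases : ∀ φ ∈ S, (∃ β ∈ irrKer W W₁, φ = muR L W₁ W₂ β) ∨ (φ ∈ S₀ ∧ R φ = R₀ φ) :=
    fun φ hφ => (hp.seqIndT_cases (hT hφ)).imp_right fun e =>
      ⟨Finset.mem_filter.2 ⟨hφ, e.1⟩, r2 φ e.1⟩
  have oσ : ∀ φ ∈ S₀, ∀ ω ∈ Irr W, ∀ α ∈ R₀ φ, ip ⊤ α (cycσ ⊤ W₁ W₂ ω) = 0 := by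
    intro φ hφ ω hω α hα
    obtain ⟨-, -, -, k1, k2, -⟩ := h₀.facts hφ
    obtain ⟨-, -, -, k3, k4⟩ := h.Zs0_on hS.1 (Zs0_mono sub0 k2)
    have k5 := hc.NC_le_nsq k3
    rw [nsq_eq_of_ip_eq (h₀.iso _ k2 _ k2), nsq_sub_of_orth k1, nsq_star,
      nsq_irr (Finset.mem_filter.1 hφ).2] at k5
    have k6 : cycNC ⊤ W₁ W₂ (FT.dade A₀ D (φ - star φ)) ≤ 2 := by
      exact_mod_cast k5.trans_eq (by norm_num : (1 : ℝ) + 1 = (2 : ℕ))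
    have k7 := hc.NC_min (vchar_mem_CF k3) k4
      (by have := hc.basic.2.2.1; have := hc.basic.2.2.2.1; omega) ω hω
    obtain ⟨k8, k9⟩ := (h₀.mem_R_iff hφ).1 hα
    rcases k8.ip_cases (hc.σ_dirr hω) with rfl | rfl | e
    · rw [k7] at k9; norm_num at k9
    · rw [ip_neg_right, k7] at k9; norm_num at k9
    · exact e
  refine ⟨R, ⟨fun φ hφ => (seqIndT_facts hK (hT hφ)).1, hr, hS.2, hi, hv,
    fun φ hφ ψ hψ => seqIndT_orth hK (hT hφ) (hT hψ), fun φ hφ => ?_, fun φ hφ => ?_,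
    fun φ hφ => ?_, fun ξ hξ φ hφ o1 o2 α hα ρ hρ => ?_⟩, fun φ hφ hφ' => ?_, r1⟩
  · rcases cases φ hφ with ⟨β, hβ, rfl⟩ | ⟨k1, k2⟩
    · rw [r1 β hβ]; exact fun α hα => (Rmu_dirr hc hβ hα).mem_VChar
    · rw [k2]; exact h₀.R_vchar φ k1
  · rcases cases φ hφ with ⟨β, hβ, rfl⟩ | ⟨k1, k2⟩
    · rw [r1 β hβ]; exact Rmu_on hc hβ (muR_facts h hβ (hr _ hφ)).1
    · rw [k2]; exact h₀.R_on φ k1
  · rcases cases φ hφ with ⟨β, hβ, rfl⟩ | ⟨k1, k2⟩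
    · rw [r1 β hβ, Rmu_sum hc hβ (muR_facts h hβ (hr _ hφ)).1, (muR_facts h hβ (hr _ hφ)).2.2.2]
    · rw [k2]; exact h₀.R_sum φ k1
  · rcases cases φ hφ with ⟨β, hβ, rfl⟩ | ⟨k1, k2⟩ <;>
      rcases cases ξ hξ with ⟨γ, hγ, rfl⟩ | ⟨k3, k4⟩
    · rw [r1 β hβ] at hα
      rw [r1 γ hγ] at hρ
      have w0 : (𝐨(W₁) : ℂ) ≠ 0 := card_ne_zero_C _
      have hγ' := star_mem_irrKer hγ
      rw [← (hp.star_facts hγ).2.1] at o2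
      have n1 : β ≠ γ := fun e => w0 (by rw [← o1, PF04.ip_muR_muR hp hβ hγ, if_pos e])
      have n2 : β ≠ star γ := fun e => w0 (by rw [← o2, PF04.ip_muR_muR hp hβ hγ', if_pos e])
      exact ip_Rmu_right hρ
        (fun a ha => ip_Rmu_σ hc hβ hα ha hγ n1 fun e => n2 (by rw [← e, star_star]))
        (fun a ha => ip_Rmu_σ hc hβ hα ha hγ' n2 fun e => n1 (star_injective e))
    · rw [r1 β hβ] at hα
      rw [k4] at hρ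
      exact ip_eq_zero_symm (ip_Rmu_right hα
        (fun a ha => oσ ξ k3 _ (hc.dprod.mul_mem_Irr ha hβ) ρ hρ)
        fun a ha => oσ ξ k3 _ (hc.dprod.mul_mem_Irr ha (star_mem_irrKer hβ)) ρ hρ)
    · rw [r1 γ hγ] at hρ
      rw [k2] at hα
      exact ip_Rmu_right hρ (fun a ha => oσ φ k1 _ (hc.dprod.mul_mem_Irr ha hγ) α hα)
        fun a ha => oσ φ k1 _ (hc.dprod.mul_mem_Irr ha (star_mem_irrKer hγ)) α hα
    · rw [k2] at hα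
      rw [k4] at hρ
      exact h₀.R_orth ξ k3 φ k1 o1 o2 α hα ρ hρ
  · rw [r2 φ hφ']
    exact oσ φ (Finset.mem_filter.2 ⟨hφ, hφ'⟩)

/-- A consequence of PF (5.3)(b) and (5.5). -/
theorem PrDade.coherent_ortho_σ (h : PrDade L K H A A₀ D W₁ W₂ W)
    (hS : ConjSub S (seqIndD K L H ⊥)) (hr : ∀ χ ∈ S, star χ ≠ χ) {τ₁ : (G → ℂ) →ₗ[ℂ] (G → ℂ)}
    (hc : CohWith L S (FT.dade A₀ D) τ₁) {χ : G → ℂ} (hχ : χ ∈ S) (hi : χ ∈ Irr L) {ω : G → ℂ}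
    (hω : ω ∈ Irr W) : ip ⊤ (τ₁ χ) (cycσ ⊤ W₁ W₂ ω) = 0 := by
  obtain ⟨R, h1, h2, -⟩ := h.subcoherent hS hr
  obtain ⟨E, hE, e⟩ := h1.coherent_sum ⟨subset_rfl, hS.2⟩ hc hχ
  rw [e, ip_sum_left]
  exact Finset.sum_eq_zero fun α hα => h2 χ hχ hi ω hω α (hE hα)

/-- PF (5.8). -/
theorem PrDade.coherent_muR (h : PrDade L K H A A₀ D W₁ W₂ W) (hS : ConjSub S (seqIndD K L H ⊥))
    (hr : ∀ χ ∈ S, star χ ≠ χ) (hi : ∃ χ ∈ S, χ ∈ Irr L) {γ : G → ℂ} (hγ : γ ∈ irrKer W W₁)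
    (hγS : muR L W₁ W₂ γ ∈ S) {τ₁ : (G → ℂ) →ₗ[ℂ] (G → ℂ)} (hc : CohWith L S (FT.dade A₀ D) τ₁) :
    τ₁ (muR L W₁ W₂ γ) = (delt L W₁ W₂ γ : ℂ) • etaCol W₁ W₂ γ ∨
      (τ₁ (muR L W₁ W₂ γ) = -((delt L W₁ W₂ γ : ℂ) • etaCol W₁ W₂ (star γ)) ∧
        ∀ β ∈ irrKer W W₁, muR L W₁ W₂ β ∈ S → muR L W₁ W₂ β 1 = muR L W₁ W₂ γ 1 →
          β = γ ∨ β = star γ) := by
  obtain ⟨R, h1, -, h3⟩ := h.subcoherent hS hr
  obtain ⟨ζ, hζ, hζi⟩ := hi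
  have hp := h.primeTI
  have hσ := h.cycTI
  have hγ' := star_mem_irrKer hγ
  obtain ⟨n1, n2, n3, eγ⟩ := muR_facts h hγ (hr _ hγS)
  set φ := τ₁ (muR L W₁ W₂ γ) with hφ
  have z1 := mem_Zs_of_mem hγS
  have z2 := mem_Zs_of_mem hζ
  have hv : φ ∈ VChar ⊤ := hc.vchar _ z1
  have w0 : (0 : ℝ) < 𝐨(W₁) := card_pos_R _
  have nφ : nsq ⊤ φ = 𝐨(W₁) := by rw [hc.nsq_eq z1, (hp.muR_facts hγ).2.2.1]
  -- `φ` vanishes on `V`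
  have hV : ∀ x ∈ hatSet W₁ W₂, φ x = 0 := by
    intro x hx
    have m1 : (dg ζ : ℂ) • muR L W₁ W₂ γ - (dg (muR L W₁ W₂ γ) : ℂ) • ζ ∈ Zs0 S :=
      sub_mem_Zs0 (natCast_smul_mem_Zs z1 _) (natCast_smul_mem_Zs z2 _)
        (by simp [(h1.char _ hγS).one_eq, (h1.char _ hζ).one_eq, mul_comm])
    have k1 := (h.Zs0_on hS.1 m1).2.2.2.2 x hx
    have k2 := hσ.vanish_of_orth (vchar_mem_CF (hc.vchar _ z2))
      (fun ω hω => h.coherent_ortho_σ hS hr hc hζ hζi hω) x hx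
    rw [← hc.agree _ m1, map_sub, map_smul, map_smul, Pi.sub_apply, Pi.smul_apply, Pi.smul_apply,
      k2, smul_zero, sub_zero, smul_eq_mul] at k1
    exact (mul_eq_zero.1 k1).resolve_left (by exact_mod_cast (irr_dg_pos hζi).ne')
  obtain ⟨E, hE, e⟩ := h1.coherent_sum ⟨subset_rfl, hS.2⟩ hc hγS
  rw [h3 γ hγ] at hE
  have o1 : ∀ α ∈ irrKer W W₂, ip ⊤ φ (cycσ ⊤ W₁ W₂ (α * cf1 W)) = 0 := by
    intro α hα
    rw [hφ, e, ip_sum_left]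
    exact Finset.sum_eq_zero fun ρ hρ => ip_Rmu_σ hσ hγ (hE hρ) hα (PF04.one1 hp) n2 n3
  have col : ∀ β ∈ irrKer W W₁, ∃ n : ℤ, ip ⊤ φ (etaCol W₁ W₂ β) = n * 𝐨(W₁) := by
    intro β hβ
    obtain ⟨n, hn⟩ := vchar_ip_int hv
      (hσ.σ_dirr (hσ.dprod.mul_mem_Irr (PF04.one2 hp) hβ)).mem_VChar
    refine ⟨n, ?_⟩
    rw [hσ.etaCol_eq, ip_sum_right, Finset.sum_congr rfl (g := fun _ => (n : ℂ)), Finset.sum_const,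
      PF04.card2 hp, nsmul_eq_mul, mul_comm]
    intro α hα
    have := hσ.ip_exchange (vchar_mem_CF hv) hV hα (PF04.one2 hp) hβ (PF04.one1 hp)
    rwa [o1 α hα, o1 _ (PF04.one2 hp), add_zero, zero_add, hn] at this
  obtain ⟨x, hx⟩ := col γ hγ
  obtain ⟨y, hy⟩ := col _ hγ'
  have ee : ∀ β ∈ irrKer W W₁, ∀ β' ∈ irrKer W W₁,
      ip ⊤ (etaCol W₁ W₂ β) (etaCol W₁ W₂ β') = if β = β' then (𝐨(W₁) : ℂ) else 0 :=
    fun β hβ β' hβ' => (hσ.ip_etaCol (PF04.one2 hp) hβ hβ').2.1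
  have k1 : delt L W₁ W₂ γ * (x - y) = 1 := by
    have m1 := PF05.sub_star_mem h1 hγS
    have := hc.iso _ z1 _ m1.1
    rw [hc.agree _ m1, eγ, ← hφ, ip_smul_right, ip_sub_right, hx, hy, ip_sub_right,
      (h1.facts hγS).2.2.2.1, PF04.ip_muR_muR hp hγ hγ, if_pos rfl, map_intCast] at this
    have k : ((delt L W₁ W₂ γ * (x - y) : ℤ) : ℂ) * 𝐨(W₁) = (1 : ℤ) * 𝐨(W₁) := by
      push_cast; linear_combination this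
    exact_mod_cast mul_right_cancel₀ (card_ne_zero_C W₁) k
  set ψ := φ - ((x : ℂ) • etaCol W₁ W₂ γ + (y : ℂ) • etaCol W₁ W₂ (star γ)) with hψ
  have k2 : nsq ⊤ ψ = 𝐨(W₁) * (1 - ((x ^ 2 + y ^ 2 : ℤ) : ℝ)) := by
    have e1 : nsq ⊤ (etaCol W₁ W₂ γ) = 𝐨(W₁) := nsq_eq_of_ip (by rw [ee _ hγ _ hγ]; simp)
    have e2 : nsq ⊤ (etaCol W₁ W₂ (star γ)) = 𝐨(W₁) :=
      nsq_eq_of_ip (by rw [ee _ hγ' _ hγ']; simp)
    rw [hψ, nsq_sub, nφ, nsq_add_of_orth (by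
      rw [ip_smul_left, ip_smul_right, ee _ hγ _ hγ', if_neg n1.symm]; simp), nsq_int_smul,
      nsq_int_smul, e1, e2, ip_add_right, ip_smul_right, ip_smul_right, hx, hy, map_intCast,
      map_intCast]
    simp
    ring
  have k3 : x ^ 2 + y ^ 2 ≤ 1 := by
    have := nsq_nonneg ⊤ ψ
    rw [k2] at this
    have := (mul_nonneg_iff_of_pos_left w0).1 this
    exact_mod_cast sub_nonneg.1 this
  have k4 : (x = delt L W₁ W₂ γ ∧ y = 0) ∨ (x = 0 ∧ y = -delt L W₁ W₂ γ) := by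
    have hx1 : -1 ≤ x ∧ x ≤ 1 := by constructor <;> nlinarith
    have hy1 : -1 ≤ y ∧ y ≤ 1 := by constructor <;> nlinarith
    obtain ⟨a1, a2⟩ := hx1
    obtain ⟨b1, b2⟩ := hy1
    rcases PrimeTI.delt_cases L W₁ W₂ γ with e | e <;> rw [e] at k1 ⊢ <;>
      interval_cases x <;> interval_cases y <;> simp_all
  have k5 : x ^ 2 + y ^ 2 = 1 := by
    rcases k4 with ⟨a, b⟩ | ⟨a, b⟩ <;> rcases PrimeTI.delt_cases L W₁ W₂ γ with e | e <;>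
      simp [a, b, e]
  rw [k5] at k2
  have k6 : φ = (x : ℂ) • etaCol W₁ W₂ γ + (y : ℂ) • etaCol W₁ W₂ (star γ) :=
    sub_eq_zero.1 (eq_zero_of_nsq_top (by simpa using k2))
  rcases k4 with ⟨a, b⟩ | ⟨a, b⟩
  · exact Or.inl (by rw [k6, a, b]; simp)
  have k7 : φ = -((delt L W₁ W₂ γ : ℂ) • etaCol W₁ W₂ (star γ)) := by rw [k6, a, b]; simp
  refine Or.inr ⟨k7, fun β hβ hβS hd => ?_⟩
  by_contra hn
  obtain ⟨n4, n5⟩ := not_or.1 hn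
  have z3 := mem_Zs_of_mem hβS
  have m1 := sub_mem_Zs0 z3 z1 hd
  have hd' : mu2 L W₁ W₂ β 1 = mu2 L W₁ W₂ γ 1 := by
    rw [(hp.res_mu2 hβ).2.2.2.1, (hp.res_mu2 hγ).2.2.2.1] at hd
    simpa [(Nat.card_pos (α := W₁)).ne'] using hd
  have k8 := hc.iso _ m1.1 _ z1
  rw [hc.agree _ m1, (h.sub_mu2 (PF04.one2 hp) hβ (muR_facts h hβ (hr _ hβS)).2.1 hγ n2 hd').2.2,
    ← hφ, k7, ip_neg_right, ip_smul_left, ip_smul_right, ip_sub_left, ee _ hβ _ hγ', ee _ hγ _ hγ',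
    if_neg n5, if_neg n1.symm, ip_sub_left, PF04.ip_muR_muR hp hβ hγ, PF04.ip_muR_muR hp hγ hγ,
    if_neg n4, if_pos rfl] at k8
  exact card_ne_zero_C W₁ (by linear_combination k8)

end PrimeDade

end Cfsg.Agent.FT
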