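/-
PF section 6, first part: (6.2) to (6.6).
-/
import Cfsg.Agent.FT.PF05
import Cfsg.Agent.H3.FTAux

set_option autoImplicit false

namespace Cfsg.Agent.FT

open Subgroup Cfsg Cfsg.Agent
open scoped commutatorElement

universe u

variable {G : Type u} [Group G] [Finite G]

namespace PF06

/-! ### Group theory -/

theorem der_sup_lt {K M : Subgroup G} (hs : Group.IsSolvable K) (hM : M < K) (hn : K ≤ 𝐍(M)) :
    ⁅K, K⁆ ⊔ M < K := by
  refine lt_of_le_of_ne (sup_le (der_le K) hM.le) fun e => hM.not_ge ?_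
  haveI : (M.subgroupOf K).Normal := H1.normal_subgroupOf_of_le hn
  rw [← H1.bar_eq_bot_iff (Y := K) le_rfl]
  by_contra hne
  have h1 : H1.bar K M K ≤ ⁅H1.bar K M K, H1.bar K M K⁆ := by
    rw [← H1.bar_commutator le_rfl le_rfl]
    exact (H1.bar_le_bar_iff hM.le le_rfl (der_le K)).2 e.ge
  haveI := H1.isSolvable_bar (Y := K) (N := M) hs
  exact (Group.IsSolvable.commutator_lt_of_ne_bot hne).not_ge h1

omit [Finite G] in
theorem lcs_le (K : Subgroup G) (n : ℕ) : K.lowerCentralSeries n ≤ K :=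
  K.lowerCentralSeries_antitone (Nat.zero_le n)

omit [Finite G] in
theorem le_of_le_comm_sup {H M A B : Subgroup G} (hnil : NilMod H M) (hMB : M ≤ B) (hBH : B ≤ H)
    (hA : A ≤ H) (hB : H ≤ 𝐍(B)) (h : A ≤ ⁅A, H⁆ ⊔ B) : A ≤ B := by
  have key : ∀ n, A ≤ H.lowerCentralSeries n ⊔ B := by
    intro n
    induction n with
    | zero => exact hA.trans le_sup_left
    | succ n ih =>
      refine h.trans (sup_le ?_ le_sup_right)
      have hn : H ≤ 𝐍(H.lowerCentralSeries (n + 1) ⊔ B) :=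
        H1.le_normalizer_sup (H.self_le_normalizer_lowerCentralSeries _) hB
      rw [commutator_comm]
      refine (commutator_mono le_rfl ih).trans
        (comm_sup_le ((lcs_le H n).trans hn) (hBH.trans hn) ?_ ?_)
      · rw [commutator_comm]; exact le_sup_left
      · exact (comm_le_right_iff.2 hB).trans le_sup_right
  obtain ⟨n, hn⟩ := hnil
  exact (key n).trans (sup_le (hn.trans hMB) le_rfl)

omit [Finite G] in
theorem le_of_le_der_sup {K M Y : Subgroup G} (hnil : NilMod K M) (hMY : M ≤ Y) (hY : Y ≤ K)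
    (h : K ≤ ⁅K, K⁆ ⊔ Y) : K ≤ Y := by
  have key : ∀ n, K ≤ K.lowerCentralSeries n ⊔ Y := by
    intro n
    induction n with
    | zero => exact le_sup_left
    | succ n ih =>
      refine h.trans (sup_le ?_ le_sup_right)
      have h1 : ⁅K.lowerCentralSeries n, K⁆ ≤ K.lowerCentralSeries (n + 1) ⊔ Y := le_sup_left
      refine (commutator_mono ih ih).trans (der_sup_le ?_ ?_ ?_ ?_ ?_)
      · rw [← comm_le_right_iff]
        exact (commutator_mono le_rfl (sup_le (lcs_le K _) hY)).trans h1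
      · exact H1.le_normalizer_sup (hY.trans (K.self_le_normalizer_lowerCentralSeries _))
          (le_norm_self Y)
      · exact (commutator_mono le_rfl (lcs_le K _)).trans h1
      · exact (commutator_mono le_rfl hY).trans h1
      · exact (der_le Y).trans le_sup_right
  obtain ⟨n, hn⟩ := hnil
  exact (key n).trans (sup_le (hn.trans hMY) le_rfl)

theorem frob_dvd {L K N X : Subgroup G} (h : FrobKerMod L K N) (hN : N ≤ X) (hX : X ≤ K)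
    (hn : L ≤ 𝐍(X)) : K.relIndex L ∣ N.relIndex X - 1 := by
  haveI : (N.subgroupOf L).Normal := H1.normal_subgroupOf_of_le h.normN
  have hF := (frobKerMod_iff_bar (Y := L) le_rfl h.normN h.ltN.le h.ltK.le).1 h
  obtain ⟨R, hR, hKR⟩ := hF.exists_frob
  have h1 := (hR.reg.mono (H1.bar_mono hX) le_rfl).card_dvd
    ((le_sup_right.trans hKR.le).trans (H1.bar_le_normalizer hn))
  rw [H1.card_bar (hX.trans h.ltK.le)] at h1
  have h2 := hR.sdProd.relIndex_left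
  rw [hKR, H1.relIndex_bar (h.ltN.le.trans h.ltK.le) h.ltK.le le_rfl, sup_eq_left.2 h.ltN.le,
    sup_eq_left.2 (h.ltN.le.trans h.ltK.le)] at h2
  rwa [h2]

theorem two_mul_lt {e x : ℕ} (he : Odd e) (hx : Odd x) (h1 : 1 < x) (h : e ∣ x - 1) :
    2 * e < x := by
  obtain ⟨k, hk⟩ := h
  have h2 : Even (e * k) := by
    rw [← hk]; exact hx.tsub_odd odd_one
  have h3 : Even k := (Nat.even_mul.1 h2).resolve_left (Nat.not_even_iff_odd.2 he)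
  obtain ⟨j, rfl⟩ := h3
  rcases Nat.eq_zero_or_pos j with rfl | hj
  · simp at hk; omega
  · have : e * 1 ≤ e * j := Nat.mul_le_mul_left e hj
    have h4 : e * (j + j) = e * j + e * j := by ring
    omega

theorem dvd_sub_one_of_mul {e a b : ℕ} (ha : 0 < a) (hb : 0 < b) (h1 : e ∣ a - 1)
    (h2 : e ∣ a * b - 1) : e ∣ b - 1 := by
  obtain ⟨a, rfl⟩ := Nat.exists_eq_add_of_lt ha
  obtain ⟨b, rfl⟩ := Nat.exists_eq_add_of_lt hb
  have e1 : (0 + a + 1) * (0 + b + 1) - 1 = a * (b + 1) + b := by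
    rw [Nat.sub_eq_iff_eq_add (Nat.one_le_iff_ne_zero.2 (by positivity))]; ring
  rw [e1] at h2
  simp only [zero_add, Nat.add_sub_cancel] at h1 ⊢
  exact (Nat.dvd_add_right (h1.mul_right _)).1 h2

theorem relIndex_pos (H K : Subgroup G) : 0 < H.relIndex K :=
  Nat.pos_of_ne_zero (CH1.relIndex_ne_zero' H K)

theorem one_lt_relIndex {H K : Subgroup G} (h : ¬ K ≤ H) : 1 < H.relIndex K := by
  have := relIndex_pos H K
  have h1 : H.relIndex K ≠ 1 := fun e => h (relIndex_eq_one.1 e)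
  omega

omit [Finite G] in
theorem odd_relIndex {L K : Subgroup G} (ho : Odd 𝐨(L)) (hK : K ≤ L) (H : Subgroup G) :
    Odd (H.relIndex K) :=
  ho.of_dvd_nat ((relIndex_dvd_card' H K).trans (card_dvd_of_le hK))

/-- The lower bounds for the sections of an odd Frobenius quotient. -/
theorem frob_lt {L K N X Y : Subgroup G} (h : FrobKerMod L K N) (ho : Odd 𝐨(L)) (hN : N ≤ X)
    (hXY : X < Y) (hY : Y ≤ K) (hnX : L ≤ 𝐍(X)) (hnY : L ≤ 𝐍(Y)) :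
    K.relIndex L ∣ X.relIndex Y - 1 ∧ 2 * K.relIndex L < X.relIndex Y := by
  have h1 := frob_dvd h hN (hXY.le.trans hY) hnX
  have h2 := frob_dvd h (hN.trans hXY.le) hY hnY
  rw [← relIndex_mul_relIndex N X Y hN hXY.le] at h2
  have h3 := dvd_sub_one_of_mul (relIndex_pos _ _) (relIndex_pos _ _) h1 h2
  exact ⟨h3, two_mul_lt (odd_relIndex ho le_rfl K) (odd_relIndex ho (hY.trans h.ltK.le) X)
    (one_lt_relIndex hXY.not_ge) h3⟩

/-- A non-abelian `p`-group has abelianization of order at least `p ^ 2`. -/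
theorem sq_le_relIndex {K M : Subgroup G} {p n : ℕ} (hp : p.Prime) (hM : M ⊲ K)
    (hnil : NilMod K M) (hi : M.relIndex K = p ^ n) (hna : ¬ ⁅K, K⁆ ≤ M) :
    p ^ 2 ≤ (⁅K, K⁆ ⊔ M).relIndex K := by
  have hle : ⁅K, K⁆ ⊔ M ≤ K := sup_le (der_le K) hM.1
  have hd : (⁅K, K⁆ ⊔ M).relIndex K ∣ p ^ n := hi ▸ relIndex_dvd_of_le_left K le_sup_right
  obtain ⟨k, -, hk⟩ := (Nat.dvd_prime_pow hp).1 hd
  rw [hk]
  refine Nat.pow_le_pow_right hp.pos ?_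
  by_contra hlt
  have hcyc : CycMod K M := by
    by_cases h0 : K ≤ ⁅K, K⁆ ⊔ M
    · exact ⟨1, one_mem _, (le_of_le_der_sup hnil le_rfl hM.1 h0).trans le_sup_right⟩
    have h1 := one_lt_relIndex h0
    obtain rfl : k = 1 := by
      rcases Nat.eq_zero_or_pos k with rfl | h2
      · rw [hk] at h1; simp at h1
      · omega
    obtain ⟨x, hx, hx'⟩ := SetLike.not_le_iff_exists.1 h0
    refine ⟨x, hx, le_of_le_der_sup hnil le_sup_right (sup_le (zpowers_le.2 hx) hM.1) ?_⟩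
    rcases CH2.eq_or_eq_of_prime (N := ⁅K, K⁆ ⊔ M) (K := zpowers x ⊔ (⁅K, K⁆ ⊔ M)) (W := K)
      le_sup_right (sup_le (zpowers_le.2 hx) hle) (by rw [hk, pow_one]; exact hp) with e | e
    · exact absurd (e ▸ mem_sup_left (mem_zpowers x)) hx'
    · rw [← sup_assoc, sup_comm _ (zpowers x), sup_assoc, e]
  exact hna (hcyc.der_le hM.2 hM.1)

/-! ### Extending coherent sets -/

variable {K L : Subgroup G} {τ : (G → ℂ) →ₗ[ℂ] (G → ℂ)} {R : (G → ℂ) → Finset (G → ℂ)}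

theorem extend_all {S S₁ T : Finset (G → ℂ)} (hS : Subcoherent L S τ R) (h₁ : ConjSub S₁ S)
    (hT : T ⊆ S) (hc : Coherent L S₁ τ) {ξ₁ : G → ℂ} (hξ : ξ₁ ∈ S₁)
    (hb : ∀ χ ∈ T, χ ∉ S₁ → dg ξ₁ ∣ dg χ ∧
      2 * (dg χ : ℝ) * dg ξ₁ < ∑ ξ ∈ S₁, (dg ξ : ℝ) ^ 2 / nsq L ξ) : Coherent L T τ := by
  suffices h : ∃ S₂, ConjSub S₂ S ∧ S₁ ⊆ S₂ ∧ T ⊆ S₂ ∧ Coherent L S₂ τ by
    obtain ⟨S₂, -, -, h1, h2⟩ := h
    exact h2.mono h1
  induction T using Finset.induction_on with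
  | empty => exact ⟨S₁, h₁, le_rfl, Finset.empty_subset _, hc⟩
  | insert χ T hχ ih =>
    obtain ⟨S₂, h1, h2, h3, h4⟩ := ih ((Finset.subset_insert _ _).trans hT)
      fun ψ hψ => hb ψ (Finset.mem_insert_of_mem hψ)
    by_cases h5 : χ ∈ S₂
    · exact ⟨S₂, h1, h2, Finset.insert_subset h5 h3, h4⟩
    have hχS : χ ∈ S := hT (Finset.mem_insert_self _ _)
    obtain ⟨h6, h7⟩ := hb χ (Finset.mem_insert_self _ _) fun h => h5 (h2 h)
    refine ⟨insert χ (insert (star χ) S₂), ⟨?_, ?_⟩, ?_, ?_, ?_⟩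
    · exact Finset.insert_subset hχS (Finset.insert_subset (hS.conj_mem χ hχS) h1.1)
    · intro ψ hψ
      simp only [Finset.mem_insert] at hψ ⊢
      rcases hψ with rfl | rfl | hψ
      · exact Or.inr (Or.inl rfl)
      · exact Or.inl (star_star χ)
      · exact Or.inr (Or.inr (h1.2 ψ hψ))
    · exact h2.trans ((Finset.subset_insert _ _).trans (Finset.subset_insert _ _))
    · exact Finset.insert_subset_insert _ (h3.trans (Finset.subset_insert _ _))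
    · refine hS.extend_coherent h1 (h2 hξ) hχS h5 h4 h6 (h7.trans_le ?_)
      exact Finset.sum_le_sum_of_subset_of_nonneg h2 fun ψ _ _ =>
        div_nonneg (sq_nonneg _) (nsq_nonneg _ _)

theorem one_eq_of_der_le (h : K ≤ L) {H N : Subgroup G} (hN : ⁅K, K⁆ ≤ N) {χ : G → ℂ}
    (hχ : χ ∈ seqIndD K L H N) : χ 1 = K.relIndex L := by
  obtain ⟨θ, hθ, rfl⟩ := mem_seqIndD.1 hχ
  rw [mem_irrKerD] at hθ
  rw [ind_one h, (isLin_of_mem_irrKer hN (mem_irrKer.2 ⟨hθ.1, hθ.2.1⟩)).2.1, mul_one]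

theorem coherent_of_der_le (h : K ≤ L) (hS : Subcoherent L (seqIndD K L K ⊥) τ R)
    {N : Subgroup G} (hN : ⁅K, K⁆ ≤ N) : Coherent L (seqIndD K L K N) τ :=
  (hS.mono (conjSub_seqIndD K L le_rfl bot_le)).uniform_degree_coherence fun _ h1 _ h2 =>
    (one_eq_of_der_le h hN h1).trans (one_eq_of_der_le h hN h2).symm

end PF06

open PF06

section General

variable {K L : Subgroup G} {τ : (G → ℂ) →ₗ[ℂ] (G → ℂ)} {R : (G → ℂ) → Finset (G → ℂ)}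

theorem exists_linInd {M : Subgroup G} (h : K ≤ L) (hs : Group.IsSolvable K) (hM : M < K)
    (hn : K ≤ 𝐍(M)) :
    ∃ θ, IsLin K θ ∧ θ ∈ irrKerD K K M ∧ ind L K θ ∈ seqIndD K L K M ∧
      dg (ind L K θ) = K.relIndex L := by
  have hlt := der_sup_lt hs hM hn
  obtain ⟨θ, hθ⟩ := irrKerD_nonempty (K := K) (H := K) (M := ⁅K, K⁆ ⊔ M)
    ⟨hlt.le, le_norm_of_der_le le_sup_left hlt.le⟩ hlt.not_ge
  have h1 := irrKerD_mono K le_rfl le_sup_right hθ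
  rw [mem_irrKerD] at hθ
  have h2 := isLin_of_der_le_cfKer hθ.1 (le_sup_left.trans hθ.2.1)
  exact ⟨θ, h2, h1, mem_seqIndD.2 ⟨θ, h1, rfl⟩, by rw [h2.isChar.dg_ind h, h2.dg, mul_one]⟩

/-- PF (6.2). -/
theorem coherent_seqIndD_bound (h : K ⊲ L) (hs : Group.IsSolvable K)
    (hS : Subcoherent L (seqIndD K L K ⊥) τ R) {A B C D : Subgroup G}
    (hA : L ≤ 𝐍(A)) (hB : L ≤ 𝐍(B)) (hC : L ≤ 𝐍(C)) (hD : L ≤ 𝐍(D))
    (hAK : A < K) (hBD : B ≤ D) (hDC : D ≤ C) (hCK : C ≤ K) (hZ : ⁅C, D⁆ ≤ B)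
    (hc : Coherent L (seqIndD K L K A) τ) (hn : ¬ Coherent L (seqIndD K L K B) τ) :
    (A.relIndex K - 1) ^ 2 ≤ 4 * C.relIndex L ^ 2 * D.relIndex C := by
  by_contra! hlt
  obtain ⟨θ₁, -, -, h1, h2⟩ := exists_linInd h.1 hs hAK (h.1.trans hA)
  refine hn (extend_all hS (conjSub_seqIndD K L le_rfl bot_le) (seqIndD_mono K L le_rfl bot_le)
    hc h1 fun χ hχ _ => ?_)
  obtain ⟨θ, hθ, rfl⟩ := mem_seqIndD.1 hχ
  rw [mem_irrKerD] at hθ
  rw [h2, (irr_isChar hθ.1).dg_ind h.1, sum_seqIndD_square h le_rfl h.2 hA hAK.le]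
  refine ⟨dvd_mul_right _ _, ?_⟩
  have h3 := irr_dg_bound_quo hθ.1 hθ.2.1 hDC hCK hZ
  rw [← relIndex_mul_relIndex C K L hCK h.1] at hlt
  have h4 : 2 * (K.relIndex L * dg θ) < A.relIndex K - 1 := by
    refine lt_of_pow_lt_pow_left₀ 2 (Nat.zero_le _) (lt_of_le_of_lt ?_ hlt)
    calc (2 * (K.relIndex L * dg θ)) ^ 2 = 4 * K.relIndex L ^ 2 * dg θ ^ 2 := by ring
      _ ≤ 4 * K.relIndex L ^ 2 * (C.relIndex K ^ 2 * D.relIndex C) := Nat.mul_le_mul_left _ h3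
      _ = _ := by ring
  have h5 : (2 * (K.relIndex L * dg θ) + 1 : ℝ) < A.relIndex K := by
    exact_mod_cast (by omega : 2 * (K.relIndex L * dg θ) + 1 < A.relIndex K)
  have h6 : (0 : ℝ) < K.relIndex L := by exact_mod_cast relIndex_pos K L
  push_cast
  nlinarith

/-- PF Theorem (6.3). -/
theorem bounded_seqIndD_coherence (h : K ⊲ L) (hs : Group.IsSolvable K)
    (hS : Subcoherent L (seqIndD K L K ⊥) τ R) {M H H₁ : Subgroup G}
    (hM : L ≤ 𝐍(M)) (hH : L ≤ 𝐍(H)) (hH₁ : L ≤ 𝐍(H₁)) (h1 : M ≤ H₁) (h2 : H₁ ≤ H) (h3 : H ≤ K)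
    (hnil : NilMod H M) (hc : Coherent L (seqIndD K L K H₁) τ)
    (hb : 4 * K.relIndex L ^ 2 + 1 < H₁.relIndex H) : Coherent L (seqIndD K L K M) τ := by
  obtain ⟨A, hAH₁, ⟨hMA, hA, hcA⟩, hmin⟩ := exists_minimal_le_of_wellFoundedLT
    (fun A : Subgroup G => M ≤ A ∧ L ≤ 𝐍(A) ∧ Coherent L (seqIndD K L K A) τ) H₁ ⟨h1, hH₁, hc⟩
  rcases hMA.eq_or_lt with rfl | hlt
  · exact hcA
  exfalso
  have hAH : A ≤ H := hAH₁.trans h2
  have hHL : H ≤ L := h3.trans h.1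
  obtain ⟨B, hMB, hB⟩ := exists_chief_below ⟨hAH.trans hHL, hA⟩ hM hlt
  have hnB : ¬ Coherent L (seqIndD K L K B) τ := fun hc' =>
    hB.lt.not_ge (hmin ⟨hMB, hB.normV, hc'⟩ hB.lt.le)
  have hZ : ⁅H, A⁆ ≤ B := by
    rw [commutator_comm]
    have h4 : ⁅A, H⁆ ≤ A := comm_le_left_iff.2 (hHL.trans hA)
    rcases hB.min (⁅A, H⁆ ⊔ B) le_sup_right (sup_le h4 hB.lt.le)
      (H1.le_normalizer_sup (H1.le_normalizer_commutator hA hH) hB.normV) with e | e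
    · exact le_sup_left.trans e.le
    · exact absurd (le_of_le_comm_sup hnil hMB (hB.lt.le.trans hAH) hAH (hHL.trans hB.normV) e.ge)
        hB.lt.not_ge
  have hx : H₁.relIndex H ≤ A.relIndex H :=
    relIndex_le_of_le_left hAH₁ (CH1.relIndex_ne_zero' _ _)
  have hAK : A < K := by
    refine lt_of_le_of_ne (hAH.trans h3) fun e => ?_
    have : A.relIndex H = 1 := relIndex_eq_one.2 (h3.trans e.ge)
    omega
  have h5 := coherent_seqIndD_bound h hs hS hA hB.normV hH hA hAK hB.lt.le hAH h3 hZ hcA hnB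
  rw [← relIndex_mul_relIndex A H K hAH h3, ← relIndex_mul_relIndex H K L h3 h.1] at h5
  have hk := relIndex_pos H K
  generalize A.relIndex H = x at *
  generalize H.relIndex K = k at *
  generalize K.relIndex L = e at *
  obtain ⟨y, rfl⟩ : ∃ y, x = y + 1 := ⟨x - 1, by omega⟩
  have h6 : y * k ≤ (y + 1) * k - 1 := by rw [add_mul, one_mul]; omega
  have h7 : (y * k) ^ 2 ≤ 4 * (k * e) ^ 2 * (y + 1) := (Nat.pow_le_pow_left h6 2).trans h5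
  have h8 : y ^ 2 ≤ 4 * e ^ 2 * (y + 1) :=
    Nat.le_of_mul_le_mul_right (c := k ^ 2) (by nlinarith) (by positivity)
  have h9 : 4 * e ^ 2 + 1 ≤ y := by omega
  nlinarith

/-- PF (6.5). -/
theorem non_coherent_chief (hs : Group.IsSolvable K)
    (hS : Subcoherent L (seqIndD K L K ⊥) τ R) {M : Subgroup G} (hM : OddFrobQuot K L M)
    (hn : ¬ Coherent L (seqIndD K L K M) τ) :
    ChiefFactor L (⁅K, K⁆ ⊔ M) K ∧ (⁅K, K⁆ ⊔ M).relIndex K ≤ 4 * K.relIndex L ^ 2 + 1 ∧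
      ∃ p : ℕ, p.Prime ∧ (∃ n, M.relIndex K = p ^ n) ∧ ¬ ⁅K, K⁆ ≤ M ∧ ¬ K.relIndex L ∣ p - 1 := by
  have hF := hM.frob
  have h : K ⊲ L := ⟨hF.ltK.le, hF.normK⟩
  have hb : (⁅K, K⁆ ⊔ M).relIndex K ≤ 4 * K.relIndex L ^ 2 + 1 := by
    by_contra! hlt
    exact hn (bounded_seqIndD_coherence h hs hS hM.nrm.2 h.2 hF.normN le_sup_right hF.ltN.le le_rfl
      hM.nil (coherent_of_der_le h.1 hS le_sup_left) hlt)
  have hch : ChiefFactor L (⁅K, K⁆ ⊔ M) K := by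
    refine ⟨hF.ltN, h.1, hF.normN, h.2, fun W h1 h2 h3 => ?_⟩
    by_contra! hne
    have h4 := (frob_lt hF hM.odd le_rfl (lt_of_le_of_ne h1 hne.1.symm) h2 hF.normN h3).2
    have h5 := (frob_lt hF hM.odd h1 (lt_of_le_of_ne h2 hne.2) le_rfl h3 h.2).2
    rw [← relIndex_mul_relIndex _ W K h1 h2] at hb
    have h6 := Nat.mul_le_mul (Nat.succ_le_of_lt h4) (Nat.succ_le_of_lt h5)
    have h7 := relIndex_pos K L
    simp only [Nat.succ_eq_add_one] at h6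
    nlinarith
  have hna : ¬ ⁅K, K⁆ ≤ M := fun h1 => hn (coherent_of_der_le h.1 hS h1)
  obtain ⟨p, hp, hpd⟩ := Nat.exists_prime_and_dvd (one_lt_relIndex hF.ltN.not_ge).ne'
  have hMK : M ⊲ K := ⟨hM.le, h.1.trans hM.nrm.2⟩
  have hpow : ∃ n, M.relIndex K = p ^ n := by
    obtain ⟨P, hP⟩ := exists_isSyl hp K
    have h1 : L ≤ 𝐍(M ⊔ P) :=
      A3.le_norm_sup_hall_of_nilMod h.2 hM.nrm.2 hMK ((isSyl_iff_hall hp).1 hP) hM.nil
    have h2 : M ⊔ P ≤ K := sup_le hM.le hP.le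
    have h3 : K ≤ M ⊔ P := by
      rcases hch.min ((⁅K, K⁆ ⊔ M) ⊔ (M ⊔ P)) le_sup_left (sup_le hF.ltN.le h2)
        (H1.le_normalizer_sup hF.normN h1) with e | e
      · exact absurd (hpd.trans (relIndex_dvd_of_le_left K
          ((le_sup_right.trans le_sup_right).trans e.le))) hP.ndvd
      · refine le_of_le_der_sup hM.nil le_sup_left h2 (e.ge.trans ?_)
        exact sup_le (sup_le_sup_left le_sup_left _) le_sup_right
    obtain ⟨n, hn⟩ := exists_card_eq_pow hp hP.pgrp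
    have h4 : M.relIndex K ∣ p ^ n := by
      rw [← hn, le_antisymm h3 h2, relIndex_sup_of_norm (hP.le.trans hMK.2)]
      exact relIndex_dvd_card' M P
    obtain ⟨k, -, hk⟩ := (Nat.dvd_prime_pow hp).1 h4
    exact ⟨k, hk⟩
  refine ⟨hch, hb, p, hp, hpow, hna, fun hd => ?_⟩
  obtain ⟨n, hn⟩ := hpow
  have h1 := sq_le_relIndex hp hMK hM.nil hn hna
  have h2 := two_mul_lt (PF06.odd_relIndex hM.odd le_rfl K)
    ((PF06.odd_relIndex hM.odd h.1 _).of_dvd_nat hpd) hp.one_lt hd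
  have h3 := relIndex_pos K L
  nlinarith

namespace PF06

theorem seqIndD_eq_irrKerD (h : K ⊲ L) {Z : Subgroup G} (hZ : L ≤ 𝐍(Z)) (hZK : Z ≤ K)
    (hi : seqIndD K L Z ⊥ ⊆ Irr L) : seqIndD K L Z ⊥ = irrKerD L Z ⊥ := by
  have hb : L ≤ 𝐍((⊥ : Subgroup G)) := norm_bot (G := G) ▸ le_top
  ext χ
  rw [mem_irrKerD]
  constructor
  · intro hχ
    exact ⟨hi hχ, ((mem_seqIndD_iff_ker h hZ hb).1 hχ).2⟩
  · rintro ⟨h1, -, h2⟩
    obtain ⟨θ, hθ⟩ := exists_constt_res h.1 h1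
    have hθi := (mem_constt.1 hθ).1
    have h3 : ind L K θ ∈ seqIndD K L Z ⊥ := mem_seqIndD.2 ⟨θ, mem_irrKerD.2
      ⟨hθi, bot_le, by rwa [← le_cfKer_iff_of_constt_res h hZK hZ h1 hθ]⟩, rfl⟩
    have h4 := (mem_constt.1 ((mem_constt_ind_iff h.1 hθi h1).2 hθ)).2
    rwa [← irr_eq_of_ip_ne_zero (hi h3) h1 h4]

theorem dg_pow {p n : ℕ} (hp : p.Prime) (h : K ≤ L) (hK : 𝐨(K) = p ^ n) {Z : Subgroup G}
    (hZK : Z ≤ 𝐙(K)) {χ : G → ℂ} (hχ : χ ∈ seqIndT K L) :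
    ∃ d, dg χ = K.relIndex L * p ^ d ∧ (p ^ d) ^ 2 ∣ Z.relIndex K := by
  obtain ⟨θ, hθ, rfl⟩ := mem_seqIndT.1 hχ
  obtain ⟨d, -, hd⟩ := (Nat.dvd_prime_pow hp).1 (hK ▸ irr_dg_dvd_card hθ)
  obtain ⟨k, -, hk⟩ := (Nat.dvd_prime_pow hp).1 (hK ▸ relIndex_dvd_card' Z K)
  have h1 := irr_dg_sq_le (hZK.trans inf_le_left) hθ (by
    rw [commutator_comm, comm_eq_bot_iff.2 (hZK.trans inf_le_right)]; exact bot_le)
  refine ⟨d, by rw [(irr_isChar hθ).dg_ind h, hd], ?_⟩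
  rw [hd, hk, ← pow_mul] at h1
  rw [hk, ← pow_mul]
  exact pow_dvd_pow p ((Nat.pow_le_pow_iff_right hp.one_lt).1 h1)

end PF06

/-- PF (6.6). -/
theorem seqIndD_irr_coherence (hS : Subcoherent L (seqIndD K L K ⊥) τ R)
    (hF : OddFrobQuot K L ⊥) {Z : Subgroup G} (hZ : L ≤ 𝐍(Z)) (hZ1 : Z ≠ ⊥) (hZK : Z ≤ 𝐙(K))
    (hi : seqIndD K L Z ⊥ ⊆ Irr L) :
    seqIndD K L Z ⊥ = irrKerD L Z ⊥ ∧ Coherent L (seqIndD K L Z ⊥) τ := by
  have h : K ⊲ L := ⟨hF.frob.ltK.le, hF.frob.normK⟩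
  have hZK' : Z ≤ K := hZK.trans inf_le_left
  have hX := seqIndD_eq_irrKerD h hZ hZK' hi
  refine ⟨hX, ?_⟩
  have hXS : seqIndD K L Z ⊥ ⊆ seqIndD K L K ⊥ := seqIndD_mono K L hZK' le_rfl
  by_cases hc : Coherent L (seqIndD K L K ⊥) τ
  · exact hc.mono hXS
  obtain ⟨-, -, p, hp, ⟨n, hn⟩, -, -⟩ :=
    non_coherent_chief (isSolvable_of_isNilpotent (nilMod_bot_iff.1 hF.nil)) hS hF hc
  rw [relIndex_bot_left] at hn
  have hcop : (K.relIndex L).Coprime p := by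
    have h2 := frob_dvd hF.frob hF.frob.ltN.le le_rfl h.2
    obtain ⟨k, -, hk⟩ := (Nat.dvd_prime_pow hp).1 (hn ▸ relIndex_dvd_card' (⁅K, K⁆ ⊔ ⊥) K)
    have h3 := one_lt_relIndex hF.frob.ltN.not_ge
    rw [hk] at h2 h3
    have hk0 : k ≠ 0 := by rintro rfl; simp at h3
    rw [Nat.coprime_comm, hp.coprime_iff_not_dvd]
    intro h4
    have h5 := (Nat.dvd_sub_iff_right h3.le (dvd_pow_self p hk0)).1 (h4.trans h2)
    exact hp.one_lt.ne' (Nat.dvd_one.1 h5)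
  have hp3 : 3 ≤ p := by
    have h1 : p ∣ 𝐨(K) :=
      prime_dvd_card_of_isPGroup hp (isPGroup_of_card_eq hn) (ne_bot_of_le_ne_bot hZ1 hZK')
    have h2 := hF.odd.of_dvd_nat (h1.trans (card_dvd_of_le h.1))
    have h3 := hp.two_le
    obtain ⟨k, hk⟩ := h2
    omega
  have hsum := sum_irrKerD_dg_sq (K := L) (H := Z) (M := ⊥) ⟨hZK'.trans h.1, hZ⟩
    (norm_bot (G := G) ▸ le_top) bot_le
  rw [← hX] at hsum
  have hdg : ∀ χ ∈ seqIndD K L Z ⊥, ∃ d, dg χ = K.relIndex L * p ^ d ∧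
      (p ^ d) ^ 2 ∣ Z.relIndex K := fun χ hχ =>
    dg_pow hp h.1 hn hZK (seqIndD_subset_T K L Z ⊥ hχ)
  have he := relIndex_pos K L
  generalize seqIndD K L Z ⊥ = X at *
  have hXc : ∀ χ ∈ X, star χ ∈ X := fun χ hχ => by
    rw [hX, ← cfAut_conj]; exact cfAut_mem_irrKerD _ (hX ▸ hχ)
  suffices key : ∀ m, ∀ Y ⊆ X, Y.card = m → (∀ χ ∈ Y, star χ ∈ Y) →
      (∀ ξ ∈ Y, ∀ ψ ∈ X, ψ ∉ Y → dg ξ ≤ dg ψ) → Coherent L Y τ from
    key _ X le_rfl rfl hXc fun _ _ ψ h1 h2 => absurd h1 h2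
  intro m
  induction m using Nat.strong_induction_on with
  | _ m ih =>
  intro Y hYX hm hYc hY
  have hYS : ConjSub Y (seqIndD K L K ⊥) := ⟨hYX.trans hXS, hYc⟩
  by_cases hu : ∀ χ ∈ Y, ∀ ψ ∈ Y, dg χ = dg ψ
  · exact (hS.mono hYS).uniform_degree_coherence fun χ h1 ψ h2 => by
      rw [irr_one_eq (hi (hYX h1)), irr_one_eq (hi (hYX h2)), hu χ h1 ψ h2]
  obtain ⟨χ, hχ, hmax⟩ := Y.exists_max_image dg (by
    rw [Finset.nonempty_iff_ne_empty]; rintro rfl; simp at hu)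
  obtain ⟨ξ₁, hξ₁, hlt⟩ : ∃ ξ₁ ∈ Y, dg ξ₁ < dg χ := by
    by_contra! h1
    exact hu fun a ha b hb => by
      rw [le_antisymm (hmax a ha) (h1 a ha), le_antisymm (hmax b hb) (h1 b hb)]
  obtain ⟨Y₁, hY₁⟩ : ∃ Y₁, Y₁ = (Y.erase χ).erase (star χ) := ⟨_, rfl⟩
  have hmem : ∀ ψ, ψ ∈ Y₁ ↔ ψ ≠ star χ ∧ ψ ≠ χ ∧ ψ ∈ Y := fun ψ => by
    simp only [hY₁, Finset.mem_erase]
  have hY₁Y : Y₁ ⊆ Y := fun ψ h1 => ((hmem ψ).1 h1).2.2
  have hχ₁ : χ ∉ Y₁ := fun h1 => ((hmem χ).1 h1).2.1 rfl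
  have hY₁c : ∀ ψ ∈ Y₁, star ψ ∈ Y₁ := fun ψ h1 => by
    obtain ⟨h2, h3, h4⟩ := (hmem ψ).1 h1
    exact (hmem _).2 ⟨fun e => h3 (star_injective e), fun e => h2 (by rw [← e, star_star]),
      hYc ψ h4⟩
  have hge : ∀ ψ ∈ X, ψ ∉ Y₁ → dg χ ≤ dg ψ := fun ψ h1 h2 => by
    by_cases h3 : ψ ∈ Y
    · by_cases h4 : ψ = χ
      · rw [h4]
      · have : ψ = star χ := by
          by_contra h5; exact h2 ((hmem ψ).2 ⟨h5, h4, h3⟩)
        rw [this, dg_star]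
    · exact hY χ hχ ψ h1 h3
  have hc₁ : Coherent L Y₁ τ := ih _ (hm ▸ Finset.card_lt_card ⟨hY₁Y, fun h1 => hχ₁ (h1 hχ)⟩)
    Y₁ (hY₁Y.trans hYX) rfl hY₁c fun ξ h1 ψ h2 h3 => (hmax ξ (hY₁Y h1)).trans (hge ψ h2 h3)
  have hξ₁' : ξ₁ ∈ Y₁ := (hmem _).2 ⟨fun e => by rw [e, dg_star] at hlt; exact hlt.false,
    fun e => by rw [e] at hlt; exact hlt.false, hξ₁⟩
  obtain ⟨a, ha, -⟩ := hdg ξ₁ (hYX hξ₁)
  obtain ⟨b, hb, hbZ⟩ := hdg χ (hYX hχ)
  have hab : a < b := by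
    rw [ha, hb] at hlt
    exact (Nat.pow_lt_pow_iff_right hp.one_lt).1 (Nat.lt_of_mul_lt_mul_left hlt)
  have hdvd : dg χ ^ 2 ∣ ∑ ξ ∈ Y₁, dg ξ ^ 2 := by
    rw [hb, mul_pow]
    refine Nat.Coprime.mul_dvd_of_dvd_of_dvd ((hcop.pow_right b).pow 2 2)
      (Finset.dvd_sum fun ξ h1 => ?_) ?_
    · obtain ⟨d, hd, -⟩ := hdg ξ (hYX (hY₁Y h1))
      rw [hd, mul_pow]; exact dvd_mul_right _ _
    · have h1 : (p ^ b) ^ 2 ∣ Z.relIndex L := hbZ.trans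
        (Dvd.intro _ (relIndex_mul_relIndex Z K L hZK' h.1))
      have h2 : (p ^ b) ^ 2 ∣ ∑ ξ ∈ X, dg ξ ^ 2 :=
        (Nat.dvd_add_left h1).1 (hsum ▸ h1.mul_right _)
      rw [← Finset.sum_sdiff (hY₁Y.trans hYX)] at h2
      refine (Nat.dvd_add_right (Finset.dvd_sum fun ξ h3 => ?_)).1 h2
      rw [Finset.mem_sdiff] at h3
      obtain ⟨d, hd, -⟩ := hdg ξ h3.1
      have h4 := hge ξ h3.1 h3.2
      rw [hb, hd] at h4
      rw [hd, mul_pow]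
      exact (pow_dvd_pow_of_dvd (pow_dvd_pow p ((Nat.pow_le_pow_iff_right hp.one_lt).1
        (Nat.le_of_mul_le_mul_left h4 he))) 2).mul_left _
  have hpos : 0 < ∑ ξ ∈ Y₁, dg ξ ^ 2 :=
    Finset.sum_pos (fun ξ h1 => pow_pos (irr_dg_pos (hi (hYX (hY₁Y h1)))) 2) ⟨ξ₁, hξ₁'⟩
  have hbd : 2 * dg χ * dg ξ₁ < ∑ ξ ∈ Y₁, dg ξ ^ 2 := by
    refine lt_of_lt_of_le ?_ (Nat.le_of_dvd hpos hdvd)
    have h1 : p * dg ξ₁ ≤ dg χ := by
      rw [ha, hb, mul_left_comm, ← pow_succ']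
      exact Nat.mul_le_mul_left _ (Nat.pow_le_pow_right hp.pos hab)
    have h2 := irr_dg_pos (hi (hYX hξ₁))
    have h3 : 3 * dg ξ₁ ≤ dg χ := (Nat.mul_le_mul_right _ hp3).trans h1
    nlinarith
  refine (hS.extend_coherent ⟨hY₁Y.trans hYS.1, hY₁c⟩ hξ₁' (hYS.1 hχ) hχ₁ hc₁ ?_ ?_).mono ?_
  · rw [ha, hb]; exact Nat.mul_dvd_mul_left _ (pow_dvd_pow p hab.le)
  · rw [Finset.sum_congr rfl fun ξ h1 => by rw [nsq_irr (hi (hYX (hY₁Y h1))), div_one]]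
    exact_mod_cast hbd
  · intro ψ h1
    simp only [Finset.mem_insert, hmem]
    tauto

end General

end Cfsg.Agent.FT
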