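/-
PF section 6, second part: (6.7).
-/
import Cfsg.Agent.FT.P.PF06_1

set_option autoImplicit false

namespace Cfsg.Agent.FT

open Subgroup Cfsg Cfsg.Agent
open scoped commutatorElement

universe u

variable {G : Type u} [Group G] [Finite G]

namespace PF06

theorem orbit_sum {Γ X : Type*} [Group Γ] [Finite Γ] [Fintype X] [MulAction Γ X] (g : X → ℂ)
    (hg : ∀ (γ : Γ) x, g (γ • x) = g x)
    (hi : ∀ x, ∃ n : ℂ, IsIntegral ℤ n ∧ g x = Nat.card (MulAction.stabilizer Γ x) * n) :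
    ∃ n : ℂ, IsIntegral ℤ n ∧ ∑ x, g x = Nat.card Γ * n := by
  classical
  choose n hn' hn using hi
  let _ : Fintype (MulAction.orbitRel.Quotient Γ X) := Fintype.ofFinite _
  refine ⟨∑ ω : MulAction.orbitRel.Quotient Γ X, n ω.out, IsIntegral.sum _ fun _ _ => hn' _, ?_⟩
  rw [← Finset.sum_fiberwise (s := Finset.univ)
    (g := fun x : X => (Quotient.mk'' x : MulAction.orbitRel.Quotient Γ X)), Finset.mul_sum]
  refine Finset.sum_congr rfl fun ω _ => ?_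
  have h1 : ∀ x : X, (Quotient.mk'' x : MulAction.orbitRel.Quotient Γ X) = ω ↔
      x ∈ MulAction.orbit Γ ω.out := by
    intro x
    rw [← MulAction.orbitRel_apply, ← Quotient.eq'', Quotient.out_eq']
  rw [Finset.sum_congr rfl (g := fun _ => g ω.out) fun x hx => ?_, Finset.sum_const, nsmul_eq_mul,
    hn, ← mul_assoc, ← Nat.cast_mul, ← (MulAction.stabilizer Γ ω.out).index_mul_card,
    MulAction.index_stabilizer]
  · congr 3
    rw [← Set.ncard_coe_finset]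
    congr 1
    ext x
    simp [h1]
  · obtain ⟨γ, rfl⟩ := (h1 x).1 (Finset.mem_filter.1 hx).2
    exact hg γ _

theorem orbit_sum' {Γ X : Type*} [Group Γ] [Finite Γ] [Fintype X] (act : Γ → X → X)
    (h1 : ∀ x, act 1 x = x) (hm : ∀ a b x, act (a * b) x = act a (act b x)) (g : X → ℂ)
    (hg : ∀ γ x, g (act γ x) = g x) (hi : ∀ x, IsIntegral ℤ (g x))
    (h0 : ∀ γ x, γ ≠ 1 → act γ x = x → g x = 0) :
    ∃ n : ℂ, IsIntegral ℤ n ∧ ∑ x, g x = Nat.card Γ * n := by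
  letI : MulAction Γ X := { smul := act, one_smul := h1, mul_smul := hm }
  refine orbit_sum g hg fun x => ?_
  by_cases h2 : MulAction.stabilizer Γ x = ⊥
  · exact ⟨_, hi x, by rw [h2, card_bot, Nat.cast_one, one_mul]⟩
  · obtain ⟨⟨γ, hγ⟩, hγ1⟩ := ne_bot_iff_exists_ne_one.1 h2
    exact ⟨0, isIntegral_zero, by rw [h0 γ x (fun e => hγ1 (Subtype.ext e)) hγ, mul_zero]⟩

theorem conj_ne_inv {L : Subgroup G} (ho : Odd 𝐨(L)) {x g : G} (hx : x ∈ L) (h1 : x ≠ 1)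
    (hg : g ∈ L) : g * x * g⁻¹ ≠ x⁻¹ := by
  intro e
  have h2 : ∀ n : ℕ, g ^ (2 * n + 1) * x * (g ^ (2 * n + 1))⁻¹ = x⁻¹ := by
    intro n
    induction n with
    | zero => simpa using e
    | succ n ih =>
      calc g ^ (2 * (n + 1) + 1) * x * (g ^ (2 * (n + 1) + 1))⁻¹
          = g * (g * (g ^ (2 * n + 1) * x * (g ^ (2 * n + 1))⁻¹) * g⁻¹) * g⁻¹ := by group
        _ = g * (g * x * g⁻¹)⁻¹ * g⁻¹ := by rw [ih]; group
        _ = x⁻¹ := by rw [e, inv_inv, e]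
  obtain ⟨k, hk⟩ := ho
  have h3 : ∀ y ∈ L, y ^ (2 * k + 1) = 1 := fun y hy =>
    orderOf_dvd_iff_pow_eq_one.1 (hk ▸ orderOf_dvd_card_of_mem hy)
  have h4 := h2 k
  rw [h3 g hg, one_mul, inv_one, mul_one] at h4
  have h5 := h3 x hx
  rw [pow_succ, pow_mul, sq, show x * x = 1 by nth_rw 2 [h4]; exact mul_inv_cancel x, one_pow,
    one_mul] at h5
  exact h1 h5

theorem apply_int_of_const {Z : Subgroup G} {φ : G → ℂ} (hφ : IsChar ⊤ φ)
    (hc : ∀ x ∈ sharp Z, ∀ y ∈ sharp Z, φ x = φ y) {x : G} (hx : x ∈ sharp Z) :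
    ∃ m : ℤ, φ x = m := by
  obtain ⟨n, hn⟩ := CH1.ip_res_nat (le_top : Z ≤ ⊤) hφ (isChar_cf1 Z)
  rw [ip_cf1_right, sum_fs_sharp, sum_fs_congr (g := fun _ => φ x) fun y hy => hc y hy x hx,
    Finset.sum_const, card_fs, nsmul_eq_mul, hφ.one_eq, inv_mul_eq_iff_eq_mul₀ (card_ne_zero_C Z)]
    at hn
  have h0 : ((sharp Z).ncard : ℂ) ≠ 0 := by
    exact_mod_cast ((Set.ncard_pos (Set.toFinite _)).2 ⟨x, hx⟩).ne'
  have h1 : φ x = ((((𝐨(Z) : ℚ) * n - dg φ) / (sharp Z).ncard : ℚ) : ℂ) := by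
    push_cast
    rw [eq_div_iff h0, ← hn]; ring
  rw [h1]
  exact int_of_isIntegral_rat (h1 ▸ hφ.isIntegral x)

theorem const_mod {Z L P : Subgroup G} {p : ℕ} (hp : p.Prime) (hP : IsSyl p P L)
    (ho : Odd 𝐨(L)) (hTI : NormedTI (sharp P) ⊤ L) (hZ : L ≤ 𝐍(Z)) (hZP : Z ≤ 𝐙(P))
    {φ : G → ℂ} (hφ : φ ∈ Irr ⊤)
    (hc : ∀ x ∈ sharp Z, ∀ y ∈ sharp Z, φ x = φ y) {x : G} (hx : x ∈ sharp Z) :
    ∃ n : ℤ, φ x = φ 1 + 𝐨(P) * n := by
  classical
  letI := Fintype.ofFinite G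
  obtain ⟨hP1, hPL, -, -⟩ := normedTI_sharp_iff.1 hTI
  have hZP' : Z ≤ P := hZP.trans inf_le_left
  have hirr := mem_Irr_top_iff.1 hφ
  have hcf := hirr.isCharacter.isClassFunction
  have hx' : x⁻¹ ∈ sharp Z := ⟨inv_mem hx.1, inv_ne_one.2 hx.2⟩
  -- conjugates of elements of `Z^#`
  have hconj : ∀ y ∈ sharp Z, ∀ u, IsConj y u → u ∈ L → u ∈ Z := by
    intro y hy u hu huL
    obtain ⟨g, rfl⟩ := isConj_iff.1 hu
    have h1 : g * y * g⁻¹ ∈ P := mem_of_hall_normal ((isSyl_iff_hall hp).1 hP) hPL.2 huL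
      (isPiElt_conj.2 (isPiElt_of_mem (hall_isPi ((isSyl_iff_hall hp).1 hP)) (hZP' hy.1)))
    have h2 : g ∈ L := hTI.ti g (mem_top g) y ⟨hZP' hy.1, hy.2⟩
      ⟨h1, fun e => hy.2 (by simpa using e)⟩
    exact (mem_normalizer_iff.1 (hZ h2) y).1 hy.1
  obtain ⟨I, hI⟩ : ∃ I : G → G → ℂ, I = fun y u => if IsConj y u then 1 else 0 := ⟨_, rfl⟩
  have hIc : ∀ y, IsClassFunction G (I y) := fun y => by
    rw [hI]; exact H6.isClassFunction_indicator y
  have hIs : ∀ y, ∀ F : G → ℂ, IsClassFunction G F →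
      ∑ u, I y u * F u = (𝐂[y].index : ℂ) * F y := by
    intro y F hF
    have : ∀ u, I y u * F u = if IsConj y u then F y else 0 := fun u => by
      simp only [hI]
      split_ifs with h
      · rw [one_mul, hF.of_isConj h]
      · simp
    simp only [this]
    rw [← Finset.sum_filter, Finset.sum_const, nsmul_eq_mul, H6.card_filter_isConj]
  obtain ⟨f, hf⟩ : ∃ f : G → ℂ, f = fun g => if g = 1 then 0 else φ g - φ x := ⟨_, rfl⟩
  have hfc : IsClassFunction G f := fun g h => by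
    simp only [hf, hcf g h, conj_eq_one_iff]
  have hfi : ∀ g, IsIntegral ℤ (f g) := fun g => by
    simp only [hf]
    split_ifs
    · exact isIntegral_zero
    · exact ((irr_isChar hφ).isIntegral g).sub ((irr_isChar hφ).isIntegral x)
  have hfZ : ∀ g ∈ Z, f g = 0 := fun g hg => by
    simp only [hf]
    split_ifs with h
    · rfl
    · rw [hc g ⟨hg, h⟩ x hx, sub_self]
  -- the sums over pairs
  have hT : ∀ y ∈ sharp Z, ∃ n : ℂ, IsIntegral ℤ n ∧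
      (∑ u, I x u * φ u) / φ 1 * (𝐂[y].index * φ y) =
        φ x * (𝐂[x].index * 𝐂[y].index) + (φ 1 - φ x) * ∑ u, I x u * I y u⁻¹ + 𝐨(P) * n := by
    intro y hy
    obtain ⟨n, hn, hn'⟩ := orbit_sum' (Γ := P)
      (fun γ (w : G × G) => ((γ : G) * w.1 * (γ : G)⁻¹, (γ : G) * w.2 * (γ : G)⁻¹))
      (fun w => by simp) (fun a b w => by simp [mul_assoc])
      (fun w : G × G => I x w.1 * I y w.2 * f (w.1 * w.2))
      (fun γ w => by
        simp only [hIc x w.1 γ, hIc y w.2 γ]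
        rw [← hfc (w.1 * w.2) γ]; congr 2; group)
      (fun w => by
        simp only [hI]
        split_ifs <;> simp [hfi, isIntegral_zero])
      (fun γ w hγ1 hγ => by
        have hγ2 : (γ : G) ∈ sharp P := ⟨γ.2, fun e => hγ1 (Subtype.ext e)⟩
        rw [Prod.ext_iff] at hγ
        have h2 : ∀ u : G, (γ : G) * u * (γ : G)⁻¹ = u → u ∈ L := fun u hu =>
          hTI.cent1_le hγ2 ⟨mem_top u, mem_cent1_comm.1 (mem_cent1_iff_conj.2 hu)⟩
        simp only [hI]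
        split_ifs with h3 h4
        · rw [hfZ _ (mul_mem (hconj x hx _ h3 (h2 _ hγ.1)) (hconj y hy _ h4 (h2 _ hγ.2))), mul_zero]
        all_goals simp)
    refine ⟨n, hn, ?_⟩
    rw [← hn', Fintype.sum_prod_type]
    have e1 : ∀ u v : G, I x u * I y v * f (u * v) = I y v * (I x u * φ (u * v)) -
        φ x * (I x u * I y v) - (φ 1 - φ x) * (if u⁻¹ = v then I x u * I y v else 0) := by
      intro u v
      simp only [hf, inv_eq_iff_mul_eq_one]
      split_ifs with h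
      · rw [h]; ring
      · ring
    have e2 : ∑ u, ∑ v, I y v * (I x u * φ (u * v)) =
        (∑ u, I x u * φ u) / φ 1 * (𝐂[y].index * φ y) := by
      rw [Finset.sum_comm, ← hIs y φ hcf, Finset.mul_sum]
      refine Finset.sum_congr rfl fun v _ => ?_
      rw [← Finset.mul_sum, hirr.sum_mul_mul (hIc x)]; ring
    have e3 : ∑ u, ∑ v, I x u * I y v = 𝐂[x].index * 𝐂[y].index := by
      rw [← Finset.sum_mul_sum]
      have := fun z => hIs z 1 fun _ _ => rfl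
      simp only [Pi.one_apply, mul_one] at this
      rw [this, this]
    simp only [e1, Finset.sum_sub_distrib, ← Finset.mul_sum, Finset.sum_ite_eq, Finset.mem_univ,
      if_true]
    rw [e2]
    simp only [Finset.mul_sum] at e3 ⊢
    rw [← e3]
    simp only [Finset.mul_sum]
    ring
  obtain ⟨n₁, hn₁, e₁⟩ := hT x hx
  obtain ⟨n₂, hn₂, e₂⟩ := hT x⁻¹ hx'
  have e3 : ∑ u, I x u * I x u⁻¹ = 0 := Finset.sum_eq_zero fun u _ => by
    simp only [hI]
    split_ifs with h1 h2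
    · exfalso
      obtain ⟨g, rfl⟩ := isConj_iff.1 h1
      obtain ⟨k, hk⟩ := isConj_iff.1 h2
      have h3 : g⁻¹ * k * x * (g⁻¹ * k)⁻¹ = x⁻¹ := by
        calc g⁻¹ * k * x * (g⁻¹ * k)⁻¹ = g⁻¹ * (k * x * k⁻¹) * g := by group
          _ = x⁻¹ := by rw [hk]; group
      exact conj_ne_inv ho (hPL.1 (hZP' hx.1)) hx.2 (hTI.ti _ (mem_top _) x ⟨hZP' hx.1, hx.2⟩
        (h3 ▸ ⟨hZP' hx'.1, hx'.2⟩)) h3
    all_goals simp
  have e4 : ∑ u, I x u * I x⁻¹ u⁻¹ = 𝐂[x].index := by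
    have := hIs x 1 fun _ _ => rfl
    simp only [Pi.one_apply, mul_one] at this
    rw [← this]
    refine Finset.sum_congr rfl fun u _ => ?_
    simp only [hI]
    split_ifs with h1 h2
    · simp
    · obtain ⟨g, rfl⟩ := isConj_iff.1 h1
      exact absurd (isConj_iff.2 ⟨g, by group⟩) h2
    all_goals simp
  rw [cent1_inv, hc _ hx' x hx, e₁, e3, e4] at e₂
  obtain ⟨m, hm⟩ := apply_int_of_const (irr_isChar hφ) hc hx
  have h1 : IsIntegral ℤ ((((dg φ - m) * 𝐂[x].index : ℤ) : ℂ) / (𝐨(P) : ℕ)) := by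
    have : (((dg φ - m) * 𝐂[x].index : ℤ) : ℂ) / (𝐨(P) : ℕ) = n₁ - n₂ := by
      rw [div_eq_iff (card_ne_zero_C P)]
      push_cast
      rw [← hm, ← irr_one_eq hφ]
      linear_combination -e₂
    rw [this]
    exact hn₁.sub hn₂
  have h2 := H6.dvd_of_isIntegral_div (card_ne_zero P) h1
  have h3 : IsSyl p P ⊤ := IsSyl.of_norm hp
    (hP.of_le (le_inf le_top (le_norm_self P)) (hTI.norm_le hP1 le_rfl))
  have h4 : 𝐨(P).Coprime 𝐂[x].index := by
    obtain ⟨k, hk⟩ := exists_card_eq_pow hp hP.pgrp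
    rw [hk]
    refine Nat.Coprime.pow_left k (hp.coprime_iff_not_dvd.2 fun h5 => h3.ndvd ?_)
    rw [relIndex_top_right]
    exact h5.trans (index_dvd_of_le (mem_cent_iff_cent1.1 (hZP hx.1).2))
  obtain ⟨k, hk⟩ := (Nat.isCoprime_iff_coprime.2 h4).dvd_of_dvd_mul_right h2
  refine ⟨-k, ?_⟩
  have h5 : (dg φ : ℂ) - m = 𝐨(P) * k := by exact_mod_cast hk
  rw [hm, irr_one_eq hφ]
  push_cast
  linear_combination -h5

end PF06

/-- PF (6.7). -/
theorem constant_irr_mod_TI_Sylow {Z L P : Subgroup G} {p : ℕ} (hp : p.Prime) (hP : IsSyl p P L)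
    (ho : Odd 𝐨(L)) (hTI : NormedTI (sharp P) ⊤ L) (hZ : L ≤ 𝐍(Z)) (hZP : Z ≤ 𝐙(P))
    (hC : ∀ x ∈ sharp Z, ∀ y ∈ sharp Z, 𝐨(L ⊓ 𝐂[x]) = 𝐨(L ⊓ 𝐂[y])) {φ : G → ℂ} (hφ : φ ∈ Irr ⊤)
    (hc : ∀ x ∈ sharp Z, ∀ y ∈ sharp Z, φ x = φ y) {x : G} (hx : x ∈ sharp Z) :
    ∃ n : ℤ, φ x = φ 1 + 𝐨(P) * n :=
  PF06.const_mod hp hP ho hTI hZ hZP hφ hc hx

end Cfsg.Agent.FT
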