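/-
PF section 6, third part: Sibley's coherence theorem (6.8).
-/
import Cfsg.Agent.FT.P.PF06_2

set_option autoImplicit false

namespace Cfsg.Agent.FT

open Subgroup Cfsg Cfsg.Agent
open scoped commutatorElement ComplexConjugate

universe u

variable {G : Type u} [Group G] [Finite G]

namespace PF06

theorem ip_bound {L : Subgroup G} {τ : (G → ℂ) →ₗ[ℂ] (G → ℂ)} {R : (G → ℂ) → Finset (G → ℂ)}
    {S : Finset (G → ℂ)} (hS : Subcoherent L S τ R) {χ ψ ζ : G → ℂ} (hχ : χ ∈ S) (hψ : ψ ∈ Zs S)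
    (h1 : χ 1 = ψ 1) (ho : ip L ψ χ = 0) (ho' : ip L ψ (star χ) = 0)
    (hζ : ∀ α ∈ R χ, ip ⊤ ζ α = 0) : ‖ip ⊤ (τ (χ - ψ)) ζ‖ ^ 2 ≤ nsq L ψ * nsq ⊤ ζ := by
  have h0 : χ - ψ ∈ Zs0 S := sub_mem_Zs0 (mem_Zs_of_mem hχ) hψ h1
  obtain ⟨-, -, -, h2, h3, -⟩ := hS.facts hχ
  obtain ⟨X, hX, Y, -, e, -, hXY, hY⟩ := hS.split hχ (hS.vchar _ h0).1
  have h4 := (hS.norm_core hχ (e ▸ (hS.vchar _ h0).1) (by
    rw [← e, hS.iso _ h0 _ h3]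
    simp only [ip_sub_left, ip_sub_right, h2, ho, ho', sub_zero]) hY).1
  have h5 : nsq ⊤ (τ (χ - ψ)) = nsq L (χ - ψ) := nsq_eq_of_ip_eq (hS.iso _ h0 _ h0)
  rw [e, nsq_sub_of_orth hXY, nsq_sub_of_orth (ip_eq_zero_symm ho)] at h5
  have h6 : ip ⊤ X ζ = 0 := ip_eq_zero_of_mem_Zs_left hX fun α hα => ip_eq_zero_symm (hζ α hα)
  rw [e, ip_sub_left, h6, zero_sub, norm_neg]
  exact (norm_ip_sq_le ⊤ Y ζ).trans
    (mul_le_mul_of_nonneg_right (by linarith) (nsq_nonneg _ _))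

omit [Group G] [Finite G] in
theorem eq_of_sum_mul {ι : Type*} {T : Finset ι} {a b : ι → ℤ} (ha : ∀ i ∈ T, 0 < a i)
    (hb : ∀ i ∈ T, b i ^ 2 ≤ a i ^ 2) (h : ∑ i ∈ T, a i * b i = ∑ i ∈ T, a i ^ 2) :
    ∀ i ∈ T, b i = a i := by
  have h1 : ∀ i ∈ T, 0 ≤ a i ^ 2 - a i * b i := fun i hi => by
    have := (abs_le_of_sq_le_sq' (hb i hi) (ha i hi).le).2
    have := ha i hi
    nlinarith
  have h2 := (Finset.sum_eq_zero_iff_of_nonneg h1).1 (by rw [Finset.sum_sub_distrib, h, sub_self])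
  intro i hi
  have h3 : a i * (a i - b i) = 0 := by rw [← h2 i hi]; ring
  have h4 := (mul_eq_zero.1 h3).resolve_left (ha i hi).ne'
  omega

theorem bessel_two {X : Subgroup G} {a b : G → ℂ} (ha : nsq X a = 1) (hb : nsq X b = 1)
    (hab : ip X a b = 0) (f : G → ℂ) : ‖ip X f a‖ ^ 2 + ‖ip X f b‖ ^ 2 ≤ nsq X f := by
  have hne : a ≠ b := by
    rintro rfl
    rw [nsq_eq_one_iff, hab] at ha
    exact zero_ne_one ha
  have h : ON X {a, b} := by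
    constructor
    · intro α hα
      simp only [Finset.mem_insert, Finset.mem_singleton] at hα
      rcases hα with rfl | rfl
      · exact nsq_eq_one_iff.1 ha
      · exact nsq_eq_one_iff.1 hb
    · intro α hα β hβ h
      simp only [Finset.mem_insert, Finset.mem_singleton] at hα hβ
      rcases hα with rfl | rfl <;> rcases hβ with rfl | rfl
      · exact absurd rfl h
      · exact hab
      · exact ip_eq_zero_symm hab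
      · exact absurd rfl h
  have := h.bessel f
  rwa [Finset.sum_pair hne] at this

/-- Characters lying over a character of a central subgroup. -/
theorem over_central {H Z : Subgroup G} (hZ : Z ≤ 𝐙(H)) {θ φ : G → ℂ} (hθ : θ ∈ Irr H)
    (hφ : φ ∈ Irr Z) (h : ip Z φ θ ≠ 0) : ip Z φ θ = dg θ ∧ (φ ≠ cf1 Z → ¬ Z ≤ cfKer θ) := by
  obtain ⟨l, hl, e⟩ := res_central (hZ.trans inf_le_left) hθ (by
    rw [commutator_comm, comm_eq_bot_iff.2 (hZ.trans inf_le_right)]; exact bot_le)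
  have h1 : ip Z φ θ = dg θ * ip Z φ l := by
    rw [← ip_res_right, e, ip_smul_right, irr_one_eq hθ, map_natCast]
  obtain rfl : φ = l := irr_eq_of_ip_ne_zero hφ hl.mem_Irr fun h2 => h (by rw [h1, h2, mul_zero])
  refine ⟨by rw [h1, ip_irr_self hφ, mul_one], fun h2 h3 => h2 ?_⟩
  rw [res_eq_smul_cf1 h3] at e
  exact (smul_right_injective _ (irr_one_ne_zero hθ) e).symm

variable {L H Z : Subgroup G} {R : (G → ℂ) → Finset (G → ℂ)} {τ₁ : (G → ℂ) →ₗ[ℂ] (G → ℂ)}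
  {η₁ : G → ℂ}

theorem ip_const (hZ : Z ≤ H) {φ ψ : G → ℂ} (hφ : φ ∈ Irr Z) (h1 : φ ≠ cf1 Z) (hφ1 : φ 1 = 1)
    {n : ℤ} (hn : ∀ z ∈ sharp Z, ψ z = ψ 1 + 𝐨(H) * n) : ip Z φ ψ = -(Z.relIndex H * n) := by
  have h2 := ip_irr_of_ne hφ (cf1_mem_Irr Z) h1
  rw [ip_cf1_right, sum_fs_sharp, mul_eq_zero, hφ1] at h2
  have h3 := h2.resolve_left (inv_ne_zero (card_ne_zero_C Z))
  rw [ip_def, sum_fs_sharp, sum_fs_congr (g := fun z => φ z * (conj (ψ 1) + 𝐨(H) * n))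
    fun z hz => by rw [hn z hz]; simp, ← Finset.sum_mul, inv_mul_eq_iff_eq_mul₀ (card_ne_zero_C Z),
    hφ1, ← H3.card_mul_relIndex hZ]
  push_cast
  linear_combination (conj (ψ 1) + 𝐨(Z) * Z.relIndex H * n) * h3

/-- PF (6.8.2.2). -/
theorem exists_pivot (h : H ⊲ L) (hTI : NormedTI (sharp H) ⊤ L)
    (hS : Subcoherent L (seqIndD H L H ⊥) (ind ⊤ L) R) (hZ : L ≤ 𝐍(Z)) (hZ1 : Z ≠ ⊥)
    (hZc : Z ≤ 𝐙(H)) (hZd : Z ≤ ⁅H, H⁆) (hw : H.relIndex L < Z.relIndex H)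
    (hY : seqIndD H L H ⁅H, H⁆ ⊆ Irr L) (hc : CohWith L (seqIndD H L H ⁅H, H⁆) (ind ⊤ L) τ₁)
    (hη : η₁ ∈ seqIndD H L H ⁅H, H⁆) {n : ℤ}
    (hn : ∀ z ∈ sharp Z, τ₁ η₁ z = τ₁ η₁ 1 + 𝐨(H) * n) :
    ∃ y ∈ Zs (seqIndD H L H ⁅H, H⁆), nsq L y = 1 ∧
      (∀ φ ∈ Irr Z, φ ≠ cf1 Z →
        ip ⊤ (ind ⊤ L (ind L Z φ - (Z.relIndex H : ℂ) • η₁)) (τ₁ y) = -Z.relIndex H) ∧
      ∀ η ∈ seqIndD H L H ⁅H, H⁆, η ≠ η₁ → ip L (η - η₁) y = -1 := by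
  have hZH : Z ≤ H := hZc.trans inf_le_left
  have hZL : Z ≤ L := hZH.trans h.1
  have hYT := seqIndD_subset_T H L H ⁅H, H⁆
  have hdL : L ≤ 𝐍(⁅H, H⁆) := h.2.trans (norm_le_norm_der H)
  have hY1 := fun η (hη : η ∈ seqIndD H L H ⁅H, H⁆) => one_eq_of_der_le h.1 le_rfl hη
  have hYk : ∀ η ∈ seqIndD H L H ⁅H, H⁆, Z ≤ cfKer η := fun η hη =>
    hZd.trans ((mem_seqIndD_iff_ker h h.2 hdL).1 hη).2.1
  have hYS : seqIndD H L H ⁅H, H⁆ ⊆ seqIndD H L H ⊥ := seqIndD_mono H L le_rfl bot_le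
  have hη' := star_mem_seqIndD hη
  have hne : star η₁ ≠ η₁ := hS.not_real _ (hYS hη)
  generalize seqIndD H L H ⁅H, H⁆ = Y at *
  have hv : ∀ η ∈ Y, τ₁ η ∈ VChar ⊤ := fun η hη => hc.vchar _ (mem_Zs_of_mem hη)
  have hn1 : ∀ η ∈ Y, nsq ⊤ (τ₁ η) = 1 := fun η hη => by
    rw [hc.nsq_eq (mem_Zs_of_mem hη), nsq_irr (hY hη)]
  have horth : ∀ η ∈ Y, ∀ η' ∈ Y, η ≠ η' → ip ⊤ (τ₁ η) (τ₁ η') = 0 := fun η h1 η' h2 h3 => by
    rw [hc.iso _ (mem_Zs_of_mem h1) _ (mem_Zs_of_mem h2), ip_irr_of_ne (hY h1) (hY h2) h3]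
  obtain ⟨k, hk⟩ := vchar_ip_int (vchar_ind (le_top : L ≤ ⊤) (irr_mem_VChar (hY hη))) (hv _ hη)
  obtain ⟨x, hx⟩ : ∃ x : ℤ, x = 1 - n - k := ⟨_, rfl⟩
  have hh : (0 : ℝ) < Z.relIndex H := by exact_mod_cast relIndex_pos Z H
  have key : ∀ φ ∈ Irr Z, φ ≠ cf1 Z →
      ip ⊤ (ind ⊤ L (ind L Z φ - (Z.relIndex H : ℂ) • η₁)) (τ₁ η₁) = (Z.relIndex H * (x - 1) : ℤ) ∧
      (∀ η ∈ Y, η ≠ η₁ →
        ip ⊤ (ind ⊤ L (ind L Z φ - (Z.relIndex H : ℂ) • η₁)) (τ₁ η) = (Z.relIndex H * x : ℤ)) ∧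
      nsq ⊤ (ind ⊤ L (ind L Z φ - (Z.relIndex H : ℂ) • η₁)) < 2 * (Z.relIndex H : ℝ) ^ 2 := by
    intro φ hφ hφ1
    have hl := isLin_of_comm (isMulComm_of_le hZc (isMulComm_center H)) hφ
    have h1 : ind L Z φ - (Z.relIndex H : ℂ) • η₁ ∈ CFon L (sharp H) := by
      refine mem_CFon_sharp (sub_mem (CFon_mono L hZH (ind_mem_CFon_normal hZ φ))
        (Submodule.smul_mem _ _ (seqIndT_facts h (hYT hη)).2.1)) ?_
      rw [Pi.sub_apply, Pi.smul_apply, ind_one hZL, hl.2.1, hY1 _ hη,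
        ← relIndex_mul_relIndex Z H L hZH h.1]
      simp
    have h2 : ∀ η ∈ Y, ip L (ind L Z φ) η = 0 := fun η hη => by
      rw [ip_ind_left hZL φ (irr_mem_CF (hY hη)), ← ip_res_right, res_eq_smul_cf1 (hYk η hη),
        ip_smul_right, ip_irr_of_ne hφ (cf1_mem_Irr Z) hφ1, mul_zero]
    have h3 : ip ⊤ (ind ⊤ L (ind L Z φ - (Z.relIndex H : ℂ) • η₁)) (τ₁ η₁) =
        (Z.relIndex H * (x - 1) : ℤ) := by
      rw [map_sub, map_smul, ind_ind le_top hZL, ip_sub_left, ip_smul_left, hk,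
        ip_ind_left le_top φ (vchar_mem_CF (hv _ hη)), ip_const hZH hφ hφ1 hl.2.1 hn, hx]
      push_cast; ring
    refine ⟨h3, fun η hη' hne => ?_, ?_⟩
    · have h4 : η - η₁ ∈ Zs0 Y := sub_mem_Zs0 (mem_Zs_of_mem hη') (mem_Zs_of_mem hη)
        ((hY1 _ hη').trans (hY1 _ hη).symm)
      have h5 : τ₁ η = τ₁ η₁ + ind ⊤ L (η - η₁) := by
        rw [← hc.agree _ h4, map_sub]; abel
      rw [h5, ip_add_right, h3, hTI.ip_ind h1 (Zs0_seqIndT h hYT h4).1]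
      simp only [ip_sub_left, ip_sub_right, ip_smul_left, h2 _ hη, h2 _ hη', ip_irr_self (hY hη),
        ip_irr_of_ne (hY hη) (hY hη') hne.symm]
      push_cast; ring
    · rw [nsq_eq_of_ip_eq (hTI.ip_ind h1 h1), nsq_sub_of_orth (by
        rw [ip_smul_right, h2 _ hη, mul_zero]), nsq_nat_smul, nsq_irr (hY hη),
        nsq_ind_irr ⟨hZL, hZ⟩ hφ]
      have h4 : Z.relIndex (L ⊓ inertia φ) ≤ Z.relIndex L :=
        relIndex_le_of_le_right inf_le_left (CH1.relIndex_ne_zero' _ _)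
      rw [← relIndex_mul_relIndex Z H L hZH h.1] at h4
      have h5 : (Z.relIndex (L ⊓ inertia φ) : ℝ) ≤ Z.relIndex H * H.relIndex L := by
        exact_mod_cast h4
      have h6 : (H.relIndex L : ℝ) < Z.relIndex H := by exact_mod_cast hw
      nlinarith
  obtain ⟨φ₀, hφ₀⟩ := irrKerD_nonempty (K := Z) (H := Z) (M := ⊥)
    ⟨bot_le, norm_bot (G := G) ▸ le_top⟩ (by simpa using hZ1)
  rw [mem_irrKerD, ← irr_eq_cf1_iff hφ₀.1] at hφ₀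
  obtain ⟨e1, e2, e3⟩ := key φ₀ hφ₀.1 hφ₀.2.2
  have hb : ∀ η ∈ Y, ∀ η' ∈ Y, η ≠ η' → ∀ a b : ℤ,
      ip ⊤ (ind ⊤ L (ind L Z φ₀ - (Z.relIndex H : ℂ) • η₁)) (τ₁ η) = (Z.relIndex H * a : ℤ) →
      ip ⊤ (ind ⊤ L (ind L Z φ₀ - (Z.relIndex H : ℂ) • η₁)) (τ₁ η') = (Z.relIndex H * b : ℤ) →
      a ^ 2 + b ^ 2 < 2 := by
    intro η h1 η' h2 h3 a b ha hb
    have h4 := (bessel_two (hn1 η h1) (hn1 η' h2) (horth η h1 η' h2 h3) _).trans_lt e3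
    rw [ha, hb, Complex.norm_intCast, Complex.norm_intCast, sq_abs, sq_abs] at h4
    push_cast at h4
    have h5 : (a : ℝ) ^ 2 + b ^ 2 < 2 := by
      refine lt_of_mul_lt_mul_left (a := (Z.relIndex H : ℝ) ^ 2) ?_ (sq_nonneg _)
      linarith
    exact_mod_cast h5
  have h1 := hb _ hη _ hη' hne.symm _ _ e1 (e2 _ hη' hne)
  have h2 : x = 0 ∨ x = 1 := by
    have : 0 ≤ x := by nlinarith
    have : x ≤ 1 := by nlinarith
    omega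
  rcases h2 with rfl | rfl
  · refine ⟨η₁, mem_Zs_of_mem hη, nsq_irr (hY hη), fun φ hφ hφ1 => ?_, fun η h3 h4 => ?_⟩
    · rw [(key φ hφ hφ1).1]; simp
    · rw [ip_sub_left, ip_irr_self (hY hη), ip_irr_of_ne (hY h3) (hY hη) h4, zero_sub]
  · refine ⟨-star η₁, neg_mem (mem_Zs_of_mem hη'), by rw [nsq_neg, nsq_irr (hY hη')],
      fun φ hφ hφ1 => ?_, fun η h3 h4 => ?_⟩
    · rw [map_neg, ip_neg_right, (key φ hφ hφ1).2.1 _ hη' hne]; simp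
    · obtain rfl : η = star η₁ := by
        by_contra h5
        have := hb _ h3 _ hη' h5 _ _ (e2 _ h3 h4) (e2 _ hη' hne)
        omega
      rw [ip_neg_right, ip_sub_left, ip_irr_self (hY hη'), ip_irr_of_ne (hY hη) (hY hη') hne.symm,
        sub_zero]

/-- PF (6.8.2.3) and the conclusion of (6.8.1) and (6.8.2). -/
theorem coherent_union (h : H ⊲ L) (hTI : NormedTI (sharp H) ⊤ L)
    (hS : Subcoherent L (seqIndD H L H ⊥) (ind ⊤ L) R) (hZ : L ≤ 𝐍(Z)) (hZ1 : Z ≠ ⊥)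
    (hZc : Z ≤ 𝐙(H)) (hZd : Z ≤ ⁅H, H⁆) (hw : H.relIndex L < Z.relIndex H)
    (hY : seqIndD H L H ⁅H, H⁆ ⊆ Irr L) (hc : CohWith L (seqIndD H L H ⁅H, H⁆) (ind ⊤ L) τ₁)
    (hη : η₁ ∈ seqIndD H L H ⁅H, H⁆) {n : ℤ}
    (hn : ∀ z ∈ sharp Z, τ₁ η₁ z = τ₁ η₁ 1 + 𝐨(H) * n) :
    Coherent L (seqIndD H L Z ⊥ ∪ seqIndD H L H ⁅H, H⁆) (ind ⊤ L) := by
  obtain ⟨y, hy, hy1, hφy, hYy⟩ := exists_pivot h hTI hS hZ hZ1 hZc hZd hw hY hc hη hn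
  have hZH : Z ≤ H := hZc.trans inf_le_left
  have hdL : L ≤ 𝐍(⁅H, H⁆) := h.2.trans (norm_le_norm_der H)
  have hb : L ≤ 𝐍((⊥ : Subgroup G)) := norm_bot (G := G) ▸ le_top
  have hY1 := fun η (hη : η ∈ seqIndD H L H ⁅H, H⁆) => one_eq_of_der_le h.1 le_rfl hη
  have hYS : ConjSub (seqIndD H L H ⁅H, H⁆) (seqIndD H L H ⊥) := conjSub_seqIndD H L le_rfl bot_le
  have hXS : ConjSub (seqIndD H L Z ⊥) (seqIndD H L H ⊥) := conjSub_seqIndD H L hZH le_rfl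
  have hXY : ∀ χ ∈ seqIndD H L Z ⊥, χ ∉ seqIndD H L H ⁅H, H⁆ := fun χ h1 h2 =>
    ((mem_seqIndD_iff_ker h hZ hb).1 h1).2.2 (hZd.trans ((mem_seqIndD_iff_ker h h.2 hdL).1 h2).2.1)
  have hv : τ₁ y ∈ VChar ⊤ := hc.vchar _ hy
  have hn1 : nsq ⊤ (τ₁ y) = 1 := by rw [hc.nsq_eq hy, hy1]
  have hd : ∀ θ ∈ Irr H, ind L H θ 1 = ((dg θ : ℂ) • η₁) 1 := fun θ hθ => by
    rw [ind_one h.1, Pi.smul_apply, hY1 _ hη, irr_one_eq hθ, smul_eq_mul, mul_comm]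
  have hbd : ∀ θ : G → ℂ, ∃ b : ℤ, θ ∈ irrKerD H Z ⊥ →
      ip ⊤ (ind ⊤ L (ind L H θ - (dg θ : ℂ) • η₁)) (τ₁ y) = -b ∧ b ^ 2 ≤ (dg θ : ℤ) ^ 2 := by
    intro θ
    by_cases hθ : θ ∈ irrKerD H Z ⊥
    swap
    · exact ⟨0, fun h1 => absurd h1 hθ⟩
    have hχ : ind L H θ ∈ seqIndD H L Z ⊥ := mem_seqIndD.2 ⟨θ, hθ, rfl⟩
    have hθi := (mem_irrKerD.1 hθ).1
    have hψ : (dg θ : ℂ) • η₁ ∈ Zs (seqIndD H L H ⊥) :=
      natCast_smul_mem_Zs (mem_Zs_of_mem (hYS.1 hη)) _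
    have ho : ∀ χ ∈ seqIndD H L Z ⊥, ip L ((dg θ : ℂ) • η₁) χ = 0 := fun χ h1 => by
      rw [ip_smul_left, hS.orth _ (hYS.1 hη) _ (hXS.1 h1) fun e => hXY χ h1 (e ▸ hη), mul_zero]
    have h1 := ip_bound hS (hXS.1 hχ) hψ (hd θ hθi) (ho _ hχ) (ho _ (hXS.2 _ hχ))
      (hS.coherent_ortho_supp hYS hc (hXS.1 hχ) (hXY _ hχ) hy)
    obtain ⟨b, hb⟩ := vchar_ip_int
      (hS.vchar _ (sub_mem_Zs0 (mem_Zs_of_mem (hXS.1 hχ)) hψ (hd θ hθi))).1 hv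
    refine ⟨-b, fun _ => ⟨by rw [hb]; simp, ?_⟩⟩
    rw [hb, hn1, nsq_nat_smul, nsq_irr (hY hη), Complex.norm_intCast, sq_abs, mul_one, mul_one]
      at h1
    rw [neg_sq]
    exact_mod_cast h1
  choose b hb using hbd
  have key : ∀ θ ∈ irrKerD H Z ⊥, b θ = dg θ := by
    intro θ hθ
    obtain ⟨hθi, -, hθk⟩ := mem_irrKerD.1 hθ
    obtain ⟨φ, hφ⟩ := exists_constt_res hZH hθi
    have hφi := (mem_constt.1 hφ).1
    have hφ1 : φ ≠ cf1 Z := by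
      rintro rfl
      obtain ⟨l, hl, e⟩ := res_central hZH hθi (by
        rw [commutator_comm, comm_eq_bot_iff.2 (hZc.trans inf_le_right)]; exact bot_le)
      have h1 := (mem_constt.1 hφ).2
      rw [e, ip_smul_left] at h1
      obtain rfl := irr_eq_of_ip_ne_zero hl.mem_Irr hφi (right_ne_zero_of_mul h1)
      refine hθk (((irr_isChar hθi).le_cfKer_res_iff le_rfl hZH).1 ?_)
      rw [e, cfKer_smul (irr_one_ne_zero hθi)]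
      exact le_cfKer_cf1 Z
    have hT : ∀ θ' ∈ constt H (ind H Z φ), ip H (ind H Z φ) θ' = dg θ' ∧ θ' ∈ irrKerD H Z ⊥ := by
      intro θ' h1
      rw [mem_constt, ip_ind_left hZH φ (irr_mem_CF h1.1)] at h1
      obtain ⟨h2, h3⟩ := over_central hZc h1.1 hφi h1.2
      exact ⟨by rw [ip_ind_left hZH φ (irr_mem_CF h1.1), h2], mem_irrKerD.2 ⟨h1.1, bot_le, h3 hφ1⟩⟩
    have e1 : ind H Z φ = ∑ θ' ∈ constt H (ind H Z φ), (dg θ' : ℂ) • θ' :=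
      (eq_sum_constt (ind_mem_CF H Z φ)).trans
        (Finset.sum_congr rfl fun θ' h1 => by rw [(hT θ' h1).1])
    have hθT : θ ∈ constt H (ind H Z φ) := (mem_constt_ind_iff hZH hφi hθi).2 hφ
    generalize constt H (ind H Z φ) = T at hT e1 hθT
    have e2 : (Z.relIndex H : ℂ) = ∑ θ' ∈ T, (dg θ' : ℂ) ^ 2 := by
      have := congrFun e1 1
      rw [ind_one hZH, (isLin_of_comm (isMulComm_of_le hZc (isMulComm_center H)) hφi).2.1, mul_one,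
        Finset.sum_apply] at this
      rw [this]
      exact Finset.sum_congr rfl fun θ' h1 => by
        rw [Pi.smul_apply, irr_one_eq (mem_irrKerD.1 (hT θ' h1).2).1, smul_eq_mul, sq]
    have e3 : ind L Z φ - (Z.relIndex H : ℂ) • η₁ =
        ∑ θ' ∈ T, (dg θ' : ℂ) • (ind L H θ' - (dg θ' : ℂ) • η₁) := by
      rw [← ind_ind h.1 hZH, e1, e2, map_sum, Finset.sum_smul, ← Finset.sum_sub_distrib]
      exact Finset.sum_congr rfl fun θ' _ => by rw [map_smul, smul_sub, smul_smul, sq]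
    have e4 := hφy φ hφi hφ1
    rw [e3, map_sum, ip_sum_left, e2, Finset.sum_congr rfl fun θ' h1 => by
      rw [map_smul, ip_smul_left, (hb θ' (hT θ' h1).2).1, mul_neg], Finset.sum_neg_distrib,
      neg_inj] at e4
    exact eq_of_sum_mul (T := T) (a := fun θ' => (dg θ' : ℤ)) (b := b)
      (fun θ' h1 => by exact_mod_cast irr_dg_pos (mem_irrKerD.1 (hT θ' h1).2).1)
      (fun θ' h1 => (hb θ' (hT θ' h1).2).2) (by exact_mod_cast e4) θ hθT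
  have hU : ConjSub (seqIndD H L Z ⊥ ∪ seqIndD H L H ⁅H, H⁆) (seqIndD H L H ⊥) :=
    ⟨Finset.union_subset hXS.1 hYS.1, fun χ h1 => by
      rw [Finset.mem_union] at h1 ⊢
      exact h1.imp (hXS.2 χ) (hYS.2 χ)⟩
  obtain ⟨τ₂, h2, -⟩ := (hS.mono hU).pivot_coherence (Finset.mem_union_right _ hη) hv
    (fun η h1 hne => by
      simp only [ip_irr_self (hY hη), mul_one]
      rcases Finset.mem_union.1 h1 with h1 | h1
      · obtain ⟨θ, hθ, rfl⟩ := mem_seqIndD.1 h1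
        exact ⟨dg θ, hd θ (mem_irrKerD.1 hθ).1, by rw [(hb θ hθ).1, key θ hθ, Int.cast_natCast]⟩
      · have h4 : η - η₁ ∈ Zs0 (seqIndD H L H ⁅H, H⁆) := sub_mem_Zs0 (mem_Zs_of_mem h1)
          (mem_Zs_of_mem hη) ((hY1 _ h1).trans (hY1 _ hη).symm)
        refine ⟨1, by rw [hY1 _ h1, hY1 _ hη, Nat.cast_one, one_mul], ?_⟩
        rw [Nat.cast_one, one_smul, ← hc.agree _ h4, hc.iso _ h4.1 _ hy, hYy η h1 hne])
    (by rw [hn1, nsq_irr (hY hη)])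
  exact ⟨τ₂, h2⟩

/-- Case (A) of (6.8): `η₁^τ₁` is constant on `Z^#`. -/
theorem const_of_coherent {S X Y : Finset (G → ℂ)} (hS : Subcoherent L S (ind ⊤ L) R)
    (hZ : Z ≤ L) (hX : X = irrKerD L Z ⊥) (hXS : ConjSub X S) (hYS : ConjSub Y S)
    (hd : Disjoint X Y) (hcX : Coherent L X (ind ⊤ L)) (hc : CohWith L Y (ind ⊤ L) τ₁)
    (hη : η₁ ∈ Y) : ∀ x ∈ sharp Z, ∀ y ∈ sharp Z, τ₁ η₁ x = τ₁ η₁ y := by
  obtain ⟨τ₂, hc₂⟩ := hcX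
  have hv : τ₁ η₁ ∈ CF ⊤ := vchar_mem_CF (hc.vchar _ (mem_Zs_of_mem hη))
  have hXi : ∀ χ ∈ X, χ ∈ Irr L := fun χ h1 => (mem_irrKerD.1 (hX ▸ h1)).1
  have h1 : ∀ χ ∈ X, ∀ χ' ∈ X, dg χ * ip L (τ₁ η₁) χ' = dg χ' * ip L (τ₁ η₁) χ := by
    intro χ h1 χ' h2
    have h3 : (dg χ : ℂ) • χ' - (dg χ' : ℂ) • χ ∈ Zs0 X :=
      sub_mem_Zs0 (natCast_smul_mem_Zs (mem_Zs_of_mem h2) _)
        (natCast_smul_mem_Zs (mem_Zs_of_mem h1) _) (by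
          simp only [Pi.smul_apply, irr_one_eq (hXi _ h1), irr_one_eq (hXi _ h2), smul_eq_mul,
            mul_comm])
    have h4 := hS.coherent_ortho hYS hc hXS hc₂ hd.symm (mem_Zs_of_mem hη) h3.1
    rw [hc₂.agree _ h3, ip_ind_right le_top hv] at h4
    simpa only [ip_sub_right, ip_smul_right, map_natCast, sub_eq_zero] using h4
  obtain ⟨κ, hκ⟩ : ∃ κ : ℂ, ∀ χ ∈ X, ip L (τ₁ η₁) χ = κ * χ 1 := by
    rcases X.eq_empty_or_nonempty with rfl | ⟨χ₀, h0⟩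
    · exact ⟨0, by simp⟩
    refine ⟨ip L (τ₁ η₁) χ₀ / dg χ₀, fun χ h2 => ?_⟩
    have h3 : (dg χ₀ : ℂ) ≠ 0 := by exact_mod_cast (irr_dg_pos (hXi _ h0)).ne'
    rw [irr_one_eq (hXi _ h2), div_mul_eq_mul_div, eq_div_iff h3]
    linear_combination h1 _ h0 _ h2
  suffices h2 : ∀ x ∈ sharp Z, τ₁ η₁ x = τ₁ η₁ 1 - κ * 𝐨(L) from
    fun x hx y hy => (h2 x hx).trans (h2 y hy).symm
  intro x hx
  have h2 := apply_eq_sum_irr (res_mem_CF (le_top : L ≤ ⊤) hv)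
  have h3 := sum_irr_one_mul L x
  have h4 := sum_irr_one_mul L 1
  rw [if_neg hx.2] at h3
  rw [if_pos rfl] at h4
  have h5 : τ₁ η₁ x - τ₁ η₁ 1 = κ * (∑ χ ∈ Irr L, χ 1 * χ x - ∑ χ ∈ Irr L, χ 1 * χ 1) := by
    rw [← res_of_mem (τ₁ η₁) (hZ hx.1), ← res_one L (τ₁ η₁), h2 x, h2 1, ← Finset.sum_sub_distrib,
      ← Finset.sum_sub_distrib, Finset.mul_sum]
    refine Finset.sum_congr rfl fun χ hχ => ?_
    rw [ip_res_left]
    by_cases h6 : χ ∈ X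
    · rw [hκ χ h6]; ring
    · have h7 : Z ≤ cfKer χ := by
        by_contra h7; exact h6 (hX ▸ mem_irrKerD.2 ⟨hχ, bot_le, h7⟩)
      rw [apply_of_mem_cfKer (h7 hx.1)]; ring
  rw [h3, h4] at h5
  linear_combination h5

/-- Case (B) of (6.8): PF (6.8.2.1). -/
theorem const_of_prime (h : H ⊲ L) (hTI : NormedTI (sharp H) ⊤ L) (hZ : 𝐨(Z).Prime)
    (hZd : Z ≤ ⁅H, H⁆) (hY : seqIndD H L H ⁅H, H⁆ ⊆ Irr L)
    (hc : CohWith L (seqIndD H L H ⁅H, H⁆) (ind ⊤ L) τ₁) (hη : η₁ ∈ seqIndD H L H ⁅H, H⁆)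
    (hne : star η₁ ≠ η₁) : ∀ x ∈ sharp Z, ∀ y ∈ sharp Z, τ₁ η₁ x = τ₁ η₁ y := by
  intro x hx y hy
  have hdL : L ≤ 𝐍(⁅H, H⁆) := h.2.trans (norm_le_norm_der H)
  have ho : orderOf x = 𝐨(Z) := by
    rw [← Nat.card_zpowers, zpowers_eq_of_card_prime hZ hx.1 hx.2]
  obtain ⟨k, rfl⟩ : ∃ k : ℕ, x ^ k = y := mem_powers_iff_mem_zpowers.2
    (zpowers_eq_of_card_prime hZ hx.1 hx.2 ▸ hy.1)
  have hk : k.Coprime 𝐨(Z) := by
    rw [Nat.coprime_comm, hZ.coprime_iff_not_dvd, ← ho, orderOf_dvd_iff_pow_eq_one]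
    exact hy.2
  obtain ⟨u, hu⟩ := exists_aut_pow hZ.pos hk
  have h1 := vchar_aut_apply (hc.vchar _ (mem_Zs_of_mem hη)) hZ.pos hu (mem_top x)
    (ho ▸ pow_orderOf_eq_one x)
  have h2 := hc.cfAut_eq (u := u) (fun φ hφ => ⟨ind_cfAut _ _ _ _, by
    rw [ind_one le_top, hφ.2, mul_zero]⟩) (fun χ => cfAut_mem_seqIndD u) hη (hY hη)
    (star_mem_seqIndD hη) (star_mem_Irr (hY hη)) hne
  have hη' := cfAut_mem_seqIndD u hη
  have h3 : cfAut u η₁ - η₁ ∈ Zs0 (seqIndD H L H ⁅H, H⁆) := sub_mem_Zs0 (mem_Zs_of_mem hη')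
    (mem_Zs_of_mem hη) ((irr_isChar (hY hη)).cfAut_one u)
  have h4 := congrFun (hc.agree _ h3) x
  have h5 : ∀ η ∈ seqIndD H L H ⁅H, H⁆, η x = η 1 := fun η h6 =>
    apply_of_mem_cfKer (((mem_seqIndD_iff_ker h h.2 hdL).1 h6).2.1 (hZd hx.1))
  rw [hTI.ind_apply (Zs0_seqIndT h (seqIndD_subset_T _ _ _ _) h3).1
    ⟨der_le H (hZd hx.1), hx.2⟩, map_sub, ← h2, Pi.sub_apply, Pi.sub_apply, h5 _ hη, h5 _ hη',
    (irr_isChar (hY hη)).cfAut_one u, sub_self, sub_eq_zero, cfAut_apply, h1] at h4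
  exact h4.symm

theorem exists_mod {p : ℕ} (hp : p.Prime) (hP : IsSyl p H L) (ho : Odd 𝐨(L))
    (hTI : NormedTI (sharp H) ⊤ L) (hZ : L ≤ 𝐍(Z)) (hZ1 : Z ≠ ⊥) (hZc : Z ≤ 𝐙(H)) {ψ : G → ℂ}
    (hψ : Dirr ⊤ ψ) (hc : ∀ x ∈ sharp Z, ∀ y ∈ sharp Z, ψ x = ψ y) :
    ∃ n : ℤ, ∀ z ∈ sharp Z, ψ z = ψ 1 + 𝐨(H) * n := by
  obtain ⟨x, hx⟩ := sharp_nonempty.2 hZ1
  rcases hψ with h1 | h1
  · obtain ⟨n, hn⟩ := const_mod hp hP ho hTI hZ hZc h1 hc hx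
    exact ⟨n, fun z hz => (hc z hz x hx).trans hn⟩
  · obtain ⟨n, hn⟩ := const_mod hp hP ho hTI hZ hZc h1
      (fun a ha b hb => by rw [Pi.neg_apply, Pi.neg_apply, hc a ha b hb]) hx
    refine ⟨-n, fun z hz => (hc z hz x hx).trans ?_⟩
    simp only [Pi.neg_apply] at hn
    push_cast
    linear_combination -hn

/-- PF (6.8.3). -/
theorem coherent_of_union (h : H ⊲ L) (hS : Subcoherent L (seqIndD H L H ⊥) (ind ⊤ L) R)
    (hZ : L ≤ 𝐍(Z)) (hZc : Z ≤ 𝐙(H)) (hη : η₁ ∈ seqIndD H L H ⁅H, H⁆)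
    (hc : Coherent L (seqIndD H L Z ⊥ ∪ seqIndD H L H ⁅H, H⁆) (ind ⊤ L))
    (hb : ¬ ⁅H, H⁆ ≤ Z → ∀ d : ℕ, d ^ 2 ≤ Z.relIndex H →
      2 * H.relIndex L * d + Z.relIndex H < Z.relIndex H * 𝐨(Z)) :
    Coherent L (seqIndD H L H ⊥) (ind ⊤ L) := by
  have hZH : Z ≤ H := hZc.trans inf_le_left
  have hYS : ConjSub (seqIndD H L H ⁅H, H⁆) (seqIndD H L H ⊥) := conjSub_seqIndD H L le_rfl bot_le
  have hXS : ConjSub (seqIndD H L Z ⊥) (seqIndD H L H ⊥) := conjSub_seqIndD H L hZH le_rfl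
  have hU : ConjSub (seqIndD H L Z ⊥ ∪ seqIndD H L H ⁅H, H⁆) (seqIndD H L H ⊥) :=
    ⟨Finset.union_subset hXS.1 hYS.1, fun χ h1 => by
      rw [Finset.mem_union] at h1 ⊢
      exact h1.imp (hXS.2 χ) (hYS.2 χ)⟩
  refine extend_all hS hU le_rfl hc (Finset.mem_union_right _ hη) fun χ hχ hn => ?_
  obtain ⟨θ, hθ, rfl⟩ := mem_seqIndD.1 hχ
  obtain ⟨hθi, -, hθk⟩ := mem_irrKerD.1 hθ
  rw [Finset.mem_union, not_or] at hn
  have h1 : Z ≤ cfKer θ := by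
    by_contra h1
    exact hn.1 (mem_seqIndD.2 ⟨θ, mem_irrKerD.2 ⟨hθi, bot_le, h1⟩, rfl⟩)
  have h2 : ¬ ⁅H, H⁆ ≤ Z := fun h2 =>
    hn.2 (mem_seqIndD.2 ⟨θ, mem_irrKerD.2 ⟨hθi, h2.trans h1, hθk⟩, rfl⟩)
  have h3 := hb h2 _ (irr_dg_sq_le hZH hθi (by
    rw [commutator_comm, comm_eq_bot_iff.2 (hZc.trans inf_le_right)]; exact bot_le))
  rw [dg_eq_of (one_eq_of_der_le h.1 le_rfl hη), (irr_isChar hθi).dg_ind h.1]
  refine ⟨dvd_mul_right _ _, lt_of_lt_of_le ?_ (Finset.sum_le_sum_of_subset_of_nonneg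
    Finset.subset_union_left fun ψ _ _ => div_nonneg (sq_nonneg _) (nsq_nonneg _ _))⟩
  rw [sum_seqIndD_square h hZH hZ (norm_bot (G := G) ▸ le_top) bot_le, relIndex_bot_left,
    ← relIndex_mul_relIndex Z H L hZH h.1]
  have h4 : (2 * H.relIndex L * dg θ + Z.relIndex H : ℝ) < Z.relIndex H * 𝐨(Z) := by
    exact_mod_cast h3
  have h5 : (0 : ℝ) < H.relIndex L := by exact_mod_cast relIndex_pos H L
  push_cast
  nlinarith

theorem frobKerMod_of {W₁ W₂ N : Subgroup G} (hsd : SdProd H W₁ L) (h1 : W₁ ≠ ⊥)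
    (hcop : 𝐨(H).Coprime 𝐨(W₁)) (hs : Group.IsSolvable H)
    (hcent : ∀ x ∈ W₁, x ≠ 1 → H ⊓ 𝐂[x] = W₂) (hN : L ≤ 𝐍(N)) (h2 : W₂ ≤ N) (h3 : N < H) :
    FrobKerMod L H N := by
  haveI : (N.subgroupOf L).Normal := H1.normal_subgroupOf_of_le hN
  rw [frobKerMod_iff_bar (Y := L) le_rfl hN h3.le hsd.le_left]
  have hF : Frob (H1.bar L N H) (H1.bar L N W₁) := by
    refine ⟨fun e => h3.not_ge ((H1.bar_eq_bot_iff hsd.le_left).1 e), fun e => h1 ?_,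
      H1.bar_le_normalizer hsd.norm, fun x hx hx1 => ?_⟩
    · rw [eq_bot_iff, ← hsd.disj]
      exact le_inf (((H1.bar_eq_bot_iff hsd.le_right).1 e).trans h3.le) le_rfl
    · obtain ⟨w, hw, rfl⟩ := H1.mem_bar.1 hx
      have hw1 : (w : G) ≠ 1 := fun e => hx1 (by rw [show w = 1 from Subtype.ext e, map_one])
      have hle : zpowers (w : G) ≤ W₁ := zpowers_le.2 hw
      rw [← cent_zpowers, ← H1.bar_zpowers, H1.bar_inf_centralizer_bar (hle.trans hsd.le_right)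
        hsd.le_left (hle.trans hsd.norm) (hcop.symm.coprime_dvd_left (card_dvd_of_le hle))
        (Or.inr hs), cent_zpowers, hcent w hw hw1,
        H1.bar_eq_bot_iff ((h2.trans h3.le).trans hsd.le_left)]
      exact h2
  have h4 := hF.frobKer
  rwa [← H1.bar_sup hsd.le_left hsd.le_right, hsd.sup] at h4

theorem sibley_core {W₁ W₂ : Subgroup G} (ho : Odd 𝐨(L)) (hn : Group.IsNilpotent H)
    (hTI : NormedTI (sharp H) ⊤ L) (hS : Subcoherent L (seqIndD H L H ⊥) (ind ⊤ L) R)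
    (hsd : SdProd H W₁ L) (h1 : W₁ ≠ ⊥) (hcop : 𝐨(H).Coprime 𝐨(W₁))
    (hcent : ∀ x ∈ W₁, x ≠ 1 → H ⊓ 𝐂[x] = W₂) (h2 : W₂ ≤ ⁅H, H⁆) (h3 : W₂ = ⊥ ∨ 𝐨(W₂).Prime)
    (hirr : ∀ Z : Subgroup G, Z ≤ H → L ≤ 𝐍(Z) → Z ⊓ W₂ = ⊥ → seqIndD H L Z ⊥ ⊆ Irr L) :
    Coherent L (seqIndD H L H ⊥) (ind ⊤ L) := by
  obtain ⟨hH1, h, -, -⟩ := normedTI_sharp_iff.1 hTI
  have hs := isSolvable_of_isNilpotent hn
  have hb : L ≤ 𝐍((⊥ : Subgroup G)) := norm_bot (G := G) ▸ le_top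
  have hdL : L ≤ 𝐍(⁅H, H⁆) := h.2.trans (norm_le_norm_der H)
  have hlt : ⁅H, H⁆ < H := by
    simpa using der_sup_lt hs (bot_lt_iff_ne_bot.2 hH1) (h.1.trans hb)
  have hF := frobKerMod_of hsd h1 hcop hs hcent hdL h2 hlt
  have hO : OddFrobQuot H L ⊥ :=
    ⟨ho, ⟨bot_le, hb⟩, bot_le, nilMod_bot_iff.2 hn, by rwa [sup_bot_eq]⟩
  by_contra hnc
  obtain ⟨-, -, p, hp, ⟨n, hpn⟩, hna, -⟩ := non_coherent_chief hs hS hO hnc
  rw [relIndex_bot_left] at hpn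
  have hP : IsSyl p H L := ⟨h.1, isPGroup_of_card_eq hpn, fun h4 => hp.one_lt.ne' (by
    rw [hsd.relIndex_left] at h4
    exact Nat.eq_one_of_dvd_coprimes hcop
      (prime_dvd_card_of_isPGroup hp (isPGroup_of_card_eq hpn) hH1) h4)⟩
  have hY : seqIndD H L H ⁅H, H⁆ ⊆ Irr L := fun χ hχ => by
    obtain ⟨θ, hθ, rfl⟩ := mem_seqIndD.1 hχ
    rw [mem_irrKerD] at hθ
    exact hF.ind_mem_Irr (mem_irrKer.2 ⟨hθ.1, hθ.2.1⟩) (mt (irr_eq_cf1_iff hθ.1).1 hθ.2.2)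
  obtain ⟨τ₁, hc⟩ := coherent_of_der_le h.1 hS le_rfl
  obtain ⟨θ₁, -, -, hη, -⟩ := exists_linInd h.1 hs hlt (der_normal H).2
  generalize ind L H θ₁ = η₁ at hη
  have hYS : ConjSub (seqIndD H L H ⁅H, H⁆) (seqIndD H L H ⊥) := conjSub_seqIndD H L le_rfl bot_le
  have hψ := hc.dirr hη (hY hη)
  have hw := (frob_lt hF ho le_rfl hlt le_rfl hdL h.2).2
  have hw0 := relIndex_pos H L
  have hw' : ∀ Z : Subgroup G, Z ≤ ⁅H, H⁆ → H.relIndex L < Z.relIndex H := fun Z h4 =>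
    lt_of_lt_of_le (by omega) (relIndex_le_of_le_left h4 (CH1.relIndex_ne_zero' _ _))
  by_cases hA : 𝐙(H) ⊓ W₂ = ⊥
  · obtain ⟨Z, hZ⟩ : ∃ Z, Z = ⁅H, H⁆ ⊓ 𝐂(H) := ⟨_, rfl⟩
    have hZ1 : Z ≠ ⊥ := hZ ▸ inf_center_ne_bot hn (der_normal H) (by simpa using hna)
    have hZd : Z ≤ ⁅H, H⁆ := hZ ▸ inf_le_left
    have hZc : Z ≤ 𝐙(H) := hZ ▸ inf_le_inf_right _ (der_le H)
    have hZH : Z ≤ H := hZd.trans (der_le H)
    have hZn : L ≤ 𝐍(Z) :=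
      hZ ▸ H1.le_normalizer_inf hdL (H1.le_normalizer_centralizer h.2)
    have hZW : Z ⊓ W₂ = ⊥ := le_bot_iff.1 (hA ▸ inf_le_inf_right _ hZc)
    obtain ⟨hX, hcX⟩ := seqIndD_irr_coherence hS hO hZn hZ1 hZc (hirr Z hZH hZn hZW)
    have hd : Disjoint (seqIndD H L Z ⊥) (seqIndD H L H ⁅H, H⁆) :=
      Finset.disjoint_left.2 fun χ h4 h5 => ((mem_seqIndD_iff_ker h hZn hb).1 h4).2.2
        (hZd.trans ((mem_seqIndD_iff_ker h h.2 hdL).1 h5).2.1)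
    obtain ⟨m, hm⟩ := exists_mod hp hP ho hTI hZn hZ1 hZc hψ
      (const_of_coherent hS (hZH.trans h.1) hX (conjSub_seqIndD H L hZH le_rfl) hYS hd hcX hc hη)
    refine hnc (coherent_of_union h hS hZn hZc hη
      (coherent_union h hTI hS hZn hZ1 hZc hZd (hw' Z hZd) hY hc hη hm) fun _ d hd => ?_)
    have hreg : SemiReg Z W₁ := fun x hx hx1 => by
      rw [eq_bot_iff, ← hZW, ← hcent x hx hx1]
      exact le_inf inf_le_left (inf_le_inf_right _ hZH)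
    have h4 := hreg.card_dvd (hsd.le_right.trans hZn)
    rw [← hsd.relIndex_left] at h4
    have h5 := two_mul_lt (PF06.odd_relIndex ho le_rfl H)
      (ho.of_dvd_nat (card_dvd_of_le (hZH.trans h.1))) ((one_lt_card_iff_ne_bot Z).2 hZ1) h4
    have h6 := hw' Z hZd
    have h7 : d < Z.relIndex H := by nlinarith
    nlinarith
  · have hW1 : W₂ ≠ ⊥ := fun e => hA (by rw [e, inf_bot_eq])
    have hW := h3.resolve_left hW1
    have hZc : W₂ ≤ 𝐙(H) := by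
      rcases inf_eq_bot_or_le_of_card_prime hW 𝐙(H) with h4 | h4
      · exact absurd (by rwa [inf_comm] at h4) hA
      · exact h4
    have hZn : L ≤ 𝐍(W₂) := by
      refine le_trans ?_ (cent_le_norm W₂)
      rw [← hsd.sup]
      refine sup_le (cent_comm.1 (hZc.trans inf_le_right)) fun x hx => ?_
      by_cases hx1 : x = 1
      · rw [hx1]; exact one_mem _
      · rw [mem_cent_iff_cent1, ← hcent x hx hx1]; exact inf_le_right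
    obtain ⟨m, hm⟩ := exists_mod hp hP ho hTI hZn hW1 hZc hψ
      (const_of_prime h hTI hW h2 hY hc hη (hS.not_real _ (hYS.1 hη)))
    refine hnc (coherent_of_union h hS hZn hZc hη
      (coherent_union h hTI hS hZn hW1 hZc h2 (hw' _ h2) hY hc hη hm) fun h4 d hd => ?_)
    have h5 := (frob_lt (frobKerMod_of hsd h1 hcop hs hcent hZn le_rfl (h2.trans_lt hlt)) ho le_rfl
      (lt_of_le_of_ne h2 fun e => h4 e.ge) hlt.le hZn hdL).2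
    have h6 : (2 * H.relIndex L) ^ 2 < W₂.relIndex H := by
      rw [← relIndex_mul_relIndex W₂ _ H h2 hlt.le, sq]
      exact Nat.mul_lt_mul'' h5 hw
    have h7 : 2 * H.relIndex L * d < W₂.relIndex H := by
      refine lt_of_pow_lt_pow_left₀ 2 (Nat.zero_le _) ?_
      rw [mul_pow, sq (W₂.relIndex H)]
      exact lt_of_le_of_lt (Nat.mul_le_mul_left _ hd)
        (Nat.mul_lt_mul_of_pos_right h6 (relIndex_pos _ _))
    have h8 := hW.two_le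
    nlinarith

end PF06

/-- PF Theorem (6.8). -/
theorem sibley_coherence {L H : Subgroup G} (ho : Odd 𝐨(L)) (hn : Group.IsNilpotent H)
    (hTI : NormedTI (sharp H) ⊤ L)
    (hc : FrobKer L H ∨ ∃ (W₁ W₂ W : Subgroup G) (A₀ : Set G) (D : G → Subgroup G),
      𝐨(W₂).Prime ∧ W₂ ≤ ⁅H, H⁆ ∧ PrDade L H H (sharp H) A₀ D W₁ W₂ W) :
    Coherent L (seqIndD H L H ⊥) (ind ⊤ L) := by
  obtain ⟨-, h, -, -⟩ := normedTI_sharp_iff.1 hTI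
  have hT := seqIndD_subset_T H L H ⊥
  have hr : ∀ χ ∈ seqIndD H L H ⊥, star χ ≠ χ := fun χ hχ => (seqIndD_odd h le_rfl ho hχ).2
  rcases hc with hF | ⟨W₁, W₂, W, A₀, D, hW, hW', hD⟩
  · have hi : seqIndD H L H ⊥ ⊆ Irr L := fun χ hχ => by
      obtain ⟨θ, hθ, rfl⟩ := mem_seqIndD.1 hχ
      rw [mem_irrKerD] at hθ
      exact hF.ind_mem_Irr (mem_irrKer.2 ⟨hθ.1, hθ.2.1⟩) (mt (irr_eq_cf1_iff hθ.1).1 hθ.2.2)
    obtain ⟨R, hS⟩ := irr_subcoherent (τ := ind ⊤ L) ⟨hi, fun χ => star_mem_seqIndD⟩ hr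
      (fun φ h1 ψ h2 => hTI.ip_ind (Zs0_seqIndT h hT h1).1 (Zs0_seqIndT h hT h2).1)
      (fun φ h1 => ⟨vchar_ind le_top (Zs0_seqIndT h hT h1).2, by
        rw [ind_one le_top, h1.2, mul_zero]⟩)
    obtain ⟨W₁, hF', e⟩ := hF.exists_frob
    exact PF06.sibley_core (W₂ := ⊥) ho hn hTI hS (e ▸ hF'.sdProd) hF'.ne_botR hF'.coprime hF'.reg
      bot_le (Or.inl rfl) fun Z h1 _ _ => (seqIndD_mono H L h1 le_rfl).trans hi
  · obtain ⟨R, hS, -⟩ := hD.subcoherent (conjSub_seqIndD H L le_rfl le_rfl) hr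
    have hP := hD.primeTI
    refine PF06.sibley_core ho hn hTI (hS.congr fun φ hφ => hD.dade.dade_eq_ind hD.basic.1
      (fun a ha => le_trans (le_inf le_top le_rfl) (hTI.cent1_le ha)) (Zs0_seqIndT h hT hφ).1)
      hP.sd hP.ne_bot1 hP.basic.2.2.2.1 hP.cent hW' (Or.inr hW) fun Z h1 h2 h3 χ hχ => ?_
    rcases hP.seqIndT_cases (seqIndD_subset_T _ _ _ _ hχ) with ⟨β, hβ, rfl⟩ | h4
    swap
    · exact h4.1
    exfalso
    have h4 := hP.card_muR_ker h1 h2 (isSolvable_of_isNilpotent hn)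
    rw [← inf_relIndex_right, h3, relIndex_bot_left, ← PF04.card1 hP, ← Set.ncard_coe_finset] at h4
    have h5 := Set.eq_of_subset_of_ncard_le (fun _ h6 => h6.1) h4.ge (Finset.finite_toSet _)
    have h6 : β ∈ {β : G → ℂ | β ∈ irrKer W W₁ ∧ Z ≤ cfKer (muR L W₁ W₂ β)} := h5 ▸ hβ
    exact ((mem_seqIndD_iff_ker h h2 (norm_bot (G := G) ▸ le_top)).1 hχ).2.2 h6.2

end Cfsg.Agent.FT
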