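/-
PF section 7, part 1: (7.7), (7.8).
-/
import Cfsg.Agent.FT.PF06

set_option autoImplicit false

namespace Cfsg.Agent.FT

open Subgroup Cfsg Cfsg.Agent
open scoped commutatorElement ComplexConjugate

universe u

variable {G : Type u} [Group G] [Finite G]

section One

variable {L H : Subgroup G} {D : G → Subgroup G}

omit [Finite G] in
theorem DadeHyp.normal_of_sharp' (h : DadeHyp L (sharp H) D) : H ⊲ L := by
  have key : ∀ g ∈ L, ∀ x ∈ H, g * x * g⁻¹ ∈ H := by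
    intro g hg x hx
    by_cases h1 : x = 1
    · simp [h1]
    · exact (h.norm g hg x ⟨hx, h1⟩).1
  refine ⟨fun x hx => ?_, fun g hg => mem_normalizer_iff.mpr fun x => ⟨key g hg x, fun hx => ?_⟩⟩
  · by_cases h1 : x = 1
    · rw [h1]; exact L.one_mem
    · exact h.subset ⟨hx, h1⟩
  · simpa [mul_assoc] using key g⁻¹ (L.inv_mem hg) _ hx

theorem DadeHyp.normal_of_sharp (h : DadeHyp L (sharp H) D) : H ⊲ L :=
  h.normal_of_sharp'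

namespace PF07

theorem seqInd_nsq_pos (hn : H ⊲ L) {ξ : G → ℂ} (hξ : ξ ∈ seqIndT H L) : 0 < nsq L ξ :=
  lt_of_lt_of_le one_pos (seqIndT_facts hn hξ).2.2.2.2.2.2.2.1

theorem seqInd_nsq_ne (hn : H ⊲ L) {ξ : G → ℂ} (hξ : ξ ∈ seqIndT H L) : (nsq L ξ : ℂ) ≠ 0 := by
  exact_mod_cast (seqInd_nsq_pos hn hξ).ne'

theorem seqInd_one (hn : H ⊲ L) {ξ : G → ℂ} (hξ : ξ ∈ seqIndT H L) : ξ 1 = dg ξ :=
  (seqIndT_facts hn hξ).2.2.2.2.2.1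

theorem seqInd_conj_one (hn : H ⊲ L) {ξ : G → ℂ} (hξ : ξ ∈ seqIndT H L) : conj (ξ 1) = ξ 1 := by
  rw [seqInd_one hn hξ]; simp

theorem seqInd_one_ne (hn : H ⊲ L) {ξ : G → ℂ} (hξ : ξ ∈ seqIndT H L) : ξ 1 ≠ 0 := by
  rw [seqInd_one hn hξ]
  exact_mod_cast (seqIndT_facts hn hξ).2.2.2.2.1.ne'

/-- The regular character of `L` in terms of the induced characters. -/
theorem sum_reg (hn : H ⊲ L) {a : G} (ha : a ≠ 1) :
    ∑ ξ ∈ seqIndT H L, ξ 1 / nsq L ξ * ξ a = 0 := by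
  classical
  let δ : G → ℂ := fun x => if x = 1 then (Nat.card L : ℂ) else 0
  have hδ : δ ∈ CFon L (H : Set G) := by
    refine mem_CFon.mpr ⟨mem_CF.mpr ⟨fun x hx => if_neg fun h : x = 1 => hx (h ▸ L.one_mem),
      fun g _ x => ?_⟩, fun x hx => if_neg fun h : x = 1 => hx (h ▸ H.one_mem)⟩
    simp only [δ, conj_eq_one_iff]
  have h1 : ∀ ξ ∈ seqIndT H L, ip L δ ξ = ξ 1 := by
    intro ξ hξ
    rw [ip_eq_sum_of_supp (H := L) (A := ({1} : Set G)) (φ := δ) (by simp)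
      (fun x _ hx => if_neg hx), sum_fs_singleton,
      seqInd_conj_one hn hξ]
    simp only [δ, if_true]
    rw [← mul_assoc, inv_mul_cancel₀ (card_ne_zero_C L), one_mul]
  have h2 := congrFun (eq_sum_seqIndT hn hδ) a
  rw [Finset.sum_apply] at h2
  simp only [δ, if_neg ha] at h2
  rw [h2]
  refine Finset.sum_congr rfl fun ξ hξ => ?_
  rw [Pi.smul_apply, smul_eq_mul, h1 ξ hξ]

theorem sub_mem_CFon (hn : H ⊲ L) {ξ ξ₀ : G → ℂ} (hξ : ξ ∈ seqIndT H L) (hξ₀ : ξ₀ ∈ seqIndT H L) :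
    ξ - (ξ 1 / ξ₀ 1) • ξ₀ ∈ CFon L (sharp H) := by
  refine mem_CFon_sharp (sub_mem (seqIndT_facts hn hξ).2.1
    (Submodule.smul_mem _ _ (seqIndT_facts hn hξ₀).2.1)) ?_
  simp [seqInd_one_ne hn hξ₀]

end PF07

open PF07

/-- PF (7.7); `c ξ = ⟨(ξ - d ξ₀)^τ, χ⟩`. -/
theorem DadeHyp.invDade_seqInd_sum (h : DadeHyp L (sharp H) D) {ξ₀ χ : G → ℂ}
    (hξ₀ : ξ₀ ∈ seqIndT H L) (hχ : χ ∈ CF ⊤) {c : (G → ℂ) → ℂ}
    (hc : ∀ ξ ∈ seqIndT H L, ξ ≠ ξ₀ → c ξ = ip ⊤ (dade (sharp H) D (ξ - (ξ 1 / ξ₀ 1) • ξ₀)) χ) :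
    (∀ a ∈ sharp H, invDade (sharp H) D χ a =
        ∑ ξ ∈ (seqIndT H L).erase ξ₀, star (c ξ) / nsq L ξ * ξ a) ∧
      nsq L (invDade (sharp H) D χ) = ∑ ξ ∈ (seqIndT H L).erase ξ₀, ‖c ξ‖ ^ 2 / nsq L ξ -
        ‖∑ ξ ∈ (seqIndT H L).erase ξ₀, c ξ * ξ 1 / nsq L ξ‖ ^ 2 / 𝐨(L) := by
  have hn := h.normal_of_sharp
  set ψ := invDade (sharp H) D χ with hψdef
  have hψ : ψ ∈ CFon L (sharp H) := h.invDade_mem_CFon hχ
  have h1 : ∀ ξ ∈ (seqIndT H L).erase ξ₀,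
      ip L ψ ξ = star (c ξ) + ξ 1 / ξ₀ 1 * ip L ψ ξ₀ := by
    intro ξ hξ
    obtain ⟨hne, hξ⟩ := Finset.mem_erase.mp hξ
    rw [hc ξ hξ hne, h.ip_dade_left (sub_mem_CFon hn hξ hξ₀) hχ, ← hψdef, Complex.star_def,
      conj_ip, ip_sub_right, ip_smul_right, map_div₀, seqInd_conj_one hn hξ,
      seqInd_conj_one hn hξ₀]
    ring
  have hA : ∀ a ∈ sharp H, ψ a = ∑ ξ ∈ (seqIndT H L).erase ξ₀, star (c ξ) / nsq L ξ * ξ a := by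
    intro a ha
    have h2 := congrFun (eq_sum_seqIndT hn (CFon_mono L (sharp_subset H) hψ)) a
    have h3 := sum_reg hn ha.2
    rw [Finset.sum_apply, ← Finset.add_sum_erase _ _ hξ₀] at h2
    rw [← Finset.add_sum_erase _ _ hξ₀] at h3
    rw [h2, Finset.sum_congr rfl (g := fun ξ => star (c ξ) / nsq L ξ * ξ a +
      ip L ψ ξ₀ / ξ₀ 1 * (ξ 1 / nsq L ξ * ξ a)) fun ξ hξ => by
        rw [Pi.smul_apply, smul_eq_mul, h1 ξ hξ]; ring]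
    rw [Finset.sum_add_distrib, ← Finset.mul_sum, eq_neg_of_add_eq_zero_right h3,
      Pi.smul_apply, smul_eq_mul]
    have := seqInd_one_ne hn hξ₀
    field_simp
    ring
  refine ⟨hA, ?_⟩
  let φ : G → ℂ := ∑ ξ ∈ (seqIndT H L).erase ξ₀, (star (c ξ) / nsq L ξ) • ξ
  have hφa : ∀ x, φ x = ∑ ξ ∈ (seqIndT H L).erase ξ₀, star (c ξ) / nsq L ξ * ξ x :=
    fun x => Finset.sum_apply _ _ _
  have hφ : nsq L φ = ∑ ξ ∈ (seqIndT H L).erase ξ₀, ‖c ξ‖ ^ 2 / nsq L ξ := by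
    rw [nsq_sum_of_orth]
    · refine Finset.sum_congr rfl fun ξ hξ => ?_
      have := seqInd_nsq_pos hn (Finset.mem_erase.mp hξ).2
      rw [nsq_smul, norm_div, norm_star, Complex.norm_real, Real.norm_eq_abs, abs_of_pos this]
      field_simp
    · intro ξ hξ ξ' hξ' hne
      rw [ip_smul_left, ip_smul_right, seqIndT_orth hn (Finset.mem_erase.mp hξ).2
        (Finset.mem_erase.mp hξ').2 hne]
      simp
  have hφ1 : ‖φ 1‖ = ‖∑ ξ ∈ (seqIndT H L).erase ξ₀, c ξ * ξ 1 / nsq L ξ‖ := by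
    rw [← Complex.norm_conj, hφa, map_sum]
    congr 1
    refine Finset.sum_congr rfl fun ξ hξ => ?_
    rw [map_mul, seqInd_conj_one hn (Finset.mem_erase.mp hξ).2]
    simp only [map_div₀, Complex.star_def, Complex.conj_conj, Complex.conj_ofReal]
    ring
  have hφψ : ∀ x ∈ sharp L, ‖φ x‖ ^ 2 = ‖ψ x‖ ^ 2 := by
    intro x hx
    by_cases hxH : x ∈ H
    · rw [hA x ⟨hxH, hx.2⟩, hφa]
    · rw [CFon_off hψ fun h => hxH h.1, hφa, Finset.sum_eq_zero]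
      intro ξ hξ
      rw [CFon_off (seqIndT_facts hn (Finset.mem_erase.mp hξ).2).2.1 hxH, mul_zero]
  rw [← hφ, ← hφ1, nsq_def, nsq_def, sum_fs_sharp, sum_fs_sharp, sum_fs_congr hφψ,
    CFon_off hψ fun h => h.2 rfl]
  have := card_ne_zero_R L
  field_simp
  simp

namespace PF07

theorem e_ne (H L : Subgroup G) : (H.relIndex L : ℂ) ≠ 0 := by
  exact_mod_cast (index_ne_zero_of_finite : H.relIndex L ≠ 0)

theorem e_pos (H L : Subgroup G) : (0 : ℝ) < H.relIndex L := by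
  exact_mod_cast Nat.pos_of_ne_zero (index_ne_zero_of_finite : H.relIndex L ≠ 0)

theorem card_eq (h : H ≤ L) : (𝐨(L) : ℝ) = H.relIndex L * 𝐨(H) := by
  have := card_mul_index (H.subgroupOf L)
  rw [Nat.card_congr (subgroupOfEquivOfLe h).toEquiv] at this
  rw [← this, relIndex]; push_cast; ring

theorem exists_ratio (hn : H ⊲ L) {ξ : G → ℂ} (hξ : ξ ∈ seqIndT H L) :
    ∃ d : ℕ, 0 < d ∧ ξ 1 / H.relIndex L = d := by
  obtain ⟨-, -, -, -, h1, h2, ⟨d, hd⟩, -⟩ := seqIndT_facts hn hξ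
  refine ⟨d, Nat.pos_of_ne_zero fun h => by simp [hd, h] at h1, ?_⟩
  rw [h2, hd]
  have := e_ne H L
  push_cast
  field_simp

theorem sub_mem_Zs0' (hn : H ⊲ L) {ζ ξ : G → ℂ} (hζ : ζ ∈ seqIndD H L H ⊥)
    (hd : dg ζ = H.relIndex L) (hξ : ξ ∈ seqIndD H L H ⊥) :
    ξ - (ξ 1 / H.relIndex L) • ζ ∈ Zs0 (seqIndD H L H ⊥) := by
  obtain ⟨d, -, hd'⟩ := exists_ratio hn (seqIndD_subset_T _ _ _ _ hξ)
  refine mem_Zs0.mpr ⟨?_, ?_⟩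
  · rw [hd']
    exact sub_mem (mem_Zs_of_mem hξ) (natCast_smul_mem_Zs (mem_Zs_of_mem hζ) d)
  · rw [Pi.sub_apply, Pi.smul_apply, seqInd_one hn (seqIndD_subset_T _ _ _ _ hζ), hd, smul_eq_mul,
      div_mul_cancel₀ _ (e_ne H L), sub_self]

theorem dade_sub {τ ν : (G → ℂ) →ₗ[ℂ] (G → ℂ)} (hn : H ⊲ L)
    (hν : CohWith L (seqIndD H L H ⊥) τ ν) {ζ ξ : G → ℂ} (hζ : ζ ∈ seqIndD H L H ⊥)
    (hd : dg ζ = H.relIndex L) (hξ : ξ ∈ seqIndD H L H ⊥) :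
    τ (ξ - (ξ 1 / H.relIndex L) • ζ) = ν ξ - (ξ 1 / H.relIndex L) • ν ζ := by
  rw [← hν.agree _ (sub_mem_Zs0' hn hζ hd hξ), map_sub, map_smul]

theorem ip_nu {τ ν : (G → ℂ) →ₗ[ℂ] (G → ℂ)} (hn : H ⊲ L)
    (hν : CohWith L (seqIndD H L H ⊥) τ ν) {ξ ξ' : G → ℂ} (hξ : ξ ∈ seqIndD H L H ⊥)
    (hξ' : ξ' ∈ seqIndD H L H ⊥) : ip ⊤ (ν ξ) (ν ξ') = if ξ = ξ' then (nsq L ξ : ℂ) else 0 := by
  rw [hν.iso _ (mem_Zs_of_mem hξ) _ (mem_Zs_of_mem hξ')]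
  split_ifs with h
  · rw [← h, ip_self]
  · exact seqIndT_orth hn (seqIndD_subset_T _ _ _ _ hξ) (seqIndD_subset_T _ _ _ _ hξ') h

theorem nsq_ind1 (hn : H ⊲ L) : nsq L (ind L H (cf1 H)) = H.relIndex L := by
  rw [nsq_ind_irr hn (cf1_mem_Irr H), inf_eq_left.mpr (hn.2.trans (norm_le_inertia_cf1 H))]

theorem ind1_one (hn : H ⊲ L) : ind L H (cf1 H) 1 = H.relIndex L := by
  rw [ind_one hn.1, cf1_one, mul_one]

theorem ind1_notMem (hn : H ⊲ L) : ind L H (cf1 H) ∉ seqIndD H L H ⊥ := by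
  rw [seqIndD_self_bot hn]; exact Finset.notMem_erase _ _

theorem erase_eq (hn : H ⊲ L) {ζ : G → ℂ} (hζ : ζ ∈ seqIndD H L H ⊥) :
    (seqIndT H L).erase ζ = insert (ind L H (cf1 H)) ((seqIndD H L H ⊥).erase ζ) := by
  have hne : ind L H (cf1 H) ≠ ζ := fun h => ind1_notMem hn (h ▸ hζ)
  rw [seqIndD_self_bot hn, Finset.erase_right_comm, Finset.insert_erase]
  exact Finset.mem_erase.mpr ⟨hne, ind_cf1_mem_seqIndT H L⟩

theorem sum_erase_eq {M : Type*} [AddCommMonoid M] (hn : H ⊲ L) {ζ : G → ℂ}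
    (hζ : ζ ∈ seqIndD H L H ⊥) (f : (G → ℂ) → M) :
    ∑ ξ ∈ (seqIndT H L).erase ζ, f ξ =
      f (ind L H (cf1 H)) + ∑ ξ ∈ (seqIndD H L H ⊥).erase ζ, f ξ := by
  rw [erase_eq hn hζ, Finset.sum_insert fun h => ind1_notMem hn (Finset.mem_erase.mp h).2]

/-- The sum of the squares of the relative degrees. -/
theorem sum_sq (hn : H ⊲ L) : ∑ ξ ∈ seqIndD H L H ⊥, (ξ 1 / H.relIndex L) ^ 2 / nsq L ξ =
    (((𝐨(H) : ℝ) - 1) / H.relIndex L : ℝ) := by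
  have h1 := sum_seqIndD_square hn le_rfl hn.2 (M := ⊥) le_normalizer_of_normal bot_le
  rw [relIndex_bot_left] at h1
  have h2 := congrArg (fun x : ℝ => (x : ℂ)) h1
  push_cast at h2 ⊢
  have he := e_ne H L
  rw [Finset.sum_congr rfl (g := fun ξ => ((H.relIndex L : ℂ) ^ 2)⁻¹ * ((dg ξ : ℂ) ^ 2 / nsq L ξ))
    fun ξ hξ => by rw [seqInd_one hn (seqIndD_subset_T _ _ _ _ hξ)]; ring, ← Finset.mul_sum, h2]
  field_simp

/-- `∑ d_ξ / ‖ξ‖² ξ^ν`. -/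
noncomputable def sgm (L H : Subgroup G) (ν : (G → ℂ) →ₗ[ℂ] (G → ℂ)) : G → ℂ :=
  ∑ ξ ∈ seqIndD H L H ⊥, (ξ 1 / H.relIndex L / nsq L ξ) • ν ξ

theorem ip_sgm_right (hn : H ⊲ L) (ν : (G → ℂ) →ₗ[ℂ] (G → ℂ)) {φ : G → ℂ} {x : ℂ}
    (h : ∀ ξ ∈ seqIndD H L H ⊥, ip ⊤ φ (ν ξ) = x * (ξ 1 / H.relIndex L)) :
    ip ⊤ φ (sgm L H ν) = x * (((𝐨(H) : ℝ) - 1) / H.relIndex L : ℝ) := by
  rw [sgm, ip_sum_right, ← sum_sq hn, Finset.mul_sum]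
  refine Finset.sum_congr rfl fun ξ hξ => ?_
  rw [ip_smul_right, h ξ hξ, map_div₀, map_div₀, seqInd_conj_one hn (seqIndD_subset_T _ _ _ _ hξ)]
  simp only [map_natCast, Complex.conj_ofReal]
  ring

theorem ip_sgm_nu {τ ν : (G → ℂ) →ₗ[ℂ] (G → ℂ)} (hn : H ⊲ L)
    (hν : CohWith L (seqIndD H L H ⊥) τ ν) {ξ : G → ℂ} (hξ : ξ ∈ seqIndD H L H ⊥) :
    ip ⊤ (sgm L H ν) (ν ξ) = ξ 1 / H.relIndex L := by
  rw [sgm, ip_sum_left, Finset.sum_eq_single_of_mem ξ hξ]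
  · rw [ip_smul_left, ip_nu hn hν hξ hξ, if_pos rfl,
      div_mul_cancel₀ _ (seqInd_nsq_ne hn (seqIndD_subset_T _ _ _ _ hξ))]
  · intro ξ' hξ' hne
    rw [ip_smul_left, ip_nu hn hν hξ' hξ, if_neg hne, mul_zero]

theorem ip_sgm_left_eq_zero (ν : (G → ℂ) →ₗ[ℂ] (G → ℂ)) {φ : G → ℂ}
    (h : ∀ ξ ∈ seqIndD H L H ⊥, ip ⊤ (ν ξ) φ = 0) : ip ⊤ (sgm L H ν) φ = 0 := by
  rw [sgm, ip_sum_left]
  exact Finset.sum_eq_zero fun ξ hξ => by rw [ip_smul_left, h ξ hξ, mul_zero]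

theorem nsq_sgm {τ ν : (G → ℂ) →ₗ[ℂ] (G → ℂ)} (hn : H ⊲ L)
    (hν : CohWith L (seqIndD H L H ⊥) τ ν) :
    nsq ⊤ (sgm L H ν) = ((𝐨(H) : ℝ) - 1) / H.relIndex L := by
  refine nsq_eq_of_ip ?_
  rw [ip_sgm_right hn ν (x := 1) fun ξ hξ => by rw [ip_sgm_nu hn hν hξ, one_mul], one_mul]

theorem sgm_mem_CF {τ ν : (G → ℂ) →ₗ[ℂ] (G → ℂ)}
    (hν : CohWith L (seqIndD H L H ⊥) τ ν) : sgm L H ν ∈ CF (⊤ : Subgroup G) :=
  sum_mem fun ξ hξ => Submodule.smul_mem _ _ (vchar_mem_CF (hν.vchar ξ (mem_Zs_of_mem hξ)))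

end PF07

/-- PF (7.8)(a), first part, and (c). -/
theorem DadeHyp.ind1_sub_lin_basic (h : DadeHyp L (sharp H) D) {ν : (G → ℂ) →ₗ[ℂ] (G → ℂ)}
    (hν : CohWith L (seqIndD H L H ⊥) (dade (sharp H) D) ν) (h2 : 1 < (seqIndD H L H ⊥).card)
    {ζ : G → ℂ} (hi : ζ ∈ Irr L) (hζ : ζ ∈ seqIndD H L H ⊥) (hd : dg ζ = H.relIndex L) :
    (∀ ξ ∈ seqIndD H L H ⊥, ip ⊤ (ν ξ) (cf1 ⊤) = 0) ∧
      ind L H (cf1 H) - ζ ∈ CFon L (sharp H) ∧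
      ip ⊤ (dade (sharp H) D (ind L H (cf1 H) - ζ)) (cf1 ⊤) = 1 ∧
      dade (sharp H) D (ind L H (cf1 H) - ζ) ∈ VChar ⊤ ∧
      nsq ⊤ (dade (sharp H) D (ind L H (cf1 H) - ζ)) = H.relIndex L + 1 ∧
      ∀ χ ∈ CF ⊤, (∀ ξ ∈ seqIndD H L H ⊥, ip ⊤ (ν ξ) χ = 0) →
        (∀ x ∈ sharp H,
          invDade (sharp H) D χ x = star (ip ⊤ (dade (sharp H) D (ind L H (cf1 H) - ζ)) χ)) ∧
        nsq L (invDade (sharp H) D χ) =
          ((𝐨(H) : ℝ) - 1) / 𝐨(L) * ‖ip ⊤ (dade (sharp H) D (ind L H (cf1 H) - ζ)) χ‖ ^ 2 := by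
  have hn := h.normal_of_sharp
  have hT := seqIndD_subset_T H L H ⊥
  have hζ1 : ζ 1 = H.relIndex L := by rw [seqInd_one hn (hT hζ), hd]
  have h1 : ∀ ξ ∈ seqIndD H L H ⊥,
      ip ⊤ (ν ξ) (cf1 ⊤) = ξ 1 / H.relIndex L * ip ⊤ (ν ζ) (cf1 ⊤) := by
    intro ξ hξ
    have h3 := h.ip_dade_cf1 (Zs0_seqIndT hn hT (sub_mem_Zs0' hn hζ hd hξ)).1
    rw [dade_sub hn hν hζ hd hξ, ip_sub_left, ip_smul_left, ip_sub_left, ip_smul_left,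
      (seqIndD_orth_cf1 hn le_rfl hξ).1, (seqIndD_orth_cf1 hn le_rfl hζ).1] at h3
    linear_combination h3
  have hζ0 : ip ⊤ (ν ζ) (cf1 ⊤) = 0 := by
    by_contra h0
    obtain ⟨s, hs, e⟩ := CH2.dirr_sign (hν.dirr hζ hi) (Or.inl (cf1_mem_Irr ⊤)) h0
    obtain ⟨ξ, hξ, hne⟩ := Finset.exists_mem_ne h2 ζ
    have h3 := ip_nu hn hν hξ hζ
    rw [if_neg hne, e, ip_smul_right, h1 ξ hξ, Complex.conj_ofReal] at h3
    have hs0 : (s : ℂ) ≠ 0 := by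
      intro h; rw [Complex.ofReal_eq_zero] at h; simp [h] at hs
    exact mul_ne_zero hs0 (mul_ne_zero (div_ne_zero (seqInd_one_ne hn (hT hξ)) (e_ne H L)) h0) h3
  have hβ : ind L H (cf1 H) - ζ ∈ Zs0 (seqIndT H L) :=
    sub_mem_Zs0 (mem_Zs_of_mem (ind_cf1_mem_seqIndT H L)) (mem_Zs_of_mem (hT hζ))
      (by rw [ind1_one hn, hζ1])
  obtain ⟨hβ1, hβ2⟩ := Zs0_seqIndT hn subset_rfl hβ
  refine ⟨fun ξ hξ => by rw [h1 ξ hξ, hζ0, mul_zero], hβ1, ?_, h.vchar hβ1 hβ2, ?_,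
    fun χ hχ hχ0 => ?_⟩
  · rw [h.ip_dade_cf1 hβ1, ip_sub_left, (seqIndD_orth_cf1 hn le_rfl hζ).1,
      ip_ind_left hn.1 _ (cf1_mem_CF L), sub_zero,
      ip_congr (φ' := cf1 H) (ψ' := cf1 H) (fun _ _ => rfl)
        fun x hx => by rw [cf1_of_mem hx, cf1_of_mem (hn.1 hx)], ip_cf1_cf1]
  · rw [nsq_eq_of_ip_eq (h.iso hβ1 hβ1),
      nsq_sub_of_orth (ip_eq_zero_symm (seqIndD_orth_cf1 hn le_rfl hζ).2), nsq_ind1 hn, nsq_irr hi]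
  · have h3 : ∀ x ∈ sharp H, invDade (sharp H) D χ x =
        star (ip ⊤ (dade (sharp H) D (ind L H (cf1 H) - ζ)) χ) := by
      intro x hx
      rw [(h.invDade_seqInd_sum (hT hζ) hχ fun _ _ _ => rfl).1 x hx, sum_erase_eq hn hζ,
        Finset.sum_eq_zero, add_zero, ind1_one hn, hζ1, div_self (e_ne H L), one_smul, nsq_ind1 hn,
        ind_cf1_normal hn, Pi.smul_apply, cf1_of_mem hx.1]
      · have := e_ne H L
        simp only [smul_eq_mul, Complex.ofReal_natCast]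
        field_simp
      · intro ξ hξ
        have hξ' := (Finset.mem_erase.mp hξ).2
        rw [hζ1, dade_sub hn hν hζ hd hξ', ip_sub_left, ip_smul_left, hχ0 ξ hξ', hχ0 ζ hζ]
        simp
    refine ⟨h3, ?_⟩
    rw [nsq_def, ← sum_fs_subset (A := sharp H) (fun x hx => hn.1 hx.1)
      fun x _ hx => by rw [invDade_of_notMem χ hx]; simp,
      sum_fs_congr (g := fun _ => ‖ip ⊤ (dade (sharp H) D (ind L H (cf1 H) - ζ)) χ‖ ^ 2)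
        fun x hx => by rw [h3 x hx, norm_star], Finset.sum_const, card_fs, ncard_sharp,
      nsmul_eq_mul, Nat.cast_sub Nat.card_pos]
    push_cast
    ring

/-- PF (7.8)(a),(b). -/
theorem DadeHyp.ind1_sub_lin (h : DadeHyp L (sharp H) D) {ν : (G → ℂ) →ₗ[ℂ] (G → ℂ)}
    (hν : CohWith L (seqIndD H L H ⊥) (dade (sharp H) D) ν) (h2 : 1 < (seqIndD H L H ⊥).card)
    {ζ : G → ℂ} (hi : ζ ∈ Irr L) (hζ : ζ ∈ seqIndD H L H ⊥) (hd : dg ζ = H.relIndex L) :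
    ∃ Γ ∈ CF (⊤ : Subgroup G),
      (∀ ξ ∈ seqIndD H L H ⊥, ip ⊤ (ν ξ) Γ = 0) ∧ ip ⊤ Γ (cf1 ⊤) = 0 ∧
      ∃ a : ℤ, dade (sharp H) D (ind L H (cf1 H) - ζ) =
          cf1 ⊤ - ν ζ + (a : ℂ) • ∑ ξ ∈ seqIndD H L H ⊥, (ξ 1 / H.relIndex L / nsq L ξ) • ν ξ + Γ ∧
        nsq ⊤ Γ = H.relIndex L - 1 + 2 * a - a ^ 2 * ((𝐨(H) : ℝ) - 1) / H.relIndex L ∧
        nsq L (invDade (sharp H) D (ν ζ)) =
          a ^ 2 * (1 - 1 / (𝐨(H) : ℝ)) / H.relIndex L - 2 * a / 𝐨(H) + 1 - H.relIndex L / 𝐨(H) ∧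
        (2 * H.relIndex L + 1 ≤ 𝐨(H) →
          1 - (H.relIndex L : ℝ) / 𝐨(H) ≤ nsq L (invDade (sharp H) D (ν ζ)) ∧
            nsq ⊤ Γ ≤ H.relIndex L - 1) := by
  have hn := h.normal_of_sharp
  have hT := seqIndD_subset_T H L H ⊥
  have hζ1 : ζ 1 = H.relIndex L := by rw [seqInd_one hn (hT hζ), hd]
  obtain ⟨ho1, hβ0, hβ1, hβv, hβn, -⟩ := h.ind1_sub_lin_basic hν h2 hi hζ hd
  set β := dade (sharp H) D (ind L H (cf1 H) - ζ) with hβ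
  have hνv : ∀ ξ ∈ seqIndD H L H ⊥, ν ξ ∈ VChar ⊤ := fun ξ hξ => hν.vchar ξ (mem_Zs_of_mem hξ)
  obtain ⟨b, hb⟩ := vchar_ip_int hβv (hνv ζ hζ)
  have he := e_ne H L
  have he' := e_pos H L
  have hh := card_pos_R H
  have hνζ : ip ⊤ (ν ζ) (ν ζ) = 1 := by rw [ip_nu hn hν hζ hζ, if_pos rfl, nsq_irr hi]; simp
  have h3 : ∀ ξ ∈ seqIndD H L H ⊥,
      ip ⊤ (β + ν ζ) (ν ξ) = ((b + 1 : ℤ) : ℂ) * (ξ 1 / H.relIndex L) := by
    intro ξ hξ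
    have h4 := h.iso hβ0 (Zs0_seqIndT hn hT (sub_mem_Zs0' hn hζ hd hξ)).1
    have h5 : conj (ξ 1 / H.relIndex L) = ξ 1 / H.relIndex L := by
      rw [map_div₀, seqInd_conj_one hn (hT hξ), map_natCast]
    rw [dade_sub hn hν hζ hd hξ, ← hβ] at h4
    simp only [ip_sub_left, ip_sub_right, ip_smul_right, h5, hb,
      ip_eq_zero_symm (seqIndD_orth_cf1 hn le_rfl hξ).2,
      ip_eq_zero_symm (seqIndD_orth_cf1 hn le_rfl hζ).2, ip_irr_self hi] at h4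
    rw [ip_add_left, hν.iso _ (mem_Zs_of_mem hζ) _ (mem_Zs_of_mem hξ)]
    push_cast
    linear_combination h4
  obtain ⟨a, ha⟩ : ∃ a : ℤ, a = b + 1 := ⟨_, rfl⟩
  rw [← ha] at h3
  let Γ := β + ν ζ - cf1 ⊤ - (a : ℂ) • sgm L H ν
  have hΓ1 : ∀ ξ ∈ seqIndD H L H ⊥, ip ⊤ (ν ξ) Γ = 0 := by
    intro ξ hξ
    refine ip_eq_zero_symm ?_
    rw [ip_sub_left, ip_sub_left, h3 ξ hξ, ip_smul_left, ip_sgm_nu hn hν hξ,
      ip_eq_zero_symm (ho1 ξ hξ)]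
    ring
  have hs1 : ip ⊤ (sgm L H ν) (cf1 ⊤) = 0 := ip_sgm_left_eq_zero ν ho1
  have hΓ2 : ip ⊤ Γ (cf1 ⊤) = 0 := by
    rw [ip_sub_left, ip_sub_left, ip_add_left, hβ1, ho1 ζ hζ, ip_smul_left, hs1, ip_cf1_cf1]
    ring
  have hβΓ : β = cf1 ⊤ - ν ζ + (a : ℂ) • sgm L H ν + Γ := by simp only [Γ]; abel
  have hΓn : nsq ⊤ Γ = H.relIndex L - 1 + 2 * a - a ^ 2 * ((𝐨(H) : ℝ) - 1) / H.relIndex L := by
    have h4 : β = cf1 ⊤ + (((a : ℂ) • sgm L H ν - ν ζ) + Γ) := by rw [hβΓ]; abel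
    rw [h4, nsq_add_of_orth, nsq_add_of_orth, nsq_sub, nsq_int_smul, nsq_sgm hn hν, nsq_cf1,
      ip_smul_left, ip_sgm_nu hn hν hζ, hζ1, div_self he, nsq_eq_of_ip (r := 1) (by simpa using hνζ)]
      at hβn
    · simp only [mul_one, Complex.intCast_re] at hβn
      linear_combination hβn
    · rw [ip_sub_left, ip_smul_left, ip_sgm_left_eq_zero ν hΓ1, hΓ1 ζ hζ]; simp
    · refine ip_eq_zero_symm ?_
      rw [ip_add_left, ip_sub_left, ip_smul_left, hs1, ho1 ζ hζ, hΓ2]; simp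
  have hρ : nsq L (invDade (sharp H) D (ν ζ)) =
      a ^ 2 * (1 - 1 / (𝐨(H) : ℝ)) / H.relIndex L - 2 * a / 𝐨(H) + 1 - H.relIndex L / 𝐨(H) := by
    let c : (G → ℂ) → ℂ := fun ξ => if ξ = ind L H (cf1 H) then (b : ℂ) else -(ξ 1 / H.relIndex L)
    have hc : ∀ ξ ∈ (seqIndD H L H ⊥).erase ζ, c ξ = -(ξ 1 / H.relIndex L) := fun ξ hξ =>
      if_neg fun e => ind1_notMem hn (e ▸ (Finset.mem_erase.mp hξ).2)
    have h4 := (h.invDade_seqInd_sum (hT hζ) (vchar_mem_CF (hνv ζ hζ)) (c := c) (by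
      intro ξ hξ hne
      by_cases e : ξ = ind L H (cf1 H)
      · simp only [c, if_pos e]
        rw [e, ind1_one hn, hζ1, div_self he, one_smul, ← hβ, hb]
      · have hξ' : ξ ∈ seqIndD H L H ⊥ := by
          rw [seqIndD_self_bot hn]; exact Finset.mem_erase.mpr ⟨e, hξ⟩
        simp only [c, if_neg e]
        rw [hζ1, dade_sub hn hν hζ hd hξ', ip_sub_left, ip_smul_left, hνζ, ip_nu hn hν hξ' hζ,
          if_neg hne]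
        ring)).2
    have h5 := sum_sq hn
    rw [← Finset.add_sum_erase _ _ hζ, hζ1, div_self he, nsq_irr hi] at h5
    have h6 : ∑ ξ ∈ (seqIndD H L H ⊥).erase ζ, ‖c ξ‖ ^ 2 / nsq L ξ =
        ((𝐨(H) : ℝ) - 1) / H.relIndex L - 1 := by
      apply Complex.ofReal_injective
      push_cast at h5 ⊢
      rw [Finset.sum_congr rfl (g := fun ξ => (ξ 1 / H.relIndex L) ^ 2 / nsq L ξ) fun ξ hξ => by
        obtain ⟨d, -, hd'⟩ := exists_ratio hn (hT (Finset.mem_erase.mp hξ).2)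
        rw [hc ξ hξ, hd']; simp]
      linear_combination h5
    have h7 : ∑ ξ ∈ (seqIndD H L H ⊥).erase ζ, c ξ * ξ 1 / nsq L ξ =
        ((H.relIndex L + 1 - 𝐨(H) : ℝ) : ℂ) := by
      push_cast at h5 ⊢
      rw [Finset.sum_congr rfl
        (g := fun ξ => -(H.relIndex L : ℂ) * ((ξ 1 / H.relIndex L) ^ 2 / nsq L ξ)) fun ξ hξ => by
          rw [hc ξ hξ]; field_simp, ← Finset.mul_sum]
      have h8 : (H.relIndex L : ℂ) * (H.relIndex L : ℂ)⁻¹ = 1 := mul_inv_cancel₀ he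
      linear_combination -(H.relIndex L : ℂ) * h5 - ((𝐨(H) : ℂ) - 1) * h8
    rw [sum_erase_eq hn hζ, sum_erase_eq hn hζ, h6, h7, nsq_ind1 hn, ind1_one hn] at h4
    simp only [c, if_true, Complex.ofReal_natCast] at h4
    rw [mul_div_cancel_right₀ _ he, ← Complex.ofReal_intCast, ← Complex.ofReal_add,
      Complex.norm_real, Complex.norm_real, Real.norm_eq_abs, Real.norm_eq_abs, sq_abs, sq_abs,
      card_eq hn.1] at h4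
    rw [h4, ha]
    push_cast
    field_simp
    ring
  refine ⟨Γ, sub_mem (sub_mem (add_mem (vchar_mem_CF hβv) (vchar_mem_CF (hνv ζ hζ)))
    (cf1_mem_CF ⊤)) (Submodule.smul_mem _ _ (sgm_mem_CF hν)), hΓ1, hΓ2, a, hβΓ, hΓn, hρ,
    fun hb => ?_⟩
  have h4 : (2 : ℝ) * H.relIndex L + 1 ≤ 𝐨(H) := by exact_mod_cast hb
  have h5 : (a : ℝ) ≤ a ^ 2 := by exact_mod_cast Int.le_self_sq a
  have h6 : 2 * (a : ℝ) ≤ a ^ 2 * ((𝐨(H) : ℝ) - 1) / H.relIndex L := by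
    rw [le_div_iff₀ he']
    nlinarith [sq_nonneg (a : ℝ)]
  constructor
  · rw [hρ]
    have : a ^ 2 * (1 - 1 / (𝐨(H) : ℝ)) / H.relIndex L - 2 * a / 𝐨(H) =
        (a ^ 2 * ((𝐨(H) : ℝ) - 1) / H.relIndex L - 2 * a) / 𝐨(H) := by
      field_simp
    have h7 : 0 ≤ (a ^ 2 * ((𝐨(H) : ℝ) - 1) / H.relIndex L - 2 * a) / 𝐨(H) :=
      div_nonneg (by linarith) hh.le
    linarith
  · rw [hΓn]; linarith

end One

end Cfsg.Agent.FT
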