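/-
PF section 7, part 2: (7.9)-(7.11).
-/
import Cfsg.Agent.FT.P.PF07_1

set_option autoImplicit false

namespace Cfsg.Agent.FT

open Subgroup Cfsg Cfsg.Agent PF07
open scoped commutatorElement ComplexConjugate

universe u

variable {G : Type u} [Group G] [Finite G]

/-- The first part of the section on disjoint supports. -/
theorem disjoint_dade_ortho {A₁ A₂ : Set G} {D₁ D₂ : G → Subgroup G}
    (hd : Disjoint (dadeSupp A₁ D₁) (dadeSupp A₂ D₂)) (φ ψ : G → ℂ) :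
    ip ⊤ (dade A₁ D₁ φ) (dade A₂ D₂ ψ) = 0 := by
  refine ip_eq_zero_of_disjoint fun x _ => ?_
  by_cases h : x ∈ dadeSupp A₁ D₁
  · exact Or.inr (dade_of_notMem _ (Set.disjoint_left.mp hd h))
  · exact Or.inl (dade_of_notMem _ h)

namespace PF07

variable {L H : Subgroup G} {D : G → Subgroup G} {ν : (G → ℂ) →ₗ[ℂ] (G → ℂ)}

theorem odd_sub (ho : Odd (Nat.card G)) (L : Subgroup G) : Odd 𝐨(L) :=
  ho.of_dvd_nat (card_subgroup_dvd_card L)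

theorem sub_star_mem (hn : H ⊲ L) {χ : G → ℂ} (hχ : χ ∈ seqIndD H L H ⊥) :
    χ - star χ ∈ Zs0 (seqIndD H L H ⊥) :=
  sub_mem_Zs0 (mem_Zs_of_mem hχ) (mem_Zs_of_mem (star_mem_seqIndD hχ))
    (seqIndT_facts hn (seqIndD_subset_T _ _ _ _ hχ)).2.2.2.2.2.2.2.2.symm

theorem one_lt_card (ho : Odd (Nat.card G)) (hn : H ⊲ L) {χ : G → ℂ} (hχ : χ ∈ seqIndD H L H ⊥) :
    1 < (seqIndD H L H ⊥).card :=
  Finset.one_lt_card.mpr ⟨_, star_mem_seqIndD hχ, _, hχ,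
    (seqIndD_odd hn le_rfl (odd_sub ho L) hχ).2⟩

theorem delta_real (ho : Odd (Nat.card G)) (h : DadeHyp L (sharp H) D)
    (hν : CohWith L (seqIndD H L H ⊥) (dade (sharp H) D) ν) {ζ : G → ℂ}
    (hi : ζ ∈ Irr L) (hζ : ζ ∈ seqIndD H L H ⊥) :
    star (dade (sharp H) D (ind L H (cf1 H) - ζ) - cf1 ⊤ + ν ζ) =
      dade (sharp H) D (ind L H (cf1 H) - ζ) - cf1 ⊤ + ν ζ := by
  have hn := h.normal_of_sharp
  have h1 := hν.agree _ (sub_star_mem hn hζ)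
  rw [star_add, star_sub, star_cf1, ← dade_star, star_sub, ← ind_star, star_cf1,
    hν.star_eq h (fun χ hχ => star_mem_seqIndD hχ) hζ hi
      (seqIndD_odd hn le_rfl (odd_sub ho L) hζ).2]
  simp only [map_sub] at h1 ⊢
  linear_combination -h1

end PF07

section Two

variable {L₁ L₂ H₁ H₂ : Subgroup G} {D₁ D₂ : G → Subgroup G} {ν₁ ν₂ : (G → ℂ) →ₗ[ℂ] (G → ℂ)}

/-- The uses of PF (4.1) in sections 7 and 14. -/
theorem disjoint_coherent_ortho (ho : Odd (Nat.card G)) (h₁ : DadeHyp L₁ (sharp H₁) D₁)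
    (h₂ : DadeHyp L₂ (sharp H₂) D₂)
    (hd : Disjoint (dadeSupp (sharp H₁) D₁) (dadeSupp (sharp H₂) D₂))
    (hν₁ : CohWith L₁ (seqIndD H₁ L₁ H₁ ⊥) (dade (sharp H₁) D₁) ν₁)
    (hν₂ : CohWith L₂ (seqIndD H₂ L₂ H₂ ⊥) (dade (sharp H₂) D₂) ν₂) {χ₁ χ₂ : G → ℂ}
    (hi₁ : χ₁ ∈ Irr L₁) (hχ₁ : χ₁ ∈ seqIndD H₁ L₁ H₁ ⊥)
    (hi₂ : χ₂ ∈ Irr L₂) (hχ₂ : χ₂ ∈ seqIndD H₂ L₂ H₂ ⊥) : ip ⊤ (ν₁ χ₁) (ν₂ χ₂) = 0 := by
  have hn₁ := h₁.normal_of_sharp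
  have hn₂ := h₂.normal_of_sharp
  have e₁ := hν₁.agree _ (sub_star_mem hn₁ hχ₁)
  have e₂ := hν₂.agree _ (sub_star_mem hn₂ hχ₂)
  rw [map_sub ν₁] at e₁
  rw [map_sub ν₂] at e₂
  refine (vchar_pairs_orthonormal (hν₁.dirr hχ₁ hi₁)
    (hν₁.dirr (star_mem_seqIndD hχ₁) (star_mem_Irr hi₁)) (hν₂.dirr hχ₂ hi₂)
    (hν₂.dirr (star_mem_seqIndD hχ₂) (star_mem_Irr hi₂)) ?_ ?_ one_ne_zero one_ne_zero ?_ ?_ ?_).1
  · rw [ip_nu hn₁ hν₁ hχ₁ (star_mem_seqIndD hχ₁),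
      if_neg (seqIndD_odd hn₁ le_rfl (odd_sub ho _) hχ₁).2.symm]
  · rw [ip_nu hn₂ hν₂ hχ₂ (star_mem_seqIndD hχ₂),
      if_neg (seqIndD_odd hn₂ le_rfl (odd_sub ho _) hχ₂).2.symm]
  · rw [Complex.ofReal_one, one_smul, one_smul, e₁, e₂]
    exact disjoint_dade_ortho hd _ _
  · have := congrFun e₁ 1
    rw [h₁.dade_one, Pi.sub_apply] at this
    exact sub_eq_zero.mp this
  · have := congrFun e₂ 1
    rw [h₂.dade_one, Pi.sub_apply] at this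
    rw [sub_eq_zero.mp this]

/-- PF (7.9). -/
theorem dade_sub_lin_nonorthogonal (ho : Odd (Nat.card G)) (h₁ : DadeHyp L₁ (sharp H₁) D₁)
    (h₂ : DadeHyp L₂ (sharp H₂) D₂)
    (hd : Disjoint (dadeSupp (sharp H₁) D₁) (dadeSupp (sharp H₂) D₂))
    (hν₁ : CohWith L₁ (seqIndD H₁ L₁ H₁ ⊥) (dade (sharp H₁) D₁) ν₁)
    (hν₂ : CohWith L₂ (seqIndD H₂ L₂ H₂ ⊥) (dade (sharp H₂) D₂) ν₂) {ζ₁ ζ₂ : G → ℂ}
    (hi₁ : ζ₁ ∈ Irr L₁) (hζ₁ : ζ₁ ∈ seqIndD H₁ L₁ H₁ ⊥) (hd₁ : dg ζ₁ = H₁.relIndex L₁)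
    (hi₂ : ζ₂ ∈ Irr L₂) (hζ₂ : ζ₂ ∈ seqIndD H₂ L₂ H₂ ⊥) (hd₂ : dg ζ₂ = H₂.relIndex L₂) :
    ip ⊤ (dade (sharp H₁) D₁ (ind L₁ H₁ (cf1 H₁) - ζ₁)) (ν₂ ζ₂) ≠ 0 ∨
      ip ⊤ (dade (sharp H₂) D₂ (ind L₂ H₂ (cf1 H₂) - ζ₂)) (ν₁ ζ₁) ≠ 0 := by
  by_contra hc
  push Not at hc
  obtain ⟨o₁, -, b₁, v₁, -⟩ :=
    h₁.ind1_sub_lin_basic hν₁ (one_lt_card ho h₁.normal_of_sharp hζ₁) hi₁ hζ₁ hd₁
  obtain ⟨o₂, -, b₂, v₂, -⟩ :=
    h₂.ind1_sub_lin_basic hν₂ (one_lt_card ho h₂.normal_of_sharp hζ₂) hi₂ hζ₂ hd₂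
  have r₁ := delta_real ho h₁ hν₁ hi₁ hζ₁
  have r₂ := delta_real ho h₂ hν₂ hi₂ hζ₂
  have h12 := disjoint_dade_ortho hd (ind L₁ H₁ (cf1 H₁) - ζ₁) (ind L₂ H₂ (cf1 H₂) - ζ₂)
  have h12' := disjoint_coherent_ortho ho h₁ h₂ hd hν₁ hν₂ hi₁ hζ₁ hi₂ hζ₂
  set β₁ := dade (sharp H₁) D₁ (ind L₁ H₁ (cf1 H₁) - ζ₁)
  set β₂ := dade (sharp H₂) D₂ (ind L₂ H₂ (cf1 H₂) - ζ₂)
  obtain ⟨n, hn⟩ := ip_real_vchar_mod_two (odd_sub ho ⊤)
    (add_mem (sub_mem v₁ (cf1_mem_VChar ⊤)) (hν₁.vchar _ (mem_Zs_of_mem hζ₁)))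
    (add_mem (sub_mem v₂ (cf1_mem_VChar ⊤)) (hν₂.vchar _ (mem_Zs_of_mem hζ₂))) r₁ r₂
  have b₂' : ip ⊤ (cf1 ⊤) β₂ = 1 := by rw [← conj_ip, b₂, map_one]
  simp only [ip_add_left, ip_add_right, ip_sub_left, ip_sub_right, h12, h12', b₁, b₂, b₂', hc.1,
    ip_eq_zero_symm hc.2, o₁ ζ₁ hζ₁, o₂ ζ₂ hζ₂, ip_eq_zero_symm (o₂ ζ₂ hζ₂), ip_cf1_cf1] at hn
  have h3 : ((-1 : ℤ) : ℂ) = ((2 * n : ℤ) : ℂ) := by push_cast; linear_combination hn
  have h4 : (-1 : ℤ) = 2 * n := by exact_mod_cast h3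
  omega

end Two

namespace PF07

theorem frob_data (ho : Odd (Nat.card G)) {L H : Subgroup G} (hF : FrobKer L H)
    (hn : Group.IsNilpotent H) (hTI : NormedTI (sharp H) ⊤ L) :
    1 < H.relIndex L ∧ 2 * H.relIndex L + 1 ≤ 𝐨(H) ∧ seqIndD H L H ⊥ ⊆ Irr L ∧
      ∃ ν ζ, CohWith L (seqIndD H L H ⊥) (dade (sharp H) fun _ => ⊥) ν ∧
        ζ ∈ seqIndD H L H ⊥ ∧ dg ζ = H.relIndex L := by
  have hD := hTI.dadeHyp
  have hN := hD.normal_of_sharp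
  obtain ⟨R, hR, hRL⟩ := hF.exists_frob
  have he : H.relIndex L = 𝐨(R) := by rw [← hRL]; exact hR.sdProd.relIndex_left
  refine ⟨?_, ?_, fun ξ hξ => ?_, ?_⟩
  · have h1 : H.relIndex L ≠ 0 := index_ne_zero_of_finite
    have h2 : H.relIndex L ≠ 1 := fun h => hF.ltK.not_ge (relIndex_eq_one.mp h)
    omega
  · obtain ⟨k, hk⟩ := hR.card_dvd
    obtain ⟨a, ha⟩ := odd_sub ho H
    obtain ⟨b, hb⟩ := odd_sub ho R
    have h1 := hR.card_lt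
    rw [he]
    have h2 : 2 ≤ k := by
      by_contra h
      interval_cases k <;> omega
    have := Nat.mul_le_mul_left 𝐨(R) h2
    omega
  · obtain ⟨θ, hθ, rfl⟩ := mem_seqIndD.mp hξ
    obtain ⟨h1, h2, h3⟩ := mem_irrKerD.mp hθ
    exact hF.ind_mem_Irr (mem_irrKer.mpr ⟨h1, h2⟩) fun h => h3 (h ▸ le_cfKer_cf1 H)
  · obtain ⟨ν, hν⟩ := (sibley_coherence (odd_sub ho L) hn hTI (Or.inl hF)).congr
      (τ' := dade (sharp H) fun _ => ⊥) fun φ hφ =>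
        (hD.dade_eq_ind subset_rfl (fun a ha => le_trans (by simp) (hTI.cent1_le ha))
          (Zs0_seqIndT hN (seqIndD_subset_T _ _ _ _) hφ).1).symm
    obtain ⟨θ, -, -, h1, h2⟩ := exists_linInd (L := L) hN.1 inferInstance hF.ltN
      le_normalizer_of_normal
    exact ⟨ν, _, hν, h1, h2⟩

theorem disjoint_of_coprime {H K : Subgroup G} (hc : 𝐨(H).Coprime 𝐨(K)) :
    Disjoint (classSupp (sharp H) ⊤) (classSupp (sharp K) ⊤) := by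
  rw [Set.disjoint_left]
  rintro _ ⟨a, ha, g, -, rfl⟩ ⟨b, hb, k, -, e⟩
  have h1 : orderOf a = orderOf b := by
    have h2 : ∀ x y : G, orderOf (x * y * x⁻¹) = orderOf y := fun x y =>
      (MulAut.conj x).orderOf_eq y
    rw [← h2 g a, e, h2]
  exact ha.2 (orderOf_eq_one_iff.mp (Nat.eq_one_of_dvd_coprimes hc (H.orderOf_dvd_natCard ha.1)
    (h1 ▸ K.orderOf_dvd_natCard hb.1)))

end PF07

/-- PF (7.10), (7.11). -/
theorem no_coherent_Frobenius_partition (ho : Odd (Nat.card G)) {ι : Type*} (I : Finset ι)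
    (hI : 1 < I.card) {L H : ι → Subgroup G} (hF : ∀ i ∈ I, FrobKer (L i) (H i))
    (hn : ∀ i ∈ I, Group.IsNilpotent (H i)) (hTI : ∀ i ∈ I, NormedTI (sharp (H i)) ⊤ (L i))
    (hc : ∀ i ∈ I, ∀ j ∈ I, i ≠ j → 𝐨(H i).Coprime 𝐨(H j)) :
    ∃ g : G, g ≠ 1 ∧ ∀ i ∈ I, g ∉ classSupp (sharp (H i)) ⊤ := by
  classical
  by_contra hcon
  push Not at hcon
  have hdat : ∀ i, ∃ ν ζ, i ∈ I →
      CohWith (L i) (seqIndD (H i) (L i) (H i) ⊥) (dade (sharp (H i)) fun _ => ⊥) ν ∧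
        ζ ∈ seqIndD (H i) (L i) (H i) ⊥ ∧ dg ζ = (H i).relIndex (L i) := by
    intro i
    by_cases hi : i ∈ I
    · obtain ⟨-, -, -, ν, ζ, h⟩ := frob_data ho (hF i hi) (hn i hi) (hTI i hi)
      exact ⟨ν, ζ, fun _ => h⟩
    · exact ⟨0, 0, fun h => (hi h).elim⟩
  choose ν ζ hdat using hdat
  have hD : ∀ i ∈ I, DadeHyp (L i) (sharp (H i)) fun _ => ⊥ := fun i hi => (hTI i hi).dadeHyp
  have hN : ∀ i ∈ I, H i ⊲ L i := fun i hi => (hD i hi).normal_of_sharp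
  have hS : ∀ i ∈ I, seqIndD (H i) (L i) (H i) ⊥ ⊆ Irr (L i) := fun i hi =>
    (frob_data ho (hF i hi) (hn i hi) (hTI i hi)).2.2.1
  have hsupp : ∀ i ∈ I, dadeSupp (sharp (H i)) (fun _ => ⊥) = classSupp (sharp (H i)) ⊤ :=
    fun i hi => (hD i hi).dadeSupp_eq_classSupp
      fun a ha => le_trans (by simp) ((hTI i hi).cent1_le ha)
  have hdisj : ∀ i ∈ I, ∀ j ∈ I, i ≠ j →
      Disjoint (dadeSupp (sharp (H i)) fun _ => ⊥) (dadeSupp (sharp (H j)) fun _ => ⊥) := by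
    intro i hi j hj hij
    rw [hsupp i hi, hsupp j hj]
    exact disjoint_of_coprime (hc i hi j hj hij)
  have hortho : ∀ i ∈ I, ∀ j ∈ I, i ≠ j → ∀ ξ ∈ seqIndD (H i) (L i) (H i) ⊥,
      ∀ ξ' ∈ seqIndD (H j) (L j) (H j) ⊥, ip ⊤ (ν i ξ) (ν j ξ') = 0 :=
    fun i hi j hj hij ξ hξ ξ' hξ' => disjoint_coherent_ortho ho (hD i hi) (hD j hj)
      (hdisj i hi j hj hij) (hdat i hi).1 (hdat j hj).1 (hS i hi hξ) hξ (hS j hj hξ') hξ'
  have hbas := fun i (hi : i ∈ I) => (hD i hi).ind1_sub_lin_basic (hdat i hi).1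
    (one_lt_card ho (hN i hi) (hdat i hi).2.1) (hS i hi (hdat i hi).2.1) (hdat i hi).2.1
    (hdat i hi).2.2
  obtain ⟨o, hoI, hmin⟩ := I.exists_min_image (fun i => 𝐨(H i)) (Finset.card_pos.mp (by omega))
  obtain ⟨he1, heh, -⟩ := frob_data ho (hF o hoI) (hn o hoI) (hTI o hoI)
  obtain ⟨Γ, -, hΓ1, hΓ2, a, hβΓ, -, -, hbound⟩ := (hD o hoI).ind1_sub_lin (hdat o hoI).1
    (one_lt_card ho (hN o hoI) (hdat o hoI).2.1) (hS o hoI (hdat o hoI).2.1) (hdat o hoI).2.1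
    (hdat o hoI).2.2
  obtain ⟨hb1, hb2⟩ := hbound heh
  let β : ι → G → ℂ := fun i =>
    dade (sharp (H i)) (fun _ => ⊥) (ind (L i) (H i) (cf1 (H i)) - ζ i)
  have hχd : Dirr ⊤ (ν o (ζ o)) := (hdat o hoI).1.dirr (hdat o hoI).2.1 (hS o hoI (hdat o hoI).2.1)
  let B := (I.erase o).filter fun i => ip ⊤ (β i) (ν o (ζ o)) = 0
  have hB : ∀ i ∈ B, i ∈ I ∧ i ≠ o := fun i hi =>
    (Finset.mem_erase.mp (Finset.mem_filter.mp hi).1).symm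
  -- the cover inequality
  have hcov := dade_cover_inequality I hD hdisj (G₀ := {1}) (fun g => by
    rw [Set.mem_singleton_iff]
    constructor
    · rintro rfl i hi
      exact (hD i hi).one_notMem_supp
    · intro hg
      by_contra h1
      obtain ⟨i, hi, h2⟩ := hcon g h1
      exact hg i hi (hsupp i hi ▸ h2)) hχd.mem_CF hχd.nsq
  have h1 : (0 : ℝ) ≤ (Nat.card G : ℝ)⁻¹ *
      (∑ g ∈ fs ({1} : Set G), ‖ν o (ζ o) g‖ ^ 2 - ({1} : Set G).ncard) := by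
    refine mul_nonneg (by positivity) ?_
    obtain ⟨n, hn'⟩ := vchar_one_int hχd.mem_VChar
    have h0 : n ≠ 0 := fun h => hχd.one_ne_zero (by rw [hn', h, Int.cast_zero])
    rw [sum_fs_singleton, Set.ncard_singleton, hn', Complex.norm_intCast, sq_abs]
    have : (1 : ℤ) ≤ n ^ 2 := by have := pow_pos (abs_pos.mpr h0) 2; rw [sq_abs] at this; omega
    have : (1 : ℝ) ≤ (n : ℝ) ^ 2 := by exact_mod_cast this
    push_cast
    linarith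
  have hcard : ∀ i ∈ I, ((sharp (H i)).ncard : ℝ) / 𝐨(L i) =
      ((𝐨(H i) : ℝ) - 1) / ((H i).relIndex (L i)) / 𝐨(H i) := by
    intro i hi
    rw [ncard_sharp, Nat.cast_sub Nat.card_pos, card_eq (hN i hi).1, div_div]
    simp
  have h2 : ∀ i ∈ I.erase o, -(if ip ⊤ (β i) (ν o (ζ o)) = 0 then
      ((𝐨(H i) : ℝ) - 1) / ((H i).relIndex (L i)) / 𝐨(H i) else 0) ≤
      nsq (L i) (invDade (sharp (H i)) (fun _ => ⊥) (ν o (ζ o))) -
        (sharp (H i)).ncard / 𝐨(L i) := by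
    intro i hi
    obtain ⟨hio, hi⟩ := Finset.mem_erase.mp hi
    split_ifs with h0
    · rw [hcard i hi]
      linarith [nsq_nonneg (L i) (invDade (sharp (H i)) (fun _ => ⊥) (ν o (ζ o)))]
    · obtain ⟨-, -, -, hv, -, h3⟩ := hbas i hi
      rw [(h3 _ hχd.mem_CF fun ξ hξ => hortho i hi o hoI hio ξ hξ _ (hdat o hoI).2.1).2,
        ncard_sharp, Nat.cast_sub Nat.card_pos]
      obtain ⟨n, hn'⟩ := vchar_ip_int hv hχd.mem_VChar
      have h4 : n ≠ 0 := fun h => h0 (by rw [hn', h, Int.cast_zero])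
      rw [hn', Complex.norm_intCast, sq_abs]
      have h5 : (1 : ℤ) ≤ n ^ 2 := by have := pow_pos (abs_pos.mpr h4) 2; rw [sq_abs] at this; omega
      have h6 : (1 : ℝ) ≤ (n : ℝ) ^ 2 := by exact_mod_cast h5
      have h7 : (0 : ℝ) ≤ ((𝐨(H i) : ℝ) - 1) / 𝐨(L i) := by
        refine div_nonneg ?_ (by positivity)
        have : (1 : ℝ) ≤ 𝐨(H i) := by exact_mod_cast Nat.card_pos
        linarith
      push_cast
      nlinarith
  have h3 := Finset.sum_le_sum h2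
  rw [Finset.sum_neg_distrib, ← Finset.sum_filter] at h3
  rw [← Finset.add_sum_erase _ _ hoI, hcard o hoI] at hcov
  -- the Bessel inequality
  have hx : ∀ i, ∃ x : ℤ, i ∈ B → x ≠ 0 ∧
      ip ⊤ Γ (sgm (L i) (H i) (ν i)) = x * (((𝐨(H i) : ℝ) - 1) / (H i).relIndex (L i) : ℝ) := by
    intro i
    by_cases hi : i ∈ B
    swap
    · exact ⟨0, fun h => (hi h).elim⟩
    obtain ⟨hiI, hio⟩ := hB i hi
    obtain ⟨x, hx⟩ := vchar_ip_int (hbas o hoI).2.2.2.1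
      ((hdat i hiI).1.vchar _ (mem_Zs_of_mem (hdat i hiI).2.1))
    refine ⟨x, fun _ => ⟨fun h0 => ?_, ip_sgm_right (hN i hiI) _ fun ξ hξ => ?_⟩⟩
    · rcases dade_sub_lin_nonorthogonal ho (hD o hoI) (hD i hiI) (hdisj o hoI i hiI hio.symm)
        (hdat o hoI).1 (hdat i hiI).1 (hS o hoI (hdat o hoI).2.1) (hdat o hoI).2.1 (hdat o hoI).2.2
        (hS i hiI (hdat i hiI).2.1) (hdat i hiI).2.1 (hdat i hiI).2.2 with h | h
      · exact h (by rw [hx, h0, Int.cast_zero])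
      · exact h (Finset.mem_filter.mp hi).2
    · have h4 := disjoint_dade_ortho (hdisj o hoI i hiI hio.symm)
        (ind (L o) (H o) (cf1 (H o)) - ζ o) (ξ - (ξ 1 / (H i).relIndex (L i)) • ζ i)
      rw [dade_sub (hN i hiI) (hdat i hiI).1 (hdat i hiI).2.1 (hdat i hiI).2.2 hξ, ip_sub_right,
        ip_smul_right, hx, map_div₀, seqInd_conj_one (hN i hiI) (seqIndD_subset_T _ _ _ _ hξ),
        map_natCast, hβΓ, ip_add_left, ip_add_left, ip_sub_left, ip_smul_left,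
        ip_eq_zero_symm ((hbas i hiI).1 ξ hξ), hortho o hoI i hiI hio.symm _ (hdat o hoI).2.1 ξ hξ]
        at h4
      have h5 := ip_sgm_left_eq_zero (L := L o) (H := H o) (ν o)
        fun ξ' hξ' => hortho o hoI i hiI hio.symm ξ' hξ' ξ hξ
      rw [sgm] at h5
      rw [h5] at h4
      linear_combination h4
  choose x hx using hx
  let N : ι → ℝ := fun i => ((𝐨(H i) : ℝ) - 1) / (H i).relIndex (L i)
  have hN0 : ∀ i, 0 ≤ N i := fun i => by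
    refine div_nonneg ?_ (by positivity)
    have : (1 : ℝ) ≤ 𝐨(H i) := by exact_mod_cast Nat.card_pos
    linarith
  have h4 : ∑ i ∈ B, N i ≤ nsq ⊤ Γ := by
    have h5 := nsq_nonneg ⊤ (Γ - ∑ i ∈ B, (x i : ℂ) • sgm (L i) (H i) (ν i))
    rw [nsq_sub, nsq_sum_of_orth, ip_sum_right,
      Finset.sum_congr rfl (g := fun i => (x i : ℝ) ^ 2 * N i) fun i hi => by
        rw [nsq_int_smul, nsq_sgm (hN i (hB i hi).1) (hdat i (hB i hi).1).1],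
      Finset.sum_congr rfl (g := fun i => (((x i : ℝ) ^ 2 * N i : ℝ) : ℂ)) fun i hi => by
        rw [ip_smul_right, (hx i hi).2]; simp only [N]; push_cast; simp only [map_intCast]; ring,
      ← Complex.ofReal_sum, Complex.ofReal_re] at h5
    · have h6 : ∑ i ∈ B, N i ≤ ∑ i ∈ B, (x i : ℝ) ^ 2 * N i := by
        refine Finset.sum_le_sum fun i hi => ?_
        have h7 : (1 : ℤ) ≤ x i ^ 2 := by
          have := pow_pos (abs_pos.mpr (hx i hi).1) 2; rw [sq_abs] at this; omega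
        have h8 : (1 : ℝ) ≤ (x i : ℝ) ^ 2 := by exact_mod_cast h7
        nlinarith [hN0 i]
      linarith
    · intro i hi j hj hij
      rw [ip_smul_left, ip_smul_right, ip_sgm_left_eq_zero, mul_zero, mul_zero]
      intro ξ hξ
      exact ip_eq_zero_symm (ip_sgm_left_eq_zero _ fun ξ' hξ' =>
        hortho j (hB j hj).1 i (hB i hi).1 hij.symm ξ' hξ' ξ hξ)
  have hh := card_pos_R (H o)
  have h5 : ∑ i ∈ B, N i / 𝐨(H i) ≤ (∑ i ∈ B, N i) / (𝐨(H o) + 1) := by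
    rw [Finset.sum_div]
    refine Finset.sum_le_sum fun i hi => div_le_div_of_nonneg_left (hN0 i) (by linarith) ?_
    have h6 := hmin i (hB i hi).1
    have h7 : 𝐨(H o) ≠ 𝐨(H i) := fun h => by
      have := hc i (hB i hi).1 o hoI (hB i hi).2
      rw [← h, Nat.coprime_self] at this
      omega
    exact_mod_cast (by omega : 𝐨(H o) + 1 ≤ 𝐨(H i))
  have h6 : (∑ i ∈ B, N i) / (𝐨(H o) + 1) ≤ ((H o).relIndex (L o) - 1) / (𝐨(H o) + 1) :=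
    div_le_div_of_nonneg_right (h4.trans hb2) (by linarith)
  have h7 : 1 - ((H o).relIndex (L o) : ℝ) / 𝐨(H o) -
      ((𝐨(H o) : ℝ) - 1) / (H o).relIndex (L o) / 𝐨(H o) ≤
      ((H o).relIndex (L o) - 1) / (𝐨(H o) + 1) := by
    simp only [N] at h5 h6
    linarith
  have he : (1 : ℝ) < (H o).relIndex (L o) := by exact_mod_cast he1
  have heh' : (2 : ℝ) * (H o).relIndex (L o) + 1 ≤ 𝐨(H o) := by exact_mod_cast heh
  generalize ((H o).relIndex (L o) : ℝ) = e at *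
  generalize (𝐨(H o) : ℝ) = h at *
  have h8 : 1 - e / h - (h - 1) / e / h = (e - 1) * (h - e - 1) / (e * h) := by
    field_simp; ring
  rw [h8, div_le_div_iff₀ (by positivity) (by positivity)] at h7
  have h9 : (h - e - 1) * (h + 1) ≤ e * h := by
    by_contra h10
    push Not at h10
    nlinarith
  nlinarith

end Cfsg.Agent.FT
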