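/-
PF section 8, character-theoretic part.
-/
import Cfsg.Agent.FT.PF07
import Cfsg.Agent.FT.BG17
import Cfsg.Agent.FT.BGC
import Cfsg.Agent.FT.C.Defs2

set_option autoImplicit false

namespace Cfsg.Agent.FT

open Subgroup Cfsg Cfsg.Agent
open scoped commutatorElement

universe u

variable {G : Type u} [Group G] [Finite G] [MinOdd G]

/-- PF (8.2)(c). -/
theorem TypeFInertia.inertia_le {M U U₁ : Subgroup G} (hF : OfTypeF M U) (h : TypeFInertia M U U₁)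
    {θ : G → ℂ} (hθ : θ ∈ Irr (MF M)) (h1 : θ ≠ cf1 (MF M)) : U ⊓ inertia θ ≤ U₁ := by
  intro u hu
  have h2 : MF M ⊓ 𝐂[u] ≠ ⊥ := fun h2 =>
    h1 (eq_cf1_of_mem_inertia (hF.sd.le_norm (hF.sd.le_right hu.1)) h2 hθ hu.2)
  obtain ⟨⟨x, hx⟩, hx1⟩ := ne_bot_iff_exists_ne_one.mp h2
  refine h.cent x hx.1 (fun e => hx1 (Subtype.ext e)) ⟨hu.1, ?_⟩
  exact mem_centralizer_singleton_iff.mpr (mem_centralizer_singleton_iff.mp hx.2).symm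

theorem tau0_eq_tauA {M : Subgroup G} (hM : IsCoatom M) {α : G → ℂ} (hα : α ∈ CFon M (ftA M)) :
    tau0 M α = tauA M α :=
  ((ftDade0 hM).dade_restr (ftDade hM) (ftA_subset_ftA0 M) hα).symm

theorem tau_eq_tauF {M : Subgroup G} (hM : IsCoatom M) {α : G → ℂ}
    (hα : α ∈ CFon M (sharp (MF M))) : tau0 M α = tauF M α ∧ tauA M α = tauF M α :=
  have h := (sharp_MF_subset_ftA1 hM).trans (ftA1_subset_ftA hM)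
  ⟨((ftDade0 hM).dade_restr (ftDadeF hM) (h.trans (ftA_subset_ftA0 M)) hα).symm,
    ((ftDade hM).dade_restr (ftDadeF hM) h hα).symm⟩

theorem tau_eq_dade_ftA1 {M : Subgroup G} (hM : IsCoatom M) {α : G → ℂ}
    (hα : α ∈ CFon M (ftA1 M)) :
    tau0 M α = dade (ftA1 M) (ftR M) α ∧ tauA M α = dade (ftA1 M) (ftR M) α :=
  have h := ftA1_subset_ftA hM
  ⟨((ftDade0 hM).dade_restr (ftDade1 hM) (h.trans (ftA_subset_ftA0 M)) hα).symm,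
    ((ftDade hM).dade_restr (ftDade1 hM) h hα).symm⟩

variable {M U W₁ W₂ W : Subgroup G}

/-- All the sets `𝒮(Y)` of sections 9 to 13 are subsets of this one. -/
theorem OfTypeP.conjSub_S9 (hM : IsCoatom M) (h : OfTypeP M U W₁ W₂ W) (Y : Subgroup G) :
    ConjSub (S9 M Y) (seqIndD ⁅M, M⁆ M (Ms M) ⊥) := by
  have := (h.prDade hM).leHK
  refine conjSub_seqIndD _ _ (fun x hx => ?_) bot_le
  by_cases h1 : x = 1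
  · rw [h1]; exact one_mem _
  · exact (sharp_MF_subset_ftA1 hM ⟨hx, h1⟩).1

theorem conjSub_S11 (hM : IsCoatom M) (h : 2 < ftType M) (Y : Subgroup G) :
    ConjSub (S11 M Y) (seqIndD ⁅M, M⁆ M (Ms M) ⊥) :=
  conjSub_seqIndD _ _ (Ms_eq_der hM h).ge bot_le

theorem PF08.not_real (hM : IsCoatom M) (h : OfTypeP M U W₁ W₂ W) :
    ∀ χ ∈ seqIndD ⁅M, M⁆ M (Ms M) ⊥, star χ ≠ χ := fun _ hχ =>
  (seqIndD_odd (der_normal M) (h.prDade hM).leHK (odd_card M) hχ).2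

theorem OfTypeP.subcoherent (hM : IsCoatom M) (h : OfTypeP M U W₁ W₂ W) :
    ∃ R, Subcoherent M (seqIndD ⁅M, M⁆ M (Ms M) ⊥) (tau0 M) R ∧
      (∀ φ ∈ seqIndD ⁅M, M⁆ M (Ms M) ⊥, φ ∈ Irr M → ∀ ω ∈ Irr W, ∀ α ∈ R φ,
        ip ⊤ α (cycσ ⊤ W₁ W₂ ω) = 0) ∧
      ∀ β ∈ irrKer W W₁, R (muR M W₁ W₂ β) =
        (irrKer W W₂).image (fun α => (delt M W₁ W₂ β : ℂ) • cycσ ⊤ W₁ W₂ (α * β)) ∪
        (irrKer W W₂).image (fun α => -((delt M W₁ W₂ β : ℂ) • cycσ ⊤ W₁ W₂ (α * star β))) :=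
  (h.prDade hM).subcoherent ⟨subset_rfl, fun _ hχ => star_mem_seqIndD hχ⟩ (PF08.not_real hM h)

theorem OfTypeP.coherent_ortho_σ (hM : IsCoatom M) (h : OfTypeP M U W₁ W₂ W)
    {S : Finset (G → ℂ)} (hS : ConjSub S (seqIndD ⁅M, M⁆ M (Ms M) ⊥))
    {τ₁ : (G → ℂ) →ₗ[ℂ] (G → ℂ)} (hc : CohWith M S (tau0 M) τ₁) {χ : G → ℂ} (hχ : χ ∈ S)
    (hi : χ ∈ Irr M) {ω : G → ℂ} (hω : ω ∈ Irr W) : ip ⊤ (τ₁ χ) (cycσ ⊤ W₁ W₂ ω) = 0 :=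
  (h.prDade hM).coherent_ortho_σ hS (fun χ hχ => PF08.not_real hM h χ (hS.1 hχ)) hc hχ hi hω

theorem OfTypeP.coherent_muR (hM : IsCoatom M) (h : OfTypeP M U W₁ W₂ W)
    {S : Finset (G → ℂ)} (hS : ConjSub S (seqIndD ⁅M, M⁆ M (Ms M) ⊥))
    (hi : ∃ χ ∈ S, χ ∈ Irr M) {γ : G → ℂ} (hγ : γ ∈ irrKer W W₁)
    (hγS : muR M W₁ W₂ γ ∈ S) {τ₁ : (G → ℂ) →ₗ[ℂ] (G → ℂ)} (hc : CohWith M S (tau0 M) τ₁) :
    τ₁ (muR M W₁ W₂ γ) = (delt M W₁ W₂ γ : ℂ) • etaCol W₁ W₂ γ ∨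
      (τ₁ (muR M W₁ W₂ γ) = -((delt M W₁ W₂ γ : ℂ) • etaCol W₁ W₂ (star γ)) ∧
        ∀ β ∈ irrKer W W₁, muR M W₁ W₂ β ∈ S → muR M W₁ W₂ β 1 = muR M W₁ W₂ γ 1 →
          β = γ ∨ β = star γ) :=
  (h.prDade hM).coherent_muR hS (fun χ hχ => PF08.not_real hM h χ (hS.1 hχ)) hi hγ hγS hc

theorem OfTypeP.muR_mem_S9 (hM : IsCoatom M) (h : OfTypeP M U W₁ W₂ W) {β : G → ℂ}
    (hβ : β ∈ irrKer W W₁) (h1 : β ≠ cf1 W) : muR M W₁ W₂ β ∈ S9 M ⊥ :=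
  ((h.prDadeF hM).muR_mem hβ h1).2

/-- The reducible induced characters come from a single character of `M'`. -/
theorem OfTypeP.card_filter_ind_red (h : OfTypeP M U W₁ W₂ W) {S : Finset (G → ℂ)}
    (hS : S ⊆ seqIndT ⁅M, M⁆ M) (hr : ∀ φ ∈ S, φ ∉ Irr M) :
    S.card = {θ : G → ℂ | θ ∈ Irr ⁅M, M⁆ ∧ ind M ⁅M, M⁆ θ ∈ S}.ncard := by
  have hP := h.primeTI
  rw [← Set.ncard_coe_finset]
  refine (Set.BijOn.ncard_eq (f := ind M ⁅M, M⁆) ⟨fun θ hθ => hθ.2, ?_, fun φ hφ => ?_⟩).symm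
  · rintro θ ⟨h1, h2⟩ θ' ⟨h1', h2'⟩ e
    obtain ⟨β, hβ, rfl⟩ := (hP.irr_cases h1).resolve_right fun h => hr _ h2 h.1
    obtain ⟨β', hβ', rfl⟩ := (hP.irr_cases h1').resolve_right fun h => hr _ h2' h.1
    rw [(hP.res_mu2 hβ).2.2.1, (hP.res_mu2 hβ').2.2.1] at e
    rw [hP.res_mu2_injOn.2 hβ hβ' e]
  · obtain ⟨θ, hθ, rfl⟩ := mem_seqIndT.mp (hS hφ)
    exact ⟨θ, ⟨hθ, hφ⟩, rfl⟩

theorem PF08.der_solvable (h : OfTypeP M U W₁ W₂ W) : Group.IsSolvable ↥⁅M, M⁆ := by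
  refine isSolvable_of_ne_top fun e => ?_
  have h1 := h.sdM.disj
  rw [e, top_inf_eq] at h1
  exact h.ne_bot1 h1

/-- `M / M''` is a Frobenius group (used in PF (10.2), (11.8), (14.9)). -/
theorem OfTypeP.frobKerMod_der2 (h : OfTypeP M U W₁ W₂ W) :
    FrobKerMod M ⁅M, M⁆ ⁅⁅M, M⁆, ⁅M, M⁆⁆ := by
  have hs := PF08.der_solvable h
  have hn2 : M ≤ 𝐍(⁅⁅M, M⁆, ⁅M, M⁆⁆) :=
    (der_normal M).2.trans (norm_le_norm_der _)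
  refine ⟨?_, ?_, (der_normal M).2, hn2, fun x hx hx2 g hg hc => ?_⟩
  · refine H1.commutator_lt_of_isSolvable hs fun e => h.ne_bot2 (le_bot_iff.mp ?_)
    rw [← e]; exact h.primeTI.le2
  · refine lt_of_le_of_ne (der_normal M).1 fun e => h.ne_bot1 ?_
    rw [← h.sdM.disj, e, inf_eq_right.mpr h.sdM.le_right]
  by_contra hgK
  obtain ⟨k, hk, w, hw, rfl⟩ := h.sdM.mem_iff.mp hg
  have hw1 : w ≠ 1 := fun e => hgK (by rw [e, mul_one]; exact hk)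
  haveI := H1.normal_subgroupOf_of_le hn2
  have hwM := h.sdM.le_right hw
  have hzM : zpowers w ≤ M := zpowers_le.mpr hwM
  have h1 := H1.bar_inf_centralizer_bar (Y := M) (N := ⁅⁅M, M⁆, ⁅M, M⁆⁆) hzM (der_normal M).1
    (hzM.trans (der_normal M).2)
    (h.basic.2.2.2.2.2.2.2.2.1.symm.coprime_dvd_left (card_dvd_of_le (zpowers_le.mpr hw)))
    (Or.inr hs)
  have h2 : ⁅M, M⁆ ⊓ 𝐂(zpowers w) ≤ ⁅⁅M, M⁆, ⁅M, M⁆⁆ := by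
    refine le_trans ?_ h.le2der
    rw [← h.cent w hw hw1]
    exact inf_le_inf_left _ (centralizer_le (by simp))
  rw [(H1.bar_eq_bot_iff (inf_le_left.trans (der_normal M).1)).mpr h2] at h1
  have hxM := (der_normal M).1 hx
  have hkM := (der_normal M).1 hk
  have h3 : Commute (H1.qmk M ⁅⁅M, M⁆, ⁅M, M⁆⁆ ⟨k * w, hg⟩) (H1.qmk M _ ⟨x, hxM⟩) := by
    rw [← commutatorElement_eq_one_iff_commute, ← map_commutatorElement, H1.qmk_eq_one_iff]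
    exact hc
  have h4 : Commute (H1.qmk M ⁅⁅M, M⁆, ⁅M, M⁆⁆ ⟨k, hkM⟩) (H1.qmk M _ ⟨x, hxM⟩) := by
    rw [← commutatorElement_eq_one_iff_commute, ← map_commutatorElement, H1.qmk_eq_one_iff]
    exact commutator_mem_commutator hk hx
  have h5 : Commute (H1.qmk M ⁅⁅M, M⁆, ⁅M, M⁆⁆ ⟨w, hwM⟩) (H1.qmk M _ ⟨x, hxM⟩) := by
    have : (⟨w, hwM⟩ : M) = (⟨k, hkM⟩ : M)⁻¹ * ⟨k * w, hg⟩ := Subtype.ext (by simp)
    rw [this, map_mul, map_inv]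
    exact h4.inv_left.mul_left h3
  apply hx2
  refine (H1.qmk_eq_one_iff (Y := M) (y := ⟨x, hxM⟩)).mp (mem_bot.mp ?_)
  rw [← h1]
  refine ⟨H1.qmk_mem_bar hx, ?_⟩
  rw [H1.bar_zpowers (⟨w, hwM⟩ : M)]
  rintro _ ⟨n, rfl⟩
  exact (h5.zpow_left n).eq

/-- The members of `𝒮(Y)` for `M'' ≤ Y`. -/
theorem OfTypeP.mem_S11_of_der2_le (h : OfTypeP M U W₁ W₂ W) {Y : Subgroup G}
    (hY : ⁅⁅M, M⁆, ⁅M, M⁆⁆ ≤ Y) {ζ : G → ℂ} (hζ : ζ ∈ S11 M Y) : ζ ∈ Irr M ∧ dg ζ = 𝐨(W₁) := by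
  obtain ⟨θ, hθ, rfl⟩ := mem_seqIndD.mp hζ
  obtain ⟨h1, h2, h3⟩ := mem_irrKerD.mp hθ
  have h4 : θ ∈ irrKer ⁅M, M⁆ ⁅⁅M, M⁆, ⁅M, M⁆⁆ := mem_irrKer.mpr ⟨h1, hY.trans h2⟩
  refine ⟨h.frobKerMod_der2.ind_mem_Irr h4 fun e => h3 (e ▸ le_cfKer_cf1 _), ?_⟩
  rw [(irr_isChar h1).dg_ind (der_normal M).1, (isLin_of_mem_irrKer le_rfl h4).dg, mul_one,
    h.sdM.relIndex_left]

/-- PF (10.2), valid for all groups of type P. -/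
theorem OfTypeP.exists_ref_irr (h : OfTypeP M U W₁ W₂ W) :
    ∃ ζ ∈ S11 M ⊥, ζ ∈ Irr M ∧ dg ζ = 𝐨(W₁) := by
  obtain ⟨ζ, hζ⟩ := seqIndD_nonempty (H := ⁅M, M⁆) M (der_normal ⁅M, M⁆)
    h.frobKerMod_der2.ltN.not_ge
  exact ⟨ζ, seqIndD_mono _ _ le_rfl bot_le hζ, h.mem_S11_of_der2_le le_rfl hζ⟩

end Cfsg.Agent.FT
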