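/-
PF (9.3)-(9.6): the chief factor `M_F / H₀` of a group of type II-IV.
-/
import Cfsg.Agent.FT.PF08

set_option autoImplicit false
set_option linter.unusedSectionVars false

namespace Cfsg.Agent.FT

open Subgroup Cfsg Cfsg.Agent
open scoped commutatorElement

universe u

variable {G : Type u} [Group G] [Finite G] [MinOdd G]

variable {M U W₁ W₂ W H₀ : Subgroup G}

namespace PF09a

theorem coprime_MF (h : OfTypeP M U W₁ W₂ W) : 𝐨(MF M).Coprime 𝐨(U ⊔ W₁) := by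
  have := (isHallIn_MF M).2
  rwa [h.basic.2.1.relIndex_left] at this

theorem UW_le (h : OfTypeP M U W₁ W₂ W) : U ⊔ W₁ ≤ M := h.basic.2.1.le_right

theorem U_le (h : OfTypeP M U W₁ W₂ W) : U ≤ M := le_sup_left.trans (UW_le h)

theorem W₁_le (h : OfTypeP M U W₁ W₂ W) : W₁ ≤ M := le_sup_right.trans (UW_le h)

theorem W₂_le (h : OfTypeP M U W₁ W₂ W) : W₂ ≤ M := h.le2F.trans (MF_le M)

theorem UW_norm (h : OfTypeP M U W₁ W₂ W) : U ⊔ W₁ ≤ 𝐍(U) := sup_le (le_norm_self U) h.normU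

theorem wielandt (hM : IsCoatom M) (h : OfTypeP M U W₁ W₂ W) (h5 : ftType M ≠ 5) :
    𝐨(MF M ⊓ 𝐂(U ⊔ W₁)) ^ 𝐨(W₁) * 𝐨(MF M) = 𝐨(W₂) ^ 𝐨(W₁) * 𝐨(MF M ⊓ 𝐂(U)) := by
  have hU := (h.ofTypeIItoIV hM h5).ne_botU
  have := (h.basic.2.2.2.2.2.2.2.2.2 hU).wielandt_fix ((U_le h).trans (MF_normal M).2)
    ((W₁_le h).trans (MF_normal M).2) (coprime_MF h) (isSolvable_of_isNilpotent (isNilpotent_MF M))
  rwa [h.basic.2.2.2.1] at this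

theorem prime2 (hM : IsCoatom M) (h : OfTypeP M U W₁ W₂ W) (h2 : ftType M ≠ 2) :
    𝐨(W₂).Prime := by
  obtain ⟨T, hT⟩ := h.exists_pair hM
  obtain ⟨V, hV⟩ := hT.symm.exists_ofTypeP
  have := hT.type2.resolve_left h2
  exact (hV.ofTypeIItoIV hT.maxT (by omega)).prime1

end PF09a

open PF09a

/-- PF (9.3). -/
theorem typeII_IV_core (hM : IsCoatom M) (h : OfTypeP M U W₁ W₂ W) (h5 : ftType M ≠ 5) :
    (ftType M = 2 → MF M ⊓ 𝐂(U) = ⊥ ∧ 𝐨(MF M) = 𝐨(W₂) ^ 𝐨(W₁)) ∧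
      (ftType M ≠ 2 → 𝐨(W₂).Prime ∧ MF M ⊓ 𝐂(U ⊔ W₁) = ⊥ ∧
        𝐨(MF M) = 𝐨(W₂) ^ 𝐨(W₁) * 𝐨(MF M ⊓ 𝐂(U))) := by
  have hU := (h.ofTypeIItoIV hM h5).ne_botU
  have hw := wielandt hM h h5
  refine ⟨fun h2 => ?_, fun h2 => ?_⟩
  · have h1 : MF M ⊓ 𝐂(U) = ⊥ := by
      by_contra hne
      have hd : ftDer M = ⁅M, M⁆ := if_neg (by omega)
      exact ((h.ofTypeII_iff hM).2 h2).not_norm
        ((typeI_II_facts hM h2.le (hd ▸ h.sdD)).2.1 U le_rfl hU hne).norm_le_of_cent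
    have h3 : MF M ⊓ 𝐂(U ⊔ W₁) = ⊥ :=
      eq_bot_iff.2 (h1 ▸ inf_le_inf_left _ (cent_anti le_sup_left))
    rw [h1, h3, card_bot, one_pow, one_mul, mul_one] at hw
    exact ⟨h1, hw⟩
  · have hp := prime2 hM h h2
    have h3 : MF M ⊓ 𝐂(U ⊔ W₁) = ⊥ := by
      refine (eq_bot_or_eq_of_card_prime hp (Y := MF M ⊓ 𝐂(U ⊔ W₁))
        (h.basic.2.2.2.1 ▸ inf_le_inf_left _ (cent_anti le_sup_right))).resolve_right fun e => ?_
      rw [e] at hw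
      have h4 := Nat.eq_of_mul_eq_mul_left (pow_pos hp.pos _) hw
      have h5 : MF M ⊓ 𝐂(U) = MF M := H1.eq_of_le_of_card_le inf_le_left h4.le
      exact h.facts.2.2 hU (cent_comm.1 (h5 ▸ inf_le_right))
    rw [h3, card_bot, one_pow, one_mul] at hw
    exact ⟨hp, h3, hw⟩

/-- PF (9.4). -/
theorem exists_hyp9 (hM : IsCoatom M) (h : OfTypeP M U W₁ W₂ W) (h5 : ftType M ≠ 5) :
    ∃ H₀, Hyp9 M U W₁ W₂ W H₀ := by
  have hU := (h.ofTypeIItoIV hM h5).ne_botU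
  have hle : (MF M ⊓ 𝐂(U)) ⊔ 𝚽(MF M) ≤ MF M := sup_le inf_le_left (frattini_le _)
  have hn : M ≤ 𝐍((MF M ⊓ 𝐂(U)) ⊔ 𝚽(MF M)) := by
    refine h.basic.2.1.sup.ge.trans (sup_le ?_ ?_)
    · exact le_norm_of_der_le
        ((H1.commutator_le_frattiniOf (isNilpotent_MF M)).trans le_sup_right) hle
    · have h1 := (UW_le h).trans (MF_normal M).2
      exact H1.le_normalizer_sup
        (H1.le_normalizer_inf h1 (H1.le_normalizer_centralizer (UW_norm h)))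
        (h1.trans (norm_le_norm_frattini _))
  obtain ⟨V, hV, hc⟩ := exists_chief_below (MF_normal M) hn (lt_of_le_of_ne hle fun e =>
    h.facts.2.2 hU (cent_comm.1 (H1.eq_of_sup_frattini inf_le_left e.ge ▸ inf_le_right)))
  exact ⟨V, hM, h, h5, hc, le_sup_left.trans hV⟩

namespace Hyp9

variable (h : Hyp9 M U W₁ W₂ W H₀)
include h

theorem a9_lt : H₀ < MF M := h.ker.chief.lt

theorem a9_norm : M ≤ 𝐍(H₀) := h.ker.chief.normV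

theorem a9_le : H₀ ≤ M := h.a9_lt.le.trans (MF_le M)

theorem a9_normal : (H₀.subgroupOf M).Normal := H1.normal_subgroupOf_of_le h.a9_norm

theorem a9_prime : 𝐨(W₁).Prime := (h.typeP.ofTypeIItoIV h.max h.not5).prime1

theorem a9_frob : Frob U W₁ :=
  h.typeP.basic.2.2.2.2.2.2.2.2.2 (h.typeP.ofTypeIItoIV h.max h.not5).ne_botU

theorem a9_disj {X : Subgroup G} (hX : X ≤ U ⊔ W₁) : H₀ ⊓ X = ⊥ :=
  eq_bot_iff.2 (h.typeP.basic.2.1.disj ▸ inf_le_inf h.a9_lt.le hX)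

theorem a9_solv : Group.IsSolvable (MF M) := isSolvable_of_isNilpotent (isNilpotent_MF M)

theorem a9_bar_cent [(H₀.subgroupOf M).Normal] {X : Subgroup G} (hX : X ≤ U ⊔ W₁) :
    H1.bar M H₀ (MF M) ⊓ 𝐂(H1.bar M H₀ X) = H1.bar M H₀ (MF M ⊓ 𝐂(X)) :=
  H1.bar_inf_centralizer_bar (hX.trans (UW_le h.typeP)) (MF_le M)
    ((hX.trans (UW_le h.typeP)).trans (MF_normal M).2)
    (H1.coprime_of_le (coprime_MF h.typeP).symm hX le_rfl) (Or.inr h.a9_solv)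

theorem a9_bar_centU [(H₀.subgroupOf M).Normal] :
    H1.bar M H₀ (MF M) ⊓ 𝐂(H1.bar M H₀ U) = ⊥ := by
  rw [h.a9_bar_cent le_sup_left, H1.bar_eq_bot_iff (inf_le_left.trans (MF_le M))]
  exact h.ker.cent

theorem a9_bar_centW [(H₀.subgroupOf M).Normal] :
    H1.bar M H₀ (MF M) ⊓ 𝐂(H1.bar M H₀ W₁) = H1.bar M H₀ W₂ := by
  rw [h.a9_bar_cent le_sup_right, h.typeP.basic.2.2.2.1]

theorem a9_bar_frob [(H₀.subgroupOf M).Normal] : Frob (H1.bar M H₀ U) (H1.bar M H₀ W₁) := by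
  have hU := U_le h.typeP
  have hW := W₁_le h.typeP
  have c1 := card_bar_of_disj (N := H₀) hW (h.a9_disj le_sup_right)
  refine ⟨fun e => h.a9_frob.ne_botK ?_, ne_bot_of_card_prime (c1 ▸ h.a9_prime),
    H1.bar_le_normalizer h.typeP.normU, semiReg_of_card_prime (c1 ▸ h.a9_prime) ?_⟩
  · rw [H1.bar_eq_bot_iff hU] at e
    rw [← h.a9_disj le_sup_left, inf_of_le_right e]
  · rw [H1.bar_inf_centralizer_bar hW hU h.typeP.normU h.a9_frob.coprime.symm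
      (Or.inr (isSolvable_of_isNilpotent h.typeP.nilU)), h.a9_frob.cent_eq_bot,
      H1.bar_eq_bot_iff bot_le]
    exact bot_le

theorem a9_card : H₀.relIndex (MF M) = H₀.relIndex W₂ ^ 𝐨(W₁) := by
  haveI := h.a9_normal
  have hU := U_le h.typeP
  have hW := W₁_le h.typeP
  have hw := h.a9_bar_frob.wielandt_fix (M := H1.bar M H₀ (MF M))
    (H1.bar_le_normalizer (hU.trans (MF_normal M).2))
    (H1.bar_le_normalizer (hW.trans (MF_normal M).2))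
    (by rw [← H1.bar_sup hU hW]; exact H1.coprime_bar (coprime_MF h.typeP))
    (H1.isSolvable_bar h.a9_solv)
  have h3 : H1.bar M H₀ (MF M) ⊓ 𝐂(H1.bar M H₀ U ⊔ H1.bar M H₀ W₁) = ⊥ :=
    eq_bot_iff.2 (h.a9_bar_centU ▸ inf_le_inf_left _ (cent_anti le_sup_left))
  rwa [h3, h.a9_bar_centU, h.a9_bar_centW, card_bot, one_pow, one_mul, mul_one,
    card_bar_of_disj hW (h.a9_disj le_sup_right), H1.card_bar (MF_le M),
    H1.card_bar (W₂_le h.typeP)] at hw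

theorem a9_elem : (H₀.relIndex W₂).Prime ∧ ⁅MF M, MF M⁆ ≤ H₀ ∧
    ∀ x ∈ MF M, x ^ H₀.relIndex W₂ ∈ H₀ := by
  haveI := h.a9_normal
  obtain ⟨p, hp, h1, h2, -⟩ := chief_elem (mmax_isSolvable h.max) h.ker.chief
  have h3 : H₀.relIndex W₂ ∣ p := by
    rw [← H1.card_bar (W₂_le h.typeP)]
    obtain ⟨x, hx⟩ := isCyclic_iff_zpowers.1 (isCyclic_bar (N := H₀) (W₂_le h.typeP) h.typeP.cyc2)
    rw [← hx, Nat.card_zpowers, orderOf_dvd_iff_pow_eq_one]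
    exact bar_pow_eq_one (fun y hy => h2 y (h.typeP.le2F hy)) x (hx ▸ mem_zpowers x)
  have h4 : H₀.relIndex W₂ = p := by
    refine ((Nat.dvd_prime hp).1 h3).resolve_left fun e => ?_
    have := h.a9_card
    rw [e, one_pow, relIndex_eq_one] at this
    exact h.a9_lt.not_ge this
  rw [h4]
  exact ⟨hp, h1, h2⟩

theorem a9_C_le : fcC M U H₀ ≤ U := inf_le_left

theorem a9_comm_C : ⁅MF M, fcC M U H₀⁆ ≤ H₀ := (le_centMod_iff.1 inf_le_right).2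

theorem a9_C_ne : fcC M U H₀ ≠ U := by
  haveI := h.a9_normal
  intro e
  have h1 : ⁅MF M, U⁆ ≤ H₀ := e ▸ h.a9_comm_C
  have h2 := (H1.bar_le_centralizer_iff (N := H₀) (MF_le M) (U_le h.typeP)).2 h1
  have h3 := h.a9_bar_centU
  rw [inf_of_le_left h2, H1.bar_eq_bot_iff (MF_le M)] at h3
  exact h.a9_lt.not_ge h3

theorem a9_centW {x : G} (hx : x ∈ MF M) : (∀ w ∈ W₁, ⁅x, w⁆ ∈ H₀) ↔ x ∈ W₂ ⊔ H₀ := by
  haveI := h.a9_normal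
  have h1 := H1.qmk_mem_centralizer_bar_iff (N := H₀) (W₁_le h.typeP) (y := ⟨x, MF_le M hx⟩)
  have h2 := H1.qmk_mem_bar_iff h.a9_le (W₂_le h.typeP) (y := ⟨x, MF_le M hx⟩)
  rw [← h.a9_bar_centW, mem_inf, h1] at h2
  exact ⟨fun a => h2.1 ⟨H1.qmk_mem_bar hx, a⟩, fun a => (h2.2 a).2⟩

theorem a9_p_eq (hp : 𝐨(W₂).Prime) : H₀.relIndex W₂ = 𝐨(W₂) :=
  (Nat.prime_dvd_prime_iff_eq h.a9_elem.1 hp).1 (relIndex_dvd_card' _ _)

end Hyp9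

/-- PF (9.4), (9.6). -/
theorem Hyp9.factor_facts (h : Hyp9 M U W₁ W₂ W H₀) :
    𝐨(W₁).Prime ∧ (H₀.relIndex W₂).Prime ∧ fcC M U H₀ ≠ U ∧
      H₀.relIndex (MF M) = H₀.relIndex W₂ ^ 𝐨(W₁) ∧ ⁅MF M, MF M⁆ ≤ H₀ ∧
      (∀ x ∈ MF M, x ^ H₀.relIndex W₂ ∈ H₀) ∧
      (∀ x ∈ MF M, (∀ w ∈ W₁, ⁅x, w⁆ ∈ H₀) ↔ x ∈ W₂ ⊔ H₀) ∧
      (𝐨(W₂).Prime → H₀.relIndex W₂ = 𝐨(W₂)) ∧ (ftType M ≠ 2 → H₀.relIndex W₂ = 𝐨(W₂)) := by
  exact ⟨h.a9_prime, h.a9_elem.1, h.a9_C_ne, h.a9_card, h.a9_elem.2.1, h.a9_elem.2.2,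
    fun _ hx => h.a9_centW hx, h.a9_p_eq, fun h2 => h.a9_p_eq (prime2 h.max h.typeP h2)⟩

namespace Hyp9

variable (h : Hyp9 M U W₁ W₂ W H₀)
include h

theorem a9_C_norm : U ⊔ W₁ ≤ 𝐍(fcC M U H₀) :=
  H1.le_normalizer_inf (UW_norm h.typeP) (norm_le_norm_centMod
    ((UW_le h.typeP).trans (MF_normal M).2) ((UW_le h.typeP).trans h.a9_norm))

theorem a9_cent_le : U ⊓ 𝐂(MF M) ≤ fcC M U H₀ :=
  le_inf inf_le_left (le_centMod_iff.2 ⟨(inf_le_left.trans (U_le h.typeP)).trans h.a9_norm,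
    (comm_eq_bot_iff.2 (cent_comm.1 inf_le_right)).le.trans bot_le⟩)

theorem a9_der_le : ⁅U, U⁆ ≤ fcC M U H₀ :=
  (le_inf (der_le U) h.typeP.facts.2.1).trans h.a9_cent_le

theorem a9_sup_normal {X : Subgroup G} (hX : X ≤ fcC M U H₀) (hn : U ⊔ W₁ ≤ 𝐍(X)) :
    (H₀ ⊔ X) ⊲ M := by
  have hXM : X ≤ M := (hX.trans h.a9_C_le).trans (U_le h.typeP)
  refine ⟨sup_le h.a9_le hXM, h.typeP.basic.2.1.sup.ge.trans (sup_le ?_ ?_)⟩
  · refine comm_le_right_iff.1 (le_trans ?_ le_sup_left)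
    exact comm_sup_le (le_norm_self _) (hXM.trans h.a9_norm)
      (comm_le_right_iff.2 ((MF_le M).trans h.a9_norm))
      ((commutator_mono le_rfl hX).trans h.a9_comm_C)
  · exact H1.le_normalizer_sup ((UW_le h.typeP).trans h.a9_norm) hn

theorem a9_HC_normal : (MF M ⊔ fcC M U H₀) ⊲ M :=
  ⟨sup_le (MF_le M) (h.a9_C_le.trans (U_le h.typeP)), h.typeP.basic.2.1.sup.ge.trans
    (sup_le (le_sup_left.trans (le_norm_self _))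
      (H1.le_normalizer_sup ((UW_le h.typeP).trans (MF_normal M).2) h.a9_C_norm))⟩

theorem a9_sup_inf {X : Subgroup G} (hX : X ≤ U) : (H₀ ⊔ X) ⊓ MF M = H₀ := by
  rw [sup_inf_of_le_left ((hX.trans (U_le h.typeP)).trans h.a9_norm) h.a9_lt.le, inf_comm,
    eq_bot_iff.2 (h.typeP.sdD.disj ▸ inf_le_inf_left _ hX : MF M ⊓ X ≤ ⊥), sup_bot_eq]

theorem a9_relIndex_der : (MF M ⊔ fcC M U H₀).relIndex ⁅M, M⁆ = (fcC M U H₀).relIndex U := by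
  have h1 : SdProd (MF M) (fcC M U H₀) (MF M ⊔ fcC M U H₀) :=
    ⟨rfl, h.a9_C_le.trans h.typeP.sdD.norm,
      eq_bot_iff.2 (h.typeP.sdD.disj ▸ inf_le_inf_left _ h.a9_C_le)⟩
  have h2 := H1.card_mul_relIndex (H := MF M ⊔ fcC M U H₀) (K := ⁅M, M⁆)
    (h.typeP.sdD.sup ▸ sup_le_sup_left h.a9_C_le _)
  rw [h1.card, h.typeP.sdD.card, ← H1.card_mul_relIndex h.a9_C_le, mul_assoc] at h2
  exact Nat.eq_of_mul_eq_mul_left Nat.card_pos (Nat.eq_of_mul_eq_mul_left Nat.card_pos h2)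

theorem a9_frobMod :
    FrobKerMod (U ⊔ W₁) U (fcC M U H₀) ∧ 𝐨(W₁) ∣ (fcC M U H₀).relIndex U - 1 := by
  haveI := H1.normal_subgroupOf_of_le h.a9_C_norm
  have h1 : Frob (H1.bar (U ⊔ W₁) (fcC M U H₀) U) (H1.bar (U ⊔ W₁) (fcC M U H₀) W₁) :=
    h.a9_frob.bar le_rfl (lt_of_le_of_ne h.a9_C_le h.a9_C_ne)
  refine ⟨(frobKerMod_iff_bar le_rfl h.a9_C_norm h.a9_C_le le_sup_left).2 ?_, ?_⟩
  · rw [H1.bar_sup le_sup_left le_sup_right]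
    exact h1.frobKer
  · have := h1.card_dvd
    rwa [H1.card_bar le_sup_left, card_bar_of_disj le_sup_right (eq_bot_iff.2
      (h.a9_frob.sdProd.disj ▸ inf_le_inf_right _ h.a9_C_le))] at this

end Hyp9

/-- The normal subgroups of PF (9.5). -/
theorem Hyp9.normal_facts (h : Hyp9 M U W₁ W₂ W H₀) :
    H₀ ⊲ M ∧ fcC M U H₀ ⊲ U ⊔ W₁ ∧ ⁅U, U⁆ ≤ fcC M U H₀ ∧ U ⊓ 𝐂(MF M) ≤ fcC M U H₀ ∧
      (H₀ ⊔ fcC M U H₀) ⊲ M ∧ (MF M ⊔ fcC M U H₀) ⊲ M ∧ (H₀ ⊔ ⁅U, U⁆) ⊲ M ∧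
      (H₀ ⊔ ⁅fcC M U H₀, fcC M U H₀⁆) ⊲ M ∧
      (∀ X : Subgroup G, X ≤ U → X ≤ 𝐍(H₀) → (H₀ ⊔ X) ⊓ MF M = H₀) ∧
      ⁅MF M ⊔ fcC M U H₀, MF M ⊔ fcC M U H₀⁆ ≤ H₀ ⊔ ⁅fcC M U H₀, fcC M U H₀⁆ ∧
      (MF M ⊔ fcC M U H₀).relIndex ⁅M, M⁆ = (fcC M U H₀).relIndex U ∧
      (MF M ⊔ fcC M U H₀).relIndex M = 𝐨(W₁) * (fcC M U H₀).relIndex U ∧
      FrobKerMod (U ⊔ W₁) U (fcC M U H₀) ∧ 𝐨(W₁) ∣ (fcC M U H₀).relIndex U - 1 := by
  have h1 := h.a9_sup_normal (der_le _) (h.a9_C_norm.trans (norm_le_norm_der _))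
  refine ⟨⟨h.a9_le, h.a9_norm⟩, ⟨h.a9_C_le.trans le_sup_left, h.a9_C_norm⟩, h.a9_der_le,
    h.a9_cent_le, h.a9_sup_normal le_rfl h.a9_C_norm, h.a9_HC_normal,
    h.a9_sup_normal h.a9_der_le ((UW_norm h.typeP).trans (norm_le_norm_der _)), h1,
    fun X hX _ => h.a9_sup_inf hX, ?_, h.a9_relIndex_der, ?_, h.a9_frobMod⟩
  · exact der_sup_le ((MF_le M).trans h1.2) ((h.a9_C_le.trans (U_le h.typeP)).trans h1.2)
      (h.a9_elem.2.1.trans le_sup_left) (h.a9_comm_C.trans le_sup_left) le_sup_right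
  · rw [← relIndex_mul_relIndex (MF M ⊔ fcC M U H₀) ⁅M, M⁆ M
      (h.typeP.sdD.sup ▸ sup_le_sup_left h.a9_C_le _) (der_le M), h.a9_relIndex_der,
      h.typeP.sdM.relIndex_left, mul_comm]

end Cfsg.Agent.FT
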