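/-
PF (9.7).
-/
import Cfsg.Agent.FT.P.PF09a_1

set_option autoImplicit false
set_option linter.unusedSectionVars false

namespace Cfsg.Agent.FT

open Subgroup Cfsg Cfsg.Agent
open scoped commutatorElement

universe u

namespace PF09a

/-- A commuting set of endomorphisms acting irreducibly generates a field. -/
theorem isField_closure {V : Type u} [AddCommGroup V] [Finite V] {s : Set (AddMonoid.End V)}
    (hs : ∀ x ∈ s, ∀ y ∈ s, x * y = y * x)
    (hirr : ∀ Y : AddSubgroup V, (∀ a ∈ s, ∀ y ∈ Y, a y ∈ Y) → Y = ⊥ ∨ Y = ⊤) {v₀ : V}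
    (h0 : v₀ ≠ 0) : IsField (Subring.closure s) ∧
      Function.Bijective fun r : Subring.closure s => (r : AddMonoid.End V) v₀ := by
  have hR : ∀ r ∈ Subring.closure s, ∀ a ∈ s, a * r = r * a := by
    intro r hr
    have : Subring.closure s ≤ Subring.centralizer s :=
      Subring.closure_le.mpr fun x hx y hy => hs y hy x hx
    exact this hr
  have hinj : ∀ r ∈ Subring.closure s, r ≠ 0 → Function.Injective r := by
    intro r hr hr0
    rcases hirr (AddMonoidHom.ker (r : V →+ V)) (by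
      intro a ha u hu
      have h1 : r u = 0 := hu
      have h2 : a (r u) = r (a u) := DFunLike.congr_fun (hR r hr a ha) u
      rw [h1, map_zero] at h2
      exact h2.symm) with h | h
    · exact (AddMonoidHom.ker_eq_bot_iff _).1 h
    · refine absurd (AddMonoidHom.ext fun v => ?_) hr0
      have : v ∈ AddMonoidHom.ker (r : V →+ V) := h ▸ AddSubgroup.mem_top _
      exact this
  have hcomm : IsMulCommutative (Subring.closure s) := Subring.isMulCommutative_closure hs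
  have hnt : Nontrivial (Subring.closure s) :=
    ⟨⟨1, 0, fun h => h0 (DFunLike.congr_fun (congrArg Subtype.val h) v₀)⟩⟩
  have hnz : NoZeroDivisors (Subring.closure s) := ⟨fun {x y} h => by
    by_contra hne
    push Not at hne
    apply hne.2
    apply Subtype.ext
    refine AddMonoidHom.ext fun v => hinj x x.2 (fun h0 => hne.1 (Subtype.ext h0)) ?_
    have := DFunLike.congr_fun (congrArg Subtype.val h) v
    exact this.trans (map_zero (x : AddMonoid.End V)).symm⟩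
  let _ : CommRing (Subring.closure s) :=
    { (inferInstance : Ring (Subring.closure s)) with mul_comm := hcomm.is_comm.comm }
  have hdom : IsDomain (Subring.closure s) := NoZeroDivisors.to_isDomain _
  have hfin : Finite (AddMonoid.End V) :=
    Finite.of_injective (fun f : AddMonoid.End V => (f : V → V)) DFunLike.coe_injective
  refine ⟨Finite.isField_of_domain _, ?_⟩
  let ev : Subring.closure s →+ V :=
    { toFun := fun r => (r : AddMonoid.End V) v₀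
      map_zero' := rfl
      map_add' := fun _ _ => rfl }
  refine ⟨(injective_iff_map_eq_zero ev).2 fun r hr => ?_, ?_⟩
  · by_contra hne
    exact h0 (hinj r r.2 (fun e => hne (Subtype.ext e))
      ((show (r : AddMonoid.End V) v₀ = 0 from hr).trans (map_zero _).symm))
  · rcases hirr ev.range (by
      rintro a ha u ⟨r, rfl⟩
      exact ⟨⟨a, Subring.subset_closure ha⟩ * r, rfl⟩) with h | h
    · exact absurd (show v₀ ∈ (⊥ : AddSubgroup V) from h ▸ ⟨1, rfl⟩) h0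
    · exact AddMonoidHom.range_eq_top.1 h

theorem exists_field {X : Type u} [Group X] [Finite X] {V U W : Subgroup X} {p : ℕ} (hp : p.Prime)
    (hVc : IsMulCommutative V) (hU : U ≤ 𝐍(V)) (hW : W ≤ 𝐍(V)) (hWU : W ≤ 𝐍(U))
    (hder : ⁅U, U⁆ ≤ 𝐂(V)) (hirr : ∀ Y : Subgroup X, Y ≤ V → U ≤ 𝐍(Y) → Y = ⊥ ∨ Y = V) {v₀ : X}
    (hv₀ : v₀ ∈ V) (h1 : v₀ ≠ 1) (hvp : v₀ ^ p = 1) (hc : W ≤ 𝐂[v₀]) :
    ∃ (F : Type u) (_ : Field F) (_ : Fintype F) (f ψ : X → F),
      Fintype.card F = 𝐨(V) ∧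
      (∀ z : F, ∃ x ∈ V, f x = z) ∧ (∀ x ∈ V, ∀ y ∈ V, f (x * y) = f x + f y) ∧
      (∀ x ∈ V, f x = 0 ↔ x = 1) ∧
      (∀ x ∈ U, ∀ y ∈ U, ψ (x * y) = ψ x * ψ y) ∧ (∀ x ∈ U, ψ x = 1 ↔ x ∈ 𝐂(V)) ∧
      (∀ v ∈ U, ∀ x ∈ V, f (v * x * v⁻¹) = ψ v * f x) ∧
      (∀ w ∈ W, ∃ η : F →+* F, (∀ x ∈ V, f (w * x * w⁻¹) = η (f x)) ∧
        ∀ v ∈ U, ψ (w * v * w⁻¹) = η (ψ v)) ∧
      ∀ x ∈ V, x ∈ zpowers v₀ ↔ f x ^ p = f x := by
  classical
  let _ : CommGroup V := { (inferInstance : Group V) with mul_comm := hVc.is_comm.comm }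
  let θ : MulAut V →* AddMonoid.End (Additive V) :=
    { toFun := fun f => MonoidHom.toAdditive f.toMonoidHom
      map_one' := rfl
      map_mul' := fun _ _ => rfl }
  let ρ : 𝐍(V) →* AddMonoid.End (Additive V) := θ.comp (H1.conjAut le_rfl)
  have hρ : ∀ (g : 𝐍(V)) (x : Additive V),
      ((Additive.toMul (ρ g x) : V) : X) = g * (Additive.toMul x : V) * (g : X)⁻¹ := fun _ _ => rfl
  have hρ1 : ∀ g : 𝐍(V), ρ g = 1 ↔ (g : X) ∈ 𝐂(V) := fun g => by
    rw [← H1.mem_ker_conjAut le_rfl, MonoidHom.mem_ker]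
    refine ⟨fun e => MulEquiv.ext fun v => DFunLike.congr_fun e (Additive.ofMul v), fun e => ?_⟩
    change θ _ = 1
    rw [e, map_one]
  let s : Set (AddMonoid.End (Additive V)) := {a | ∃ g : 𝐍(V), (g : X) ∈ U ∧ ρ g = a}
  have hs : ∀ x ∈ s, ∀ y ∈ s, x * y = y * x := by
    rintro _ ⟨a, ha, rfl⟩ _ ⟨b, hb, rfl⟩
    have h2 : ρ ⁅a, b⁆ = 1 := (hρ1 _).2 (hder (commutator_mem_commutator ha hb))
    rw [← map_mul, ← map_mul, show a * b = ⁅a, b⁆ * (b * a) by
      rw [commutatorElement_def]; group, map_mul, h2, one_mul]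
  have h0 : (Additive.ofMul ⟨v₀, hv₀⟩ : Additive V) ≠ 0 := fun e => h1 (congrArg Subtype.val e)
  obtain ⟨hF, hb⟩ := isField_closure hs (fun Y hY => by
    rcases hirr ((AddSubgroup.toSubgroup' Y).map V.subtype) (map_subtype_le _) (fun u hu =>
      mem_norm_of_conj_le (by
        rintro _ ⟨_, ⟨y, hy, rfl⟩, rfl⟩
        exact ⟨_, hY _ ⟨⟨u, hU hu⟩, hu, rfl⟩ (Additive.ofMul y) hy, rfl⟩)) with h | h
    · left
      rw [map_eq_bot_iff_of_injective _ (subtype_injective V)] at h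
      exact eq_bot_iff.2 fun y hy =>
        (show Additive.toMul y ∈ (⊥ : Subgroup V) from h ▸ hy)
    · right
      refine eq_top_iff.2 fun y _ => ?_
      obtain ⟨z, hz, e⟩ := h.ge (Additive.toMul y).2
      obtain rfl : z = Additive.toMul y := Subtype.ext e
      exact hz) h0
  letI : Field (Subring.closure s) := hF.toField
  let e : Subring.closure s ≃ Additive V := Equiv.ofBijective _ hb
  have he : ∀ r : Subring.closure s,
      e r = (r : AddMonoid.End (Additive V)) (Additive.ofMul ⟨v₀, hv₀⟩) := fun _ => rfl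
  have hfin : Finite (Subring.closure s) := Finite.of_equiv _ e.symm
  let f : X → Subring.closure s := fun x =>
    if hx : x ∈ V then e.symm (Additive.ofMul ⟨x, hx⟩) else 0
  have hf : ∀ x (hx : x ∈ V), e (f x) = Additive.ofMul ⟨x, hx⟩ := fun x hx => by
    simp only [f, dif_pos hx, Equiv.apply_symm_apply]
  let ψ : X → Subring.closure s := fun x =>
    if hx : x ∈ U then ⟨ρ ⟨x, hU hx⟩, Subring.subset_closure ⟨⟨x, hU hx⟩, hx, rfl⟩⟩ else 0
  have hψ : ∀ x (hx : x ∈ U), (ψ x : AddMonoid.End (Additive V)) = ρ ⟨x, hU hx⟩ := fun x hx => by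
    simp only [ψ, dif_pos hx]
  have hadd : ∀ x ∈ V, ∀ y ∈ V, f (x * y) = f x + f y := fun x hx y hy => by
    apply e.injective
    rw [hf _ (mul_mem hx hy), show e (f x + f y) = e (f x) + e (f y) from rfl, hf x hx, hf y hy]
    rfl
  have hzero : ∀ x ∈ V, f x = 0 ↔ x = 1 := fun x hx => by
    rw [← e.injective.eq_iff, hf x hx, show e 0 = 0 from rfl]
    exact ⟨fun h => congrArg Subtype.val h, fun h => Subtype.ext h⟩
  have hzpow : ∀ n : ℤ, f (v₀ ^ n) = n := fun n => by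
    apply e.injective
    rw [hf _ (zpow_mem hv₀ n), he]
    change _ = ((n : AddMonoid.End (Additive V))) _
    rw [AddMonoid.End.intCast_apply]
    rfl
  letI : Fintype (Subring.closure s) := Fintype.ofFinite _
  refine ⟨Subring.closure s, inferInstance, inferInstance, f, ψ, ?_, fun z => ?_, hadd, hzero,
    fun x hx y hy => ?_, fun x hx => ?_, fun v hv x hx => ?_, fun w hw => ?_, fun x hx => ?_⟩
  · rw [← Nat.card_eq_fintype_card]
    exact Nat.card_congr e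
  · refine ⟨_, (Additive.toMul (e z)).2, e.injective ?_⟩
    rw [hf _ (Additive.toMul (e z)).2]
    rfl
  · apply Subtype.ext
    change _ = (ψ x : AddMonoid.End (Additive V)) * ψ y
    rw [hψ _ (mul_mem hx hy), hψ x hx, hψ y hy, ← map_mul]
    rfl
  · rw [Subtype.ext_iff, hψ x hx]
    exact hρ1 _
  · apply e.injective
    rw [hf _ (H1.conj_mem_of_le_normalizer hU hv hx)]
    change _ = (ψ v : AddMonoid.End (Additive V)) (e (f x))
    rw [hψ v hv, hf x hx]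
    rfl
  · let g : 𝐍(V) := ⟨w, hW hw⟩
    have hg : ρ g⁻¹ * ρ g = 1 := by rw [← map_mul, inv_mul_cancel, map_one]
    let c : AddMonoid.End (Additive V) →+* AddMonoid.End (Additive V) :=
      { toFun := fun a => ρ g * a * ρ g⁻¹
        map_one' := by rw [mul_one, ← map_mul, mul_inv_cancel, map_one]
        map_mul' := fun a b => by
          rw [show ρ g * a * ρ g⁻¹ * (ρ g * b * ρ g⁻¹) = ρ g * a * (ρ g⁻¹ * ρ g) * b * ρ g⁻¹ by
            simp only [mul_assoc], hg]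
          simp only [mul_assoc, one_mul]
        map_zero' := by rw [mul_zero, zero_mul]
        map_add' := fun a b => by rw [mul_add, add_mul] }
    have hcs : Subring.closure s ≤ (Subring.closure s).comap c := by
      rw [Subring.closure_le]
      rintro _ ⟨a, ha, rfl⟩
      refine Subring.subset_closure ⟨g * a * g⁻¹, H1.conj_mem_of_le_normalizer hWU hw ha, ?_⟩
      rw [map_mul, map_mul]
      rfl
    have hg0 : ρ g⁻¹ (Additive.ofMul ⟨v₀, hv₀⟩) = Additive.ofMul ⟨v₀, hv₀⟩ :=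
      Subtype.ext (mem_cent1_iff_conj.1 (hc (inv_mem hw)))
    refine ⟨(c.comp (Subring.closure s).subtype).codRestrict _ fun r => hcs r.2, fun x hx => ?_,
      fun v hv => ?_⟩
    · apply e.injective
      rw [hf _ (H1.conj_mem_of_le_normalizer hW hw hx)]
      change _ = ρ g ((f x : AddMonoid.End (Additive V)) (ρ g⁻¹ (Additive.ofMul ⟨v₀, hv₀⟩)))
      rw [hg0, ← he, hf x hx]
      rfl
    · apply Subtype.ext
      change _ = ρ g * (ψ v : AddMonoid.End (Additive V)) * ρ g⁻¹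
      rw [hψ _ (H1.conj_mem_of_le_normalizer hWU hw hv), hψ v hv, ← map_mul, ← map_mul]
      rfl
  · haveI := Fact.mk hp
    have hp0 : (p : Subring.closure s) = 0 := by
      have := hzpow p
      rw [zpow_natCast, hvp, (hzero 1 (one_mem _)).2 rfl, Int.cast_natCast] at this
      exact this.symm
    haveI : CharP (Subring.closure s) p := (CharP.charP_iff_prime_eq_zero hp).2 hp0
    rw [← Subfield.mem_bot_iff_pow_eq_self, mem_bot_iff_intCast p]
    refine ⟨fun ⟨n, hn⟩ => ⟨n, by rw [← hn]; exact (hzpow n).symm⟩, fun ⟨n, hn⟩ => ⟨n, ?_⟩⟩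
    have := congrArg e ((hzpow n).trans hn)
    rw [hf _ (zpow_mem hv₀ n), hf x hx] at this
    exact congrArg Subtype.val this

variable {G : Type u} [Group G] [Finite G]

/-- The action on a section of prime order. -/
theorem exists_hom_of_prime {M H₀ H₁ U : Subgroup G} (hn : M ≤ 𝐍(H₀)) (h1 : H₁ ≤ M) (hU : U ≤ M)
    (hUn : U ≤ 𝐍(H₁)) {p : ℕ} (hp : p.Prime) (hc : H₀.relIndex H₁ = p) :
    ∃ φ : U →* (ZMod p)ˣ, ∀ x : U, φ x = 1 ↔ (x : G) ∈ centMod H₁ H₀ := by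
  haveI := H1.normal_subgroupOf_of_le hn
  rw [← H1.card_bar (Y := M) h1] at hc
  haveI := isCyclic_of_card_prime (hc ▸ hp)
  subst hc
  refine ⟨((IsCyclic.mulAutMulEquiv _).toMonoidHom.comp
    (H1.conjAut (H1.bar_le_normalizer (Y := M) (N := H₀) hUn))).comp (BG01.barHom H₀ hU), fun x => ?_⟩
  rw [MonoidHom.comp_apply, MonoidHom.comp_apply, MulEquiv.coe_toMonoidHom,
    EmbeddingLike.map_eq_one_iff, ← MonoidHom.mem_ker, H1.mem_ker_conjAut]
  refine (H1.qmk_mem_centralizer_bar_iff h1 (y := ⟨x, hU x.2⟩)).trans ?_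
  rw [mem_centMod]
  refine ⟨fun h => ⟨hn (hU x.2), fun k hk => ?_⟩, fun h k hk => ?_⟩
  · rw [← commutatorElement_inv]; exact inv_mem (h k hk)
  · rw [← commutatorElement_inv]; exact inv_mem (h.2 k hk)

theorem cycMod_of_hom {U C : Subgroup G} {A : Type*} [Group A] (φ : U →* A) [IsCyclic φ.range]
    (h : ∀ x : U, φ x = 1 → (x : G) ∈ C) : CycMod U C := by
  obtain ⟨⟨_, x, rfl⟩, hx⟩ := IsCyclic.exists_generator (α := φ.range)
  refine ⟨x, x.2, fun y hy => ?_⟩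
  obtain ⟨k, hk⟩ := hx ⟨φ ⟨y, hy⟩, _, rfl⟩
  have h1 : φ x ^ k = φ ⟨y, hy⟩ := congrArg Subtype.val hk
  have h2 := h ((x ^ k)⁻¹ * ⟨y, hy⟩) (by rw [map_mul, map_inv, map_zpow, h1, inv_mul_cancel])
  have := mul_mem_sup (zpow_mem_zpowers (x : G) k) h2
  simpa using this

theorem relIndex_eq_card_range {U C : Subgroup G} {A : Type*} [Group A] (φ : U →* A)
    (h : ∀ x : U, φ x = 1 ↔ (x : G) ∈ C) : C.relIndex U = 𝐨(φ.range) := by
  rw [← index_ker, show φ.ker = C.subgroupOf U from ext h]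
  rfl

theorem conj_mem_centMod {H₁ H₀ : Subgroup G} {w x : G} (hw : w ∈ 𝐍(H₀))
    (hx : w⁻¹ * x * w ∈ centMod H₁ H₀) : x ∈ centMod (H₁ ^ᵍ w) H₀ := by
  rw [mem_centMod] at hx ⊢
  refine ⟨by simpa [mul_assoc] using mul_mem (mul_mem hw hx.1) (inv_mem hw), ?_⟩
  rintro _ ⟨y, hy, rfl⟩
  have := H1.conj_mem_of_le_normalizer le_rfl hw (hx.2 y hy)
  convert this using 1
  simp only [commutatorElement_def, MulEquiv.coe_toMonoidHom, MulAut.conj_apply]
  group

end PF09a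

open PF09a

variable {G : Type u} [Group G] [Finite G] [MinOdd G]

variable {M U W₁ W₂ W H₀ : Subgroup G}

namespace Hyp9

variable (h : Hyp9 M U W₁ W₂ W H₀)
include h

theorem a9_exists_H₁ (hn : ¬ GaloisP M U H₀) : ∃ H₁ : Subgroup G, H₀ < H₁ ∧ H₁ ≤ MF M ∧
    H₀.relIndex H₁ = H₀.relIndex W₂ ∧ U ≤ 𝐍(H₁) ∧ ⨆ w ∈ W₁, H₁ ^ᵍ w = MF M := by
  classical
  have hD := h.typeP.sdD
  have hnorm : ∀ X : Subgroup G, H₀ ≤ X → X ≤ MF M → U ≤ 𝐍(X) → ⁅M, M⁆ ≤ 𝐍(X) :=
    fun X h0 h1 h2 => hD.sup.ge.trans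
      (sup_le (le_norm_of_der_le (h.a9_elem.2.1.trans h0) h1) h2)
  unfold GaloisP at hn
  push Not at hn
  obtain ⟨X, hX0, hX1, hXU, hX2, hX3⟩ := hn
  obtain ⟨H₁, hle, hc⟩ := exists_chief_above ((der_le M).trans h.a9_norm)
    ⟨hX1.trans hD.le_left, hnorm X hX0 hX1 hXU⟩ (lt_of_le_of_ne hX0 hX2.symm)
  have h1 : H₁ ≤ MF M := hle.trans hX1
  have hW := W₁_le h.typeP
  have c0 : ∀ w ∈ W₁, H₀ ≤ H₁ ^ᵍ w := fun w hw =>
    (conj_eq_of_mem_norm (h.a9_norm (hW hw))).ge.trans (conj_mono hc.lt.le w)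
  have c1 : ∀ w ∈ W₁, H₁ ^ᵍ w ≤ MF M := fun w hw =>
    conj_le_of_mem_norm h1 ((MF_normal M).2 (hW hw))
  have c2 : ∀ w ∈ M, ∀ Y : Subgroup G, ⁅M, M⁆ ≤ 𝐍(Y) → ⁅M, M⁆ ≤ 𝐍(Y ^ᵍ w) := fun w hw Y hY => by
    rw [← conj_eq_of_mem_norm ((der_normal M).2 hw)]
    exact conj_le_norm_iff.2 hY
  have hsup : ⨆ w ∈ W₁, H₁ ^ᵍ w = MF M := by
    have a1 : H₁ ≤ ⨆ w ∈ W₁, H₁ ^ᵍ w := le_iSup₂_of_le 1 (one_mem _) (conj_one H₁).ge
    refine (h.ker.chief.min _ (hc.lt.le.trans a1) (iSup₂_le c1) ?_).resolve_left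
      fun e => hc.lt.not_ge (e ▸ a1)
    refine h.typeP.sdM.sup.ge.trans (sup_le (fun g hg => mem_norm_of_conj_le ?_)
      fun g hg => mem_norm_of_conj_le ?_)
    · rw [conj_le_iff]
      exact iSup₂_le fun w hw => conj_le_iff.1 (le_iSup₂_of_le w hw
        (conj_eq_of_mem_norm (c2 w (hW hw) _ hc.normU hg)).le)
    · rw [conj_le_iff]
      exact iSup₂_le fun w hw => conj_le_iff.1 (le_iSup₂_of_le (g * w) (mul_mem hg hw)
        (conj_conj _ _ _).le)
  have key : ∀ J : Finset G, (∀ w ∈ J, w ∈ W₁) → ∃ S : Subgroup G, H₀ ≤ S ∧ S ≤ MF M ∧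
      ⁅M, M⁆ ≤ 𝐍(S) ∧ (∀ w ∈ J, H₁ ^ᵍ w ≤ S) ∧ ∃ k, 𝐨(S) = 𝐨(H₀) * H₀.relIndex H₁ ^ k := by
    intro J
    induction J using Finset.induction_on with
    | empty => exact fun _ => ⟨H₀, le_rfl, h.a9_lt.le, (der_le M).trans h.a9_norm, by simp, 0, by simp⟩
    | insert w J _ ih =>
      intro hJ
      obtain ⟨S, s0, s1, s2, s3, k, hk⟩ := ih fun v hv => hJ v (Finset.mem_insert_of_mem hv)
      have hw := hJ w (Finset.mem_insert_self _ _)
      have n1 := c2 w (hW hw) _ hc.normU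
      rcases hc.min ((S ⊓ H₁ ^ᵍ w) ^ᵍ w⁻¹)
        (le_conj_iff.2 ((conj_eq_of_mem_norm (h.a9_norm (hW (by simpa using hw)))).le.trans
          (le_inf s0 (c0 w hw))))
        ((conj_mono inf_le_right _).trans (conj_conj_inv _ _).le)
        (c2 _ (inv_mem (hW hw)) _ (H1.le_normalizer_inf s2 n1)) with e | e
      · rw [conj_eq_iff, inv_inv, conj_eq_of_mem_norm (h.a9_norm (hW hw))] at e
        refine ⟨S ⊔ H₁ ^ᵍ w, s0.trans le_sup_left, sup_le s1 (c1 w hw),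
          H1.le_normalizer_sup s2 n1, fun v hv => ?_, k + 1, ?_⟩
        · rcases Finset.mem_insert.1 hv with rfl | hv
          · exact le_sup_right
          · exact (s3 v hv).trans le_sup_left
        · have := card_sup_mul_card_inf (((c1 w hw).trans hD.le_left).trans s2)
          rw [e, card_conj, hk, ← H1.card_mul_relIndex hc.lt.le] at this
          refine Nat.eq_of_mul_eq_mul_right (Nat.card_pos (α := H₀)) (this.trans ?_)
          ring
      · rw [conj_eq_iff, inv_inv, inf_eq_right] at e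
        refine ⟨S, s0, s1, s2, fun v hv => ?_, k, hk⟩
        rcases Finset.mem_insert.1 hv with rfl | hv
        · exact e
        · exact s3 v hv
  obtain ⟨S, -, s1, -, s3, k, hk⟩ := key (Set.toFinite (W₁ : Set G)).toFinset fun w hw => by
    simpa using hw
  obtain rfl : S = MF M := le_antisymm s1 (hsup ▸ iSup₂_le fun w hw => s3 w (by simpa using hw))
  refine ⟨H₁, hc.lt, h1, ?_, hD.le_right.trans hc.normU, hsup⟩
  rw [← H1.card_mul_relIndex h.a9_lt.le, h.a9_card] at hk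
  have hk' := Nat.eq_of_mul_eq_mul_left Nat.card_pos hk
  have hp := h.a9_elem.1
  have hd : H₀.relIndex H₁ ∣ H₀.relIndex W₂ ^ 𝐨(W₁) := by
    rw [← h.a9_card, ← relIndex_mul_relIndex H₀ H₁ _ hc.lt.le h1]
    exact dvd_mul_right _ _
  obtain ⟨j, -, hj⟩ := (Nat.dvd_prime_pow hp).1 hd
  rw [hj, ← pow_mul] at hk'
  have hq := Nat.pow_right_injective hp.two_le hk'
  rcases (Nat.dvd_prime h.a9_prime).1 (Dvd.intro _ hq.symm) with e | e
  · rw [hj, e, pow_one]
  · exfalso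
    apply hX3
    refine le_antisymm hX1 (le_trans (H1.eq_of_le_of_card_le h1 (le_of_eq ?_)).ge hle)
    rw [← H1.card_mul_relIndex h.a9_lt.le, ← H1.card_mul_relIndex hc.lt.le, h.a9_card, hj, e]

/-- The product of the `W₁`-conjugates of a linear character of `U` is trivial. -/
theorem a9_prod_eq_one [Fintype W₁] {A : Type*} [CommGroup A] (φ : U →* A) (x : U) :
    ∏ w : W₁, φ (H1.conjAut h.typeP.normU w x) = 1 := by
  let D : U →* A := ∏ w : W₁, φ.comp (H1.conjAut h.typeP.normU w).toMonoidHom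
  have hD : ∀ y, D y = ∏ w : W₁, φ (H1.conjAut h.typeP.normU w y) := fun y => by
    simp [D]
  have hinv : ∀ (v : W₁) y, D (H1.conjAut h.typeP.normU v y) = D y := fun v y => by
    rw [hD, hD]
    exact Fintype.prod_equiv (Equiv.mulRight v) _ _ fun w => by
      rw [Equiv.coe_mulRight, map_mul]; rfl
  have hle : ⁅U, W₁⁆ ≤ D.ker.map U.subtype := by
    rw [commutator_le]
    intro y hy v hv
    refine ⟨⟨y, hy⟩ * H1.conjAut h.typeP.normU ⟨v, hv⟩ ⟨y, hy⟩⁻¹, ?_, ?_⟩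
    · change D _ = 1
      rw [map_mul, hinv, map_inv, mul_inv_cancel]
    · simp [H1.coe_conjAut, commutatorElement_def, mul_assoc]
  rw [h.a9_frob.comm_eq] at hle
  obtain ⟨y, hy, e⟩ := hle x.2
  obtain rfl : y = x := Subtype.ext e
  rw [← hD]
  exact hy

end Hyp9

/-- PF (9.7)(a). -/
theorem Hyp9.nonGalois (h : Hyp9 M U W₁ W₂ W H₀) (hn : ¬ GaloisP M U H₀) :
    ∃ H₁ a, NonGalois M U W₁ W₂ H₀ H₁ a := by
  classical
  obtain ⟨H₁, h0, h1, hc, hU, hsup⟩ := h.a9_exists_H₁ hn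
  have hp := h.a9_elem.1
  haveI := Fact.mk hp
  haveI := Fintype.ofFinite W₁
  obtain ⟨φ, hφ⟩ := exists_hom_of_prime h.a9_norm (h1.trans (MF_le M)) (U_le h.typeP) hU hp hc
  have ha := relIndex_eq_card_range φ hφ
  have hW := W₁_le h.typeP
  have hC : ∀ x : U, (x : G) ∈ fcC M U H₀ ↔ ∀ w : W₁, φ (H1.conjAut h.typeP.normU w x) = 1 := by
    intro x
    refine ⟨fun hx w => (hφ _).2 ?_, fun hx => ⟨x.2, ?_⟩⟩
    · have := H1.conj_mem_of_le_normalizer (le_sup_right.trans h.a9_C_norm) w.2 hx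
      exact mem_centMod.2 ⟨(mem_centMod.1 this.2).1, fun k hk => (mem_centMod.1 this.2).2 k (h1 hk)⟩
    · have hz : zpowers (x : G) ≤ 𝐍(H₀) := zpowers_le.2 (h.a9_norm (U_le h.typeP x.2))
      refine zpowers_le.1 (le_centMod_iff.2 ⟨hz, ?_⟩)
      rw [commutator_comm]
      refine (le_centMod_iff.1 ?_).2
      rw [← hsup]
      refine iSup₂_le fun w hw => le_centMod_iff.2 ⟨(conj_le_of_mem_norm h1
        ((MF_normal M).2 (hW hw))).trans ((MF_le M).trans h.a9_norm), ?_⟩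
      rw [commutator_comm]
      refine (le_centMod_iff.1 (zpowers_le.2 (conj_mem_centMod (h.a9_norm (hW hw)) ?_))).2
      have := (hφ _).1 (hx ⟨w⁻¹, inv_mem hw⟩)
      simpa [H1.coe_conjAut] using this
  refine ⟨H₁, _, h0.le, h1, hc, hU, hsup, rfl, ?_, ?_,
    cycMod_of_hom φ fun x hx => ⟨x.2, (hφ x).1 hx⟩, ?_, fun x hx => ?_⟩
  · refine lt_of_le_of_ne (Nat.one_le_iff_ne_zero.2 index_ne_zero_of_finite) fun e => ?_
    have a1 := relIndex_eq_one.1 e.symm
    refine h.a9_C_ne (le_antisymm h.a9_C_le fun x hx => (hC ⟨x, hx⟩).2 fun w => (hφ _).2 (a1 ?_))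
    exact (H1.conjAut h.typeP.normU w ⟨x, hx⟩).2
  · rw [ha, ← ZMod.card_units, ← Nat.card_eq_fintype_card]
    exact card_subgroup_dvd_card _
  · let Φ : U →* ({w : W₁ // w ≠ 1} → φ.range) := MonoidHom.pi fun w =>
      φ.rangeRestrict.comp (H1.conjAut h.typeP.normU w.1).toMonoidHom
    have hΦ : ∀ x : U, Φ x = 1 ↔ (x : G) ∈ fcC M U H₀ := fun x => by
      rw [hC]
      refine ⟨fun e => ?_, fun e => funext fun w => Subtype.ext (e w.1)⟩
      have b1 : ∀ w : W₁, w ≠ 1 → φ (H1.conjAut h.typeP.normU w x) = 1 := fun w hw =>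
        congrArg Subtype.val (congrFun e ⟨w, hw⟩)
      intro w
      by_cases hw : w = 1
      · have := h.a9_prod_eq_one φ x
        rwa [Finset.prod_eq_single w (fun v _ hv => b1 v (hw ▸ hv)) (by simp)] at this
      · exact b1 w hw
    rw [relIndex_eq_card_range Φ hΦ, ha]
    refine (card_subgroup_dvd_card _).trans (dvd_of_eq ?_)
    rw [Nat.card_fun, Nat.card_eq_fintype_card (α := {w : W₁ // w ≠ 1}),
      Fintype.card_subtype_compl, Fintype.card_subtype_eq, Nat.card_eq_fintype_card (α := W₁)]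
  · refine (hC (⟨x, hx⟩ ^ _)).2 fun w => ?_
    rw [map_pow, map_pow, ha]
    exact congrArg Subtype.val (pow_card_eq_one' (x := φ.rangeRestrict _))

/-- PF (9.7)(b). -/
theorem Hyp9.galois (h : Hyp9 M U W₁ W₂ W H₀) (hg : GaloisP M U H₀) :
    ∃ (F : Type u) (_ : Field F) (_ : Fintype F) (f ψ : G → F),
      Fintype.card F = H₀.relIndex W₂ ^ 𝐨(W₁) ∧
      (∀ z : F, ∃ x ∈ MF M, f x = z) ∧ (∀ x ∈ MF M, ∀ y ∈ MF M, f (x * y) = f x + f y) ∧
      (∀ x ∈ MF M, f x = 0 ↔ x ∈ H₀) ∧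
      (∀ x ∈ U, ∀ y ∈ U, ψ (x * y) = ψ x * ψ y) ∧ (∀ x ∈ U, ψ x = 1 ↔ x ∈ fcC M U H₀) ∧
      (∀ v ∈ U, ∀ x ∈ MF M, f (v * x * v⁻¹) = ψ v * f x) ∧
      (∀ w ∈ W₁, ∃ η : F →+* F, (∀ x ∈ MF M, f (w * x * w⁻¹) = η (f x)) ∧
        ∀ v ∈ U, ψ (w * v * w⁻¹) = η (ψ v)) ∧
      ∀ x ∈ MF M, x ∈ W₂ ⊔ H₀ ↔ f x ^ H₀.relIndex W₂ = f x := by
  classical
  haveI := h.a9_normal
  have hp := h.a9_elem.1
  have hU := U_le h.typeP
  have hW := W₁_le h.typeP
  have hW₂ := W₂_le h.typeP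
  have hH := MF_le M
  have c2 := H1.card_bar (N := H₀) hW₂
  obtain ⟨v₀, hv₀, v1⟩ := sharp_nonempty.2 (ne_bot_of_card_prime (c2 ▸ hp))
  have hz := zpowers_eq_of_card_prime (c2 ▸ hp) hv₀ v1
  have hv₀' := h.a9_bar_centW.ge hv₀
  obtain ⟨F, _, _, f, ψ, a1, a2, a3, a4, a5, a6, a7, a8, a9⟩ := exists_field
    (V := H1.bar M H₀ (MF M)) (U := H1.bar M H₀ U) (W := H1.bar M H₀ W₁) hp
    ((H1.isMulCommutative_bar_iff hH).2 h.a9_elem.2.1)
    (H1.bar_le_normalizer (hU.trans (MF_normal M).2))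
    (H1.bar_le_normalizer (hW.trans (MF_normal M).2)) (H1.bar_le_normalizer h.typeP.normU)
    (by
      rw [← H1.bar_commutator hU hU, H1.bar_le_centralizer_iff ((der_le U).trans hU) hH,
        commutator_comm]
      exact (commutator_mono le_rfl h.a9_der_le).trans h.a9_comm_C)
    (fun Y hY hYn => by
      rcases hg (H1.unbar M H₀ Y) (H1.le_unbar h.a9_le Y) (unbar_le_of_le_bar h.a9_lt.le hH hY)
        (H1.le_normalizer_unbar hU hYn) with e | e
      · left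
        rw [← H1.bar_unbar Y, e, H1.bar_self]
      · right
        rw [← H1.bar_unbar Y, e])
    hv₀'.1 v1 (by rw [← c2, ← hz, Nat.card_zpowers, pow_orderOf_eq_one])
    (mem_cent_iff_cent1.1 hv₀'.2)
  let π : G → M ⧸ H₀.subgroupOf M := fun x => if hx : x ∈ M then H1.qmk M H₀ ⟨x, hx⟩ else 1
  have hπ : ∀ x (hx : x ∈ M), π x = H1.qmk M H₀ ⟨x, hx⟩ := fun x hx => dif_pos hx
  have πmul : ∀ x ∈ M, ∀ y ∈ M, π (x * y) = π x * π y := fun x hx y hy => by
    rw [hπ x hx, hπ y hy, hπ _ (mul_mem hx hy), ← map_mul]; rfl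
  have πconj : ∀ x ∈ M, ∀ y ∈ M, π (x * y * x⁻¹) = π x * π y * (π x)⁻¹ := fun x hx y hy => by
    rw [hπ x hx, hπ y hy, hπ _ (mul_mem (mul_mem hx hy) (inv_mem hx)), ← map_mul, ← map_inv,
      ← map_mul]; rfl
  have πmem : ∀ K : Subgroup G, K ≤ M → ∀ x ∈ K, π x ∈ H1.bar M H₀ K := fun K hK x hx => by
    rw [hπ x (hK hx)]; exact H1.qmk_mem_bar hx
  refine ⟨F, inferInstance, inferInstance, f ∘ π, ψ ∘ π, ?_, fun z => ?_, fun x hx y hy => ?_,
    fun x hx => ?_, fun x hx y hy => ?_, fun x hx => ?_, fun v hv x hx => ?_, fun w hw => ?_,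
    fun x hx => ?_⟩
  · rw [a1, H1.card_bar hH, h.a9_card]
  · obtain ⟨_, hx, rfl⟩ := a2 z
    obtain ⟨y, hy, rfl⟩ := H1.mem_bar.1 hx
    exact ⟨y, hy, congrArg f (hπ y y.2)⟩
  · exact (congrArg f (πmul x (hH hx) y (hH hy))).trans (a3 _ (πmem _ hH x hx) _ (πmem _ hH y hy))
  · refine (a4 _ (πmem _ hH x hx)).trans ?_
    rw [hπ x (hH hx), H1.qmk_eq_one_iff]
  · exact (congrArg ψ (πmul x (hU hx) y (hU hy))).trans (a5 _ (πmem _ hU x hx) _ (πmem _ hU y hy))
  · refine (a6 _ (πmem _ hU x hx)).trans ?_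
    rw [hπ x (hU hx), H1.qmk_mem_centralizer_bar_iff hH]
    refine ⟨fun b => ⟨hx, mem_centMod.2 ⟨h.a9_norm (hU hx), fun k hk => ?_⟩⟩, fun b k hk => ?_⟩
    · rw [← commutatorElement_inv]; exact inv_mem (b k hk)
    · rw [← commutatorElement_inv]; exact inv_mem ((mem_centMod.1 b.2).2 k hk)
  · exact (congrArg f (πconj v (hU hv) x (hH hx))).trans (a7 _ (πmem _ hU v hv) _ (πmem _ hH x hx))
  · obtain ⟨η, b1, b2⟩ := a8 _ (πmem _ hW w hw)
    exact ⟨η, fun x hx => (congrArg f (πconj w (hW hw) x (hH hx))).trans (b1 _ (πmem _ hH x hx)),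
      fun v hv => (congrArg ψ (πconj w (hW hw) v (hU hv))).trans (b2 _ (πmem _ hU v hv))⟩
  · refine Iff.trans ?_ (a9 _ (πmem _ hH x hx))
    rw [hz, hπ x (hH hx), H1.qmk_mem_bar_iff h.a9_le hW₂]

/-- PF (9.7)(b), numerical part. -/
theorem Hyp9.galois_facts (h : Hyp9 M U W₁ W₂ W H₀) (hg : GaloisP M U H₀) :
    CycMod U (fcC M U H₀) ∧ ((fcC M U H₀).relIndex U).Coprime (H₀.relIndex W₂ - 1) ∧
      (fcC M U H₀).relIndex U ∣ (H₀.relIndex W₂ ^ 𝐨(W₁) - 1) / (H₀.relIndex W₂ - 1) ∧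
      (∀ v ∈ U, ∀ x ∈ MF M, ⁅x, v⁆ ∈ H₀ → x ∈ H₀ ∨ v ∈ fcC M U H₀) ∧
      FrobKerMod ⁅M, M⁆ (MF M ⊔ fcC M U H₀) (H₀ ⊔ fcC M U H₀) := by
  classical
  obtain ⟨F, _, _, f, ψ, a1, a2, a3, a4, a5, a6, a7, a8, a9⟩ := h.galois hg
  have hp := h.a9_elem.1
  have hD := h.typeP.sdD
  let ψ₀ : U →* F :=
    { toFun := fun x => ψ x
      map_one' := (a6 1 (one_mem _)).2 (one_mem _)
      map_mul' := fun x y => a5 x x.2 y y.2 }
  have hφ : ∀ x : U, ψ₀.toHomUnits x = 1 ↔ (x : G) ∈ fcC M U H₀ := fun x =>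
    Units.ext_iff.trans (a6 x x.2)
  have hsub : ∀ x ∈ MF M, ∀ y ∈ MF M, f (x * y⁻¹) = f x - f y := fun x hx y hy => by
    rw [eq_sub_iff_add_eq, ← a3 _ (mul_mem hx (inv_mem hy)) y hy, inv_mul_cancel_right]
  have hcop : ((fcC M U H₀).relIndex U).Coprime (H₀.relIndex W₂ - 1) := by
    refine Nat.coprime_of_dvd fun r hr hr1 hr2 => ?_
    rw [relIndex_eq_card_range _ hφ] at hr1
    obtain ⟨_, ⟨x, rfl⟩, hx⟩ := exists_mem_orderOf_eq_prime hr hr1
    have b1 : ψ x ^ (H₀.relIndex W₂ - 1) = 1 :=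
      congrArg Units.val (orderOf_dvd_iff_pow_eq_one.1 (hx ▸ hr2))
    obtain ⟨y, hy, e⟩ := a2 (ψ x)
    have b2 := (h.a9_centW hy).2 ((a9 y hy).2 (by
      rw [e, ← Nat.sub_add_cancel hp.one_le, pow_succ, b1, one_mul]))
    obtain ⟨w, hw, w1⟩ := sharp_nonempty.2 h.typeP.ne_bot1
    obtain ⟨η, c1, c2⟩ := a8 w hw
    have hy' := H1.conj_mem_of_le_normalizer ((W₁_le h.typeP).trans (MF_normal M).2) hw hy
    have b3 : η (ψ x) = ψ x := by
      have := (a4 _ (mul_mem hy (inv_mem hy'))).2 (by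
        convert b2 w hw using 1
        rw [commutatorElement_def]; group)
      rw [hsub _ hy _ hy', c1 y hy, e, sub_eq_zero] at this
      exact this.symm
    have hx' := H1.conj_mem_of_le_normalizer h.typeP.normU hw x.2
    have b4 : ⁅w, (x : G)⁆ ∈ fcC M U H₀ := by
      refine (hφ (⟨_, hx'⟩ * x⁻¹)).1 ?_
      rw [map_mul, map_inv, mul_inv_eq_one]
      exact Units.ext ((c2 x x.2).trans b3)
    have b5 := h.a9_frobMod.1.cent x x.2 (fun hc => by
      rw [(hφ x).2 hc, orderOf_one] at hx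
      exact hr.one_lt.ne hx) w (mem_sup_right hw) b4
    exact w1 (mem_bot.1 (h.a9_frob.sdProd.disj ▸ mem_inf.2 ⟨b5, hw⟩))
  have hreg : ∀ v ∈ U, ∀ x ∈ MF M, ⁅x, v⁆ ∈ H₀ → x ∈ H₀ ∨ v ∈ fcC M U H₀ := by
    intro v hv x hx hc
    have hx' := H1.conj_mem_of_le_normalizer hD.norm hv hx
    have := (a4 _ (mul_mem hx (inv_mem hx'))).2 (by
      convert hc using 1
      rw [commutatorElement_def]; group)
    rw [hsub _ hx _ hx', a7 v hv x hx, ← one_sub_mul, mul_eq_zero, sub_eq_zero] at this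
    exact this.symm.imp (a4 x hx).1 fun e => (a6 v hv).1 e.symm
  refine ⟨cycMod_of_hom ψ₀.toHomUnits fun x => (hφ x).1, hcop, ?_, hreg, ?_⟩
  · have b1 : (fcC M U H₀).relIndex U ∣ H₀.relIndex W₂ ^ 𝐨(W₁) - 1 := by
      rw [relIndex_eq_card_range _ hφ, ← a1, ← Fintype.card_units, ← Nat.card_eq_fintype_card]
      exact card_subgroup_dvd_card _
    refine hcop.dvd_of_dvd_mul_left ?_
    rwa [Nat.mul_div_cancel' (Nat.sub_one_dvd_pow_sub_one _ _)]
  · have n1 := h.a9_sup_normal le_rfl h.a9_C_norm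
    have hle : MF M ⊔ fcC M U H₀ ≤ ⁅M, M⁆ := hD.sup ▸ sup_le_sup_left h.a9_C_le _
    refine ⟨lt_of_le_of_ne (sup_le_sup_right h.a9_lt.le _) fun e => ?_,
      lt_of_le_of_ne hle fun e => ?_, (der_le M).trans h.a9_HC_normal.2, (der_le M).trans n1.2,
      fun x hx hx0 g hg hc => ?_⟩
    · have := h.a9_sup_inf h.a9_C_le
      rw [e, inf_of_le_right le_sup_left] at this
      exact h.a9_lt.ne' this
    · have := h.a9_relIndex_der
      rw [e, relIndex_self] at this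
      exact h.a9_C_ne (le_antisymm h.a9_C_le (relIndex_eq_one.1 this.symm))
    · obtain ⟨y, hy, c, hc', rfl⟩ := (mem_sup_of_norm (h.a9_C_le.trans hD.norm)).1 hx
      obtain ⟨k, hk, v, hv, rfl⟩ := hD.mem_iff.1 hg
      have hgM := der_le M hg
      have hHM := MF_le M
      have b1 : ⁅k * v, c⁆ ∈ H₀ ⊔ fcC M U H₀ :=
        mul_mem (H1.conj_mem_of_le_normalizer n1.2 hgM (mem_sup_right hc'))
          (inv_mem (mem_sup_right hc'))
      have b2 : ⁅k * v, y⁆ ∈ H₀ := by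
        rw [← h.a9_sup_inf h.a9_C_le]
        refine mem_inf.2
          ⟨?_, mul_mem (H1.conj_mem_of_le_normalizer (MF_normal M).2 hgM hy) (inv_mem hy)⟩
        have := mul_mem hc (inv_mem (H1.conj_mem_of_le_normalizer n1.2 (hHM hy) b1))
        convert this using 1
        simp only [commutatorElement_def]; group
      have b3 : ⁅y, v⁆ ∈ H₀ := by
        have := H1.conj_mem_of_le_normalizer' h.a9_norm (hHM hk)
          (mul_mem (h.a9_elem.2.1 (commutator_mem_commutator hk hy)) (inv_mem b2))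
        convert this using 1
        simp only [commutatorElement_def]; group
      rcases hreg v hv y hy b3 with e | e
      · exact absurd (mul_mem_sup e hc') hx0
      · exact mul_mem_sup hk e

end Cfsg.Agent.FT
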