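/-
PF (9.8)-(9.10), part 1: inertia groups and the reducible characters.
-/
import Cfsg.Agent.FT.PF09a

set_option autoImplicit false

namespace Cfsg.Agent.FT

open Subgroup Cfsg Cfsg.Agent
open scoped commutatorElement

universe u

variable {G : Type u} [Group G] [Finite G]

namespace PF09b

theorem le_centMod_of_inertia {H K H₀ : Subgroup G} {θ : G → ℂ} (hθ : IsLin H θ) (hK : K ≤ H)
    (h0 : H₀ ≤ K) (hp : (H₀.relIndex K).Prime) (hk : H₀ ≤ cfKer θ) (hn : ¬ K ≤ cfKer θ) {g : G}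
    (hg : g ∈ 𝐍(K)) (hg0 : g ∈ 𝐍(H₀)) (hi : g ∈ inertia θ) : g ∈ centMod K H₀ := by
  have h1 : K ⊓ cfKer θ = H₀ :=
    (CH2.eq_or_eq_of_prime (le_inf h0 hk) inf_le_left hp).resolve_right
      fun e => hn (e ▸ inf_le_right)
  refine mem_centMod.2 ⟨hg0, fun x hx => ?_⟩
  have h2 : g * x⁻¹ * g⁻¹ ∈ K := (mem_normalizer_iff.1 hg _).1 (K.inv_mem hx)
  have h3 : ⁅x, g⁆ = x * (g * x⁻¹ * g⁻¹) := by rw [commutatorElement_def]; group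
  rw [← h1, h3]
  refine mem_inf.2 ⟨K.mul_mem hx h2, hθ.mem_cfKer_iff.2 ?_⟩
  have h4 := (inertia θ).inv_mem hi x⁻¹
  rw [inv_inv] at h4
  rw [hθ.2.2 _ (hK hx) _ (hK h2), h4, hθ.mul_inv (hK hx)]

omit [Finite G] in
theorem conj_eq_of_centMod {H K H₀ : Subgroup G} {θ : G → ℂ} (hθ : θ ∈ CF H) (hk : H₀ ≤ cfKer θ)
    {g : G} (hg : g ∈ centMod K H₀) {x : G} (hx : x ∈ K) : θ (g⁻¹ * x * g) = θ x := by
  have h1 := (mem_centMod.1 (inv_mem hg)).2 x hx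
  have h2 : g⁻¹ * x * g = ⁅x, g⁻¹⁆⁻¹ * x := by rw [commutatorElement_def]; group
  rw [h2]
  exact hk (inv_mem h1) x

omit [Finite G] in
theorem centMod_le_inertia {H H₀ : Subgroup G} {θ : G → ℂ} (hθ : θ ∈ CF H) (hk : H₀ ≤ cfKer θ)
    {g : G} (hg : g ∈ centMod H H₀) (hn : g ∈ 𝐍(H)) : g ∈ inertia θ := by
  intro x
  by_cases hx : x ∈ H
  · exact conj_eq_of_centMod hθ hk hg hx
  · rw [CF_off hθ hx, CF_off hθ]
    intro h
    have := (mem_normalizer_iff.1 hn _).1 h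
    exact hx (by simpa [mul_assoc] using this)

omit [Finite G] in
/-- The subgroup on which two linear characters agree. -/
def eqLocus {H : Subgroup G} {φ ψ : G → ℂ} (hφ : IsLin H φ) (hψ : IsLin H ψ) : Subgroup G where
  carrier := {x | x ∈ H ∧ φ x = ψ x}
  mul_mem' := fun {a b} ha hb => ⟨H.mul_mem ha.1 hb.1, by
    rw [hφ.2.2 _ ha.1 _ hb.1, hψ.2.2 _ ha.1 _ hb.1, ha.2, hb.2]⟩
  one_mem' := ⟨H.one_mem, by rw [hφ.2.1, hψ.2.1]⟩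
  inv_mem' := fun {a} ha => ⟨H.inv_mem ha.1, by
    apply mul_left_cancel₀ (hφ.ne_zero ha.1)
    rw [hφ.mul_inv ha.1, ha.2, hψ.mul_inv ha.1]⟩

omit [Finite G] in
theorem lin_ext {H A : Subgroup G} {φ ψ : G → ℂ} (hφ : IsLin H φ) (hψ : IsLin H ψ)
    {K : G → Subgroup G} (hK : ⨆ w ∈ A, K w = H) (h : ∀ w ∈ A, ∀ x ∈ K w, φ x = ψ x) : φ = ψ := by
  have h1 : H ≤ eqLocus hφ hψ := by
    refine hK.symm.le.trans (iSup₂_le fun w hw x hx => ⟨?_, h w hw x hx⟩)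
    exact hK ▸ (le_iSup₂ (f := fun w (_ : w ∈ A) => K w) w hw) hx
  funext x
  by_cases hx : x ∈ H
  · exact (h1 hx).2
  · rw [hφ.1 x hx, hψ.1 x hx]

theorem relIndex_sd {H U D I : Subgroup G} (h : SdProd H U D) (hI : H ≤ I) :
    I.relIndex D = I.relIndex U := by
  have h1 := (h.inf_of_le_left hI).card
  have h2 := h.card
  have h3 : 𝐨(D ⊓ I) * I.relIndex D = 𝐨(D) := by
    rw [← inf_relIndex_left]; exact H1.card_mul_relIndex inf_le_left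
  have h4 : 𝐨(U ⊓ I) * I.relIndex U = 𝐨(U) := by
    rw [← inf_relIndex_left]; exact H1.card_mul_relIndex inf_le_left
  rw [h1, h2, ← h4, ← mul_assoc] at h3
  exact Nat.eq_of_mul_eq_mul_left (Nat.mul_pos Nat.card_pos Nat.card_pos) h3

theorem relIndex_sd_sup {H U D T : Subgroup G} (h : SdProd H U D) (hT : T ≤ U) :
    (H ⊔ T).relIndex D = T.relIndex U := by
  rw [relIndex_sd h le_sup_left, ← inf_relIndex_right,
    sup_inf_of_le_right (hT.trans h.norm) hT, h.disj, bot_sup_eq]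

theorem inf_inertia {H U D : Subgroup G} (h : SdProd H U D) {θ : G → ℂ} (hθ : θ ∈ CF H) :
    D ⊓ inertia θ = H ⊔ (U ⊓ inertia θ) := by
  rw [← h.sup, sup_inf_of_le_left h.norm (le_inertia hθ)]

theorem exists_ind_of_over {H D T : Subgroup G} (h : H ⊲ D) {χ θ : G → ℂ} (hχ : χ ∈ Irr D)
    (hθ : θ ∈ constt H (res H χ)) (hT : D ⊓ inertia θ = T) : ∃ ψ ∈ Irr T, ind D T ψ = χ := by
  subst hT
  have hθ' := (mem_constt.1 hθ).1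
  obtain ⟨ψ, h1, h2⟩ := (clifford_corr h hθ').1.surjOn
    (Finset.mem_coe.2 ((mem_constt_ind_iff h.1 hθ' hχ).2 hθ))
  exact ⟨ψ, (mem_constt.1 h1).1, h2⟩

theorem self_mem_constt {H : Subgroup G} {θ : G → ℂ} (hθ : θ ∈ Irr H) : θ ∈ constt H θ :=
  mem_constt.2 ⟨hθ, by rw [ip_irr_self hθ]; exact one_ne_zero⟩

theorem ind_mem_irrKerD {H T D K : Subgroup G} (h : H ⊲ D) (hT : H ≤ T) (hTD : T ≤ D)
    {ξ : G → ℂ} (hξ : IsLin T ξ) (hn : ¬ H ≤ cfKer ξ) (hi : D ⊓ inertia (res H ξ) ≤ T)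
    (hK : D ≤ 𝐍(K)) (hk : K ≤ cfKer ξ) : ind D T ξ ∈ irrKerD D H K :=
  mem_irrKerD.2 ⟨ind_mem_Irr_of_inertia_le h hT hTD hξ.mem_Irr
      (self_mem_constt (hξ.res hT).mem_Irr) hi,
    (le_cfKer_ind_irr_iff hTD hK hξ.mem_Irr).2 hk,
    fun e => hn ((le_cfKer_ind_irr_iff hTD h.2 hξ.mem_Irr).1 e)⟩

/-- `res H ξ` is a constituent of the restriction of `ind L T ξ`. -/
theorem res_mem_constt_res_ind {H T L : Subgroup G} (hT : H ≤ T) (hTL : T ≤ L) {ξ : G → ℂ}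
    (hξ : IsLin T ξ) (hi : ind L T ξ ∈ Irr L) : res H ξ ∈ constt H (res H (ind L T ξ)) := by
  have h1 : ξ ∈ constt T (res T (ind L T ξ)) :=
    (mem_constt_ind_iff hTL hξ.mem_Irr hi).1 (self_mem_constt hi)
  have hl := hξ.res hT
  obtain ⟨a, ha⟩ := CH1.ip_res_nat hT ((irr_isChar hi).res hTL) hl.isChar
  have hb : ip H ξ (res H ξ) = (1 : ℕ) := by
    rw [← ip_res_left, ip_irr_self hl.mem_Irr, Nat.cast_one]
  have := CH1.ip_le_of_constt hT ((irr_isChar hi).res hTL) h1 hl.isChar ha hb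
  refine mem_constt.2 ⟨hl.mem_Irr, ?_⟩
  rw [← res_res hT, ip_res_left, ha]
  exact_mod_cast (by omega : a ≠ 0)

/-- A `q`-group fixes a constituent if their number is prime to `q`. -/
theorem exists_fixed_constt {H A : Subgroup G} (hA : A ≤ 𝐍(H)) {q : ℕ} (hq : q.Prime)
    (hAq : IsPGroup q A) {φ : G → ℂ} (hφ : A ≤ inertia φ) (hc : ¬ q ∣ (constt H φ).card) :
    ∃ θ ∈ constt H φ, A ≤ inertia θ := by
  haveI := Fact.mk hq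
  have hm : ∀ w ∈ A, ∀ θ ∈ constt H φ, cfConj w θ ∈ constt H φ := fun w hw θ hθ => by
    obtain ⟨h1, h2⟩ := mem_constt.1 hθ
    refine mem_constt.2 ⟨cfConj_mem_Irr_of_norm h1 (hA hw), ?_⟩
    rw [← mem_inertia.1 (hφ hw), ip_cfConj_of_norm (hA hw)]
    exact h2
  letI : MulAction A (constt H φ) :=
    { smul := fun w θ => ⟨cfConj (w : G) θ.1, hm w w.2 θ.1 θ.2⟩
      one_smul := fun θ => Subtype.ext (cfConj_one θ.1)
      mul_smul := fun a b θ => Subtype.ext (cfConj_cfConj _ _ θ.1).symm }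
  obtain ⟨θ, hθ⟩ := hAq.nonempty_fixed_point_of_prime_not_dvd_card (constt H φ) (by
    rw [Nat.card_eq_fintype_card, Fintype.card_coe]; exact hc)
  exact ⟨θ.1, θ.2, fun w hw => mem_inertia.2 (congrArg Subtype.val (hθ ⟨w, hw⟩))⟩

theorem le_inertia_of_not_irr {D L : Subgroup G} (h : D ⊲ L) (hp : (D.relIndex L).Prime)
    {χ : G → ℂ} (hχ : χ ∈ Irr D) (hn : ind L D χ ∉ Irr L) : L ≤ inertia χ := by
  rw [ind_mem_Irr_iff h hχ] at hn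
  rcases CH2.eq_or_eq_of_prime (le_inf h.1 (le_inertia (irr_mem_CF hχ))) inf_le_left hp with e | e
  · exact (hn e.le).elim
  · exact e ▸ inf_le_right

variable [MinOdd G] {M U W₁ W₂ W H₀ : Subgroup G}

section facts

variable (h : Hyp9 M U W₁ W₂ W H₀)
include h

theorem nD : ⁅M, M⁆ ⊲ M := der_normal M
theorem nH : MF M ⊲ ⁅M, M⁆ := h.typeP.sdD.normal
theorem n0 : H₀ ⊲ M := h.normal_facts.1
theorem le0 : H₀ ≤ MF M := h.ker.chief.lt.le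
theorem leU : U ≤ M := h.typeP.sdD.le_right.trans (der_le M)
theorem leW : W₁ ≤ M := h.typeP.sdM.le_right
theorem leC : fcC M U H₀ ≤ U := inf_le_left
theorem leHC : MF M ⊔ fcC M U H₀ ≤ ⁅M, M⁆ :=
  sup_le h.typeP.sdD.le_left ((leC h).trans h.typeP.sdD.le_right)
theorem derH : ⁅MF M, MF M⁆ ≤ H₀ := h.factor_facts.2.2.2.2.1
theorem primeD : (⁅M, M⁆.relIndex M).Prime := by
  rw [h.typeP.sdM.relIndex_left]; exact h.factor_facts.1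

theorem isLin {θ : G → ℂ} (hθ : θ ∈ irrKer (MF M) H₀) : IsLin (MF M) θ :=
  isLin_of_mem_irrKer (derH h) hθ

theorem C_le_inertia {θ : G → ℂ} (hθ : θ ∈ irrKer (MF M) H₀) : fcC M U H₀ ≤ inertia θ :=
  fun _ hg => centMod_le_inertia (irr_mem_CF (mem_irrKer.1 hθ).1) (mem_irrKer.1 hθ).2 hg.2
    ((MF_normal M).2 (leU h hg.1))

theorem D_inertia {θ : G → ℂ} (hθ : θ ∈ irrKer (MF M) H₀) (hi : U ⊓ inertia θ ≤ fcC M U H₀) :
    ⁅M, M⁆ ⊓ inertia θ = MF M ⊔ fcC M U H₀ := by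
  rw [inf_inertia h.typeP.sdD (irr_mem_CF (mem_irrKer.1 hθ).1),
    le_antisymm hi (le_inf (leC h) (C_le_inertia h hθ))]

theorem constt_mem {K : Subgroup G} {χ θ : G → ℂ} (hχ : χ ∈ irrKerD ⁅M, M⁆ (MF M) K)
    (hK : H₀ ≤ K) (hθ : θ ∈ constt (MF M) (res (MF M) χ)) :
    θ ∈ irrKer (MF M) H₀ ∧ θ ≠ cf1 (MF M) := by
  obtain ⟨h1, h2, h3⟩ := mem_irrKerD.1 hχ
  refine ⟨mem_irrKer.2 ⟨(mem_constt.1 hθ).1, (le_cfKer_iff_of_constt_res (nH h) (le0 h)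
    ((der_le M).trans (n0 h).2) h1 hθ).1 (hK.trans h2)⟩, ?_⟩
  rintro rfl
  exact h3 ((le_cfKer_iff_of_constt_res (nH h) le_rfl (nH h).2 h1 hθ).2 (le_cfKer_cf1 _))

theorem galois_inertia (hg : GaloisP M U H₀) {θ : G → ℂ} (hθ : θ ∈ irrKer (MF M) H₀)
    (h1 : θ ≠ cf1 (MF M)) : U ⊓ inertia θ ≤ fcC M U H₀ := by
  intro v hv
  by_contra hc
  refine h1 (eq_cf1_of_mem_inertia_mod ⟨le0 h, (MF_le M).trans (n0 h).2⟩
    ((MF_normal M).2 (leU h hv.1)) ((n0 h).2 (leU h hv.1)) (fun x hx hc' => ?_) hθ hv.2)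
  refine ((h.galois_facts hg).2.2.2.1 v hv.1 x hx ?_).resolve_right hc
  rw [← commutatorElement_inv]
  exact inv_mem hc'

variable {H₁ : Subgroup G} {a : ℕ} (hn : NonGalois M U W₁ W₂ H₀ H₁ a)
include hn

theorem le0w {w : G} (hw : w ∈ W₁) : H₀ ≤ H₁ ^ᵍ w := by
  rw [← conj_eq_of_mem_norm ((n0 h).2 (leW h hw))]
  exact conj_mono hn.le0 w

theorem leHw {w : G} (hw : w ∈ W₁) : H₁ ^ᵍ w ≤ MF M :=
  conj_le_of_mem_norm hn.le ((MF_normal M).2 (leW h hw))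

theorem cardw {w : G} (hw : w ∈ W₁) : H₀.relIndex (H₁ ^ᵍ w) = H₀.relIndex W₂ := by
  rw [← hn.card, ← relIndex_conj H₀ H₁ w, conj_eq_of_mem_norm ((n0 h).2 (leW h hw))]

theorem normUw {w : G} (hw : w ∈ W₁) : U ≤ 𝐍(H₁ ^ᵍ w) := by
  rw [← conj_eq_of_mem_norm (h.typeP.normU hw)]
  exact conj_le_norm_iff.2 hn.norm

theorem normDw {w : G} (hw : w ∈ W₁) : ⁅M, M⁆ ≤ 𝐍(H₁ ^ᵍ w) := by
  rw [← h.typeP.sdD.sup]
  exact sup_le (le_norm_of_der_le ((derH h).trans (le0w h hn hw)) (leHw h hn hw)) (normUw h hn hw)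

theorem inertia_le_w {θ : G → ℂ} (hθ : θ ∈ irrKer (MF M) H₀) {w : G} (hw : w ∈ W₁)
    (hk : ¬ H₁ ^ᵍ w ≤ cfKer θ) : U ⊓ inertia θ ≤ centMod (H₁ ^ᵍ w) H₀ := fun _ hg =>
  le_centMod_of_inertia (isLin h hθ) (leHw h hn hw) (le0w h hn hw)
    (by rw [cardw h hn hw]; exact h.factor_facts.2.1) (mem_irrKer.1 hθ).2 hk
    (normUw h hn hw hg.1) ((n0 h).2 (leU h hg.1)) hg.2

theorem inertia_le_C {θ : G → ℂ} (hθ : θ ∈ irrKer (MF M) H₀)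
    (hk : ∀ w ∈ W₁, ¬ H₁ ^ᵍ w ≤ cfKer θ) : U ⊓ inertia θ ≤ fcC M U H₀ := by
  refine le_inf inf_le_left (le_centMod_iff.2 ⟨inf_le_left.trans ((leU h).trans (n0 h).2), ?_⟩)
  rw [commutator_comm]
  refine (le_centMod_iff.1 ?_).2
  rw [← hn.sup]
  refine iSup₂_le fun w hw => le_centMod_iff.2 ⟨(leHw h hn hw).trans ((MF_le M).trans (n0 h).2), ?_⟩
  rw [commutator_comm]
  exact (le_centMod_iff.1 (inertia_le_w h hn hθ hw (hk w hw))).2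

theorem exists_not_le {θ : G → ℂ} (hθ : θ ∈ irrKer (MF M) H₀) (h1 : θ ≠ cf1 (MF M)) :
    ∃ w ∈ W₁, ¬ H₁ ^ᵍ w ≤ cfKer θ := by
  by_contra hc
  push Not at hc
  refine h1 ((irr_eq_cf1_iff (mem_irrKer.1 hθ).1).2 ?_)
  rw [← hn.sup]
  exact iSup₂_le hc

omit hn in
theorem fixed_inertia {θ : G → ℂ} (hθ : θ ∈ irrKer (MF M) H₀) (h1 : θ ≠ cf1 (MF M))
    (hi : W₁ ≤ inertia θ) : U ⊓ inertia θ ≤ fcC M U H₀ := by
  by_cases hg : GaloisP M U H₀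
  · exact galois_inertia h hg hθ h1
  obtain ⟨H₁, a, hn⟩ := h.nonGalois hg
  obtain ⟨w₀, hw₀, hk⟩ := exists_not_le h hn hθ h1
  refine inertia_le_C h hn hθ fun w hw e => hk ?_
  have h2 := conj_mono e (w₀ * w⁻¹)
  rw [conj_conj, inv_mul_cancel_right, ← cfKer_cfConj,
    mem_inertia.1 (hi (W₁.mul_mem hw₀ (W₁.inv_mem hw)))] at h2
  exact h2

end facts

end PF09b

open PF09b

variable [MinOdd G] {M U W₁ W₂ W H₀ : Subgroup G}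

/-- The number of reducible characters in `𝒮(K)`. -/
theorem Hyp9.nb_redM (h : Hyp9 M U W₁ W₂ W H₀) {K : Subgroup G} (hK : M ≤ 𝐍(K))
    (hKM : K ≤ ⁅M, M⁆) (hKH : K ⊓ MF M = H₀) :
    {φ : G → ℂ | φ ∈ S9 M K ∧ φ ∉ Irr M}.ncard = H₀.relIndex W₂ - 1 := by
  have hP := h.typeP.primeTI
  have h1 := hP.card_muR_ker hKM hK (isSolvable_of_le_mmax h.max (der_le M))
  have h2 : K.relIndex W₂ = H₀.relIndex W₂ := by
    rw [← hKH, ← inf_relIndex_right (K ⊓ MF M), inf_assoc, inf_eq_right.2 h.typeP.le2F,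
      inf_relIndex_right]
  have h3 : W₁ ≤ W := h.typeP.dprod.le_left
  have hz : ⁅M, M⁆ ≤ cfKer (muR M W₁ W₂ (cf1 W)) := by
    rw [hP.col_zero.2.2.2.2, cfKer_smul (card_ne_zero_C W₁)]
    exact le_cfKer_cf1 _
  have e : {φ : G → ℂ | φ ∈ S9 M K ∧ φ ∉ Irr M} = muR M W₁ W₂ ''
      ({β : G → ℂ | β ∈ irrKer W W₁ ∧ K ≤ cfKer (muR M W₁ W₂ β)} \ {cf1 W}) := by
    ext φ
    constructor
    · rintro ⟨a1, a2⟩
      obtain ⟨b1, b2, b3⟩ := (mem_seqIndD_iff_ker (nD h) (MF_normal M).2 hK).1 a1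
      obtain ⟨β, hβ, rfl⟩ := (hP.seqIndT_cases b1).resolve_right fun e => a2 e.1
      refine ⟨β, ⟨⟨hβ, b2⟩, ?_⟩, rfl⟩
      rintro rfl
      exact b3 ((nH h).1.trans hz)
    · rintro ⟨β, ⟨⟨hβ, b2⟩, b3⟩, rfl⟩
      have hf := hP.muR_facts hβ
      exact ⟨(mem_seqIndD_iff_ker (nD h) (MF_normal M).2 hK).2 ⟨hf.2.2.2.1, b2,
        fun e => (hP.not_le_cfKer hβ b3).2 (h.typeP.le2F.trans e)⟩, hf.2.1⟩
  rw [e, Set.InjOn.ncard_image (hP.res_mu2_injOn.2.mono fun β hβ => hβ.1.1),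
    Set.ncard_sdiff_singleton_of_mem, h1, h2]
  exact ⟨cf1_mem_irrKer h3, hKM.trans hz⟩

namespace PF09b

variable (h : Hyp9 M U W₁ W₂ W H₀)
include h

theorem nb_redC : {φ : G → ℂ | φ ∈ S9 M (H₀ ⊔ fcC M U H₀) ∧ φ ∉ Irr M}.ncard =
    H₀.relIndex W₂ - 1 :=
  h.nb_redM h.normal_facts.2.2.2.2.1.2 ((sup_le_sup_right (le0 h) _).trans (leHC h))
    (h.normal_facts.2.2.2.2.2.2.2.2.1 _ (leC h) ((leC h).trans ((leU h).trans (n0 h).2)))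

theorem dg_indHC {ξ : G → ℂ} (hξ : IsLin (MF M ⊔ fcC M U H₀) ξ) :
    dg (ind M (MF M ⊔ fcC M U H₀) ξ) = 𝐨(W₁) * (fcC M U H₀).relIndex U := by
  rw [hξ.isChar.dg_ind ((leHC h).trans (der_le M)), hξ.dg, mul_one,
    h.normal_facts.2.2.2.2.2.2.2.2.2.2.2.1]

theorem exists_lin {K : Subgroup G} (hK : ⁅M, M⁆ ≤ 𝐍(K))
    (hKC : H₀ ⊔ ⁅fcC M U H₀, fcC M U H₀⁆ ≤ K) {χ θ : G → ℂ}
    (hχ : χ ∈ irrKerD ⁅M, M⁆ (MF M) K) (hθ : θ ∈ constt (MF M) (res (MF M) χ))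
    (hi : U ⊓ inertia θ ≤ fcC M U H₀) :
    ∃ ξ, IsLin (MF M ⊔ fcC M U H₀) ξ ∧ χ = ind ⁅M, M⁆ (MF M ⊔ fcC M U H₀) ξ := by
  obtain ⟨h1, h2, -⟩ := mem_irrKerD.1 hχ
  obtain ⟨ψ, hψ, rfl⟩ := exists_ind_of_over (nH h) h1 hθ
    (D_inertia h (constt_mem h hχ (le_sup_left.trans hKC) hθ).1 hi)
  exact ⟨ψ, isLin_of_der_le_cfKer hψ ((h.normal_facts.2.2.2.2.2.2.2.2.2.1.trans hKC).trans
    ((le_cfKer_ind_irr_iff (leHC h) hK hψ).1 h2)), rfl⟩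

theorem red_isIndHC {φ : G → ℂ} (hφ : φ ∈ S9 M H₀) (hr : φ ∉ Irr M) : IsIndHC M U W₁ H₀ φ := by
  have e : {φ : G → ℂ | φ ∈ S9 M (H₀ ⊔ fcC M U H₀) ∧ φ ∉ Irr M} =
      {φ : G → ℂ | φ ∈ S9 M H₀ ∧ φ ∉ Irr M} := by
    refine Set.eq_of_subset_of_ncard_le
      (fun φ hφ => ⟨seqIndD_mono _ _ le_rfl le_sup_left hφ.1, hφ.2⟩) ?_
      ((Finset.finite_toSet (S9 M H₀)).subset fun φ hφ => hφ.1)
    rw [nb_redC h, h.nb_redM (n0 h).2 ((le0 h).trans (nH h).1) (inf_eq_left.2 (le0 h))]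
  have hφ' : φ ∈ S9 M (H₀ ⊔ fcC M U H₀) := (e.symm.le (show φ ∈ _ from ⟨hφ, hr⟩)).1
  obtain ⟨χ, hχ, rfl⟩ := mem_seqIndD.1 hφ'
  have hχ' := (mem_irrKerD.1 hχ).1
  have hi := le_inertia_of_not_irr (nD h) (primeD h) hχ' hr
  obtain ⟨θ₀, hθ₀⟩ := exists_constt_res (nH h).1 hχ'
  obtain ⟨θ, hθ, hiθ⟩ := exists_fixed_constt ((leW h).trans (MF_normal M).2) h.factor_facts.1
    (IsPGroup.of_card (pow_one _).symm) (φ := res (MF M) χ)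
    ((le_inf ((leW h).trans (MF_normal M).2) ((leW h).trans hi)).trans
      (inf_inertia_le_inertia_res χ)) (by
      rw [constt_res_eq_cfClass (nH h) hχ' hθ₀, card_cfClass]
      intro hd
      have h1 := hd.trans (relIndex_dvd_card' _ _)
      have h2 := h.typeP.basic.2.2.2.2.2.2.2.2.1
      exact h.factor_facts.1.one_lt.ne' (Nat.eq_one_of_dvd_coprimes h2 h1 dvd_rfl))
  obtain ⟨a1, a2⟩ := constt_mem h hχ le_sup_left hθ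
  obtain ⟨ξ, hξ, rfl⟩ := exists_lin h ((der_le M).trans h.normal_facts.2.2.2.2.1.2)
    (sup_le_sup_left (der_le _) _) hχ hθ (fixed_inertia h a1 a2 hiθ)
  rw [ind_ind (der_le M) (leHC h)] at hφ' ⊢
  exact ⟨dg_indHC h hξ, hφ', ξ, hξ, rfl⟩

end PF09b

/-- PF (9.8)(b), (9.9)(b). -/
theorem Hyp9.reducible_core_ind (h : Hyp9 M U W₁ W₂ W H₀) :
    (∀ φ ∈ S9 M H₀, φ ∉ Irr M → IsIndHC M U W₁ H₀ φ) ∧
      (∃ φ ∈ S9 M (H₀ ⊔ fcC M U H₀), φ ∉ Irr M) ∧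
      (𝐨(W₂).Prime → ∀ β ∈ irrKer W W₁, β ≠ cf1 W → IsIndHC M U W₁ H₀ (muR M W₁ W₂ β)) := by
  refine ⟨fun φ hφ hr => red_isIndHC h hφ hr, ?_, fun hp β hβ h1 => ?_⟩
  · have h1 := nb_redC h
    have h2 := h.factor_facts.2.1.one_lt
    exact Set.nonempty_of_ncard_ne_zero (h1.trans_ne (by omega))
  · have hP := h.typeP.primeTI
    have h2 := hP.card_muR_ker ((le0 h).trans (nH h).1) (n0 h).2
      (isSolvable_of_le_mmax h.max (der_le M))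
    have e : {β : G → ℂ | β ∈ irrKer W W₁ ∧ H₀ ≤ cfKer (muR M W₁ W₂ β)} = irrKer W W₁ := by
      refine Set.eq_of_subset_of_ncard_le (fun β hβ => hβ.1) ?_ (Finset.finite_toSet _)
      rw [h2, h.factor_facts.2.2.2.2.2.2.2.1 hp, Set.ncard_coe_finset,
        h.typeP.cycTI.basic.2.2.2.2.2.2.2.2.1]
    have hf := hP.muR_facts hβ
    exact red_isIndHC h ((mem_seqIndD_iff_ker (nD h) (MF_normal M).2 (n0 h).2).2
      ⟨hf.2.2.2.1, (e.symm.le hβ).2,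
        fun e => (hP.not_le_cfKer hβ h1).2 (h.typeP.le2F.trans e)⟩) hf.2.1

end Cfsg.Agent.FT
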