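/-
PF (9.8)-(9.10), part 2.
-/
import Cfsg.Agent.FT.P.PF09b_1

set_option autoImplicit false

namespace Cfsg.Agent.FT

open Subgroup Cfsg Cfsg.Agent
open scoped commutatorElement

universe u

variable {G : Type u} [Group G] [Finite G]

namespace PF09b

theorem res_eq_cf1_iff {H K : Subgroup G} (hK : K ≤ H) {θ : G → ℂ} (hθ : IsLin H θ) :
    res K θ = cf1 K ↔ K ≤ cfKer θ := by
  rw [irr_eq_cf1_iff (hθ.res hK).mem_Irr, hθ.isChar.le_cfKer_res_iff le_rfl hK]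

theorem sdProd_sub {H U D T : Subgroup G} (h : SdProd H U D) (hT : T ≤ U) : SdProd H T (H ⊔ T) :=
  ⟨rfl, hT.trans h.norm, eq_bot_iff.2 ((inf_le_inf_left _ hT).trans h.disj.le)⟩

theorem cfClass_eq_singleton {L : Subgroup G} {χ : G → ℂ} (h : L ≤ inertia χ) :
    cfClass L χ = {χ} := by
  refine Finset.eq_singleton_iff_unique_mem.2 ⟨self_mem_cfClass _ _, fun η hη => ?_⟩
  obtain ⟨g, hg, rfl⟩ := mem_cfClass.1 hη
  exact mem_inertia.1 (h hg)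

variable [MinOdd G] {M U W₁ W₂ W H₀ : Subgroup G} (h : Hyp9 M U W₁ W₂ W H₀)
include h

theorem galois_count (hg : GaloisP M U H₀)
    (hd : ∀ θ ∈ irrKerD ⁅M, M⁆ (MF M) (H₀ ⊔ ⁅fcC M U H₀, fcC M U H₀⁆),
      dg θ = (fcC M U H₀).relIndex U)
    (hr : ∀ φ ∈ S9 M (H₀ ⊔ ⁅fcC M U H₀, fcC M U H₀⁆), φ ∉ Irr M) :
    fcC M U H₀ = ⊥ ∧ 𝐨(U) = (H₀.relIndex W₂ ^ 𝐨(W₁) - 1) / (H₀.relIndex W₂ - 1) := by
  set C := fcC M U H₀ with hC
  have hC' : ⁅C, C⁆ ≤ U := (der_le C).trans (leC h)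
  have hK := h.normal_facts.2.2.2.2.2.2.2.1
  rw [← hC] at hK
  have hKH : (H₀ ⊔ ⁅C, C⁆) ⊓ MF M = H₀ :=
    h.normal_facts.2.2.2.2.2.2.2.2.1 _ hC' (hC'.trans ((leU h).trans (n0 h).2))
  have hle : MF M ⊔ ⁅C, C⁆ ≤ ⁅M, M⁆ := (sup_le_sup_left (der_le C) _).trans (leHC h)
  have hsup : (H₀ ⊔ ⁅C, C⁆) ⊔ MF M = MF M ⊔ ⁅C, C⁆ := by
    rw [sup_comm, ← sup_assoc, sup_eq_left.2 (le0 h)]
  have hn : (MF M ⊔ ⁅C, C⁆) ⊲ ⁅M, M⁆ := ⟨hle, by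
    rw [← hsup]
    exact (der_le M).trans (H1.le_normalizer_sup hK.2 (MF_normal M).2)⟩
  have h1 := sum_irrKerD_dg_sq hn ((der_le M).trans hK.2) (sup_le_sup_right (le0 h) _)
  have e1 : irrKerD ⁅M, M⁆ (MF M ⊔ ⁅C, C⁆) (H₀ ⊔ ⁅C, C⁆) =
      irrKerD ⁅M, M⁆ (MF M) (H₀ ⊔ ⁅C, C⁆) := by
    ext θ
    rw [mem_irrKerD, mem_irrKerD, sup_le_iff (a := MF M)]
    exact ⟨fun ⟨a, b, c⟩ => ⟨a, b, fun e => c ⟨e, le_sup_right.trans b⟩⟩,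
      fun ⟨a, b, c⟩ => ⟨a, b, fun e => c e.1⟩⟩
  have e2 : (H₀ ⊔ ⁅C, C⁆).relIndex (MF M ⊔ ⁅C, C⁆) = H₀.relIndex W₂ ^ 𝐨(W₁) := by
    rw [← hsup, relIndex_sup_of_norm ((MF_le M).trans hK.2), ← inf_relIndex_right, hKH,
      h.factor_facts.2.2.2.1]
  have e3 : (irrKerD ⁅M, M⁆ (MF M) (H₀ ⊔ ⁅C, C⁆)).card = H₀.relIndex W₂ - 1 := by
    rw [← h.nb_redM hK.2 ((sup_le_sup_right (le0 h) _).trans hle) hKH]
    have e4 : {φ : G → ℂ | φ ∈ S9 M (H₀ ⊔ ⁅C, C⁆) ∧ φ ∉ Irr M} = S9 M (H₀ ⊔ ⁅C, C⁆) :=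
      Set.ext fun φ => ⟨fun hφ => hφ.1, fun hφ => ⟨hφ, hr φ hφ⟩⟩
    rw [e4, Set.ncard_coe_finset, h.typeP.card_filter_ind_red (seqIndD_subset_T _ _ _ _) hr,
      ← Set.ncard_coe_finset]
    congr 1
    ext θ
    exact ⟨fun hθ => ⟨(mem_irrKerD.1 hθ).1,
        (ind_mem_seqIndD_iff (nD h) (MF_normal M).2 hK.2 (mem_irrKerD.1 hθ).1).2 hθ⟩,
      fun hθ => (ind_mem_seqIndD_iff (nD h) (MF_normal M).2 hK.2 hθ.1).1 hθ.2⟩
  rw [e1, e2, Finset.sum_congr rfl (fun θ hθ => by rw [hd θ hθ]), Finset.sum_const, e3,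
    relIndex_sd_sup h.typeP.sdD hC', ← relIndex_mul_relIndex _ C U (der_le C) (leC h),
    smul_eq_mul] at h1
  have h2 := (h.galois_facts hg).2.2.1
  rw [← hC] at h2
  have hp := h.factor_facts.2.1.one_lt
  have hq := h.factor_facts.1.pos
  have hc0 := CH1.relIndex_ne_zero' ⁅C, C⁆ C
  have hu0 := CH1.relIndex_ne_zero' C U
  obtain ⟨N, hN⟩ := Nat.sub_one_dvd_pow_sub_one (H₀.relIndex W₂) 𝐨(W₁)
  have hpq := Nat.one_lt_pow hq.ne' hp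
  rw [hN, Nat.mul_div_cancel_left _ (by omega)] at h2 ⊢
  have hN0 : 0 < N := Nat.pos_of_ne_zero (by rintro rfl; omega)
  have h3 := Nat.le_of_dvd hN0 h2
  obtain ⟨p', hp'⟩ : ∃ p', H₀.relIndex W₂ = p' + 1 := ⟨H₀.relIndex W₂ - 1, by omega⟩
  have h4 : H₀.relIndex W₂ ^ 𝐨(W₁) = p' * N + 1 := by
    rw [hp', Nat.add_sub_cancel] at hN
    rw [hp'] at hpq ⊢
    omega
  rw [h4, hp', Nat.add_sub_cancel] at h1
  have h5 : C.relIndex U = ⁅C, C⁆.relIndex C * N := by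
    have h6 : p' * C.relIndex U * C.relIndex U =
        p' * C.relIndex U * (⁅C, C⁆.relIndex C * N) := by nlinarith
    exact Nat.eq_of_mul_eq_mul_left (Nat.mul_pos (by omega) (Nat.pos_of_ne_zero hu0)) h6
  have h6 : ⁅C, C⁆.relIndex C = 1 := by
    by_contra hne
    have : 2 * N ≤ ⁅C, C⁆.relIndex C * N := Nat.mul_le_mul_right _ (by omega)
    omega
  have h7 : C = ⊥ := by
    by_contra hne
    exact (H1.commutator_lt_of_isSolvable (isSolvable_of_le_mmax h.max ((leC h).trans (leU h)))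
      hne).not_ge (relIndex_eq_one.1 h6)
  refine ⟨h7, ?_⟩
  rw [h6, one_mul, h7, relIndex_bot_left] at h5
  exact h5

end PF09b

open PF09b

variable [MinOdd G] {M U W₁ W₂ W H₀ : Subgroup G}

/-- PF (9.9)(a),(c). -/
theorem Hyp9.galois_characters (h : Hyp9 M U W₁ W₂ W H₀) (hg : GaloisP M U H₀) :
    (∀ θ ∈ irrKerD ⁅M, M⁆ (MF M) H₀, (fcC M U H₀).relIndex U ∣ dg θ) ∧
      (∀ θ ∈ irrKerD ⁅M, M⁆ (MF M) (H₀ ⊔ ⁅fcC M U H₀, fcC M U H₀⁆),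
        dg θ = (fcC M U H₀).relIndex U ∧
        ∃ ξ, IsLin (MF M ⊔ fcC M U H₀) ξ ∧ θ = ind ⁅M, M⁆ (MF M ⊔ fcC M U H₀) ξ) ∧
      ((∀ φ ∈ S9 M (H₀ ⊔ ⁅fcC M U H₀, fcC M U H₀⁆), φ ∉ Irr M) →
        fcC M U H₀ = ⊥ ∧ 𝐨(U) = (H₀.relIndex W₂ ^ 𝐨(W₁) - 1) / (H₀.relIndex W₂ - 1) ∧
          FrobKerMod ⁅M, M⁆ (MF M) H₀) := by
  have hi := h.normal_facts.2.2.2.2.2.2.2.2.2.2.1
  have h2 : ∀ θ ∈ irrKerD ⁅M, M⁆ (MF M) (H₀ ⊔ ⁅fcC M U H₀, fcC M U H₀⁆),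
      dg θ = (fcC M U H₀).relIndex U ∧
      ∃ ξ, IsLin (MF M ⊔ fcC M U H₀) ξ ∧ θ = ind ⁅M, M⁆ (MF M ⊔ fcC M U H₀) ξ := by
    intro χ hχ
    obtain ⟨θ, hθ⟩ := exists_constt_res (nH h).1 (mem_irrKerD.1 hχ).1
    obtain ⟨a1, a2⟩ := constt_mem h hχ le_sup_left hθ
    obtain ⟨ξ, hξ, rfl⟩ := exists_lin h ((der_le M).trans h.normal_facts.2.2.2.2.2.2.2.1.2)
      le_rfl hχ hθ (galois_inertia h hg a1 a2)
    exact ⟨by rw [hξ.isChar.dg_ind (leHC h), hξ.dg, mul_one, hi], ξ, hξ, rfl⟩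
  refine ⟨fun χ hχ => ?_, h2, fun hr => ?_⟩
  · obtain ⟨θ, hθ⟩ := exists_constt_res (nH h).1 (mem_irrKerD.1 hχ).1
    obtain ⟨a1, a2⟩ := constt_mem h hχ le_rfl hθ
    obtain ⟨ψ, hψ, rfl⟩ := exists_ind_of_over (nH h) (mem_irrKerD.1 hχ).1 hθ
      (D_inertia h a1 (galois_inertia h hg a1 a2))
    rw [(irr_isChar hψ).dg_ind (leHC h), hi]
    exact Dvd.intro _ rfl
  · obtain ⟨a1, a2⟩ := galois_count h hg (fun θ hθ => (h2 θ hθ).1) hr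
    refine ⟨a1, a2, ?_⟩
    have := (h.galois_facts hg).2.2.2.2
    rwa [a1, sup_bot_eq, sup_bot_eq] at this

namespace PF09b

variable (h : Hyp9 M U W₁ W₂ W H₀) {H₁ : Subgroup G} {a : ℕ} (hn : NonGalois M U W₁ W₂ H₀ H₁ a)
include h

theorem exists_ext {θ : G → ℂ} (hθ : θ ∈ irrKer (MF M) H₀) {T : Subgroup G} (hT : T ≤ U)
    (hi : T ≤ inertia θ) : ∃ ξ, IsLin (MF M ⊔ T) ξ ∧ res (MF M) ξ = θ ∧ T ≤ cfKer ξ :=
  (sdProd_sub h.typeP.sdD hT).exists_lin_extension (isLin h hθ) hi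

include hn

theorem dvd_dg {χ : G → ℂ} (hχ : χ ∈ irrKerD ⁅M, M⁆ (MF M) H₀) : a ∣ dg χ := by
  have hχ' := (mem_irrKerD.1 hχ).1
  obtain ⟨θ, hθ⟩ := exists_constt_res (nH h).1 hχ'
  obtain ⟨a1, a2⟩ := constt_mem h hχ le_rfl hθ
  obtain ⟨w, hw, hk⟩ := exists_not_le h hn a1 a2
  obtain ⟨e, -, -, hd⟩ := clifford_dg (nH h) hχ' hθ
  have b1 : cfConj w⁻¹ θ ∈ irrKer (MF M) H₀ := cfConj_mem_irrKer a1
    (inv_mem ((MF_normal M).2 (leW h hw))) (inv_mem ((n0 h).2 (leW h hw)))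
  have b2 := inertia_le_w h hn b1 W₁.one_mem (by
    rw [conj_one, cfKer_cfConj, ← conj_le_iff]; exact hk)
  rw [conj_one] at b2
  have b3 := relIndex_dvd_of_le_left U b2
  rw [← hn.a_eq, inf_relIndex_left, inertia_cfConj, ← relIndex_conj _ _ w, conj_inv_conj,
    conj_eq_of_mem_norm (h.typeP.normU hw)] at b3
  rw [hd, relIndex_sd h.typeP.sdD (le_inertia (irr_mem_CF (mem_irrKer.1 a1).1))]
  exact (b3.mul_left _).mul_right _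

theorem card_irrKer_w {w : G} (hw : w ∈ W₁) :
    (irrKer (H₁ ^ᵍ w) H₀).card = H₀.relIndex W₂ := by
  rw [card_irrKer_of_der_le ((commutator_mono (leHw h hn hw) (leHw h hn hw)).trans (derH h))
    (le0w h hn hw), cardw h hn hw]

open Classical in
theorem card_filter_comp [Fintype W₁] (S : W₁ → Finset (G → ℂ))
    (hS : ∀ w : W₁, S w ⊆ irrKer (H₁ ^ᵍ (w : G)) H₀) :
    ((irrKer (MF M) H₀).filter fun θ => ∀ w : W₁, res (H₁ ^ᵍ (w : G)) θ ∈ S w).card =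
      ∏ w, (S w).card := by
  let r : (G → ℂ) → W₁ → G → ℂ := fun θ w => res (H₁ ^ᵍ (w : G)) θ
  have h1 : Set.MapsTo r (irrKer (MF M) H₀ : Set (G → ℂ))
      (Fintype.piFinset fun w : W₁ => irrKer (H₁ ^ᵍ (w : G)) H₀) := fun θ hθ =>
    Finset.mem_coe.2 (Fintype.mem_piFinset.2 fun w => mem_irrKer.2
      ⟨((isLin h hθ).res (leHw h hn w.2)).mem_Irr,
        le_cfKer_res (le0w h hn w.2) (mem_irrKer.1 hθ).2⟩)
  have h2 : Set.InjOn r (irrKer (MF M) H₀ : Set (G → ℂ)) := fun θ hθ θ' hθ' e =>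
    lin_ext (isLin h hθ) (isLin h hθ') hn.sup fun w hw x hx => by
      have := congrFun (congrFun e ⟨w, hw⟩) x
      simp only [r] at this
      rwa [res_of_mem _ hx, res_of_mem _ hx] at this
  have h3 := Finset.surjOn_of_injOn_of_card_le r h1 h2 (by
    rw [Fintype.card_piFinset, Finset.prod_congr rfl fun w _ => card_irrKer_w h hn w.2,
      Finset.prod_const, card_irrKer_of_der_le (derH h) (le0 h), h.factor_facts.2.2.2.1,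
      Finset.card_univ, Nat.card_eq_fintype_card])
  rw [← Fintype.card_piFinset]
  refine Finset.card_nbij r (fun θ hθ => ?_) (h2.mono fun θ hθ => (Finset.mem_filter.1 hθ).1)
    fun f hf => ?_
  · exact Finset.mem_coe.2 (Fintype.mem_piFinset.2 (Finset.mem_filter.1 hθ).2)
  · have hf := Fintype.mem_piFinset.1 hf
    obtain ⟨θ, hθ, rfl⟩ := h3 (Finset.mem_coe.2 (Fintype.mem_piFinset.2 fun w => hS w (hf w)))
    exact ⟨θ, Finset.mem_coe.2 (Finset.mem_filter.2 ⟨hθ, hf⟩), rfl⟩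

theorem card_erase_w {w : G} (hw : w ∈ W₁) :
    ((irrKer (H₁ ^ᵍ w) H₀).erase (cf1 (H₁ ^ᵍ w))).card = H₀.relIndex W₂ - 1 := by
  rw [Finset.card_erase_of_mem (cf1_mem_irrKer (le0w h hn hw)), card_irrKer_w h hn hw]

theorem exists_Theta : ∃ Θ : Finset (G → ℂ), Θ.card = (H₀.relIndex W₂ - 1) ^ 𝐨(W₁) ∧
    ∀ θ ∈ Θ, θ ∈ irrKer (MF M) H₀ ∧ ∀ w ∈ W₁, ¬ H₁ ^ᵍ w ≤ cfKer θ := by
  classical
  haveI := Fintype.ofFinite W₁
  have h1 := card_filter_comp h hn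
    (fun w => (irrKer (H₁ ^ᵍ (w : G)) H₀).erase (cf1 (H₁ ^ᵍ (w : G)))) fun w =>
      Finset.erase_subset _ _
  rw [Finset.prod_congr rfl fun w _ => card_erase_w h hn w.2, Finset.prod_const,
    Finset.card_univ, ← Nat.card_eq_fintype_card] at h1
  refine ⟨_, h1, fun θ hθ => ?_⟩
  obtain ⟨a1, a2⟩ := Finset.mem_filter.1 hθ
  exact ⟨a1, fun w hw e => (Finset.mem_erase.1 (a2 ⟨w, hw⟩)).1
    ((res_eq_cf1_iff (leHw h hn hw) (isLin h a1)).2 e)⟩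

theorem exists_Theta1 : ∃ Θ : Finset (G → ℂ), Θ.card = H₀.relIndex W₂ - 1 ∧
    ∀ θ ∈ Θ, θ ∈ irrKer (MF M) H₀ ∧ ¬ H₁ ≤ cfKer θ ∧ ∀ w ∈ W₁, w ≠ 1 → H₁ ^ᵍ w ≤ cfKer θ := by
  classical
  haveI := Fintype.ofFinite W₁
  have h1 := card_filter_comp h hn
    (fun w => if w = 1 then (irrKer (H₁ ^ᵍ (w : G)) H₀).erase (cf1 (H₁ ^ᵍ (w : G)))
      else {cf1 (H₁ ^ᵍ (w : G))}) fun w => by
      split_ifs
      · exact Finset.erase_subset _ _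
      · exact Finset.singleton_subset_iff.2 (cf1_mem_irrKer (le0w h hn w.2))
  rw [Finset.prod_eq_single 1 (fun w _ hw => by rw [if_neg hw, Finset.card_singleton])
    (fun hw => (hw (Finset.mem_univ _)).elim), if_pos rfl, card_erase_w h hn (1 : W₁).2] at h1
  refine ⟨_, h1, fun θ hθ => ?_⟩
  obtain ⟨a1, a2⟩ := Finset.mem_filter.1 hθ
  refine ⟨a1, fun e => ?_, fun w hw hw1 => ?_⟩
  · have := a2 1
    rw [if_pos rfl] at this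
    refine (Finset.mem_erase.1 this).1
      ((res_eq_cf1_iff (leHw h hn (1 : W₁).2) (isLin h a1)).2 ?_)
    rwa [OneMemClass.coe_one, conj_one]
  · have := a2 ⟨w, hw⟩
    rw [if_neg fun e => hw1 (congrArg Subtype.val e), Finset.mem_singleton] at this
    exact (res_eq_cf1_iff (leHw h hn hw) (isLin h a1)).1 this

theorem exists_irr_indHC : ∃ χ ∈ Irr M, IsIndHC M U W₁ H₀ χ := by
  classical
  by_contra hc
  push Not at hc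
  obtain ⟨Θ, hΘ, hm⟩ := exists_Theta h hn
  have hex : ∀ θ : G → ℂ, ∃ ξ, θ ∈ Θ → IsLin (MF M ⊔ fcC M U H₀) ξ ∧ res (MF M) ξ = θ ∧
      fcC M U H₀ ≤ cfKer ξ := fun θ => by
    by_cases hθ : θ ∈ Θ
    · obtain ⟨ξ, hξ⟩ := exists_ext h (hm θ hθ).1 (leC h) (C_le_inertia h (hm θ hθ).1)
      exact ⟨ξ, fun _ => hξ⟩
    · exact ⟨0, fun e => (hθ e).elim⟩
  choose ξ hξ using hex
  have hK := h.normal_facts.2.2.2.2.1.2
  have hI : ∀ θ ∈ Θ, ⁅M, M⁆ ⊓ inertia θ = MF M ⊔ fcC M U H₀ := fun θ hθ =>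
    D_inertia h (hm θ hθ).1 (inertia_le_C h hn (hm θ hθ).1 (hm θ hθ).2)
  have hχ : ∀ θ ∈ Θ, ind ⁅M, M⁆ (MF M ⊔ fcC M U H₀) (ξ θ) ∈
      irrKerD ⁅M, M⁆ (MF M) (H₀ ⊔ fcC M U H₀) := fun θ hθ => by
    obtain ⟨a1, a2, a3⟩ := hξ θ hθ
    refine ind_mem_irrKerD (nH h) le_sup_left (leHC h) a1 (fun e => ?_)
      (by rw [a2]; exact (hI θ hθ).le) ((der_le M).trans hK) (sup_le ?_ a3)
    · refine (hm θ hθ).2 1 W₁.one_mem ((leHw h hn W₁.one_mem).trans ?_)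
      rw [← a2]; exact le_cfKer_res le_rfl e
    · rw [← a1.isChar.le_cfKer_res_iff (le0 h) le_sup_left, a2]
      exact (mem_irrKer.1 (hm θ hθ).1).2
  let F : (G → ℂ) → G → ℂ := fun θ => ind M ⁅M, M⁆ (ind ⁅M, M⁆ (MF M ⊔ fcC M U H₀) (ξ θ))
  have hS : ∀ θ ∈ Θ, F θ ∈ S9 M (H₀ ⊔ fcC M U H₀) := fun θ hθ => mem_seqIndD.2 ⟨_, hχ θ hθ, rfl⟩
  have hr : ∀ θ ∈ Θ, F θ ∉ Irr M := fun θ hθ hi => by
    refine hc _ hi ⟨?_, hS θ hθ, ξ θ, (hξ θ hθ).1, ind_ind (der_le M) (leHC h) _⟩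
    simp only [F]
    rw [ind_ind (der_le M) (leHC h)]
    exact dg_indHC h (hξ θ hθ).1
  have h1 : Θ.card ≤ (fcC M U H₀).relIndex U * (Θ.image F).card := by
    refine Finset.card_le_mul_card_image Θ _ fun φ hφ => ?_
    obtain ⟨θ, hθ, rfl⟩ := Finset.mem_image.1 hφ
    have b1 := (mem_irrKerD.1 (hχ θ hθ)).1
    have b2 : ∀ θ ∈ Θ, θ ∈ constt (MF M)
        (res (MF M) (ind ⁅M, M⁆ (MF M ⊔ fcC M U H₀) (ξ θ))) := fun θ hθ => by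
      have := res_mem_constt_res_ind le_sup_left (leHC h) (hξ θ hθ).1
        (mem_irrKerD.1 (hχ θ hθ)).1
      rwa [(hξ θ hθ).2.1] at this
    rw [← h.normal_facts.2.2.2.2.2.2.2.2.2.2.1, ← hI θ hθ, inf_relIndex_left, ← card_cfClass,
      ← constt_res_eq_cfClass (nH h) b1 (b2 θ hθ)]
    refine Finset.card_le_card fun θ' hθ' => ?_
    obtain ⟨c1, c2⟩ := Finset.mem_filter.1 hθ'
    have c3 := (ind_eq_ind_iff (nD h) b1 (mem_irrKerD.1 (hχ θ' c1)).1).1 c2.symm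
    rw [cfClass_eq_singleton (le_inertia_of_not_irr (nD h) (primeD h) b1 (hr θ hθ)),
      Finset.mem_singleton] at c3
    rw [← c3]
    exact b2 θ' c1
  have h2 : (Θ.image F).card ≤ H₀.relIndex W₂ - 1 := by
    rw [← nb_redC h, ← Set.ncard_coe_finset]
    refine Set.ncard_le_ncard (fun φ hφ => ?_)
      ((Finset.finite_toSet (S9 M (H₀ ⊔ fcC M U H₀))).subset fun φ hφ => hφ.1)
    obtain ⟨θ, hθ, rfl⟩ := Finset.mem_image.1 hφ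
    exact ⟨hS θ hθ, hr θ hθ⟩
  have hp := h.factor_facts.2.1
  have hq := h.factor_facts.1.one_lt
  have ha := hn.one_lt
  have h3 := Nat.le_of_dvd (pow_pos (by omega) _) hn.u_dvd
  have h4 : a < H₀.relIndex W₂ - 1 := by
    refine lt_of_le_of_ne (Nat.le_of_dvd (by have := hp.one_lt; omega) hn.dvd) fun e => ?_
    have o1 : Odd a := hn.a_eq ▸ odd_relIndex _ _
    have o2 := odd_relIndex H₀ W₂
    obtain ⟨k, hk⟩ := o1
    obtain ⟨l, hl⟩ := o2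
    omega
  have h5 := Nat.pow_lt_pow_left h4 (n := 𝐨(W₁) - 1) (by omega)
  have h6 : (H₀.relIndex W₂ - 1) ^ 𝐨(W₁) =
      (H₀.relIndex W₂ - 1) ^ (𝐨(W₁) - 1) * (H₀.relIndex W₂ - 1) := by
    rw [← pow_succ]; congr 1; omega
  have h7 := (h1.trans (Nat.mul_le_mul h3 h2)).trans_lt
    (Nat.mul_lt_mul_of_pos_right h5 (by omega))
  rw [hΘ, h6] at h7
  exact lt_irrefl _ h7

theorem T_le_inertia {θ : G → ℂ} (hθ : θ ∈ irrKer (MF M) H₀)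
    (hk : ∀ w ∈ W₁, w ≠ 1 → H₁ ^ᵍ w ≤ cfKer θ) : U ⊓ centMod H₁ H₀ ≤ inertia θ := by
  intro t ht
  have hl := isLin h hθ
  refine mem_inertia.2 (lin_ext (hl.cfConj_of_norm ((MF_normal M).2 (leU h ht.1))) hl hn.sup
    fun w hw x hx => ?_)
  rw [cfConj_apply]
  by_cases hw1 : w = 1
  · rw [hw1, conj_one] at hx
    exact conj_eq_of_centMod hl.mem_CF (mem_irrKer.1 hθ).2 ht.2 hx
  · have h1 := (mem_normalizer_iff.1 (inv_mem (normUw h hn hw ht.1)) x).1 hx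
    rw [inv_inv] at h1
    rw [apply_of_mem_cfKer (hk w hw hw1 h1), apply_of_mem_cfKer (hk w hw hw1 hx)]

theorem mem_D_of_conj {θ : G → ℂ} (hk : ∀ w ∈ W₁, w ≠ 1 → H₁ ^ᵍ w ≤ cfKer θ) {g : G}
    (hg : g ∈ M) (h1 : ¬ H₁ ≤ cfKer (cfConj g θ)) : g ∈ ⁅M, M⁆ := by
  obtain ⟨d, hd, w, hw, rfl⟩ := h.typeP.sdM.mem_iff.1 hg
  by_cases hw1 : w = 1
  · rwa [hw1, mul_one]
  · refine (h1 ?_).elim
    have h2 := conj_mono (hk w⁻¹ (inv_mem hw) (inv_ne_one.2 hw1)) (d * w)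
    have h3 := conj_eq_of_mem_norm (normDw h hn W₁.one_mem hd)
    rw [conj_one] at h3
    rwa [conj_conj, mul_inv_cancel_right, h3, ← cfKer_cfConj] at h2

theorem count_irr_qa : (H₀.relIndex W₂ - 1) * ⁅U, U⁆.relIndex (U ⊓ centMod H₁ H₀) ≤
    a * {ζ : G → ℂ | ζ ∈ S9 M (H₀ ⊔ ⁅U, U⁆) ∧ ζ ∈ Irr M ∧ dg ζ = 𝐨(W₁) * a}.ncard := by
  classical
  set T := U ⊓ centMod H₁ H₀ with hT
  have hTU : T ≤ U := inf_le_left
  have hU' : ⁅U, U⁆ ≤ T := hn.cyc.der_le (H1.le_normalizer_inf le_normalizer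
    (norm_le_norm_centMod hn.norm ((leU h).trans (n0 h).2))) hTU
  have hTD : MF M ⊔ T ≤ ⁅M, M⁆ := sup_le (nH h).1 (hTU.trans h.typeP.sdD.le_right)
  have hTM := hTD.trans (der_le M)
  have hsd := sdProd_sub h.typeP.sdD hTU
  obtain ⟨Θ, hΘ, hm⟩ := exists_Theta1 h hn
  have hI0 : ∀ θ ∈ Θ, U ⊓ inertia θ = T := fun θ hθ => by
    refine le_antisymm (le_inf inf_le_left ?_) (le_inf hTU (T_le_inertia h hn (hm θ hθ).1 (hm θ hθ).2.2))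
    have := inertia_le_w h hn (hm θ hθ).1 W₁.one_mem (by rw [conj_one]; exact (hm θ hθ).2.1)
    rwa [conj_one] at this
  have hI1 : ∀ θ ∈ Θ, ⁅M, M⁆ ⊓ inertia θ = MF M ⊔ T := fun θ hθ => by
    rw [inf_inertia h.typeP.sdD (irr_mem_CF (mem_irrKer.1 (hm θ hθ).1).1), hI0 θ hθ]
  have hI2 : ∀ θ ∈ Θ, M ⊓ inertia θ = MF M ⊔ T := fun θ hθ => by
    rw [← hI1 θ hθ]
    refine le_antisymm (fun g hg => ⟨mem_D_of_conj h hn (hm θ hθ).2.2 hg.1 ?_, hg.2⟩)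
      (inf_le_inf_right _ (der_le M))
    rw [mem_inertia.1 hg.2]; exact (hm θ hθ).2.1
  have hex : ∀ θ : G → ℂ, ∃ ξ, θ ∈ Θ → IsLin (MF M ⊔ T) ξ ∧ res (MF M) ξ = θ ∧
      T ≤ cfKer ξ := fun θ => by
    by_cases hθ : θ ∈ Θ
    · obtain ⟨ξ, hξ⟩ := exists_ext h (hm θ hθ).1 hTU ((hI0 θ hθ).ge.trans inf_le_right)
      exact ⟨ξ, fun _ => hξ⟩
    · exact ⟨0, fun e => (hθ e).elim⟩
  choose ξ hξ using hex
  have hex : ∀ l : G → ℂ, ∃ μ, l ∈ irrKer T ⁅U, U⁆ → IsLin (MF M ⊔ T) μ ∧ MF M ≤ cfKer μ ∧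
      res T μ = l := fun l => by
    by_cases hl : l ∈ irrKer T ⁅U, U⁆
    · obtain ⟨μ, a1, a2⟩ := hsd.exists_irrKer_res (mem_irrKer.1 hl).1
      refine ⟨μ, fun _ => ⟨(irr_isChar (mem_irrKer.1 a1).1).isLin ?_, (mem_irrKer.1 a1).2, a2⟩⟩
      rw [← res_one T μ, a2]
      exact (isLin_of_mem_irrKer (commutator_mono hTU hTU) hl).2.1
    · exact ⟨0, fun e => (hl e).elim⟩
  choose μ hμ using hex
  let P := Θ ×ˢ irrKer T ⁅U, U⁆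
  let ψ : (G → ℂ) × (G → ℂ) → G → ℂ := fun x => ξ x.1 * μ x.2
  have hψ : ∀ x ∈ P, IsLin (MF M ⊔ T) (ψ x) ∧ res (MF M) (ψ x) = x.1 ∧ res T (ψ x) = x.2 := by
    intro x hx
    obtain ⟨a1, a2⟩ := Finset.mem_product.1 hx
    obtain ⟨b1, b2, b3⟩ := hξ _ a1
    obtain ⟨c1, c2, c3⟩ := hμ _ a2
    refine ⟨b1.mul c1, ?_, ?_⟩
    · rw [res_mul, b2, (res_eq_cf1_iff le_sup_left c1).2 c2,
        mul_cf1 (irr_mem_CF (mem_irrKer.1 (hm _ a1).1).1)]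
    · rw [res_mul, c3, (res_eq_cf1_iff le_sup_right b1).2 b3,
        cf1_mul (irr_mem_CF (mem_irrKer.1 a2).1)]
  let F : (G → ℂ) × (G → ℂ) → G → ℂ := fun x => ind M (MF M ⊔ T) (ψ x)
  have hF : ∀ x ∈ P, F x ∈ Irr M := fun x hx =>
    ind_mem_Irr_of_inertia_le (MF_normal M) le_sup_left hTM (hψ x hx).1.mem_Irr
      (self_mem_constt ((hψ x hx).1.res le_sup_left).mem_Irr)
      (by rw [(hψ x hx).2.1]; exact (hI2 _ (Finset.mem_product.1 hx).1).le)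
  have hc : ∀ x ∈ P, x.1 ∈ constt (MF M) (res (MF M) (F x)) := fun x hx => by
    have := res_mem_constt_res_ind le_sup_left hTM (hψ x hx).1 (hF x hx)
    rwa [(hψ x hx).2.1] at this
  have ha : T.relIndex U = a := by rw [hn.a_eq, hT, inf_relIndex_left]
  have h1 : P.card ≤ a * (P.image F).card := by
    refine Finset.card_le_mul_card_image P _ fun φ hφ => ?_
    obtain ⟨x, hx, rfl⟩ := Finset.mem_image.1 hφ
    have hx1 := (Finset.mem_product.1 hx).1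
    rw [← ha, ← relIndex_sd_sup h.typeP.sdD hTU, ← hI1 _ hx1, inf_relIndex_left, ← card_cfClass]
    refine Finset.card_le_card_of_injOn Prod.fst (fun y hy => ?_) fun y hy z hz e => ?_
    · obtain ⟨c1, c2⟩ := Finset.mem_filter.1 hy
      have c3 := hc y c1
      rw [c2, constt_res_eq_cfClass (MF_normal M) (hF x hx) (hc x hx)] at c3
      obtain ⟨g, hg, e⟩ := mem_cfClass.1 c3
      refine Finset.mem_coe.2 (mem_cfClass.2 ⟨g, mem_D_of_conj h hn (hm _ hx1).2.2 hg ?_, e⟩)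
      rw [e]; exact (hm _ (Finset.mem_product.1 c1).1).2.1
    · obtain ⟨c1, c2⟩ := Finset.mem_filter.1 hy
      obtain ⟨d1, d2⟩ := Finset.mem_filter.1 hz
      have hy1 := (Finset.mem_product.1 c1).1
      have hθ := (mem_irrKer.1 (hm _ hy1).1).1
      have hinj := (clifford_corr (MF_normal M) hθ).1.injOn
      rw [hI2 _ hy1] at hinj
      have hmem : ∀ z ∈ P, z.1 = y.1 → ψ z ∈ constt (MF M ⊔ T) (ind (MF M ⊔ T) (MF M) y.1) :=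
        fun z hz e => (mem_constt_ind_iff le_sup_left hθ (hψ z hz).1.mem_Irr).2 (by
          rw [(hψ z hz).2.1, e]; exact self_mem_constt hθ)
      have e2 := hinj (hmem y c1 rfl) (hmem z d1 e.symm) (c2.trans d2.symm)
      refine Prod.ext e ?_
      rw [← (hψ y c1).2.2, ← (hψ z d1).2.2, e2]
  rw [Finset.card_product, hΘ, card_irrKer_of_der_le (commutator_mono hTU hTU) hU'] at h1
  refine h1.trans (Nat.mul_le_mul_left _ ?_)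
  rw [← Set.ncard_coe_finset]
  refine Set.ncard_le_ncard (fun φ hφ => ?_)
    ((Finset.finite_toSet (Irr M)).subset fun φ hφ => hφ.2.1)
  obtain ⟨x, hx, rfl⟩ := Finset.mem_image.1 hφ
  obtain ⟨a1, a2⟩ := Finset.mem_product.1 hx
  obtain ⟨b1, b2, b3⟩ := hψ x hx
  refine ⟨mem_seqIndD.2 ⟨ind ⁅M, M⁆ (MF M ⊔ T) (ψ x), ?_, ind_ind (der_le M) hTD _⟩, hF x hx, ?_⟩
  · refine ind_mem_irrKerD (nH h) le_sup_left hTD b1 (fun e => (hm _ a1).2.1 (hn.le.trans ?_))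
      (by rw [b2]; exact (hI1 _ a1).le) ((der_le M).trans h.normal_facts.2.2.2.2.2.2.1.2)
      (sup_le ?_ ?_)
    · rw [← b2]; exact le_cfKer_res le_rfl e
    · rw [← b1.isChar.le_cfKer_res_iff (le0 h) le_sup_left, b2]
      exact (mem_irrKer.1 (hm _ a1).1).2
    · rw [← b1.isChar.le_cfKer_res_iff hU' le_sup_right, b3]
      exact (mem_irrKer.1 a2).2
  · simp only [F]
    rw [b1.isChar.dg_ind hTM, b1.dg, mul_one, ← relIndex_mul_relIndex _ _ _ hTD (der_le M),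
      relIndex_sd_sup h.typeP.sdD hTU, ha, h.typeP.sdM.relIndex_left, mul_comm]

end PF09b

/-- PF (9.8)(a),(c),(d). -/
theorem Hyp9.nonGalois_characters (h : Hyp9 M U W₁ W₂ W H₀) {H₁ : Subgroup G} {a : ℕ}
    (hn : NonGalois M U W₁ W₂ H₀ H₁ a) :
    (∀ θ ∈ irrKerD ⁅M, M⁆ (MF M) H₀, a ∣ dg θ) ∧
      (∃ χ ∈ Irr M, IsIndHC M U W₁ H₀ χ) ∧
      a ^ 2 * 𝐨(⁅U, U⁆) ∣ (H₀.relIndex W₂ - 1) * 𝐨(U) ∧
      (H₀.relIndex W₂ - 1) * 𝐨(U) / (a ^ 2 * 𝐨(⁅U, U⁆)) ≤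
        {ζ : G → ℂ | ζ ∈ S9 M (H₀ ⊔ ⁅U, U⁆) ∧ ζ ∈ Irr M ∧ dg ζ = 𝐨(W₁) * a}.ncard := by
  have hTU : U ⊓ centMod H₁ H₀ ≤ U := inf_le_left
  have hU' : ⁅U, U⁆ ≤ U ⊓ centMod H₁ H₀ := hn.cyc.der_le (H1.le_normalizer_inf le_normalizer
    (norm_le_norm_centMod hn.norm ((leU h).trans (n0 h).2))) hTU
  have h1 := count_irr_qa h hn
  have h2 := H1.card_mul_relIndex (der_le U)
  rw [← relIndex_mul_relIndex _ _ _ hU' hTU, inf_relIndex_left, ← hn.a_eq] at h2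
  obtain ⟨b, hb⟩ := hn.dvd
  have ha := hn.one_lt
  have h3 : (H₀.relIndex W₂ - 1) * 𝐨(U) =
      a ^ 2 * 𝐨(⁅U, U⁆) * (b * ⁅U, U⁆.relIndex (U ⊓ centMod H₁ H₀)) := by
    rw [hb, ← h2]; ring
  refine ⟨fun θ hθ => dvd_dg h hn hθ, exists_irr_indHC h hn, ⟨_, h3⟩, ?_⟩
  rw [h3, Nat.mul_div_cancel_left _ (Nat.mul_pos (pow_pos (by omega) _) Nat.card_pos)]
  rw [hb, mul_assoc] at h1
  exact Nat.le_of_mul_le_mul_left h1 (by omega)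

/-- PF (9.10). -/
theorem Hyp9.reducible_core_cases (h : Hyp9 M U W₁ W₂ W H₀) :
    (∃ χ ∈ S9 M (H₀ ⊔ ⁅fcC M U H₀, fcC M U H₀⁆), χ ∈ Irr M ∧
        dg χ = 𝐨(W₁) * (fcC M U H₀).relIndex U ∧
        ∃ ξ, IsLin (MF M ⊔ fcC M U H₀) ξ ∧ χ = ind M (MF M ⊔ fcC M U H₀) ξ) ∨
      (GaloisP M U H₀ ∧ fcC M U H₀ = ⊥ ∧ FrobKerMod ⁅M, M⁆ (MF M) H₀ ∧ IsCyclic U ∧
        𝐨(U) = (H₀.relIndex W₂ ^ 𝐨(W₁) - 1) / (H₀.relIndex W₂ - 1) ∧
        (ftType M = 2 → Frob (MF M) U)) := by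
  by_cases hg : GaloisP M U H₀
  · obtain ⟨-, h2, h3⟩ := h.galois_characters hg
    by_cases hr : ∀ φ ∈ S9 M (H₀ ⊔ ⁅fcC M U H₀, fcC M U H₀⁆), φ ∉ Irr M
    · right
      obtain ⟨a1, a2, a3⟩ := h3 hr
      have hc : IsCyclic U := by
        rw [← cycMod_bot_iff, ← a1]; exact (h.galois_facts hg).1
      refine ⟨hg, a1, a3, hc, a2, fun h2 => ?_⟩
      have hII := (h.typeP.ofTypeII_iff h.max).2 h2
      rw [← hII.derF]
      exact hII.typeF.context.2.1 inferInstance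
    · left
      push Not at hr
      obtain ⟨φ, hφ, hi⟩ := hr
      obtain ⟨χ, hχ, rfl⟩ := mem_seqIndD.1 hφ
      obtain ⟨-, ξ, hξ, rfl⟩ := h2 χ hχ
      rw [ind_ind (der_le M) (leHC h)] at hφ hi
      exact ⟨_, hφ, hi, dg_indHC h hξ, ξ, hξ, rfl⟩
  · left
    obtain ⟨H₁, a, hn⟩ := h.nonGalois hg
    obtain ⟨χ, h1, h2⟩ := exists_irr_indHC h hn
    exact ⟨χ, seqIndD_mono _ _ le_rfl (sup_le_sup_left (der_le _) _) h2.mem, h1, h2.deg, h2.lin⟩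

end Cfsg.Agent.FT
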