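/-
PF (9.11), auxiliary results.
-/
import Cfsg.Agent.FT.PF09b

set_option autoImplicit false
set_option linter.unusedSectionVars false
set_option linter.unusedVariables false

namespace Cfsg.Agent.FT

open Subgroup Cfsg Cfsg.Agent
open scoped commutatorElement ComplexConjugate

universe u

variable {G : Type u} [Group G] [Finite G]

namespace PF09c

theorem relIndex_pos (A B : Subgroup G) : 0 < A.relIndex B :=
  Nat.pos_of_ne_zero FiniteIndex.index_ne_zero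

theorem relIndex_sd {K H M X : Subgroup G} (h : SdProd K H M) (hX : K ≤ X) :
    X.relIndex M = X.relIndex H := by
  have h1 := H1.card_inf_mul_relIndex X M
  have h2 := H1.card_inf_mul_relIndex X H
  rw [inf_comm, (h.inf_of_le_left hX).card, h.card, ← h2, inf_comm X H, mul_assoc] at h1
  exact Nat.eq_of_mul_eq_mul_left Nat.card_pos (Nat.eq_of_mul_eq_mul_left Nat.card_pos h1)

theorem centMod_conj (U : Subgroup G) {V : Subgroup G} {g : G} (hg : g ∈ 𝐍(V)) :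
    centMod (U ^ᵍ g) V = centMod U V ^ᵍ g := by
  have key : ∀ (U : Subgroup G) (g : G), g ∈ 𝐍(V) → centMod U V ^ᵍ g ≤ centMod (U ^ᵍ g) V := by
    intro U g hg
    have := le_centMod_iff.1 (le_refl (centMod U V))
    rw [le_centMod_iff, ← conj_comm]
    exact ⟨conj_le_of_mem this.1 hg, conj_le_of_mem_norm this.2 hg⟩
  refine le_antisymm ?_ (key U g hg)
  rw [le_conj_iff]
  have := key (U ^ᵍ g) g⁻¹ (inv_mem hg)
  rwa [conj_conj_inv] at this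

theorem relIndex_finset_sup_le {ι : Type*} {H₀ H : Subgroup G} (h0 : H₀ ≤ H) (hd : ⁅H, H⁆ ≤ H₀)
    (K : ι → Subgroup G) {p : ℕ} (s : Finset ι)
    (hK : ∀ i ∈ s, K i ≤ H ∧ H₀.relIndex (K i) ≤ p) :
    H₀.relIndex (H₀ ⊔ s.sup K) ≤ p ^ s.card := by
  classical
  induction s using Finset.induction_on with
  | empty => simp
  | insert i s hi ih =>
    have ih' := ih fun j hj => hK j (Finset.mem_insert_of_mem hj)
    have h1 : H₀ ⊔ s.sup K ≤ H :=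
      sup_le h0 (Finset.sup_le fun j hj => (hK j (Finset.mem_insert_of_mem hj)).1)
    have h2 := hK i (Finset.mem_insert_self i s)
    rw [Finset.sup_insert, sup_comm (K i), ← sup_assoc, Finset.card_insert_of_notMem hi,
      ← relIndex_mul_relIndex H₀ (H₀ ⊔ s.sup K) _ le_sup_left le_sup_left,
      relIndex_sup_of_norm (h2.1.trans (le_norm_of_der_le (hd.trans le_sup_left) h1)), pow_succ]
    exact Nat.mul_le_mul ih' ((relIndex_le_of_le_left le_sup_left (relIndex_pos _ _).ne').trans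
      h2.2)

theorem exists_lin_two {H K A B : Subgroup G} (hK : K ≤ H) (hd : ⁅H, H⁆ ≤ K) (hA : ¬ A ≤ K)
    (hB : ¬ B ≤ K) : ∃ θ, IsLin H θ ∧ K ≤ cfKer θ ∧ ¬ A ≤ cfKer θ ∧ ¬ B ≤ cfKer θ := by
  have hn : K ⊲ H := ⟨hK, le_norm_of_der_le hd hK⟩
  obtain ⟨θ₁, h1⟩ := irrKerD_nonempty hn hA
  obtain ⟨θ₂, h2⟩ := irrKerD_nonempty hn hB
  rw [mem_irrKerD] at h1 h2
  have l1 := isLin_of_der_le_cfKer h1.1 (hd.trans h1.2.1)
  have l2 := isLin_of_der_le_cfKer h2.1 (hd.trans h2.2.1)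
  by_cases c1 : B ≤ cfKer θ₁
  · by_cases c2 : A ≤ cfKer θ₂
    · refine ⟨θ₁ * θ₂, l1.mul l2, (le_inf h1.2.1 h2.2.1).trans (inf_cfKer_le_mul _ _),
        fun e => h1.2.2 fun x hx => ?_, fun e => h2.2.2 fun x hx => ?_⟩
      · have := (l1.mul l2).mem_cfKer_iff.1 (e hx)
        rw [Pi.mul_apply, l2.mem_cfKer_iff.1 (c2 hx), mul_one] at this
        exact l1.mem_cfKer_iff.2 this
      · have := (l1.mul l2).mem_cfKer_iff.1 (e hx)
        rw [Pi.mul_apply, l1.mem_cfKer_iff.1 (c1 hx), one_mul] at this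
        exact l2.mem_cfKer_iff.2 this
    · exact ⟨θ₂, l2, h2.2.1, c2, h2.2.2⟩
  · exact ⟨θ₁, l1, h1.2.1, h1.2.2, c1⟩

theorem lin_mem_inertia_iff {H : Subgroup G} {θ : G → ℂ} (h : IsLin H θ) {g : G} (hg : g ∈ 𝐍(H)) :
    g ∈ inertia θ ↔ ∀ x ∈ H, ⁅x, g⁆ ∈ cfKer θ := by
  have e : ∀ x ∈ H, θ ⁅x, g⁆ = θ x * θ (g * x⁻¹ * g⁻¹) := fun x hx => by
    rw [← h.2.2 x hx _ ((mem_normalizer_iff.1 hg _).1 (inv_mem hx))]
    congr 1; group
  rw [← inv_mem_iff]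
  constructor
  · intro hi x hx
    have := hi x⁻¹
    rw [inv_inv] at this
    rw [h.mem_cfKer_iff, e x hx, this, h.mul_inv hx]
  · intro hi y
    rw [inv_inv]
    by_cases hy : y ∈ H
    · have h1 := h.mem_cfKer_iff.1 (hi y⁻¹ (inv_mem hy))
      rw [e _ (inv_mem hy), inv_inv] at h1
      have h2 := h.mul_inv hy
      rw [← one_mul (θ (g * y * g⁻¹)), ← h2, mul_assoc, h1, mul_one]
    · rw [h.1 y hy, h.1 _ fun h1 => hy ((mem_normalizer_iff.1 hg _).2 h1)]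

theorem exists_cent_of_comm_mem {H H₀ : Subgroup G} (h0 : H₀ ≤ H) {x y : G} (hx0 : x ∈ 𝐍(H₀))
    (hy : y ∈ H) (hy0 : y ∉ H₀) (hc : ⁅y, x⁆ ∈ H₀) : ∃ k ∈ H, k ≠ 1 ∧ x ∈ 𝐂[k] := by
  by_contra hn
  push Not at hn
  have inj : ∀ a ∈ H, ∀ b ∈ H, ⁅a, x⁆ = ⁅b, x⁆ → a = b := by
    intro a ha b hb e
    by_contra hne
    refine hn (b⁻¹ * a) (mul_mem (inv_mem hb) ha) (fun e1 => hne (inv_mul_eq_one.1 e1).symm) ?_
    rw [mem_cent1]
    calc b⁻¹ * a * x = b⁻¹ * ⁅a, x⁆ * x * a := by group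
      _ = x * (b⁻¹ * a) := by rw [e]; group
  let f : H₀ → H₀ := fun a => ⟨⁅(a : G), x⁆, by
    have := mul_mem a.2 ((mem_normalizer_iff.1 hx0 _).1 (inv_mem a.2))
    rwa [show (a : G) * (x * (a : G)⁻¹ * x⁻¹) = ⁅(a : G), x⁆ by group] at this⟩
  have hf : Function.Injective f := fun a b e =>
    Subtype.ext (inj _ (h0 a.2) _ (h0 b.2) (congrArg Subtype.val e))
  obtain ⟨a, ha⟩ := Finite.surjective_of_injective hf ⟨_, hc⟩
  exact hy0 (inj _ (h0 a.2) _ hy (congrArg Subtype.val ha) ▸ a.2)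

open Classical in
theorem proj_idx {ι : Type*} {H : Subgroup G} (s : Finset ι) (f : ι → G → ℂ)
    (hf : ∀ i ∈ s, ∀ j ∈ s, ip H (f i) (f j) = if i = j then 1 else 0) (φ : G → ℂ) :
    nsq H φ = ∑ i ∈ s, ‖ip H φ (f i)‖ ^ 2 + nsq H (φ - ∑ i ∈ s, ip H φ (f i) • f i) := by
  have inj : Set.InjOn f s := fun i hi j hj e => by
    by_contra hne
    have h1 := hf i hi j hj
    rw [if_neg hne, ← e, hf i hi i hi, if_pos rfl] at h1
    exact one_ne_zero h1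
  have hon : ON H (s.image f) := by
    refine ⟨fun α hα => ?_, fun α hα β hβ hne => ?_⟩
    · obtain ⟨i, hi, rfl⟩ := Finset.mem_image.1 hα
      rw [hf i hi i hi, if_pos rfl]
    · obtain ⟨i, hi, rfl⟩ := Finset.mem_image.1 hα
      obtain ⟨j, hj, rfl⟩ := Finset.mem_image.1 hβ
      rw [hf i hi j hj, if_neg fun e => hne (by rw [e])]
  have := hon.nsq_eq_proj φ
  rwa [Finset.sum_image inj, Finset.sum_image inj] at this

theorem nsq_ind_cf1 {L K W T : Subgroup G} (h : SdProd K W L) (hT : T ⊲ K) {c : ℕ}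
    (hc : ∀ w ∈ W, w ≠ 1 → 𝐨(T ⊓ T ^ᵍ w) = c) :
    nsq L (ind L T (cf1 T)) = T.relIndex K * (1 + (𝐨(W) - 1) * c / 𝐨(T)) := by
  apply nsq_eq_of_ip
  have hTL : T ≤ L := hT.1.trans h.le_left
  have h1 : ∀ y : G, ∑ x ∈ fs (T : Set G), res T (cf1 T) (y⁻¹ * x * y) = 𝐨(T ⊓ T ^ᵍ y) := by
    intro y
    rw [← sum_fs_subset (A := ((T ⊓ T ^ᵍ y : Subgroup G) : Set G)) (fun x hx => (mem_inf.1 hx).1),
      sum_fs_congr (g := fun _ => (1 : ℂ)), sum_fs_const, nsmul_eq_mul, mul_one]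
    · intro x hx
      have := mem_conj.1 (mem_inf.1 hx).2
      rw [res_of_mem _ this, cf1_of_mem this]
    · intro x hx hx'
      exact res_of_notMem _ fun h2 => hx' (mem_inf.2 ⟨hx, mem_conj.2 h2⟩)
  rw [ip_ind_right hTL (ind_mem_CF _ _ _), ip_cf1_right,
    sum_fs_congr fun x hx => ind_of_mem T (cf1 T) (hTL hx), ← Finset.mul_sum, Finset.sum_comm]
  simp_rw [h1]
  rw [PF02.sum_mul_disj (A := W) (B := K) (by rw [inf_comm, h.disj]) (S := (L : Set G))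
    (fun x => h.mem_iff'), sum_fs_congr (A := (W : Set G))
      (g := fun w => (𝐨(K) : ℂ) * 𝐨(T ⊓ T ^ᵍ w)) fun w _ => by
        rw [← nsmul_eq_mul, ← sum_fs_const]
        exact sum_fs_congr fun k hk => by rw [← conj_conj, conj_eq_of_mem_norm (hT.2 hk)],
    ← Finset.mul_sum, sum_fs_sharp, conj_one, inf_idem,
    sum_fs_congr (A := sharp W) (g := fun _ => (c : ℂ)) fun w hw => by rw [hc w hw.1 hw.2],
    Finset.sum_const, card_fs, ncard_sharp, nsmul_eq_mul, ← H1.card_mul_relIndex hT.1,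
    Nat.cast_sub Nat.card_pos]
  have := card_ne_zero_C T
  push_cast
  field_simp

theorem pow_bound (a : ℝ) (ha : 0 < a) {q : ℕ} (hq : 3 ≤ q) :
    1 + 2 * a * q + (q : ℝ) ^ 2 * a ^ 2 + (q + 2) * a ^ 3 < (2 * a + 1) ^ q := by
  induction q, hq using Nat.le_induction with
  | base => push_cast; nlinarith [pow_pos ha 2, pow_pos ha 3]
  | succ q hq ih =>
    have h3 : (3 : ℝ) ≤ q := by exact_mod_cast hq
    have h1 := mul_lt_mul_of_pos_right ih (show 0 < 2 * a + 1 by linarith)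
    rw [pow_succ (2 * a + 1)]
    refine lt_of_le_of_lt ?_ h1
    push_cast
    have h2 := pow_pos ha 2
    have h4 := pow_pos ha 3
    have h5 := pow_pos ha 4
    have : (1 + 2 * a * q + (q : ℝ) ^ 2 * a ^ 2 + (q + 2) * a ^ 3) * (2 * a + 1) -
        (1 + 2 * a * (q + 1) + (q + 1 : ℝ) ^ 2 * a ^ 2 + (q + 1 + 2) * a ^ 3) =
        (2 * q - 1) * a ^ 2 + (2 * (q : ℝ) ^ 2 - 1) * a ^ 3 + 2 * (q + 2) * a ^ 4 := by ring
    have h6 : 0 ≤ (2 * q - 1) * a ^ 2 := mul_nonneg (by linarith) h2.le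
    have h7 : 0 ≤ (2 * (q : ℝ) ^ 2 - 1) * a ^ 3 := mul_nonneg (by nlinarith) h4.le
    have h8 : 0 ≤ 2 * (q + 2) * a ^ 4 := mul_nonneg (by linarith) h5.le
    linarith

theorem num1 {a m c u k N d q : ℕ} {s : ℝ} (ha : 0 < a) (hu : 0 < u) (hq : 0 < q) (hm : 0 < m)
    (hc : 0 < c) (e : 2 * a * m * c * u = k * a ^ 2) (hk : k ≤ N)
    (h1 : (N : ℝ) * ((q * a : ℕ) : ℝ) ^ 2 ≤ s) (h2 : s ≤ 2 * (d : ℝ) * ((q * a : ℕ) : ℝ))
    (hd : d ≤ q * u) :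
    m = 1 ∧ c = 1 ∧ d = q * u ∧ N * a = 2 * u ∧ s = N * ((q * a : ℕ) : ℝ) ^ 2 := by
  have h3 : N * (q * a) ^ 2 ≤ 2 * d * (q * a) := by exact_mod_cast h1.trans h2
  have h4 : N * (q * a) ≤ 2 * d :=
    Nat.le_of_mul_le_mul_right (by rwa [mul_assoc, ← sq]) (Nat.mul_pos hq ha)
  have h5 : 2 * (m * c) * u = k * a :=
    Nat.eq_of_mul_eq_mul_right ha (by rw [mul_assoc k, ← sq, ← e]; ring)
  have h6 : N * a ≤ 2 * u := Nat.le_of_mul_le_mul_left (by nlinarith) hq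
  have h7 : k * a ≤ N * a := Nat.mul_le_mul_right a hk
  have h8 : m * c ≤ 1 := Nat.le_of_mul_le_mul_right (by nlinarith) (show 0 < 2 * u by omega)
  have h9 : m * c = 1 := le_antisymm h8 (Nat.mul_pos hm hc)
  have h10 : N * a = 2 * u := by rw [h9] at h5; omega
  have h11 : d = q * u := by nlinarith
  refine ⟨Nat.eq_one_of_mul_eq_one_right h9, Nat.eq_one_of_mul_eq_one_left h9, h11, h10,
    le_antisymm (h2.trans (le_of_eq ?_)) h1⟩
  have : 2 * d * (q * a) = N * (q * a) ^ 2 := by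
    calc 2 * d * (q * a) = (2 * u) * q * (q * a) := by rw [h11]; ring
      _ = _ := by rw [← h10]; ring
  exact_mod_cast this

theorem num5 {a u q n : ℕ} {s : ℝ} (ha : 0 < a) (hu : 0 < u) (hq : 3 ≤ q) (hua : u ≤ a ^ 2)
    (h1 : (q : ℝ) * u * ((2 * a + 1 : ℝ) ^ q - 1) ≤
      2 * u * a * (q : ℝ) ^ 2 + 2 * a * (q * (u : ℝ) ^ 2) + n * ((q : ℝ) * u) ^ 2)
    (hs : s = a * (1 + (q - 1) * a / u) + 1) : s < n := by
  by_contra hn
  push Not at hn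
  have ha' : (0 : ℝ) < a := by exact_mod_cast ha
  have hu' : (0 : ℝ) < u := by exact_mod_cast hu
  have hq' : (3 : ℝ) ≤ q := by exact_mod_cast hq
  have hua' : (u : ℝ) ≤ (a : ℝ) ^ 2 := by exact_mod_cast hua
  have h2 := pow_bound a ha' hq
  have h3 : (2 * a + 1 : ℝ) ^ q - 1 ≤ 2 * a * q + 2 * a * u + n * (q * u) := by
    refine le_of_mul_le_mul_left (h1.trans (le_of_eq ?_)) (show (0 : ℝ) < q * u by positivity)
    ring
  have h4 : (n : ℝ) * u ≤ (a + 1) * u + (q - 1) * (a : ℝ) ^ 2 := by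
    refine (mul_le_mul_of_nonneg_right hn hu'.le).trans (le_of_eq ?_)
    rw [hs]; field_simp; ring
  have h5 : (n : ℝ) * (q * u) ≤ q * ((a + 1) * (a : ℝ) ^ 2 + (q - 1) * (a : ℝ) ^ 2) := by
    rw [mul_left_comm]
    refine mul_le_mul_of_nonneg_left (h4.trans ?_) (by linarith)
    have := mul_le_mul_of_nonneg_left hua' (show (0 : ℝ) ≤ a + 1 by linarith)
    linarith
  have h6 := mul_le_mul_of_nonneg_left hua' (show (0 : ℝ) ≤ 2 * a by linarith)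
  nlinarith

/-- PF (9.11.6)-(9.11.8). -/
theorem final_step {L : Subgroup G} {S S₁ S₃ S₄ : Finset (G → ℂ)}
    {τ τ₁ τ₃ : (G → ℂ) →ₗ[ℂ] (G → ℂ)} {R : (G → ℂ) → Finset (G → ℂ)} (hS : Subcoherent L S τ R)
    (h₁ : ConjSub S₁ S) (h₃ : ConjSub S₃ S) (hd : Disjoint S₁ S₃) (c₁ : CohWith L S₁ τ τ₁)
    (c₃ : CohWith L S₃ τ τ₃) (i₁ : S₁ ⊆ Irr L) (h₄ : S₄ ⊆ S₃) (i₄ : S₄ ⊆ Irr L)
    {e : ℕ} (he : 2 ≤ e) (hc : S₁.card = 2 * e) {d : ℂ} (d₁ : ∀ ψ ∈ S₁, ψ 1 = d)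
    (d₃ : ∀ χ ∈ S₃, χ 1 = e * d) {ψ₁ α : G → ℂ} (hψ : ψ₁ ∈ S₁) (hv : τ α ∈ VChar ⊤)
    (hi : ∀ φ ∈ Zs0 S, ip ⊤ (τ α) (τ φ) = -ip L ψ₁ φ) (hn : nsq ⊤ (τ α) < S₄.card) :
    ∃ l ∈ S₄, Coherent L (insert l (insert (star l) S₁)) τ := by
  classical
  have hψi := i₁ hψ
  have o13 : ∀ ψ ∈ S₁, ∀ χ ∈ S₃, ip L ψ χ = 0 := fun ψ h1 χ h3 =>
    hS.orth ψ (h₁.1 h1) χ (h₃.1 h3) fun e => Finset.disjoint_left.1 hd h1 (e ▸ h3)
  have hne : S₄.Nonempty := by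
    rw [← Finset.card_pos]
    exact_mod_cast (nsq_nonneg _ _).trans_lt hn
  obtain ⟨l, hl⟩ := hne
  have hl3 := h₄ hl
  have hl3' := h₃.2 l hl3
  have hli := i₄ hl
  -- (9.11.6)
  have k1 : ∀ χ ∈ S₃, ip ⊤ (τ α) (τ₃ χ) = ip ⊤ (τ α) (τ₃ l) := by
    intro χ hχ
    have h0 : χ - l ∈ Zs0 S₃ :=
      sub_mem_Zs0 (mem_Zs_of_mem hχ) (mem_Zs_of_mem hl3) (by rw [d₃ χ hχ, d₃ l hl3])
    have := hi _ (Zs0_mono h₃.1 h0)
    rw [← c₃.agree _ h0, map_sub, ip_sub_right, ip_sub_right, o13 _ hψ _ hχ, o13 _ hψ _ hl3] at this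
    exact sub_eq_zero.1 (by rw [this]; simp)
  have k2 : ∀ χ ∈ S₃, ip ⊤ (τ α) (τ₃ χ) = 0 := by
    obtain ⟨z, hz⟩ := vchar_ip_int hv (c₃.vchar l (mem_Zs_of_mem hl3))
    have h1 := proj_idx (H := ⊤) S₄ τ₃ (fun i hi j hj => by
      rw [c₃.iso i (mem_Zs_of_mem (h₄ hi)) j (mem_Zs_of_mem (h₄ hj)), ip_irr (i₄ hi) (i₄ hj)]) (τ α)
    rw [Finset.sum_congr rfl (g := fun _ => (z : ℝ) ^ 2) fun i hi => by
      rw [k1 i (h₄ hi), hz, Complex.norm_intCast, sq_abs], Finset.sum_const, nsmul_eq_mul] at h1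
    have h2 := nsq_nonneg ⊤ (τ α - ∑ i ∈ S₄, ip ⊤ (τ α) (τ₃ i) • τ₃ i)
    have h3 : z = 0 := by
      by_contra h3
      have h4 : (1 : ℝ) ≤ (z : ℝ) ^ 2 := by exact_mod_cast (one_le_sq_iff_one_le_abs z).2 (Int.one_le_abs h3)
      have := mul_le_mul_of_nonneg_left h4 (Nat.cast_nonneg (α := ℝ) S₄.card)
      linarith
    intro χ hχ
    rw [k1 χ hχ, hz, h3, Int.cast_zero]
  -- (9.11.7)
  obtain ⟨β, hβd⟩ : ∃ β, β = l - (e : ℂ) • ψ₁ := ⟨_, rfl⟩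
  have hβ : β ∈ Zs0 S := hβd ▸
    sub_mem_Zs0 (mem_Zs_of_mem (h₃.1 hl3)) (natCast_smul_mem_Zs (mem_Zs_of_mem (h₁.1 hψ)) e)
      (by rw [d₃ l hl3, Pi.smul_apply, d₁ _ hψ, smul_eq_mul])
  have hβv := (hS.vchar β hβ).1
  have hl1 : l ∉ S₁ := fun h1 => Finset.disjoint_left.1 hd h1 hl3
  have hl1' : star l ∉ S₁ := fun h1 => Finset.disjoint_left.1 hd h1 hl3'
  obtain ⟨y, hy⟩ := vchar_ip_int hβv (c₁.vchar ψ₁ (mem_Zs_of_mem hψ))
  have sub1 : ∀ ψ ∈ S₁, ψ - ψ₁ ∈ Zs0 S₁ := fun ψ h1 =>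
    sub_mem_Zs0 (mem_Zs_of_mem h1) (mem_Zs_of_mem hψ) (by rw [d₁ ψ h1, d₁ ψ₁ hψ])
  have k3 : ∀ ψ ∈ S₁.erase ψ₁, ip ⊤ (τ β) (τ₁ ψ) = ((y + e : ℤ) : ℂ) := by
    intro ψ h1
    obtain ⟨h2, h1⟩ := Finset.mem_erase.1 h1
    have := hS.iso β hβ _ (Zs0_mono h₁.1 (sub1 ψ h1))
    rw [← c₁.agree _ (sub1 ψ h1), map_sub, ip_sub_right, hy, hβd, ip_sub_left, ip_sub_right,
      ip_smul_left, ip_sub_right, ip_eq_zero_symm (o13 _ h1 _ hl3),
      ip_eq_zero_symm (o13 _ hψ _ hl3), ip_irr_self hψi, ip_irr_of_ne hψi (i₁ h1) h2.symm,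
      ← hβd] at this
    push_cast
    linear_combination this
  by_cases hb : y + e = 0
  · refine ⟨l, hl, hS.extend_coherent_with h₁ c₁ hψ (h₃.1 hl3) hl1 (a := e)
      (X := τ β + (e : ℂ) • τ₁ ψ₁) (by rw [d₃ l hl3, d₁ _ hψ]; simp) ?_ (by simp [hβd])⟩
    have hb' : (y : ℂ) + e = 0 := by exact_mod_cast hb
    rw [ip_smul_right, ip_add_left, ip_smul_left, hy,
      c₁.iso _ (mem_Zs_of_mem hψ) _ (mem_Zs_of_mem hψ), ip_irr_self hψi, mul_one, hb', mul_zero]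
  exfalso
  let f : (G → ℂ) → G → ℂ := fun χ => if χ ∈ S₁ then τ₁ χ else τ₃ χ
  have f1 : ∀ χ ∈ S₁, f χ = τ₁ χ := fun χ h => if_pos h
  have f3 : ∀ χ, χ ∉ S₁ → f χ = τ₃ χ := fun χ h => if_neg h
  have hll : l ≠ star l := (hS.not_real l (h₃.1 hl3)).symm
  have hs : ∀ χ ∈ insert l (insert (star l) S₁), χ ∈ Irr L ∧ (χ ∉ S₁ → χ ∈ S₃) := by
    intro χ hχ
    simp only [Finset.mem_insert] at hχ
    rcases hχ with rfl | rfl | hχ
    · exact ⟨hli, fun _ => hl3⟩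
    · exact ⟨star_mem_Irr hli, fun _ => hl3'⟩
    · exact ⟨i₁ hχ, fun h => absurd hχ h⟩
  have h1 := proj_idx (H := ⊤) (insert l (insert (star l) S₁)) f (fun i hi j hj => by
    have e1 : ip ⊤ (f i) (f j) = ip L i j := by
      by_cases hi1 : i ∈ S₁ <;> by_cases hj1 : j ∈ S₁
      · rw [f1 i hi1, f1 j hj1, c₁.iso i (mem_Zs_of_mem hi1) j (mem_Zs_of_mem hj1)]
      · rw [f1 i hi1, f3 j hj1, o13 i hi1 j ((hs j hj).2 hj1), hS.coherent_ortho h₁ c₁ h₃ c₃ hd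
          (mem_Zs_of_mem hi1) (mem_Zs_of_mem ((hs j hj).2 hj1))]
      · rw [f3 i hi1, f1 j hj1, ip_eq_zero_symm (o13 j hj1 i ((hs i hi).2 hi1)),
          ip_eq_zero_symm (hS.coherent_ortho h₁ c₁ h₃ c₃ hd
          (mem_Zs_of_mem hj1) (mem_Zs_of_mem ((hs i hi).2 hi1)))]
      · rw [f3 i hi1, f3 j hj1, c₃.iso i (mem_Zs_of_mem ((hs i hi).2 hi1)) j
          (mem_Zs_of_mem ((hs j hj).2 hj1))]
    rw [e1, ip_irr (hs i hi).1 (hs j hj).1]) (τ β)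
  obtain ⟨x₁, hx₁⟩ := vchar_ip_int hβv (c₃.vchar l (mem_Zs_of_mem hl3))
  obtain ⟨x₂, hx₂⟩ := vchar_ip_int hβv (c₃.vchar _ (mem_Zs_of_mem hl3'))
  have hx : x₁ = x₂ + 1 := by
    have h0 : l - star l ∈ Zs0 S₃ :=
      sub_mem_Zs0 (mem_Zs_of_mem hl3) (mem_Zs_of_mem hl3') (by rw [d₃ _ hl3', d₃ l hl3])
    have := hS.iso β hβ _ (Zs0_mono h₃.1 h0)
    rw [← c₃.agree _ h0, map_sub, ip_sub_right, hx₁, hx₂, hβd, ip_sub_left, ip_sub_right,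
      ip_smul_left, ip_sub_right, o13 _ hψ _ hl3, o13 _ hψ _ hl3', ip_irr_self hli,
      ip_irr_of_ne hli (star_mem_Irr hli) hll] at this
    have h2 : (x₁ : ℂ) = x₂ + 1 := by linear_combination this
    exact_mod_cast h2
  have hnβ : nsq ⊤ (τ β) = 1 + (e : ℝ) ^ 2 := by
    rw [nsq_eq_of_ip_eq (hS.iso β hβ β hβ), hβd, nsq_sub_of_orth (by
      rw [ip_smul_right, ip_eq_zero_symm (o13 _ hψ _ hl3), mul_zero]), nsq_nat_smul, nsq_irr hli,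
      nsq_irr hψi, mul_one]
  have hins : l ∉ insert (star l) S₁ := by simp [hll, hl1]
  have hce : (S₁.erase ψ₁).card + 1 = 2 * e := by rw [Finset.card_erase_add_one hψ, hc]
  have hce' : ((S₁.erase ψ₁).card : ℝ) = 2 * e - 1 := by
    rw [eq_sub_iff_add_eq]; exact_mod_cast hce
  rw [hnβ, Finset.sum_insert hins, Finset.sum_insert hl1', ← Finset.add_sum_erase _ _ hψ,
    Finset.sum_congr (s₁ := S₁.erase ψ₁) rfl (g := fun _ => ((y + e : ℤ) : ℝ) ^ 2) fun i hi => by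
      rw [f1 i (Finset.mem_of_mem_erase hi), k3 i hi, Complex.norm_intCast, sq_abs],
    Finset.sum_const, nsmul_eq_mul, hce', f3 l hl1, f3 _ hl1', f1 _ hψ, hx₁, hx₂, hy,
    Complex.norm_intCast, Complex.norm_intCast, Complex.norm_intCast, sq_abs, sq_abs,
    sq_abs] at h1
  set Δ := τ β - ∑ i ∈ insert l (insert (star l) S₁), ip ⊤ (τ β) (f i) • f i with hΔ
  have h2 := nsq_nonneg ⊤ Δ
  obtain ⟨b, hb'⟩ : ∃ b : ℤ, b = y + e := ⟨_, rfl⟩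
  have hyb : y = b - e := by omega
  have h3 : (1 : ℤ) ≤ x₁ ^ 2 + x₂ ^ 2 := by rw [hx]; nlinarith [sq_nonneg (2 * x₂ + 1)]
  have h3' : (1 : ℝ) ≤ (x₁ : ℝ) ^ 2 + (x₂ : ℝ) ^ 2 := by exact_mod_cast h3
  have h4 : (0 : ℤ) ≤ b * (b - 1) := by nlinarith [sq_nonneg (2 * b - 1)]
  have h4' : (0 : ℝ) ≤ (b : ℝ) * (b - 1) := by exact_mod_cast h4
  have he' : (2 : ℝ) ≤ e := by exact_mod_cast he
  rw [← hb', hyb] at h1
  push_cast at h1
  have h5 : 2 * (e : ℝ) * (b * (b - 1)) + ((x₁ : ℝ) ^ 2 + (x₂ : ℝ) ^ 2 - 1) + nsq ⊤ Δ = 0 := by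
    linear_combination -h1
  have h6 : 0 ≤ 2 * (e : ℝ) * (b * (b - 1)) := by positivity
  have h7 : nsq ⊤ Δ = 0 := by linarith
  have h8 : (b : ℝ) * (b - 1) = 0 := by
    have : 2 * (e : ℝ) * (b * (b - 1)) = 0 := by linarith
    exact (mul_eq_zero.1 this).resolve_left (by linarith)
  have h9 : b = 1 := by
    have : b * (b - 1) = 0 := by exact_mod_cast h8
    rcases mul_eq_zero.1 this with h | h
    · exact absurd (hb' ▸ h) hb
    · omega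
  -- (9.11.8)
  have h10 := sub_eq_zero.1 (eq_zero_of_nsq_top h7)
  obtain ⟨z, hz⟩ := vchar_ip_int hv (c₁.vchar ψ₁ (mem_Zs_of_mem hψ))
  have k4 : ∀ ψ ∈ S₁.erase ψ₁, ip ⊤ (τ α) (τ₁ ψ) = z + 1 := by
    intro ψ h1
    obtain ⟨h2, h1⟩ := Finset.mem_erase.1 h1
    have := hi _ (Zs0_mono h₁.1 (sub1 ψ h1))
    rw [← c₁.agree _ (sub1 ψ h1), map_sub, ip_sub_right, hz, ip_sub_right, ip_irr_self hψi,
      ip_irr_of_ne hψi (i₁ h1) h2.symm] at this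
    linear_combination this
  have h11 := hi β hβ
  have hce'' : ((S₁.erase ψ₁).card : ℂ) = 2 * e - 1 := by
    rw [eq_sub_iff_add_eq]; exact_mod_cast hce
  rw [h10, ip_sum_right, Finset.sum_insert hins, Finset.sum_insert hl1',
    ← Finset.add_sum_erase _ _ hψ,
    Finset.sum_congr (s₁ := S₁.erase ψ₁) rfl (g := fun _ => (z : ℂ) + 1) fun i hi => by
      rw [f1 i (Finset.mem_of_mem_erase hi), k3 i hi, ← hb', h9, ip_smul_right, k4 i hi]; simp,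
    Finset.sum_const, nsmul_eq_mul, hce'', f3 l hl1, f3 _ hl1', f1 _ hψ, ip_smul_right,
    ip_smul_right, ip_smul_right, k2 _ hl3, k2 _ hl3', hy, hz, hβd, ip_sub_right, ip_smul_right,
    o13 _ hψ _ hl3, ip_irr_self hψi, hyb, h9] at h11
  simp only [map_intCast, map_natCast] at h11
  push_cast at h11
  have h12 : (e : ℂ) * (z + 1) = 1 := by linear_combination h11
  have h13 : (e : ℤ) * (z + 1) = 1 := by exact_mod_cast h12
  have := Int.eq_one_of_mul_eq_one_right (by omega) h13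
  omega

end PF09c

end Cfsg.Agent.FT
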