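/-
PF (9.11).
-/
import Cfsg.Agent.FT.P.PF09c_1

set_option autoImplicit false
set_option linter.unusedSectionVars false
set_option linter.unusedVariables false

namespace Cfsg.Agent.FT

open Subgroup Cfsg Cfsg.Agent
open scoped commutatorElement ComplexConjugate

universe u

variable {G : Type u} [Group G] [Finite G] [MinOdd G]

variable {M U W₁ W₂ W H₀ : Subgroup G}

namespace PF09c

theorem eq_of_relIndex_eq {A B K : Subgroup G} (h1 : A ≤ B) (h2 : B ≤ K)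
    (e : B.relIndex K = A.relIndex K) : B = A := by
  have := relIndex_mul_relIndex A B K h1 h2
  rw [e] at this
  exact le_antisymm (relIndex_eq_one.1
    (Nat.eq_of_mul_eq_mul_right (relIndex_pos A K) (this.trans (one_mul _).symm))) h1

theorem eq_of_relIndex_prime {p : ℕ} (hp : p.Prime) {A B C : Subgroup G} (hBC : B ≤ C)
    (hCA : C ≤ A) (hi : B.relIndex A = p) (hne : ¬ A ≤ C) : C = B := by
  have h2 := relIndex_mul_relIndex B C A hBC hCA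
  rw [hi] at h2
  rcases (Nat.dvd_prime hp).1 (Dvd.intro_left _ h2) with h | h
  · exact absurd (relIndex_eq_one.1 h) hne
  · exact eq_of_relIndex_eq hBC hCA (h.trans hi.symm)

theorem S9_facts (h : OfTypeP M U W₁ W₂ W) {Y : Subgroup G} {φ : G → ℂ} (hφ : φ ∈ S9 M Y) :
    ∃ θ ∈ irrKerD ⁅M, M⁆ (MF M) Y, φ = ind M ⁅M, M⁆ θ ∧ dg φ = 𝐨(W₁) * dg θ := by
  obtain ⟨θ, hθ, rfl⟩ := mem_seqIndD.1 hφ
  exact ⟨θ, hθ, rfl, by
    rw [(irr_isChar (mem_irrKerD.1 hθ).1).dg_ind (der_le M), h.sdM.relIndex_left]⟩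

theorem MF_le_centMod (h : Hyp9 M U W₁ W₂ W H₀) {X : Subgroup G} (hX : X ≤ MF M) :
    MF M ≤ centMod X H₀ :=
  le_centMod_iff.2 ⟨(MF_le M).trans h.ker.chief.normV,
    (commutator_mono hX le_rfl).trans h.factor_facts.2.2.2.2.1⟩

theorem HC_eq (h : Hyp9 M U W₁ W₂ W H₀) :
    MF M ⊔ fcC M U H₀ = ⁅M, M⁆ ⊓ centMod (MF M) H₀ :=
  (h.typeP.sdD.inf_of_le_left (MF_le_centMod h le_rfl)).sup

theorem deg_le (h : Hyp9 M U W₁ W₂ W H₀) {φ : G → ℂ}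
    (hφ : φ ∈ S9 M (H₀ ⊔ ⁅fcC M U H₀, fcC M U H₀⁆)) :
    dg φ ≤ 𝐨(W₁) * (fcC M U H₀).relIndex U := by
  obtain ⟨θ, hθ, -, e⟩ := S9_facts h.typeP hφ
  obtain ⟨-, -, -, -, -, -, -, -, -, h1, h2, -⟩ := h.normal_facts
  rw [mem_irrKerD] at hθ
  have := irr_dg_bound_quo hθ.1 hθ.2.1 le_rfl (HC_eq h ▸ inf_le_left) h1
  rw [relIndex_self, mul_one, h2] at this
  rw [e]
  exact Nat.mul_le_mul_left _ ((Nat.pow_le_pow_iff_left two_ne_zero).1 this)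

theorem exists_deg (h : Hyp9 M U W₁ W₂ W H₀) {θ : G → ℂ} (hθ : IsLin (MF M) θ)
    (h0 : H₀ ≤ cfKer θ) (h1 : ¬ MF M ≤ cfKer θ) :
    ∃ φ ∈ S9 M (H₀ ⊔ ⁅fcC M U H₀, fcC M U H₀⁆),
      dg φ = 𝐨(W₁) * (⁅M, M⁆ ⊓ inertia θ).relIndex ⁅M, M⁆ := by
  have P := h.typeP
  have hI : MF M ≤ inertia θ := le_inertia hθ.mem_CF
  have sd := P.sdD.inf_of_le_left hI
  obtain ⟨μ, hμ, e, hk⟩ := sd.exists_lin_extension hθ inf_le_right
  have hψ : ind ⁅M, M⁆ (⁅M, M⁆ ⊓ inertia θ) μ ∈ Irr ⁅M, M⁆ :=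
    ind_mem_Irr_of_inertia_le (θ := θ) P.sdD.normal sd.le_left inf_le_left hμ.mem_Irr
      (by rw [e, mem_constt, ip_irr_self hθ.mem_Irr]; exact ⟨hθ.mem_Irr, one_ne_zero⟩) le_rfl
  obtain ⟨-, -, -, -, -, -, -, h2, -⟩ := h.normal_facts
  have hC : fcC M U H₀ ≤ U ⊓ inertia θ := fun x hx => mem_inf.2 ⟨hx.1,
    (lin_mem_inertia_iff hθ (P.sdD.norm hx.1)).2 fun y hy => h0 ((mem_centMod.1 hx.2).2 y hy)⟩
  refine ⟨_, mem_seqIndD.2 ⟨_, mem_irrKerD.2 ⟨hψ, ?_, ?_⟩, rfl⟩, ?_⟩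
  · rw [le_cfKer_ind_irr_iff inf_le_left ((der_le M).trans h2.2) hμ.mem_Irr]
    refine sup_le ?_ ((der_le _).trans (hC.trans hk))
    rw [← hμ.isChar.le_cfKer_res_iff h.ker.chief.lt.le sd.le_left, e]
    exact h0
  · rw [le_cfKer_ind_irr_iff inf_le_left P.sdD.le_norm hμ.mem_Irr,
      ← hμ.isChar.le_cfKer_res_iff le_rfl sd.le_left, e]
    exact h1
  · rw [(irr_isChar hψ).dg_ind (der_le M), P.sdM.relIndex_left, hμ.isChar.dg_ind inf_le_left,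
      hμ.dg, mul_one]

variable {H₁ : Subgroup G} {a : ℕ}

theorem conj_facts (h : Hyp9 M U W₁ W₂ W H₀) (hn : NonGalois M U W₁ W₂ H₀ H₁ a) {w : G}
    (hw : w ∈ W₁) : H₀ ≤ H₁ ^ᵍ w ∧ H₁ ^ᵍ w ≤ MF M ∧ H₀.relIndex (H₁ ^ᵍ w) = H₀.relIndex W₂ ∧
      ⁅M, M⁆ ≤ 𝐍(H₁ ^ᵍ w) := by
  have P := h.typeP
  have e0 : H₀ ^ᵍ w = H₀ := conj_eq_of_mem_norm (h.ker.chief.normV (P.sdM.le_right hw))
  have h1 : H₀ ≤ H₁ ^ᵍ w := e0.ge.trans (conj_mono hn.le0 w)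
  have h2 : H₁ ^ᵍ w ≤ MF M := conj_le_of_mem_norm hn.le ((MF_normal M).2 (P.sdM.le_right hw))
  refine ⟨h1, h2, by rw [← hn.card, ← relIndex_conj H₀ H₁ w, e0], ?_⟩
  rw [← P.sdD.sup]
  refine sup_le (le_norm_of_der_le (h.factor_facts.2.2.2.2.1.trans h1) h2) ?_
  rw [← conj_eq_of_mem_norm (P.normU hw), conj_le_norm_iff]
  exact hn.norm

open Classical in
theorem not_le_sup (h : Hyp9 M U W₁ W₂ W H₀) (hn : NonGalois M U W₁ W₂ H₀ H₁ a) {x : G}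
    (hx : x ∈ W₁) : ¬ H₁ ^ᵍ x ≤ H₀ ⊔ ((fs (W₁ : Set G)).erase x).sup fun w => H₁ ^ᵍ w := by
  intro hle
  obtain ⟨-, hp, -, h1, h2, -⟩ := h.factor_facts
  have hK : ∀ w ∈ (fs (W₁ : Set G)).erase x,
      H₁ ^ᵍ w ≤ MF M ∧ H₀.relIndex (H₁ ^ᵍ w) ≤ H₀.relIndex W₂ := fun w hw => by
    have := conj_facts h hn (mem_fs.1 (Finset.mem_of_mem_erase hw))
    exact ⟨this.2.1, this.2.2.1.le⟩
  have h3 := relIndex_finset_sup_le h.ker.chief.lt.le h2 (fun w => H₁ ^ᵍ w) _ hK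
  have h4 : (H₀ ⊔ ((fs (W₁ : Set G)).erase x).sup fun w => H₁ ^ᵍ w) = MF M := by
    refine le_antisymm (sup_le h.ker.chief.lt.le (Finset.sup_le fun w hw => (hK w hw).1)) ?_
    rw [← hn.sup]
    refine iSup₂_le fun w hw => ?_
    by_cases e : w = x
    · rw [e]; exact hle
    · exact le_sup_of_le_right (Finset.le_sup (f := fun w => H₁ ^ᵍ w)
        (Finset.mem_erase.2 ⟨e, mem_fs.2 hw⟩))
  rw [h4, h1, Finset.card_erase_of_mem (mem_fs.2 hx), card_fs_coe,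
    Nat.pow_le_pow_iff_right hp.one_lt] at h3
  have : 0 < 𝐨(W₁) := Nat.card_pos
  omega

theorem comm_le (h : Hyp9 M U W₁ W₂ W H₀) (hn : NonGalois M U W₁ W₂ H₀ H₁ a) {N X : Subgroup G}
    (hN : MF M ≤ 𝐍(N)) (hX : ∀ w ∈ W₁, ⁅H₁ ^ᵍ w, X⁆ ≤ N) : ⁅MF M, X⁆ ≤ N := by
  rw [commutator_comm]
  refine (le_centMod_iff.1 ?_).2
  rw [← hn.sup]
  exact iSup₂_le fun w hw => le_centMod_iff.2
    ⟨(conj_facts h hn hw).2.1.trans hN, by rw [commutator_comm]; exact hX w hw⟩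

theorem T_conj (h : Hyp9 M U W₁ W₂ W H₀) (H₁ : Subgroup G) {w : G} (hw : w ∈ W₁) :
    (⁅M, M⁆ ⊓ centMod H₁ H₀) ^ᵍ w = ⁅M, M⁆ ⊓ centMod (H₁ ^ᵍ w) H₀ := by
  rw [conj_inf, conj_eq_of_mem_norm (h.typeP.sdM.norm hw),
    centMod_conj _ (h.ker.chief.normV (h.typeP.sdM.le_right hw))]

theorem T_relIndex (h : Hyp9 M U W₁ W₂ W H₀) (hn : NonGalois M U W₁ W₂ H₀ H₁ a) :
    (⁅M, M⁆ ⊓ centMod H₁ H₀).relIndex ⁅M, M⁆ = a := by
  rw [inf_relIndex_left, relIndex_sd h.typeP.sdD (MF_le_centMod h hn.le), hn.a_eq]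

theorem HC_le (h : Hyp9 M U W₁ W₂ W H₀) {X : Subgroup G} (hX : X ≤ MF M) :
    MF M ⊔ fcC M U H₀ ≤ ⁅M, M⁆ ⊓ centMod X H₀ := by
  rw [HC_eq h]
  have := le_centMod_iff.1 (le_refl (centMod (MF M) H₀))
  exact inf_le_inf_left _ (le_centMod_iff.2 ⟨this.1, (commutator_mono hX le_rfl).trans this.2⟩)

/-- PF (9.11.2). -/
theorem inter_eq (h : Hyp9 M U W₁ W₂ W H₀) (hn : NonGalois M U W₁ W₂ H₀ H₁ a)
    (hne : a ≠ (fcC M U H₀).relIndex U)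
    (hd : ∀ φ ∈ S9 M (H₀ ⊔ ⁅fcC M U H₀, fcC M U H₀⁆),
      dg φ = 𝐨(W₁) * a ∨ dg φ = 𝐨(W₁) * (fcC M U H₀).relIndex U) {w : G} (hw : w ∈ W₁)
    (hw1 : w ≠ 1) :
    (⁅M, M⁆ ⊓ centMod H₁ H₀) ⊓ (⁅M, M⁆ ⊓ centMod H₁ H₀) ^ᵍ w = MF M ⊔ fcC M U H₀ := by
  classical
  have P := h.typeP
  obtain ⟨hq, hp, -, -, hder, -⟩ := h.factor_facts
  obtain ⟨-, -, -, -, -, -, -, -, -, -, hu, -⟩ := h.normal_facts
  obtain ⟨K, hK⟩ : ∃ K, K = H₀ ⊔ (((fs (W₁ : Set G)).erase 1).erase w).sup fun w => H₁ ^ᵍ w :=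
    ⟨_, rfl⟩
  have hK0 : H₀ ≤ K := hK ▸ le_sup_left
  have hKH : K ≤ MF M := hK ▸ sup_le h.ker.chief.lt.le (Finset.sup_le fun x hx =>
    (conj_facts h hn (mem_fs.1 (Finset.mem_of_mem_erase (Finset.mem_of_mem_erase hx)))).2.1)
  have n1 : ¬ H₁ ^ᵍ (1 : G) ≤ K := fun e => not_le_sup h hn W₁.one_mem (e.trans (hK ▸
    sup_le_sup_left (Finset.sup_mono (Finset.erase_subset _ _)) _))
  have n2 : ¬ H₁ ^ᵍ w ≤ K := fun e => not_le_sup h hn hw (e.trans (hK ▸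
    sup_le_sup_left (Finset.sup_mono (Finset.erase_subset_erase _ (Finset.erase_subset _ _))) _))
  obtain ⟨θ, hθ, k0, k1, k2⟩ := exists_lin_two hKH (hder.trans hK0) n1 n2
  have k3 : ∀ x ∈ W₁, ¬ H₁ ^ᵍ x ≤ cfKer θ → ⁅M, M⁆ ⊓ inertia θ ≤ ⁅M, M⁆ ⊓ centMod (H₁ ^ᵍ x) H₀ := by
    intro x hx hk g hg
    obtain ⟨f1, f2, f3, f4⟩ := conj_facts h hn hx
    obtain ⟨g1, g2⟩ := mem_inf.1 hg
    have e : H₁ ^ᵍ x ⊓ cfKer θ = H₀ := eq_of_relIndex_prime hp (le_inf f1 (hK0.trans k0))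
      inf_le_left f3 fun e => hk (e.trans inf_le_right)
    refine mem_inf.2 ⟨g1, mem_centMod.2 ⟨h.ker.chief.normV (der_le M g1), fun y hy => ?_⟩⟩
    rw [← e]
    refine mem_inf.2 ⟨?_, (lin_mem_inertia_iff hθ (P.sdD.le_norm g1)).1 g2 y (f2 hy)⟩
    exact comm_le_left_iff.2 f4 (commutator_mem_commutator hy g1)
  have hT1 : ⁅M, M⁆ ⊓ centMod H₁ H₀ = ⁅M, M⁆ ⊓ centMod (H₁ ^ᵍ (1 : G)) H₀ := by rw [conj_one]
  have k4 : ⁅M, M⁆ ⊓ inertia θ =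
      (⁅M, M⁆ ⊓ centMod H₁ H₀) ⊓ (⁅M, M⁆ ⊓ centMod H₁ H₀) ^ᵍ w := by
    rw [T_conj h H₁ hw]
    refine le_antisymm (le_inf (hT1 ▸ k3 1 W₁.one_mem k1) (k3 w hw k2)) ?_
    have k5 : ⁅MF M, (⁅M, M⁆ ⊓ centMod H₁ H₀) ⊓ (⁅M, M⁆ ⊓ centMod (H₁ ^ᵍ w) H₀)⁆ ≤ cfKer θ := by
      refine comm_le h hn (le_norm_cfKer hθ.mem_CF) fun x hx => ?_
      by_cases e1 : x = 1
      · rw [e1, conj_one]
        exact (le_centMod_iff.1 (inf_le_left.trans inf_le_right)).2.trans (hK0.trans k0)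
      by_cases e2 : x = w
      · rw [e2]
        exact (le_centMod_iff.1 (inf_le_right.trans inf_le_right)).2.trans (hK0.trans k0)
      · refine (comm_le_left_iff.2 ((inf_le_left.trans inf_le_left).trans
          (conj_facts h hn hx).2.2.2)).trans (le_trans ?_ k0)
        rw [hK]
        exact le_sup_of_le_right (Finset.le_sup (f := fun w => H₁ ^ᵍ w)
          (Finset.mem_erase.2 ⟨e2, Finset.mem_erase.2 ⟨e1, mem_fs.2 hx⟩⟩))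
    intro g hg
    have g1 : g ∈ ⁅M, M⁆ := (mem_inf.1 (mem_inf.1 hg).1).1
    exact mem_inf.2 ⟨g1, (lin_mem_inertia_iff hθ (P.sdD.le_norm g1)).2 fun y hy =>
      k5 (commutator_mem_commutator hy hg)⟩
  obtain ⟨φ, hφ, e⟩ := exists_deg h hθ (hK0.trans k0) fun e => k2 ((conj_facts h hn hw).2.1.trans e)
  rw [k4] at e
  rcases hd φ hφ with e1 | e1
  · exfalso
    have e2 := Nat.eq_of_mul_eq_mul_left hq.pos (e.symm.trans e1)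
    have e3 := eq_of_relIndex_eq inf_le_left inf_le_left ((T_relIndex h hn).trans e2.symm)
    have e4 : w⁻¹ ∈ 𝐍(⁅M, M⁆ ⊓ centMod H₁ H₀) :=
      mem_norm_of_conj_le (le_conj_iff.1 (e3.le.trans inf_le_right))
    have e5 : W₁ ≤ 𝐍(⁅M, M⁆ ⊓ centMod H₁ H₀) := by
      rw [← zpowers_eq_of_card_prime hq hw hw1, zpowers_le]
      exact inv_mem_iff.1 e4
    have e6 : ⁅MF M, ⁅M, M⁆ ⊓ centMod H₁ H₀⁆ ≤ H₀ := by
      refine comm_le h hn ((MF_le M).trans h.ker.chief.normV) fun x hx => ?_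
      rw [← conj_eq_of_mem_norm (e5 hx), T_conj h H₁ hx]
      exact (le_centMod_iff.1 inf_le_right).2
    have e7 : ⁅M, M⁆ ⊓ centMod H₁ H₀ = MF M ⊔ fcC M U H₀ := by
      refine le_antisymm ?_ (HC_le h hn.le)
      rw [HC_eq h]
      exact le_inf inf_le_left (le_centMod_iff.2
        ⟨inf_le_left.trans ((der_le M).trans h.ker.chief.normV), e6⟩)
    exact hne (by rw [← hu, ← e7, T_relIndex h hn])
  · have e2 := Nat.eq_of_mul_eq_mul_left hq.pos (e.symm.trans e1)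
    refine eq_of_relIndex_eq (le_inf (HC_le h hn.le) ?_) (inf_le_left.trans inf_le_left)
      (e2.trans hu.symm)
    rw [T_conj h H₁ hw]
    exact HC_le h (conj_facts h hn hw).2.1

theorem ip_ind_cf1 {T Y : Subgroup G} (h3 : MF M ≤ ⁅M, M⁆) (h1 : MF M ≤ T) (h2 : T ≤ M)
    {φ : G → ℂ} (hφ : φ ∈ S9 M Y) : ip M (ind M T (cf1 T)) φ = 0 := by
  obtain ⟨θ, hθ, rfl⟩ := mem_seqIndD.1 hφ
  rw [mem_irrKerD] at hθ
  by_contra hne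
  rw [ip_ind_right (der_le M) (ind_mem_CF _ _ _), ← ip_res_left] at hne
  have hc := ((isChar_cf1 T).ind h2).res (der_le M)
  refine hθ.2.2 (le_trans (le_cfKer_res h3 ?_) (hc.cfKer_le_constt (mem_constt.2 ⟨hθ.1, hne⟩)))
  rw [le_cfKer_ind_irr_iff h2 (MF_normal M).2 (cf1_mem_Irr T)]
  exact h1.trans (le_cfKer_cf1 T)

theorem sum_SC (h : Hyp9 M U W₁ W₂ W H₀) :
    ∑ φ ∈ S9 M (H₀ ⊔ fcC M U H₀), (dg φ : ℝ) ^ 2 / nsq M φ =
      𝐨(W₁) * (fcC M U H₀).relIndex U * ((H₀.relIndex W₂ : ℝ) ^ 𝐨(W₁) - 1) := by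
  obtain ⟨-, -, -, h1, -⟩ := h.factor_facts
  obtain ⟨-, -, -, -, n1, n2, -, -, n3, -, -, n4, -⟩ := h.normal_facts
  have h0 := h.ker.chief.lt.le
  have e : S9 M (H₀ ⊔ fcC M U H₀) = seqIndD ⁅M, M⁆ M (MF M ⊔ fcC M U H₀) (H₀ ⊔ fcC M U H₀) := by
    unfold S9 seqIndD
    congr 1
    ext θ
    simp only [mem_irrKerD, sup_le_iff]
    tauto
  have e2 : MF M ⊔ fcC M U H₀ = (H₀ ⊔ fcC M U H₀) ⊔ MF M := by
    rw [sup_comm H₀, sup_assoc, sup_eq_right.2 h0, sup_comm]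
  have e3 : (H₀ ⊔ fcC M U H₀).relIndex (MF M ⊔ fcC M U H₀) = H₀.relIndex W₂ ^ 𝐨(W₁) := by
    rw [e2, relIndex_sup_of_norm ((MF_le M).trans n1.2), ← inf_relIndex_right,
      n3 (fcC M U H₀) inf_le_left (inf_le_left.trans (h.typeP.sdD.le_right.trans
        ((der_le M).trans h.ker.chief.normV))), h1]
  rw [e, sum_seqIndD_square (der_normal M) (HC_eq h ▸ inf_le_left) n2.2 n1.2
    (sup_le_sup_right h0 _), n4, e3]
  push_cast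
  rfl

theorem sum_union_le {s t : Finset (G → ℂ)} {f : (G → ℂ) → ℝ} (hf : ∀ x, 0 ≤ f x) :
    ∑ x ∈ s ∪ t, f x ≤ ∑ x ∈ s, f x + ∑ x ∈ t, f x := by
  rw [← Finset.sum_union_inter]
  exact le_add_of_nonneg_right (Finset.sum_nonneg fun x _ => hf x)

end PF09c

open PF09c

/-- PF (9.11). -/
theorem Hyp9.core_coherence (h : Hyp9 M U W₁ W₂ W H₀) :
    Coherent M (S9 M (H₀ ⊔ ⁅fcC M U H₀, fcC M U H₀⁆)) (tau0 M) := by
  classical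
  have P := h.typeP
  obtain ⟨R, hR, -⟩ := P.subcoherent h.max
  have hS := hR.mono (P.conjSub_S9 h.max (H₀ ⊔ ⁅fcC M U H₀, fcC M U H₀⁆))
  obtain ⟨S, hSd⟩ : ∃ S, S = S9 M (H₀ ⊔ ⁅fcC M U H₀, fcC M U H₀⁆) := ⟨_, rfl⟩
  have one : ∀ χ ∈ S, χ 1 = dg χ := fun χ hχ => (hS.char χ (hSd ▸ hχ)).one_eq
  by_cases hg : GaloisP M U H₀
  · have : ∀ χ ∈ S9 M (H₀ ⊔ ⁅fcC M U H₀, fcC M U H₀⁆),
        dg χ = 𝐨(W₁) * (fcC M U H₀).relIndex U := fun χ hχ => by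
      obtain ⟨θ, hθ, -, e⟩ := S9_facts P hχ
      rw [e, ((h.galois_characters hg).2.1 θ hθ).1]
    exact hS.uniform_degree_coherence fun χ hχ ψ hψ => by
      rw [one χ (hSd ▸ hχ), one ψ (hSd ▸ hψ), this χ hχ, this ψ hψ]
  obtain ⟨H₁, a, hn⟩ := h.nonGalois hg
  obtain ⟨c1, -, c2, c3⟩ := h.nonGalois_characters hn
  obtain ⟨hq, hp, -⟩ := h.factor_facts
  obtain ⟨-, -, n1, -, n2, -, -, -, n3, -, n4, -⟩ := h.normal_facts
  have hdl := fun φ => deg_le h (φ := φ)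
  have hie := inter_eq h hn
  have hsc := sum_SC h
  have hred := h.reducible_core_ind.1
  have hnb := h.nb_redM n2.2 (sup_le (h.ker.chief.lt.le.trans P.sdD.le_left)
    (inf_le_left.trans P.sdD.le_right)) (n3 _ inf_le_left (inf_le_left.trans
      (P.sdD.le_right.trans ((der_le M).trans h.ker.chief.normV))))
  have hSU : S9 M (H₀ ⊔ ⁅U, U⁆) ⊆ S := hSd ▸ seqIndD_mono _ _ le_rfl
    (sup_le_sup_left (commutator_mono inf_le_left inf_le_left) _)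
  have hSC : S9 M (H₀ ⊔ fcC M U H₀) ⊆ S := hSd ▸ seqIndD_mono _ _ le_rfl
    (sup_le_sup_left (der_le _) _)
  have hS0 : S ⊆ S9 M H₀ := hSd ▸ seqIndD_mono _ _ le_rfl le_sup_left
  have hSb : S ⊆ S9 M ⊥ := hSd ▸ seqIndD_mono _ _ le_rfl bot_le
  have hdv : ∀ φ ∈ S, 𝐨(W₁) * a ∣ dg φ := fun φ hφ => by
    obtain ⟨θ, hθ, -, e⟩ := S9_facts P (hS0 hφ)
    rw [e]
    exact Nat.mul_dvd_mul_left _ (c1 θ hθ)
  rw [← hSd] at hS hdl hie ⊢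
  obtain ⟨q, hqd⟩ : ∃ q, q = 𝐨(W₁) := ⟨_, rfl⟩
  obtain ⟨p, hpd⟩ : ∃ p, p = H₀.relIndex W₂ := ⟨_, rfl⟩
  obtain ⟨u, hud⟩ : ∃ u, u = (fcC M U H₀).relIndex U := ⟨_, rfl⟩
  have hu : 0 < u := hud ▸ relIndex_pos _ _
  have ha := hn.one_lt
  have ha0 : 0 < a := by omega
  have hm : ∃ m, 0 < m ∧ p - 1 = 2 * a * m := by
    have o1 : Odd a := hn.a_eq ▸ odd_relIndex _ _
    have o2 : Odd p := hpd ▸ odd_relIndex _ _
    have : 2 * a ∣ p - 1 := (Nat.coprime_two_left.2 o1).mul_dvd_of_dvd_of_dvd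
      (even_iff_two_dvd.1 (Nat.Odd.sub_odd o2 odd_one)) (hpd ▸ hn.dvd)
    obtain ⟨m, hm⟩ := this
    refine ⟨m, Nat.pos_of_ne_zero fun e => ?_, hm⟩
    have := (hpd ▸ hp).one_lt
    rw [e] at hm
    omega
  obtain ⟨m, hm0, hm⟩ := hm
  have q3 : 3 ≤ q := by
    have := (hqd ▸ hq).two_le
    have o1 : Odd q := hqd ▸ odd_card _
    obtain ⟨k, hk⟩ := o1
    omega
  rw [← hqd, ← hud] at hdl hie
  rw [← hqd, ← hud, ← hpd] at hsc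
  rw [← hqd] at hdv
  rw [← hpd] at c2 hnb
  rw [← hpd, ← hqd] at c3
  obtain ⟨k, hk⟩ := c2
  have hU0 : 0 < a ^ 2 * 𝐨(⁅U, U⁆) := Nat.mul_pos (pow_pos ha0 2) Nat.card_pos
  rw [hk, Nat.mul_div_cancel_left _ hU0] at c3
  have hk2 : 2 * a * m * (⁅U, U⁆.relIndex (fcC M U H₀)) * u = k * a ^ 2 := by
    rw [← H1.card_mul_relIndex (show fcC M U H₀ ≤ U from inf_le_left), ← H1.card_mul_relIndex n1,
      ← hud, hm] at hk
    exact Nat.eq_of_mul_eq_mul_left (Nat.card_pos (α := ↥⁅U, U⁆)) (by linear_combination hk)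
  -- the sets `S₁`, `S₂`
  obtain ⟨S₀, hS₀⟩ : ∃ S₀, S₀ = (S9 M (H₀ ⊔ ⁅U, U⁆)).filter fun ζ => ζ ∈ Irr M ∧ dg ζ = q * a :=
    ⟨_, rfl⟩
  have c4 : k ≤ S₀.card := by
    rw [← Set.ncard_coe_finset, hS₀, Finset.coe_filter]
    exact c3
  have hk0 : 0 < k := by
    have : 0 < 2 * a * m * (⁅U, U⁆.relIndex (fcC M U H₀)) * u := by
      have := relIndex_pos ⁅U, U⁆ (fcC M U H₀)
      positivity
    rw [hk2] at this
    exact Nat.pos_of_mul_pos_right this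
  obtain ⟨ψ₁, hψ₁⟩ : S₀.Nonempty := Finset.card_pos.1 (by omega)
  have m0 : ∀ ζ ∈ S₀, ζ ∈ S9 M (H₀ ⊔ ⁅U, U⁆) ∧ ζ ∈ Irr M ∧ dg ζ = q * a := fun ζ hζ => by
    rwa [hS₀, Finset.mem_filter] at hζ
  have s1 : ConjSub (S.filter fun φ => dg φ = q * a) S := ⟨Finset.filter_subset _ _, fun χ hχ => by
    rw [Finset.mem_filter] at hχ ⊢
    exact ⟨hS.conj_mem χ hχ.1, by rw [dg_star, hχ.2]⟩⟩
  have coh1 := (hS.mono s1).uniform_degree_coherence fun χ hχ ψ hψ => by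
    rw [Finset.mem_filter] at hχ hψ
    rw [one χ hχ.1, one ψ hψ.1, hχ.2, hψ.2]
  obtain ⟨S₂, hS₂, hmax⟩ := Finset.exists_max_image (S.powerset.filter fun T =>
      (S.filter fun φ => dg φ = q * a) ⊆ T ∧ (∀ χ ∈ T, star χ ∈ T) ∧ Coherent M T (tau0 M))
    Finset.card ⟨_, Finset.mem_filter.2 ⟨Finset.mem_powerset.2 s1.1, subset_rfl, s1.2, coh1⟩⟩
  rw [Finset.mem_filter, Finset.mem_powerset] at hS₂
  obtain ⟨t1, t2, t3, t4⟩ := hS₂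
  have s2 : ConjSub S₂ S := ⟨t1, t3⟩
  by_contra hnc
  have hne : (S \ S₂).Nonempty := by
    rw [Finset.sdiff_nonempty]
    exact fun e => hnc (t4.mono e)
  have hmax' : ∀ χ ∈ S \ S₂, ¬ Coherent M (insert χ (insert (star χ) S₂)) (tau0 M) := by
    intro χ hχ hc
    rw [Finset.mem_sdiff] at hχ
    have := hmax (insert χ (insert (star χ) S₂)) (Finset.mem_filter.2 ⟨Finset.mem_powerset.2
      (Finset.insert_subset hχ.1 (Finset.insert_subset (hS.conj_mem χ hχ.1) t1)),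
      t2.trans ((Finset.subset_insert _ _).trans (Finset.subset_insert _ _)), fun ψ hψ => by
        simp only [Finset.mem_insert] at hψ ⊢
        rcases hψ with rfl | rfl | hψ
        · exact Or.inr (Or.inl rfl)
        · exact Or.inl (star_star _)
        · exact Or.inr (Or.inr (t3 ψ hψ)), hc⟩)
    have h2 : insert χ S₂ ⊆ insert χ (insert (star χ) S₂) :=
      Finset.insert_subset_insert _ (Finset.subset_insert _ _)
    have h3 := Finset.card_le_card h2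
    rw [Finset.card_insert_of_notMem hχ.2] at h3
    omega
  have s02 : S₀ ⊆ S₂ := fun ζ hζ =>
    t2 (Finset.mem_filter.2 ⟨hSU (m0 ζ hζ).1, (m0 ζ hζ).2.2⟩)
  have tpos : ∀ φ : G → ℂ, 0 ≤ (dg φ : ℝ) ^ 2 / nsq M φ := fun φ =>
    div_nonneg (sq_nonneg _) (nsq_nonneg _ _)
  have sum0 : ∑ ξ ∈ S₀, (dg ξ : ℝ) ^ 2 / nsq M ξ = S₀.card * ((q * a : ℕ) : ℝ) ^ 2 := by
    rw [Finset.sum_congr rfl (g := fun _ => ((q * a : ℕ) : ℝ) ^ 2) fun ζ hζ => by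
      rw [(m0 ζ hζ).2.2, nsq_irr (m0 ζ hζ).2.1, div_one], Finset.sum_const, nsmul_eq_mul]
  -- (9.11.1)
  have key : ∀ χ ∈ S \ S₂, m = 1 ∧ ⁅U, U⁆.relIndex (fcC M U H₀) = 1 ∧ dg χ = q * u ∧
      S₀.card * a = 2 * u ∧
      ∑ ξ ∈ S₂, (dg ξ : ℝ) ^ 2 / nsq M ξ = S₀.card * ((q * a : ℕ) : ℝ) ^ 2 := by
    intro χ hχ
    have hχ' := Finset.mem_sdiff.1 hχ
    refine num1 ha0 hu (by omega) hm0 (relIndex_pos _ _) hk2 c4
      (sum0 ▸ Finset.sum_le_sum_of_subset_of_nonneg s02 fun i _ _ => tpos i) ?_ (hdl χ hχ'.1)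
    by_contra hlt
    refine hmax' χ hχ (hS.extend_coherent s2 (s02 hψ₁) hχ'.1 hχ'.2 t4 ?_ ?_)
    · rw [(m0 _ hψ₁).2.2]; exact hdv χ hχ'.1
    · rw [(m0 _ hψ₁).2.2]; exact not_le.1 hlt
  obtain ⟨χ₀, hχ₀⟩ := hne
  obtain ⟨rfl, k1, k2, k3, k4⟩ := key χ₀ hχ₀
  have hχ₀' := Finset.mem_sdiff.1 hχ₀
  have hCU : fcC M U H₀ = ⁅U, U⁆ := le_antisymm (relIndex_eq_one.1 k1) n1
  have s20 : S₂ = S₀ := by
    refine Finset.Subset.antisymm (fun ξ hξ => ?_) s02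
    by_contra hξ0
    have h1 := Finset.sum_lt_sum_of_subset s02 hξ hξ0 (f := fun ξ => (dg ξ : ℝ) ^ 2 / nsq M ξ)
      (by
        obtain ⟨-, f1, f2, -⟩ := hS.facts (t1 hξ)
        have : (0 : ℝ) < dg ξ := by exact_mod_cast f1
        positivity) fun i _ _ => tpos i
    rw [k4, sum0] at h1
    exact lt_irrefl _ h1
  subst s20
  have hau : a ≠ u := fun e => hχ₀'.2 (t2 (Finset.mem_filter.2 ⟨hχ₀'.1, by rw [k2, e]⟩))
  obtain ⟨e, he⟩ : a ∣ u := Nat.dvd_of_mul_dvd_mul_left (show 0 < q by omega) (k2 ▸ hdv χ₀ hχ₀'.1)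
  have he2 : 2 ≤ e := by
    rcases e with _ | _ | e
    · omega
    · omega
    · omega
  have hcard : S₂.card = 2 * e :=
    Nat.eq_of_mul_eq_mul_right ha0 (by rw [k3, he]; ring)
  -- (9.11.2)
  replace hie := fun w hw hw1 => hie hau (fun φ hφ => by
    by_cases h1 : φ ∈ S₂
    · exact Or.inl (m0 φ h1).2.2
    · exact Or.inr (key φ (Finset.mem_sdiff.2 ⟨hφ, h1⟩)).2.2.1) (w := w) hw hw1
  have hTi := T_relIndex h hn
  obtain ⟨T, hT⟩ : ∃ T, T = ⁅M, M⁆ ⊓ centMod H₁ H₀ := ⟨_, rfl⟩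
  rw [← hT] at hie hTi
  have hT1 : T ≤ ⁅M, M⁆ := hT ▸ inf_le_left
  have hT2 : MF M ≤ T := le_sup_left.trans (hT ▸ HC_le h hn.le)
  have hT3 : ⁅M, M⁆ ≤ 𝐍(T) := hT ▸ H1.le_normalizer_inf le_normalizer (norm_le_norm_centMod
    (by simpa only [conj_one] using (conj_facts h hn W₁.one_mem).2.2.2)
    ((der_le M).trans h.ker.chief.normV))
  have hua : u ≤ a ^ 2 := by
    obtain ⟨w, hw, hw1⟩ := (W₁.bot_or_exists_ne_one).resolve_left P.ne_bot1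
    have h1 := relIndex_inf_le (H := T) (K := T ^ᵍ w) (L := ⁅M, M⁆)
    have h2 := relIndex_conj T ⁅M, M⁆ w
    rw [conj_eq_of_mem_norm (P.sdM.norm hw)] at h2
    rwa [hie w hw hw1, n4, ← hud, h2, hTi, ← sq] at h1
  -- (9.11.3)-(9.11.5)
  obtain ⟨S₄, hS₄⟩ : ∃ S₄, S₄ = ((S9 M (H₀ ⊔ fcC M U H₀)).filter fun ζ => ζ ∈ Irr M) \ S₂ :=
    ⟨_, rfl⟩
  have m4 : ∀ ζ ∈ S₄, ζ ∈ S \ S₂ ∧ ζ ∈ Irr M := fun ζ hζ => by
    rw [hS₄, Finset.mem_sdiff, Finset.mem_filter] at hζ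
    exact ⟨Finset.mem_sdiff.2 ⟨hSC hζ.1.1, hζ.2⟩, hζ.1.2⟩
  have hp2 : p = 2 * a + 1 := by
    have := (hpd ▸ hp).one_lt
    omega
  have hsum : (q : ℝ) * u * ((2 * a + 1 : ℝ) ^ q - 1) ≤ 2 * u * a * (q : ℝ) ^ 2 +
      2 * a * (q * (u : ℝ) ^ 2) + S₄.card * ((q : ℝ) * u) ^ 2 := by
    obtain ⟨Sr, hSr⟩ : ∃ Sr, Sr = (S9 M (H₀ ⊔ fcC M U H₀)).filter fun ζ => ζ ∉ Irr M := ⟨_, rfl⟩
    have r1 : Sr.card = 2 * a := by
      rw [← Set.ncard_coe_finset, hSr, Finset.coe_filter, hnb, hm, mul_one]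
    have r2 : S9 M (H₀ ⊔ fcC M U H₀) ⊆ (S₂ ∪ Sr) ∪ S₄ := fun ζ hζ => by
      simp only [hSr, hS₄, Finset.mem_union, Finset.mem_filter, Finset.mem_sdiff]
      tauto
    have r3 := (Finset.sum_le_sum_of_subset_of_nonneg r2 fun i _ _ => tpos i).trans
      ((sum_union_le tpos).trans (add_le_add_left (sum_union_le tpos) _))
    rw [hsc, sum0, Finset.sum_congr (s₁ := Sr) rfl (g := fun _ => q * (u : ℝ) ^ 2) fun ζ hζ => ?_,
      Finset.sum_congr (s₁ := S₄) rfl (g := fun _ => ((q : ℝ) * u) ^ 2) fun ζ hζ => by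
        rw [(key ζ (m4 ζ hζ).1).2.2.1, nsq_irr (m4 ζ hζ).2, div_one, Nat.cast_mul],
      Finset.sum_const, Finset.sum_const, nsmul_eq_mul, nsmul_eq_mul, r1, hp2] at r3
    · have r4 : (S₂.card : ℝ) * a = 2 * u := by exact_mod_cast k3
      push_cast at r3
      refine r3.trans (le_of_eq ?_)
      rw [← r4]; ring
    · rw [hSr, Finset.mem_filter] at hζ
      rcases P.primeTI.seqIndT_cases (seqIndD_subset_T _ _ _ _ hζ.1) with ⟨β, hβ, e⟩ | h1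
      · have : (q : ℝ) ≠ 0 := Nat.cast_ne_zero.2 (by omega)
        rw [(hred ζ (hS0 (hSC hζ.1)) hζ.2).deg, e, (P.primeTI.muR_facts hβ).2.2.1, ← hqd, ← hud]
        push_cast
        field_simp
      · exact absurd h1.1 hζ.2
  have hγ : nsq M (ind M T (cf1 T)) = a * (1 + (q - 1) * a / u) := by
    rw [nsq_ind_cf1 P.sdM ⟨hT1, hT3⟩ fun w hw hw1 => by rw [hie w hw hw1], hTi, ← hqd]
    have h1 := H1.card_mul_relIndex hT1
    have h2 := H1.card_mul_relIndex (HC_eq h ▸ inf_le_left : MF M ⊔ fcC M U H₀ ≤ ⁅M, M⁆)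
    rw [n4, ← hud, ← h1, hTi] at h2
    have h3 : (𝐨(MF M ⊔ fcC M U H₀) : ℝ) * u = 𝐨(T) * a := by exact_mod_cast h2
    have h4 := card_ne_zero_R T
    have h5 : (u : ℝ) ≠ 0 := Nat.cast_ne_zero.2 hu.ne'
    rw [mul_div_assoc, mul_div_assoc, (div_eq_div_iff h4 h5).2 (h3.trans (mul_comm _ _))]
  have D := P.prDadeF h.max
  have hTM := hT1.trans (der_le M)
  have o1 : ∀ φ ∈ S, ip M (ind M T (cf1 T)) φ = 0 := fun φ hφ =>
    ip_ind_cf1 P.sdD.le_left hT2 hTM (hSb hφ)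
  have hα : ind M T (cf1 T) - ψ₁ ∈ CFon M (ftA0 M) := by
    refine CFon_mono M D.basic.1 (mem_CFon_of_insert_one (sub_mem ?_ (D.seqIndD_on
      (hSb (t1 hψ₁)))) ?_)
    · refine ind_mem_CFon_of_norm (fun g hg x hx => ?_) fun x hx hx' => (hx' ?_).elim
      · rcases hx with rfl | hx
        · exact Or.inl (by group)
        · exact Or.inr (D.normA g hg x hx)
      · by_cases e1 : x = 1
        · exact Or.inl e1
        have h1 : ¬ H₁ ≤ H₀ := fun e => hp.one_lt.ne' (hn.card ▸ relIndex_eq_one.2 e)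
        obtain ⟨y, hy, hy0⟩ := SetLike.not_le_iff_exists.1 h1
        have h2 := mem_centMod.1 (mem_inf.1 (hT ▸ hx)).2
        obtain ⟨z, hz, hz1, hxz⟩ := exists_cent_of_comm_mem h.ker.chief.lt.le h2.1 (hn.le hy) hy0
          (h2.2 y hy)
        exact Or.inr (D.centA z hz hz1 ⟨mem_inf.2 ⟨hT1 hx, hxz⟩, e1⟩)
    · rw [Pi.sub_apply, ind_one hTM, cf1_one, mul_one, one _ (t1 hψ₁), (m0 _ hψ₁).2.2,
        ← relIndex_mul_relIndex T ⁅M, M⁆ M hT1 (der_le M), hTi, P.sdM.relIndex_left, ← hqd,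
        mul_comm, sub_self]
  have hαv : ind M T (cf1 T) - ψ₁ ∈ VChar M :=
    sub_mem (vchar_ind hTM (cf1_mem_VChar T)) (irr_mem_VChar (m0 _ hψ₁).2.1)
  have s3 : ConjSub (S \ S₂) S := ⟨Finset.sdiff_subset, fun χ hχ => by
    rw [Finset.mem_sdiff] at hχ ⊢
    exact ⟨hS.conj_mem χ hχ.1, fun h1 => hχ.2 (star_star χ ▸ t3 _ h1)⟩⟩
  have d3 : ∀ χ ∈ S \ S₂, χ 1 = e * ((q * a : ℕ) : ℂ) := fun χ hχ => by
    rw [one χ (s3.1 hχ), (key χ hχ).2.2.1, he]; push_cast; ring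
  obtain ⟨τ₃, c₃⟩ := (hS.mono s3).uniform_degree_coherence fun χ hχ ψ hψ => by
    rw [d3 χ hχ, d3 ψ hψ]
  obtain ⟨τ₁, c₁⟩ := t4
  obtain ⟨l, hl, hc⟩ := final_step hS s2 s3 Finset.disjoint_sdiff c₁ c₃
    (fun ζ hζ => (m0 ζ hζ).2.1) (fun ζ hζ => (m4 ζ hζ).1) (fun ζ hζ => (m4 ζ hζ).2) he2 hcard
    (fun ζ hζ => by rw [one ζ (t1 hζ), (m0 ζ hζ).2.2]) d3 hψ₁ (D.dade.vchar hα hαv)
    (fun φ hφ => by
      rw [D.dade.iso hα (D.Zs0_on hSb hφ).2.1, ip_sub_left,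
        ip_eq_zero_of_mem_Zs_right hφ.1 o1, zero_sub])
    (num5 ha0 hu q3 hua hsum (by
      rw [nsq_eq_of_ip_eq (D.dade.iso hα hα), nsq_sub_of_orth (o1 _ (t1 hψ₁)), hγ,
        nsq_irr (m0 _ hψ₁).2.1]))
  exact hmax' l (m4 l hl).1 hc

end Cfsg.Agent.FT
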