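/-
PF (10.3), (10.5), (10.9).
-/
import Cfsg.Agent.FT.PF09c

set_option autoImplicit false
set_option linter.unusedSectionVars false
set_option linter.unusedVariables false

namespace Cfsg.Agent.FT

open Subgroup Cfsg Cfsg.Agent
open scoped commutatorElement

universe u

variable {G : Type u} [Group G] [Finite G] [MinOdd G]

variable {M U W₁ W₂ W : Subgroup G}

namespace PF10a

/-- PF Hypothesis (10.1). -/
structure Ctx (M U W₁ W₂ W : Subgroup G) : Prop where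
  max : IsCoatom M
  P : OfTypeP M U W₁ W₂ W
  ne2 : ftType M ≠ 2

theorem cf1_mem₁ (h : DProd W₁ W₂ W) : cf1 W ∈ irrKer W W₁ := cf1_mem_irrKer h.le_left

theorem cf1_mem₂ (h : DProd W₁ W₂ W) : cf1 W ∈ irrKer W W₂ := cf1_mem_irrKer h.le_right

theorem mul_cf1' {N : Subgroup G} {α : G → ℂ} (hα : α ∈ irrKer W N) : α * cf1 W = α :=
  mul_cf1 (irr_mem_CF (irrKer_subset _ _ hα))

theorem cf1_mul' {N : Subgroup G} {α : G → ℂ} (hα : α ∈ irrKer W N) : cf1 W * α = α :=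
  cf1_mul (irr_mem_CF (irrKer_subset _ _ hα))

theorem sign_sq {δ : ℤ} (h : δ = 1 ∨ δ = -1) : (δ : ℂ) * δ = 1 := by
  rcases h with rfl | rfl <;> simp

namespace Ctx

variable (c : Ctx M U W₁ W₂ W)
include c

theorem gt2 : 2 < ftType M := by
  have := c.P.ftType_ne_one c.max
  have := c.ne2
  have := (ftType_range M).1
  omega

theorem Ms_eq : Ms M = ⁅M, M⁆ := Ms_eq_der c.max c.gt2

theorem A1_eq : ftA1 M = sharp ⁅M, M⁆ := (ftA_eq_ftA1 c.max c.gt2).2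

theorem A_eq : ftA M = sharp ⁅M, M⁆ := (ftA_eq_ftA1 c.max c.gt2).1.trans c.A1_eq

theorem pt : PrimeTI M ⁅M, M⁆ W₁ W₂ W := c.P.primeTI

theorem ct : CycTI ⊤ W₁ W₂ W := c.P.cycTI

theorem pd : PrDade M ⁅M, M⁆ ⁅M, M⁆ (sharp ⁅M, M⁆) (ftA0 M) (ftR M) W₁ W₂ W := by
  have := c.P.prDade c.max
  rwa [c.Ms_eq, c.A_eq] at this

theorem sub {S : Finset (G → ℂ)} (hS : ConjSub S (S11 M ⊥)) :
    ConjSub S (seqIndD ⁅M, M⁆ M (Ms M) ⊥) := by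
  rwa [c.Ms_eq]

theorem S_T {ζ : G → ℂ} (hζ : ζ ∈ S11 M ⊥) : ζ ∈ seqIndT ⁅M, M⁆ M := seqIndD_subset_T _ _ _ _ hζ

theorem star_ne {ζ : G → ℂ} (hζ : ζ ∈ S11 M ⊥) : star ζ ≠ ζ :=
  (seqIndD_odd (der_normal M) le_rfl (odd_card M) hζ).2

theorem orth_mu2 {ζ ω : G → ℂ} (hζ : ζ ∈ S11 M ⊥) (hi : ζ ∈ Irr M) (hω : ω ∈ Irr W) :
    ip M ζ (mu2 M W₁ W₂ ω) = 0 := by
  rcases c.pt.seqIndT_cases (c.S_T hζ) with ⟨β, hβ, rfl⟩ | h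
  · exact absurd hi (c.pt.muR_facts hβ).2.1
  · exact h.2 ω hω

theorem exists_ne : ∃ β ∈ irrKer W W₁, β ≠ cf1 W := by
  obtain ⟨-, -, -, h3, -, -, -, -, h4, -⟩ := c.ct.basic
  exact Finset.exists_mem_ne (by omega) _

theorem muR_mem {β : G → ℂ} (hβ : β ∈ irrKer W W₁) (h1 : β ≠ cf1 W) :
    muR M W₁ W₂ β ∈ S11 M ⊥ := (c.pd.muR_mem hβ h1).2

theorem muR0_sub {ζ : G → ℂ} (hζ : ζ ∈ S11 M ⊥) (hd : dg ζ = 𝐨(W₁)) :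
    muR M W₁ W₂ (cf1 W) - ζ ∈ CFon M (sharp ⁅M, M⁆) := by
  have h1 := seqIndT_facts (der_normal M) (c.S_T hζ)
  have h2 := seqIndT_facts (der_normal M) (c.pt.muR_facts (cf1_mem₁ c.P.dprod)).2.2.2.1
  refine mem_CFon_sharp (sub_mem h2.2.1 h1.2.1) ?_
  rw [Pi.sub_apply, h1.2.2.2.2.2.1, hd, c.pt.col_zero.2.2.2.2]
  simp

theorem sharp_subset : sharp ⁅M, M⁆ ⊆ ftA0 M := c.A_eq ▸ ftA_subset_ftA0 M

variable {d n : ℕ} {δ : ℤ} {ζ α β : G → ℂ}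

theorem bridge_apply (hc : Const345 M W₁ W₂ W d δ n) (hζ : ζ ∈ S11 M ⊥) (hα : α ∈ irrKer W W₂)
    (hβ : β ∈ irrKer W W₁) (h1 : β ≠ cf1 W) {y : G} (hy : y ∈ W) (hy2 : y ∉ W₂) :
    bridge345 M W₁ W₂ δ n ζ α β y = δ * ((α * β) y - α y) := by
  have a1 := c.pt.mu2_apply hα hβ hy hy2
  have a2 := c.pt.mu2_apply hα (cf1_mem₁ c.P.dprod) hy hy2
  rw [mul_cf1' hα, c.pt.col_zero.2.1] at a2
  have a3 : ζ y = 0 := CFon_off (seqIndT_facts (der_normal M) (c.S_T hζ)).2.1 fun hy' =>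
    hy2 (c.pt.basic.2.2.2.2.2.1 ▸ mem_inf.2 ⟨hy', hy⟩)
  rw [hc.sign β hβ h1] at a1
  simp only [bridge345, Pi.sub_apply, Pi.smul_apply, smul_eq_mul, a1, a2, a3]
  push_cast
  ring

theorem bridge_vchar (hi : ζ ∈ Irr M) (hα : α ∈ irrKer W W₂) (hβ : β ∈ irrKer W W₁) :
    bridge345 M W₁ W₂ δ n ζ α β ∈ VChar M :=
  sub_mem (sub_mem (irr_mem_VChar (c.pt.mu2_mem_Irr (c.P.dprod.mul_mem_Irr hα hβ)))
    (vchar_int_smul (irr_mem_VChar (c.pt.mu2_mem_Irr (irrKer_subset _ _ hα))) δ))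
    (vchar_nat_smul (irr_mem_VChar hi) n)

theorem bridge_on (hc : Const345 M W₁ W₂ W d δ n) (hζ : ζ ∈ S11 M ⊥) (hi : ζ ∈ Irr M)
    (hd : dg ζ = 𝐨(W₁)) (hα : α ∈ irrKer W W₂) (hβ : β ∈ irrKer W W₁) (h1 : β ≠ cf1 W) :
    bridge345 M W₁ W₂ δ n ζ α β ∈ CFon M (ftA0 M) := by
  have hCF := vchar_mem_CF (c.bridge_vchar (δ := δ) (n := n) hi hα hβ)
  refine mem_CFon_of hCF fun x hx hA => ?_
  by_cases hK : x ∈ ⁅M, M⁆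
  · obtain rfl : x = 1 := by
      by_contra hne
      exact hA (c.sharp_subset ⟨hK, hne⟩)
    have a1 := irr_one_eq (c.pt.mu2_mem_Irr (c.P.dprod.mul_mem_Irr hα hβ))
    have a2 := (c.pt.col_zero.2.2.2.1 α hα).1.2.1
    have a3 := irr_one_eq hi
    have a4 : (d : ℂ) = δ + n * 𝐨(W₁) := by exact_mod_cast hc.ratio
    rw [hc.deg α hα β hβ h1] at a1
    simp only [bridge345, Pi.sub_apply, Pi.smul_apply, smul_eq_mul, a1, a2, a3, hd, a4]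
    ring
  · obtain ⟨y, ⟨hy, hy2⟩, g, hg, rfl⟩ := c.pt.exists_conj_mem hx hK
    have hy1 : y ∈ W₁ := by
      by_contra hy1
      refine hA ((c.P.ftA0_eq c.max).1 ▸ Or.inr ⟨y, ⟨c.P.dprod.sup ▸ hy, hy1, hy2⟩, g, hg, rfl⟩)
    rw [CF_conj hCF hg, c.bridge_apply hc hζ hα hβ h1 hy hy2, Pi.mul_apply,
      apply_of_mem_cfKer ((mem_irrKer.1 hβ).2 hy1), (c.ct.isLin (irrKer_subset _ _ hβ)).2.1]
    ring

theorem ip_mu2_mu2 (hα : α ∈ irrKer W W₂) (hβ : β ∈ irrKer W W₁) (h1 : β ≠ cf1 W) :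
    ip M (mu2 M W₁ W₂ (α * β)) (mu2 M W₁ W₂ α) = 0 := by
  have := c.pt.ip_mu2 hα hα hβ (cf1_mem₁ c.P.dprod)
  rwa [mul_cf1' hα, if_neg fun h => h1 h.2] at this

theorem bridge_nsq (hc : Const345 M W₁ W₂ W d δ n) (hζ : ζ ∈ S11 M ⊥) (hi : ζ ∈ Irr M)
    (hα : α ∈ irrKer W W₂) (hβ : β ∈ irrKer W W₁) (h1 : β ≠ cf1 W) :
    nsq M (bridge345 M W₁ W₂ δ n ζ α β) = 2 + n ^ 2 := by
  have i1 := c.P.dprod.mul_mem_Irr hα hβ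
  have i2 := irrKer_subset _ _ hα
  rw [bridge345, nsq_sub_of_orth (by
    simp [ip_eq_zero_symm (c.orth_mu2 hζ hi i1), ip_eq_zero_symm (c.orth_mu2 hζ hi i2)]),
    nsq_sub_of_orth (by simp [c.ip_mu2_mu2 hα hβ h1]), nsq_int_smul, nsq_nat_smul,
    nsq_irr hi, nsq_irr (c.pt.mu2_mem_Irr i1), nsq_irr (c.pt.mu2_mem_Irr i2)]
  rcases hc.sgn with rfl | rfl <;> norm_num

end Ctx

end PF10a

open PF10a

/-- PF (10.3). -/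
theorem type345_constants (hM : IsCoatom M) (h : OfTypeP M U W₁ W₂ W) (h2 : ftType M ≠ 2) :
    𝐨(W₂).Prime ∧ ∃ d δ n, Const345 M W₁ W₂ W d δ n := by
  have c : Ctx M U W₁ W₂ W := ⟨hM, h, h2⟩
  have hp := PF09a.prime2 hM h h2
  obtain ⟨β₀, hβ₀, b1⟩ := c.exists_ne
  have i0 := c.pt.mu2_mem_Irr (irrKer_subset _ _ hβ₀)
  have haut : ∀ β ∈ irrKer W W₁, β ≠ cf1 W → ∃ u : ℂ →+* ℂ, β = cfAut u β₀ := fun β hβ h1 =>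
    (exists_aut_irrKer_prime h.dprod.normal_left (h.dprod.sdProd.relIndex_left ▸ hp) hβ₀ b1 hβ h1).1
  have hdeg : ∀ α ∈ irrKer W W₂, ∀ β ∈ irrKer W W₁, β ≠ cf1 W →
      dg (mu2 M W₁ W₂ (α * β)) = dg (mu2 M W₁ W₂ β₀) := fun α hα β hβ h1 => by
    rw [dg_congr ((c.pt.res_mu2 hβ).2.1 α hα).2.2]
    obtain ⟨u, rfl⟩ := haut β hβ h1
    rw [c.pt.mu2_cfAut u (irrKer_subset _ _ hβ₀), (irr_isChar i0).dg_cfAut]
  have hlt : 1 < dg (mu2 M W₁ W₂ β₀) := by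
    refine lt_of_le_of_ne (irr_dg_pos i0) fun e => (c.pt.not_le_cfKer hβ₀ b1).1 ?_
    exact le_cfKer_res c.pt.le2 (c.pt.le2.trans ((irr_isChar i0).isLin_of_dg e.symm).der_le_cfKer)
  obtain ⟨k, hk⟩ := c.pt.mu2_dg_mod (cf1_mem₂ h.dprod) hβ₀
  rw [hdeg _ (cf1_mem₂ h.dprod) β₀ hβ₀ b1] at hk
  have hs := PrimeTI.delt_cases M W₁ W₂ β₀
  have hk0 : 0 ≤ k := by
    refine nonneg_of_mul_nonneg_right (hk ▸ by omega) (Nat.cast_pos.2 (Nat.card_pos (α := W₁)))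
  refine ⟨hp, _, delt M W₁ W₂ β₀, k.toNat, hdeg, fun β hβ h1 => ?_, hs, hlt, ?_⟩
  · obtain ⟨u, rfl⟩ := haut β hβ h1
    exact c.pt.delt_cfAut u hβ₀
  · rw [Int.toNat_of_nonneg hk0]
    linarith

section Bridge

variable {d n : ℕ} {δ : ℤ} {ζ : G → ℂ}

/-- PF (10.5), first part. -/
theorem bridge345_facts (hM : IsCoatom M) (h : OfTypeP M U W₁ W₂ W) (h2 : ftType M ≠ 2)
    (hc : Const345 M W₁ W₂ W d δ n) (hζ : ζ ∈ S11 M ⊥) (hi : ζ ∈ Irr M) (hd : dg ζ = 𝐨(W₁))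
    {α β : G → ℂ} (hα : α ∈ irrKer W W₂) (hβ : β ∈ irrKer W W₁) (h1 : β ≠ cf1 W) :
    bridge345 M W₁ W₂ δ n ζ α β ∈ CFon M (ftA0 M) ∧ bridge345 M W₁ W₂ δ n ζ α β ∈ VChar M ∧
      tau0 M (bridge345 M W₁ W₂ δ n ζ α β) ∈ VChar ⊤ ∧
      nsq ⊤ (tau0 M (bridge345 M W₁ W₂ δ n ζ α β)) = 2 + n ^ 2 ∧
      (∀ x ∈ hatSet W₁ W₂, tau0 M (bridge345 M W₁ W₂ δ n ζ α β) x = δ * ((α * β) x - α x)) ∧
      muR M W₁ W₂ (cf1 W) - ζ ∈ CFon M (ftA M) := by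
  have c : Ctx M U W₁ W₂ W := ⟨hM, h, h2⟩
  have a1 := c.bridge_on hc hζ hi hd hα hβ h1
  have a2 := c.bridge_vchar (δ := δ) (n := n) hi hα hβ
  refine ⟨a1, a2, (ftDade0 hM).vchar a1 a2, ?_, fun x hx => ?_, c.A_eq ▸ c.muR0_sub hζ hd⟩
  · rw [nsq_eq_of_ip_eq ((ftDade0 hM).iso a1 a1), c.bridge_nsq hc hζ hi hα hβ h1]
  · rw [c.pd.basic.2.2.2.2.2 _ a1.1 x hx,
      c.bridge_apply hc hζ hα hβ h1 (h.dprod.sup ▸ hx.1) hx.2.2]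

/-- The last paragraph of the proof of PF (10.5), reused in (10.10) and (11.8). -/
theorem bridge345_coherence (hM : IsCoatom M) (h : OfTypeP M U W₁ W₂ W) (h2 : ftType M ≠ 2)
    (hc : Const345 M W₁ W₂ W d δ n) (hζ : ζ ∈ S11 M ⊥) (hi : ζ ∈ Irr M) (hd : dg ζ = 𝐨(W₁))
    {α β : G → ℂ} (hα : α ∈ irrKer W W₂) (hβ : β ∈ irrKer W W₁) (h1 : β ≠ cf1 W)
    {S₁ : Finset (G → ℂ)} (hS₁ : ConjSub S₁ (S11 M ⊥)) (hirr : S₁ ⊆ Irr M)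
    {τ₁ : (G → ℂ) →ₗ[ℂ] (G → ℂ)} (hτ : CohWith M S₁ (tau0 M) τ₁) {X Y : G → ℂ}
    (e : tau0 M (bridge345 M W₁ W₂ δ n ζ α β) = X + Y) (hY : Y ∈ Zs (S₁.image τ₁))
    (hYX : ip ⊤ Y X = 0) (hn : nsq ⊤ Y = n ^ 2) :
    X = (δ : ℂ) • (cycσ ⊤ W₁ W₂ (α * β) - cycσ ⊤ W₁ W₂ α) := by
  have c : Ctx M U W₁ W₂ W := ⟨hM, h, h2⟩
  obtain ⟨-, -, a3, a4, a5, -⟩ := bridge345_facts hM h h2 hc hζ hi hd hα hβ h1
  have hYv : Y ∈ VChar ⊤ := Zs_le_VChar (fun χ hχ => by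
    obtain ⟨ψ, hψ, rfl⟩ := Finset.mem_image.1 hχ
    exact hτ.vchar ψ (mem_Zs_of_mem hψ)) hY
  have hY0 := c.ct.vanish_of_orth (vchar_mem_CF hYv) fun ω hω =>
    ip_eq_zero_of_mem_Zs_left hY fun χ hχ => by
      obtain ⟨ψ, hψ, rfl⟩ := Finset.mem_image.1 hχ
      exact h.coherent_ortho_σ hM (c.sub hS₁) hτ hψ (hirr hψ) hω
  rw [e] at a3 a4 a5
  rw [nsq_add_of_orth (ip_eq_zero_symm hYX), hn] at a4
  have := c.ct.eq_signed_sub (φ := X) (by simpa using sub_mem a3 hYv) (by linarith) hc.sgn hα hβ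
    (cf1_mem₁ h.dprod) h1 fun x hx => by
      rw [mul_cf1' hα, ← a5 x hx, Pi.add_apply, hY0 x hx, add_zero]
  rwa [mul_cf1' hα] at this

/-- A specialization of the above, used in PF (10.5) and (10.10). -/
theorem bridge345_dade_eq (hM : IsCoatom M) (h : OfTypeP M U W₁ W₂ W) (h2 : ftType M ≠ 2)
    (hc : Const345 M W₁ W₂ W d δ n) (hi : ζ ∈ Irr M) (hd : dg ζ = 𝐨(W₁))
    {α β : G → ℂ} (hα : α ∈ irrKer W W₂) (hβ : β ∈ irrKer W W₁) (h1 : β ≠ cf1 W)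
    {S₁ : Finset (G → ℂ)} (hS₁ : ConjSub S₁ (S11 M ⊥)) (hζ : ζ ∈ S₁)
    {τ₁ : (G → ℂ) →ₗ[ℂ] (G → ℂ)} (hτ : CohWith M S₁ (tau0 M) τ₁)
    (e : ip ⊤ (tau0 M (bridge345 M W₁ W₂ δ n ζ α β)) (τ₁ ζ) = -(n : ℂ)) :
    tau0 M (bridge345 M W₁ W₂ δ n ζ α β) =
      (δ : ℂ) • (cycσ ⊤ W₁ W₂ (α * β) - cycσ ⊤ W₁ W₂ α) - (n : ℂ) • τ₁ ζ := by
  have hs := conjSub_pair hζ (hS₁.2 ζ hζ)
  have hz := hτ.dirr hζ hi
  have := bridge345_coherence hM h h2 hc (hS₁.1 hζ) hi hd hα hβ h1 (hs.trans hS₁.1)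
    (by
      intro χ hχ
      rcases Finset.mem_insert.1 hχ with rfl | hχ
      · exact hi
      · exact Finset.mem_singleton.1 hχ ▸ star_mem_Irr hi)
    (hτ.mono hs.1) (X := tau0 M (bridge345 M W₁ W₂ δ n ζ α β) + (n : ℂ) • τ₁ ζ)
    (Y := -((n : ℂ) • τ₁ ζ)) (by abel)
    (neg_mem (natCast_smul_mem_Zs (mem_Zs_of_mem
      (Finset.mem_image_of_mem _ (Finset.mem_insert_self _ _))) n))
    (ip_eq_zero_symm (by simp [e, hz.ip_self]))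
    (by rw [nsq_neg, nsq_nat_smul, hz.nsq, mul_one])
  rw [← this]
  abel

end Bridge

/-- PF (10.9). -/
theorem type345_dade_bridge0 (hM : IsCoatom M) (h : OfTypeP M U W₁ W₂ W) (h2 : ftType M ≠ 2)
    {ζ : G → ℂ} (hζ : ζ ∈ S11 M ⊥) (hi : ζ ∈ Irr M) (hd : dg ζ = 𝐨(W₁)) (hlt : 𝐨(W₁) < 𝐨(W₂)) :
    ∃ χ, Dirr ⊤ χ ∧ tau0 M (muR M W₁ W₂ (cf1 W) - ζ) = etaCol W₁ W₂ (cf1 W) - χ ∧
      ∀ ω ∈ Irr W, ip ⊤ χ (cycσ ⊤ W₁ W₂ ω) = 0 := by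
  have c : Ctx M U W₁ W₂ W := ⟨hM, h, h2⟩
  have e1 := cf1_mem₁ h.dprod
  have e2 := cf1_mem₂ h.dprod
  obtain ⟨-, -, w3, -, o1, o2, -, -, k2, -⟩ := c.ct.basic
  have hm := c.pt.muR_facts e1
  have a0 := c.muR0_sub hζ hd
  have a1 := CFon_mono M c.sharp_subset a0
  obtain ⟨ψ, hψ⟩ : ∃ ψ, ψ = tau0 M (muR M W₁ W₂ (cf1 W) - ζ) := ⟨_, rfl⟩
  have a2 : ψ ∈ VChar ⊤ :=
    hψ ▸ (ftDade0 hM).vchar a1 (sub_mem hm.1.mem_VChar (irr_mem_VChar hi))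
  have a3 : nsq ⊤ ψ = 𝐨(W₁) + 1 := by
    rw [hψ, nsq_eq_of_ip_eq ((ftDade0 hM).iso a1 a1), nsq_sub_of_orth
      (seqIndT_orth (der_normal M) hm.2.2.2.1 (c.S_T hζ) fun e => hm.2.1 (e ▸ hi)), hm.2.2.1,
      nsq_irr hi]
  have a4 : ∀ x ∈ hatSet W₁ W₂, ψ x = 0 := fun x hx => by
    rw [hψ, c.pd.basic.2.2.2.2.2 _ a1.1 x hx]
    exact CFon_off a0 fun hx' => c.pt.basic.2.2.2.2.2.2.2 x hx hx'.1
  have a5 : ip ⊤ ψ (cycσ ⊤ W₁ W₂ (cf1 W * cf1 W)) = 1 := by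
    have := (hm.2.2.2.2 _ e1).2 _ e2
    rw [if_pos rfl, mul_cf1' e1, c.pt.col_zero.1] at this
    rw [mul_cf1' e1, c.ct.σ_cf1, hψ, (ftDade0 hM).ip_dade_cf1 a1, ip_sub_left,
      (seqIndD_orth_cf1 (der_normal M) le_rfl hζ).1, ip_comm_of_int (n := 1) (by simpa using this)]
    simp
  have a6 : cycNC ⊤ W₁ W₂ ψ ≤ 𝐨(W₁) + 1 := by
    have := c.ct.NC_le_nsq a2
    rw [a3] at this
    exact_mod_cast this
  rcases c.ct.small_NC (vchar_mem_CF a2) a4 (by rw [min_eq_left hlt.le]; omega) e2 e1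
    (by rw [a5]; exact one_ne_zero) with b | b
  · have b1 : ∀ ω ∈ Irr W, ip ⊤ (etaCol W₁ W₂ (cf1 W) - ψ) (cycσ ⊤ W₁ W₂ ω) = 0 := fun ω hω => by
      obtain ⟨α, hα, β, hβ, rfl⟩ := h.dprod.exists_mul hω
      rw [ip_sub_left, b α hα β hβ, (c.ct.ip_etaCol hα e1 hβ).1, a5]
      simp [eq_comm]
    have b2 := c.ct.ip_etaCol e2 e1 e1
    refine ⟨etaCol W₁ W₂ (cf1 W) - ψ, dirr_of_nsq_one (sub_mem b2.2.2.1 a2) ?_, by rw [← hψ]; abel,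
      b1⟩
    have b3 : ip ⊤ (etaCol W₁ W₂ (cf1 W)) (etaCol W₁ W₂ (cf1 W) - ψ) = 0 := by
      apply ip_eq_zero_symm
      conv_lhs => rw [c.ct.etaCol_eq, ip_sum_right, ← c.ct.etaCol_eq]
      exact Finset.sum_eq_zero fun α hα => b1 _ (h.dprod.mul_mem_Irr hα e1)
    have b4 := nsq_sub_of_orth b3
    rw [sub_sub_cancel, a3, nsq_eq_of_ip (r := 𝐨(W₁)) (by simpa using b2.2.1)] at b4
    linarith
  · exfalso
    have b1 := on_Irr W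
    have b2 : ((irrKer W W₁).image (cycσ ⊤ W₁ W₂)).card = 𝐨(W₂) := by
      rw [Finset.card_image_of_injOn (c.ct.on_image_σ.2.mono (irrKer_subset W W₁)), k2]
    have b3 := (c.ct.on_image_σ.1.mono
      (Finset.image_subset_image (irrKer_subset W W₁))).bessel ψ
    rw [Finset.sum_congr rfl (g := fun _ => (1 : ℝ)) fun χ hχ => by
      obtain ⟨β, hβ, rfl⟩ := Finset.mem_image.1 hχ
      have := b _ e2 β hβ
      rw [cf1_mul' hβ, if_pos rfl, a5] at this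
      rw [this]; simp, Finset.sum_const, b2, a3, nsmul_eq_mul, mul_one] at b3
    have b4 : 𝐨(W₂) ≤ 𝐨(W₁) + 1 := by exact_mod_cast b3
    obtain ⟨r, hr⟩ := o1
    obtain ⟨s, hs⟩ := o2
    omega

end Cfsg.Agent.FT
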