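/-
PF (10.5)-(10.8).
-/
import Cfsg.Agent.FT.P.PF10a_1

set_option autoImplicit false
set_option linter.unusedSectionVars false
set_option linter.unusedVariables false

namespace Cfsg.Agent.FT

open Subgroup Cfsg Cfsg.Agent
open scoped commutatorElement

universe u

variable {G : Type u} [Group G] [Finite G] [MinOdd G]

variable {M U W₁ W₂ W : Subgroup G}

namespace PF10a

theorem two_mul_succ_le {a k : ℕ} (ha : Odd a) (hk : Odd k) (h1 : k ≠ 1) (h : a ∣ k - 1) :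
    2 * a + 1 ≤ k := by
  obtain ⟨t, ht⟩ := h
  obtain ⟨r, rfl⟩ := hk
  have h2 : Even (a * t) := ⟨r, by omega⟩
  obtain ⟨s, rfl⟩ := (Nat.even_mul.1 h2).resolve_left (Nat.not_even_iff_odd.2 ha)
  rcases s with _ | s
  · omega
  · rw [Nat.add_sub_cancel] at ht
    nlinarith [Nat.zero_le (a * s)]

theorem frobKerMod_dvd {L K N : Subgroup G} (h : FrobKerMod L K N) :
    K.relIndex L ∣ N.relIndex K - 1 := by
  haveI := H1.normal_subgroupOf_of_le h.normN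
  obtain ⟨R, h1, h2⟩ := ((frobKerMod_iff_bar le_rfl h.normN h.ltN.le h.ltK.le).1 h).exists_frob
  have := h1.card_dvd
  rwa [← h1.sdProd.relIndex_left, h2, H1.relIndex_bar (h.ltN.le.trans h.ltK.le) h.ltK.le le_rfl,
    sup_of_le_left h.ltN.le, sup_of_le_left (h.ltN.le.trans h.ltK.le),
    H1.card_bar h.ltK.le] at this

theorem final_arith {a b h u m N B₁ B₂ x : ℝ} (ha : 3 ≤ a) (hb : 3 ≤ b) (hh : 1 ≤ h) (hu : 7 ≤ u)
    (hm : (2 * a + 1) * b ≤ m) (hN : 0 < N) (h1 : B₁ * (h * u * b) = (h - 1) * N)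
    (h2 : B₂ * (a * b) = (a - 1) * (b - 1) * N) (hx : 1 - a / m ≤ x)
    (h3 : N⁻¹ * (-(B₁ + B₂)) + (x - (m - 1) / (m * a)) ≤ 0) : False := by
  have m0 : 0 < m := by nlinarith
  have e1 : N⁻¹ * B₁ = (h - 1) / (h * u * b) := by
    rw [eq_div_iff (by positivity), mul_assoc, h1]
    field_simp
  have e2 : N⁻¹ * B₂ = (a - 1) * (b - 1) / (a * b) := by
    rw [eq_div_iff (by positivity), mul_assoc, h2]
    field_simp
  have b1 : (h - 1) / (h * u * b) ≤ 1 / (7 * b) := by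
    rw [div_le_div_iff₀ (by positivity) (by positivity)]
    nlinarith [mul_le_mul_of_nonneg_left hu (by positivity : 0 ≤ h * b)]
  have b2 : (m - 1) / (m * a) ≤ 1 / a := by
    rw [div_le_div_iff₀ (by positivity) (by positivity)]
    nlinarith
  have b3 : a / m ≤ 1 / (2 * b) := by
    rw [div_le_div_iff₀ (by positivity) (by positivity)]
    nlinarith
  have b4 : 1 - 1 / (2 * b) - 1 / a - 1 / (7 * b) - (a - 1) * (b - 1) / (a * b) =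
      (5 * a - 14) / (14 * a * b) := by
    field_simp
    ring
  have b5 : 0 < (5 * a - 14) / (14 * a * b) := div_pos (by linarith) (by positivity)
  rw [mul_neg, mul_add, e1, e2] at h3
  linarith

namespace Ctx

variable (c : Ctx M U W₁ W₂ W)
include c

variable {d n : ℕ} {δ : ℤ} {ζ α β : G → ℂ} {τ₁ : (G → ℂ) →ₗ[ℂ] (G → ℂ)}

theorem muR_sub (hc : Const345 M W₁ W₂ W d δ n) (hζ : ζ ∈ S11 M ⊥) (hd : dg ζ = 𝐨(W₁))
    (hβ : β ∈ irrKer W W₁) (h1 : β ≠ cf1 W) :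
    muR M W₁ W₂ β - (d : ℂ) • ζ ∈ Zs0 (S11 M ⊥) := by
  refine sub_mem_Zs0 (mem_Zs_of_mem (c.muR_mem hβ h1)) (natCast_smul_mem_Zs (mem_Zs_of_mem hζ) d) ?_
  have := hc.deg _ (cf1_mem₂ c.P.dprod) β hβ h1
  rw [cf1_mul' hβ] at this
  rw [(c.pt.muR_facts hβ).1.one_eq, (c.pt.res_mu2 hβ).2.2.2.2, this, Pi.smul_apply,
    (seqIndT_facts (der_normal M) (c.S_T hζ)).2.2.2.2.2.1, hd]
  simp [mul_comm]

theorem ip_muR (hζ : ζ ∈ S11 M ⊥) (hi : ζ ∈ Irr M) (hβ : β ∈ irrKer W W₁) :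
    ip M ζ (muR M W₁ W₂ β) = 0 :=
  seqIndT_orth (der_normal M) (c.S_T hζ) (c.pt.muR_facts hβ).2.2.2.1
    fun e => (c.pt.muR_facts hβ).2.1 (e ▸ hi)

variable (hc : Const345 M W₁ W₂ W d δ n) (hζ : ζ ∈ S11 M ⊥) (hi : ζ ∈ Irr M) (hd : dg ζ = 𝐨(W₁))
  (hτ : CohWith M (S11 M ⊥) (tau0 M) τ₁)
include hc hζ hi hd hτ

theorem ip_tau (hα : α ∈ irrKer W W₂) (hβ : β ∈ irrKer W W₁) (h1 : β ≠ cf1 W) {φ : G → ℂ}
    (hφ : φ ∈ Zs0 (S11 M ⊥)) : ip ⊤ (tau0 M (bridge345 M W₁ W₂ δ n ζ α β)) (τ₁ φ) =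
      ip M (bridge345 M W₁ W₂ δ n ζ α β) φ := by
  rw [hτ.agree φ hφ]
  exact (ftDade0 c.max).iso (c.bridge_on hc hζ hi hd hα hβ h1)
    (c.pd.Zs0_on subset_rfl hφ).2.1

theorem ip_bridge_star (hα : α ∈ irrKer W W₂) (hβ : β ∈ irrKer W W₁) :
    ip M (bridge345 M W₁ W₂ δ n ζ α β) (star ζ) = 0 := by
  have s1 := star_mem_seqIndD hζ
  have s2 := star_mem_Irr hi
  simp [bridge345, ip_eq_zero_symm (c.orth_mu2 s1 s2 (c.P.dprod.mul_mem_Irr hα hβ)),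
    ip_eq_zero_symm (c.orth_mu2 s1 s2 (irrKer_subset _ _ hα)),
    (seqIndD_odd (der_normal M) le_rfl (odd_card M) hζ).1]

theorem ip_bridge_muR (hα : α ∈ irrKer W W₂) (hβ : β ∈ irrKer W W₁) {γ : G → ℂ}
    (hγ : γ ∈ irrKer W W₁) (h1 : γ ≠ cf1 W) :
    ip M (bridge345 M W₁ W₂ δ n ζ α β) (muR M W₁ W₂ γ) = if β = γ then 1 else 0 := by
  have a1 := ((c.pt.muR_facts (cf1_mem₁ c.P.dprod)).2.2.2.2 γ hγ).2 α hα
  rw [mul_cf1' hα, if_neg h1.symm] at a1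
  simp [bridge345, ((c.pt.muR_facts hβ).2.2.2.2 γ hγ).2 α hα, a1, c.ip_muR hζ hi hγ]

/-- PF (10.5), second part. -/
theorem tau_bridge (hα : α ∈ irrKer W W₂) (hβ : β ∈ irrKer W W₁) (h1 : β ≠ cf1 W) :
    tau0 M (bridge345 M W₁ W₂ δ n ζ α β) =
      (δ : ℂ) • (cycσ ⊤ W₁ W₂ (α * β) - cycσ ⊤ W₁ W₂ α) - (n : ℂ) • τ₁ ζ := by
  refine bridge345_dade_eq c.max c.P c.ne2 hc hi hd hα hβ h1
    ⟨subset_rfl, fun χ hχ => star_mem_seqIndD hχ⟩ hζ hτ ?_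
  obtain ⟨-, -, a3, a4, -⟩ := bridge345_facts c.max c.P c.ne2 hc hζ hi hd hα hβ h1
  have s1 := star_mem_seqIndD hζ
  have s0 := c.ip_bridge_star hc hζ hi hd hτ hα hβ
  obtain ⟨a, ha⟩ := vchar_ip_int a3 (hτ.vchar _ (mem_Zs_of_mem s1))
  have b1 := c.ip_tau hc hζ hi hd hτ hα hβ h1
    (sub_mem_Zs0 (mem_Zs_of_mem hζ) (mem_Zs_of_mem s1) (irr_isChar hi).star_one.symm)
  have b0 : ip M (bridge345 M W₁ W₂ δ n ζ α β) ζ = -n := by
    simp [bridge345, ip_eq_zero_symm (c.orth_mu2 hζ hi (c.P.dprod.mul_mem_Irr hα hβ)),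
      ip_eq_zero_symm (c.orth_mu2 hζ hi (irrKer_subset _ _ hα)), ip_irr_self hi]
  rw [map_sub, ip_sub_right, ip_sub_right, ha, s0, b0] at b1
  obtain ⟨k1, k2, -⟩ := (c.pt.star_facts hβ).2.2.2 h1
  have hk := star_mem_irrKer hβ
  have b2 := c.ip_tau hc hζ hi hd hτ hα hβ h1 (c.muR_sub hc s1 (by rw [dg_star, hd]) hk k2)
  rw [map_sub, map_smul, ip_sub_right, ip_sub_right, ip_smul_right, ip_smul_right, ha, s0,
    c.ip_bridge_muR hc hζ hi hd hτ hα hβ hk k2, if_neg k1.symm, mul_zero, sub_zero,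
    sub_eq_zero] at b2
  have b3 := norm_ip_sq_le ⊤ (tau0 M (bridge345 M W₁ W₂ δ n ζ α β)) (τ₁ (muR M W₁ W₂ (star β)))
  rw [b2, a4, hτ.nsq_eq (mem_Zs_of_mem (c.muR_mem hk k2)), (c.pt.muR_facts hk).2.2.1] at b3
  simp only [map_natCast, norm_mul, Complex.norm_natCast, Complex.norm_intCast, mul_pow,
    sq_abs] at b3
  have b4 : (d : ℤ) ^ 2 * a ^ 2 ≤ (2 + n ^ 2) * 𝐨(W₁) := by exact_mod_cast b3
  obtain rfl : a = 0 := by
    by_contra ha0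
    have d1 : Odd d := by
      rw [← hc.deg α hα β hβ h1]
      exact (odd_card M).of_dvd_nat
        (irr_dg_dvd_card (c.pt.mu2_mem_Irr (c.P.dprod.mul_mem_Irr hα hβ)))
    obtain ⟨-, -, w3, -, o1, -⟩ := c.ct.basic
    have d2 := hc.ratio
    have d3 := hc.one_lt
    have d4 : 2 ≤ n := by
      rcases n with _ | _ | n
      · rcases hc.sgn with e | e <;> simp [e] at d2 <;> omega
      · obtain ⟨r, hr⟩ := d1
        obtain ⟨s, hs⟩ := o1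
        rcases hc.sgn with e | e <;> simp [e] at d2 <;> omega
      · omega
    have d5 : (1 : ℤ) ≤ a ^ 2 := (one_le_sq_iff_one_le_abs a).2 (Int.one_le_abs ha0)
    obtain ⟨w, hw⟩ : ∃ w : ℤ, w = 𝐨(W₁) := ⟨_, rfl⟩
    obtain ⟨N, hN⟩ : ∃ N : ℤ, N = n := ⟨_, rfl⟩
    rw [← hw, ← hN] at d2 b4
    have w3' : 3 ≤ w := by omega
    have d4' : 2 ≤ N := by omega
    have d6 : N * w - 1 ≤ d := by rcases hc.sgn with e | e <;> omega
    have d7 : (N * w - 1) ^ 2 ≤ (d : ℤ) ^ 2 := pow_le_pow_left₀ (by nlinarith) d6 2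
    have d8 : (d : ℤ) ^ 2 ≤ (2 + N ^ 2) * w := by nlinarith [sq_nonneg (d : ℤ)]
    have d9 : 3 * (N ^ 2 * w) ≤ N ^ 2 * w * w := by nlinarith [mul_nonneg (sq_nonneg N) (by omega : 0 ≤ w)]
    nlinarith [mul_nonneg (by omega : 0 ≤ w) (by nlinarith : 0 ≤ N ^ 2 - N - 2)]
  simpa using b1

theorem orth_σ {χ ω : G → ℂ} (hχ : χ ∈ S11 M ⊥) (hχi : χ ∈ Irr M) (hω : ω ∈ Irr W) :
    ip ⊤ (τ₁ χ) (cycσ ⊤ W₁ W₂ ω) = 0 :=
  c.P.coherent_ortho_σ c.max (c.sub ⟨subset_rfl, fun χ hχ => star_mem_seqIndD hχ⟩) hτ hχ hχi hω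

/-- PF (10.6)(a), first part. -/
theorem tau_muR (hβ : β ∈ irrKer W W₁) (h1 : β ≠ cf1 W) :
    τ₁ (muR M W₁ W₂ β) = (δ : ℂ) • etaCol W₁ W₂ β := by
  rcases c.P.coherent_muR c.max (c.sub ⟨subset_rfl, fun χ hχ => star_mem_seqIndD hχ⟩)
    ⟨ζ, hζ, hi⟩ hβ (c.muR_mem hβ h1) hτ with e | ⟨e, -⟩
  · rwa [hc.sign β hβ h1] at e
  exfalso
  have hα := cf1_mem₂ c.P.dprod
  have e1 := cf1_mem₁ c.P.dprod
  have s1 := star_mem_seqIndD hζ
  have s2 := star_mem_Irr hi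
  have hz := c.muR_sub hc s1 (by rw [dg_star, hd]) hβ h1
  have b1 := c.ip_tau hc hζ hi hd hτ hα hβ h1 hz
  obtain ⟨k1, k2, -⟩ := (c.pt.star_facts hβ).2.2.2 h1
  have hk := star_mem_irrKer hβ
  have b2 := hτ.iso ζ (mem_Zs_of_mem hζ) _ hz.1
  have b3 := (c.ct.ip_etaCol hα hk hβ).1
  have b4 := (c.ct.ip_etaCol hα hk e1).1
  rw [if_neg k1] at b3
  rw [if_neg k2, mul_cf1' hα] at b4
  rw [c.tau_bridge hc hζ hi hd hτ hα hβ h1, ip_sub_left, ip_smul_left, ip_smul_left, b2, map_sub,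
    map_smul, e] at b1
  simp [ip_eq_zero_symm b3, ip_eq_zero_symm b4, c.ip_muR hζ hi hβ,
    ip_eq_zero_symm (c.orth_σ hc hζ hi hd hτ s1 s2 (c.P.dprod.mul_mem_Irr hα hβ)),
    ip_eq_zero_symm (c.orth_σ hc hζ hi hd hτ s1 s2 (cf1_mem_Irr W)),
    (seqIndD_odd (der_normal M) le_rfl (odd_card M) hζ).1,
    c.ip_bridge_star hc hζ hi hd hτ hα hβ, c.ip_bridge_muR hc hζ hi hd hτ hα hβ hβ h1] at b1

/-- PF (10.6)(a), second part. -/
theorem tau_muR0 : tau0 M (muR M W₁ W₂ (cf1 W) - ζ) = etaCol W₁ W₂ (cf1 W) - τ₁ ζ := by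
  obtain ⟨β, hβ, h1⟩ := c.exists_ne
  have k1 := c.ct.basic.2.2.2.2.2.2.2.1
  have a4 : (d : ℂ) = δ + n * 𝐨(W₁) := by exact_mod_cast hc.ratio
  have a0 : muR M W₁ W₂ (cf1 W) = ∑ α ∈ irrKer W W₂, mu2 M W₁ W₂ α := by
    rw [c.pt.muR_eq]
    exact Finset.sum_congr rfl fun α hα => by rw [mul_cf1' hα]
  have a0' : etaCol W₁ W₂ (cf1 W) = ∑ α ∈ irrKer W W₂, cycσ ⊤ W₁ W₂ α := by
    rw [c.ct.etaCol_eq]
    exact Finset.sum_congr rfl fun α hα => by rw [mul_cf1' hα]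
  have a1 : (δ : ℂ) • (muR M W₁ W₂ (cf1 W) - ζ) = (muR M W₁ W₂ β - (d : ℂ) • ζ) -
      ∑ α ∈ irrKer W W₂, bridge345 M W₁ W₂ δ n ζ α β := by
    simp only [bridge345, Finset.sum_sub_distrib, ← Finset.smul_sum, ← a0, ← c.pt.muR_eq,
      Finset.sum_const, k1, a4, ← Nat.cast_smul_eq_nsmul ℂ]
    module
  have a2 := congrArg (tau0 M) a1
  rw [map_smul, map_sub (tau0 M) _ (∑ α ∈ irrKer W W₂, _),
    ← hτ.agree _ (c.muR_sub hc hζ hd hβ h1), map_sub τ₁, map_smul τ₁,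
    c.tau_muR hc hζ hi hd hτ hβ h1, map_sum,
    Finset.sum_congr rfl fun α hα => c.tau_bridge hc hζ hi hd hτ hα hβ h1] at a2
  simp only [Finset.sum_sub_distrib, ← Finset.smul_sum, ← a0', ← c.ct.etaCol_eq,
    Finset.sum_const, k1, a4, ← Nat.cast_smul_eq_nsmul ℂ] at a2
  refine smul_right_injective _ (r := (δ : ℂ)) (by rcases hc.sgn with e | e <;> simp [e]) ?_
  simp only
  rw [a2]
  module

/-- PF (10.6)(b). -/
theorem one_le_norm {g : G} (hg : g ∉ dadeSupp (sharp ⁅M, M⁆) (ftR M))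
    (hco : (orderOf g).Coprime 𝐨(W₁)) : 1 ≤ ‖τ₁ ζ g‖ := by
  have a1 := (ftDade0 c.max).dade_eq_zero_of_supp (c.muR0_sub hζ hd) (g := g)
    fun h => hg (dadeSupp_mono Set.inter_subset_right _ h)
  rw [c.tau_muR0 hc hζ hi hd hτ, Pi.sub_apply, sub_eq_zero, c.ct.etaCol_eq, Finset.sum_apply,
    Finset.sum_congr rfl fun α hα => by rw [mul_cf1' hα]] at a1
  have a2 : ∀ α ∈ irrKer W W₂, ∃ m : ℤ, cycσ ⊤ W₁ W₂ α g = m := fun α hα =>
    c.ct.σ_int_of_coprime (irrKer_subset _ _ hα) Nat.card_pos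
      (c.ct.pow_card_of_mem_irrKer.1 α hα) hco
  choose! m hm using a2
  have e2 := cf1_mem₂ c.P.dprod
  have a3 : ∑ α ∈ (irrKer W W₂).erase (cf1 W), (m α : ZMod 2) = 0 := by
    refine Finset.sum_involution (fun α _ => star α) (fun α hα => ?_) (fun α hα _ e => ?_)
      (fun α hα => ?_) fun α _ => star_star α
    · have h1 := Finset.mem_of_mem_erase hα
      have h2 := hm _ (star_mem_irrKer h1)
      rw [← c.ct.star_σ (irr_mem_CF (irrKer_subset _ _ h1)), star_apply', hm α h1,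
        map_intCast, Int.cast_inj] at h2
      rw [← h2]
      exact CharTwo.add_self_eq_zero _
    · exact Finset.ne_of_mem_erase hα ((odd_star_irr_eq_iff (odd_card W)
        (irrKer_subset _ _ (Finset.mem_of_mem_erase hα))).1 e)
    · refine Finset.mem_erase.2 ⟨fun e => Finset.ne_of_mem_erase hα ?_,
        star_mem_irrKer (Finset.mem_of_mem_erase hα)⟩
      rw [← star_star α, e, star_cf1]
  have a4 : m (cf1 W) = 1 := by
    have := hm _ e2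
    rw [c.ct.σ_cf1, cf1_top_apply] at this
    exact_mod_cast this.symm
  rw [← Int.cast_sum, ZMod.intCast_zmod_eq_zero_iff_dvd] at a3
  rw [← a1, Finset.sum_congr rfl hm, ← Int.cast_sum, ← Finset.add_sum_erase _ _ e2, a4,
    Complex.norm_intCast]
  have : 1 ≤ |1 + ∑ α ∈ (irrKer W W₂).erase (cf1 W), m α| := Int.one_le_abs (by omega)
  exact_mod_cast this

/-- PF (10.7). -/
theorem frob_partner {S V : Subgroup G} (hp : TypePPair M S W₁ W₂ W) (hS : OfTypeP S V W₂ W₁ W) :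
    Frob (MF S) V := by
  have h2 := hp.type2.resolve_left c.ne2
  obtain ⟨H₀, h9⟩ := exists_hyp9 hp.maxT hS (by omega)
  refine h9.reducible_core_cases.elim (fun ⟨l, hl, li, ld, _⟩ => False.elim ?_)
    fun h => h.2.2.2.2.2 h2
  obtain ⟨r1, ⟨ν, hν, νr⟩, -⟩ := h9.reducible_core_ind
  have νd := (r1 ν (seqIndD_mono _ _ le_rfl le_sup_left hν) νr).deg
  have hl' := (hS.conjSub_S9 hp.maxT _).1 hl
  have hν' := (hS.conjSub_S9 hp.maxT _).1 hν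
  have f1 := seqIndT_facts (der_normal S) (seqIndD_subset_T _ _ _ _ hl)
  have f2 := seqIndT_facts (der_normal S) (seqIndD_subset_T _ _ _ _ hν)
  have hdeg : ν 1 = l 1 := by rw [f1.2.2.2.2.2.1, f2.2.2.2.2.2.1, νd, ld]
  obtain ⟨R, hR, -⟩ := hS.subcoherent hp.maxT
  obtain ⟨S₁, m1, m2, hS₁, τ₂, hτ₂⟩ := hR.pair_degree_coherence hν' hl' hdeg
  obtain ⟨γ, hγ, rfl⟩ := (hS.primeTI.seqIndT_cases (seqIndD_subset_T _ _ _ _ hν)).resolve_right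
    fun h => νr h.1
  obtain ⟨ε, hε, γ', hγ', e⟩ : ∃ ε : ℤ, (ε = 1 ∨ ε = -1) ∧ ∃ γ' ∈ irrKer W W₂,
      τ₂ (muR S W₂ W₁ γ) = (ε : ℂ) • etaCol W₂ W₁ γ' := by
    have hs := PrimeTI.delt_cases S W₂ W₁ γ
    rcases hS.coherent_muR hp.maxT hS₁ ⟨l, m2, li⟩ hγ m1 hτ₂ with e | ⟨e, -⟩
    · exact ⟨_, hs, γ, hγ, e⟩
    · exact ⟨-delt S W₂ W₁ γ, by omega, star γ, star_mem_irrKer hγ, by rw [e]; simp⟩
  have hdis : Disjoint (dadeSupp (ftA1 M) (ftR M)) (dadeSupp (ftA S) (ftR S)) := by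
    by_contra hcon
    obtain ⟨g, x, hx, x1, x2⟩ := (supports_conj_iff c.max hp.maxT hp.not_conj).2 hcon
    obtain ⟨-, u1, -, -, -, -, -, u2, -⟩ := ftSupport_facts c.max (ftA_subset_ftA0 M hx) x1
    refine c.P.ftType_ne_one c.max (ftType_eq_one_of_frobKer c.max (u2 ?_))
    rw [← u1.eq (isCoatom_conj hp.maxT g) x2, ftType_conj, h2]
  obtain ⟨β, hβ, h1⟩ := c.exists_ne
  have z1 := c.muR_sub hc hζ hd hβ h1
  have z2 := sub_mem_Zs0 (mem_Zs_of_mem m1) (mem_Zs_of_mem m2) hdeg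
  have o := disjoint_dade_ortho hdis (muR M W₁ W₂ β - (d : ℂ) • ζ) (muR S W₂ W₁ γ - l)
  rw [← (tau_eq_dade_ftA1 c.max (c.A1_eq ▸ (c.pd.Zs0_on subset_rfl z1).1)).1, ← hτ.agree _ z1,
    show dade (ftA S) (ftR S) (muR S W₂ W₁ γ - l) = tau0 S (muR S W₂ W₁ γ - l) from
      (tau0_eq_tauA hp.maxT ((hS.prDade hp.maxT).Zs0_on hS₁.1 z2).1).symm, ← hτ₂.agree _ z2,
    map_sub, map_sub, map_smul, e, c.tau_muR hc hζ hi hd hτ hβ h1] at o
  have q1 : ip ⊤ (etaCol W₁ W₂ β) (etaCol W₂ W₁ γ') = 1 := by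
    rw [c.ct.etaCol_eq, ip_sum_left, Finset.sum_congr rfl (g := fun α => if γ' = α then 1 else 0)
      fun α hα => ?_, Finset.sum_ite_eq, if_pos hγ']
    have := (c.ct.symm.ip_etaCol hβ hγ' hα).1
    rw [cycσ_comm, mul_comm] at this
    rw [← conj_ip, this]
    split_ifs <;> simp
  have q2 : ip ⊤ (τ₁ ζ) (etaCol W₂ W₁ γ') = 0 := by
    rw [c.ct.symm.etaCol_eq, ip_sum_right]
    exact Finset.sum_eq_zero fun α hα => cycσ_comm ⊤ W₁ W₂ ▸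
      c.orth_σ hc hζ hi hd hτ hζ hi (c.P.dprod.symm.mul_mem_Irr hα hγ')
  have q3 : ip ⊤ (etaCol W₁ W₂ β) (τ₂ l) = 0 := by
    rw [c.ct.etaCol_eq, ip_sum_left]
    exact Finset.sum_eq_zero fun α hα => ip_eq_zero_symm (cycσ_comm ⊤ W₂ W₁ ▸
      hS.coherent_ortho_σ hp.maxT hS₁ hτ₂ m2 li (c.P.dprod.mul_mem_Irr hα hβ))
  obtain ⟨k, hk⟩ := vchar_ip_int (hτ.vchar ζ (mem_Zs_of_mem hζ)) (hτ₂.vchar l (mem_Zs_of_mem m2))
  simp only [ip_sub_left, ip_sub_right, ip_smul_left, ip_smul_right, q1, q2, q3, hk, map_intCast,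
    mul_zero, mul_one, sub_zero, zero_sub, sub_neg_eq_add] at o
  have o' : ε * δ + d * k = 0 := by exact_mod_cast o
  have d1 : (d : ℤ) ∣ 1 := by
    refine Dvd.intro (-(k * (ε * δ))) ?_
    have : (ε * δ) * (ε * δ) = 1 := by
      rcases hε with rfl | rfl <;> rcases hc.sgn with rfl | rfl <;> norm_num
    linear_combination this - (ε * δ) * o'
  have := Int.le_of_dvd one_pos d1
  have := hc.one_lt
  omega

omit hc hζ hi hd hτ in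
theorem mem_cover {S V : Subgroup G} (hp : TypePPair M S W₁ W₂ W) (hS : OfTypeP S V W₂ W₁ W)
    (hF : Frob (MF S) V) {g : G} (hg : ¬ (orderOf g).Coprime 𝐨(W₁)) :
    g ∈ classSupp (sharp (MF S)) ⊤ ∪ classSupp (hatSet W₁ W₂) ⊤ := by
  have h2 := hp.type2.resolve_left c.ne2
  obtain ⟨p, hp', p1, p2⟩ := Nat.Prime.not_coprime_iff_dvd.1 hg
  obtain ⟨P, hP⟩ := exists_isSyl hp' (MF S)
  have hP' := hP.trans_hall hp' (ftCore_facts hp.maxT).1.hall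
    ⟨hp', p2.trans (card_dvd_of_le hS.le2F)⟩
  have o1 : orderOf (g ^ (orderOf g / p)) = p :=
    orderOf_pow_orderOf_div (orderOf_pos g).ne' p1
  obtain ⟨k, -, hk⟩ := hP'.exists_conj_le hp' (Q := zpowers (g ^ (orderOf g / p)))
    (isPGroup_of_card_prime (by rw [Nat.card_zpowers, o1])) le_top
  have x1 : k * g ^ (orderOf g / p) * k⁻¹ ∈ MF S := hP.le (hk (conj_mem_conj (mem_zpowers _) k))
  have x2 : k * g ^ (orderOf g / p) * k⁻¹ ≠ 1 := fun e => by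
    rw [conj_eq_one_iff.1 e, orderOf_one] at o1
    exact hp'.one_lt.ne o1
  have x3 : k * g * k⁻¹ ∈ 𝐂[k * g ^ (orderOf g / p) * k⁻¹] := by
    rw [cent1_conj]
    exact conj_mem_conj (cent1_le_cent1_pow g _ (self_mem_cent1 g)) k
  have x4 : k * g * k⁻¹ ∈ S :=
    (hS.ofTypeIItoIV hp.maxT (by omega)).tiF.cent1_le ⟨MF_le_fittingOf S x1, x2⟩ ⟨mem_top _, x3⟩
  have x5 : ∀ A : Set G, k * g * k⁻¹ ∈ classSupp A ⊤ → g ∈ classSupp A ⊤ := fun A h =>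
    (conj_mem_classSupp_iff (mem_top k)).1 h
  by_cases hK : k * g * k⁻¹ ∈ ⁅S, S⁆
  · refine Or.inl (x5 _ (subset_classSupp _ _ ⟨hF.cent1_le x1 x2 ⟨hS.sdD.sup ▸ hK, x3⟩, ?_⟩))
    intro e
    rw [conj_eq_one_iff.1 e, orderOf_one] at hg
    exact hg (Nat.coprime_one_left _)
  · obtain ⟨y, ⟨hy, hy1⟩, s, -, e⟩ := hS.primeTI.exists_conj_mem x4 hK
    refine Or.inr (x5 _ ⟨y, ⟨c.P.dprod.sup ▸ hy, hy1, fun hy2 => hg ?_⟩, s, mem_top _, e⟩)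
    have o2 : orderOf g = orderOf y := by
      rw [← (MulAut.conj k).orderOf_eq g, ← (MulAut.conj s).orderOf_eq y]
      exact congrArg orderOf e
    rw [o2]
    exact Nat.Coprime.coprime_dvd_left (orderOf_dvd_card_of_mem hy2) c.ct.basic.2.1.symm

end Ctx

end PF10a

open PF10a

/-- PF Theorem (10.8). -/
theorem type345_noncoherence (hM : IsCoatom M) (h : OfTypeP M U W₁ W₂ W) (h2 : ftType M ≠ 2) :
    ¬ Coherent M (S11 M ⊥) (tau0 M) := by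
  rintro ⟨τ₁, hτ⟩
  have c : Ctx M U W₁ W₂ W := ⟨hM, h, h2⟩
  obtain ⟨-, d, δ, n, hc⟩ := type345_constants hM h h2
  obtain ⟨ζ, hζ, hi, hd⟩ := h.exists_ref_irr
  obtain ⟨S, hp⟩ := h.exists_pair hM
  obtain ⟨V, hS⟩ := hp.symm.exists_ofTypeP
  have hS2 := hp.type2.resolve_left h2
  have hF := c.frob_partner hc hζ hi hd hτ hp hS
  have hD : DadeHyp M (sharp ⁅M, M⁆) (ftR M) := c.A1_eq ▸ ftDade1 hM
  have hτ' : CohWith M (S11 M ⊥) (dade (sharp ⁅M, M⁆) (ftR M)) τ₁ := hτ.congr fun φ hφ =>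
    c.A1_eq ▸ (tau_eq_dade_ftA1 hM (c.A1_eq ▸ (c.pd.Zs0_on subset_rfl hφ).1)).1
  obtain ⟨-, -, w1, w2, o1, o2, -, -, -, hV, -⟩ := c.ct.basic
  have r1 := h.sdM.relIndex_left
  have m1 : (2 * 𝐨(W₁) + 1) * 𝐨(W₂) ≤ 𝐨(⁅M, M⁆) := by
    have f := h.frobKerMod_der2
    have := two_mul_succ_le o1 (odd_relIndex _ _) (fun e => f.ltN.not_ge (relIndex_eq_one.1 e))
      (r1 ▸ frobKerMod_dvd f)
    rw [← H1.card_mul_relIndex f.ltN.le, mul_comm]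
    exact Nat.mul_le_mul (Nat.le_of_dvd Nat.card_pos (card_dvd_of_le h.le2der)) this
  have m2 : 2 * 𝐨(W₂) + 1 ≤ 𝐨(V) := two_mul_succ_le o2 (odd_card V)
    (fun e => hF.ne_botR (card_eq_one.1 e)) (hS.basic.2.2.2.2.2.2.2.2.2 hF.ne_botR).card_dvd
  obtain ⟨_, -, -, -, _, -, -, -, hb⟩ := hD.ind1_sub_lin hτ'
    (Finset.one_lt_card.2 ⟨_, star_mem_seqIndD hζ, ζ, hζ, c.star_ne hζ⟩) hi hζ (r1 ▸ hd)
  rw [r1] at hb
  have b1 := (hb (by nlinarith)).1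
  have hz := hτ.dirr hζ hi
  obtain ⟨G₀, hG₀⟩ : ∃ G₀ : Set G, G₀ = (dadeSupp (sharp ⁅M, M⁆) (ftR M))ᶜ := ⟨_, rfl⟩
  have b2 := dade_cover_inequality ({()} : Finset Unit) (L := fun _ => M)
    (A := fun _ => sharp ⁅M, M⁆) (H := fun _ => ftR M) (fun _ _ => hD)
    (fun _ _ _ _ e => absurd rfl e) (G₀ := G₀) (fun g => by simp [hG₀]) hz.mem_CF hz.nsq
  rw [Finset.sum_singleton, ncard_sharp, h.sdM.card] at b2
  obtain ⟨B₁, hB₁⟩ : ∃ B : Set G, B = classSupp (sharp (MF S)) ⊤ := ⟨_, rfl⟩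
  obtain ⟨B₂, hB₂⟩ : ∃ B : Set G, B = classSupp (hatSet W₁ W₂) ⊤ := ⟨_, rfl⟩
  have t1 := ((hS.ofTypeIItoIV hp.maxT (by omega)).tiF.mono (sharp_mono (MF_le_fittingOf S))
    (sharp_nonempty.2 hF.ne_botK) fun g hg b hb =>
      ⟨H1.conj_mem_of_le_normalizer (MF_normal S).2 hg hb.1,
        fun e => hb.2 (conj_eq_one_iff.1 e)⟩).ncard_classSupp
  have t2 := h.ti.ncard_classSupp
  rw [← hB₁, ncard_sharp, hS.sdM.card, hS.sdD.card, card_top] at t1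
  rw [← hB₂, hV, h.dprod.card, card_top] at t2
  have b3 : (G₀.ncard : ℝ) ≤ ∑ g ∈ fs G₀, ‖τ₁ ζ g‖ ^ 2 + (B₁.ncard + B₂.ncard) := by
    have s1 : ((G₀ \ (B₁ ∪ B₂)).ncard : ℝ) ≤ ∑ g ∈ fs G₀, ‖τ₁ ζ g‖ ^ 2 := by
      refine le_trans ?_ (Finset.sum_le_sum_of_subset_of_nonneg
        (fs_subset (Set.sdiff_subset (t := B₁ ∪ B₂))) fun _ _ _ => by positivity)
      rw [← card_fs, Finset.card_eq_sum_ones, Nat.cast_sum]
      refine Finset.sum_le_sum fun g hg => ?_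
      obtain ⟨g1, g2⟩ := mem_fs.1 hg
      rw [Nat.cast_one]
      refine one_le_pow₀ (c.one_le_norm hc hζ hi hd hτ (by rwa [hG₀] at g1) ?_)
      by_contra hcon
      exact g2 (hB₁ ▸ hB₂ ▸ c.mem_cover hp hS hF hcon)
    have s2 : G₀.ncard ≤ (G₀ \ (B₁ ∪ B₂)).ncard + (B₁.ncard + B₂.ncard) :=
      (Set.ncard_le_ncard_sdiff_add_ncard G₀ (B₁ ∪ B₂)).trans
        (Nat.add_le_add_left (Set.ncard_union_le _ _) _)
    have s3 : (G₀.ncard : ℝ) ≤ (G₀ \ (B₁ ∪ B₂)).ncard + (B₁.ncard + B₂.ncard) := by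
      exact_mod_cast s2
    linarith
  have N0 : (0 : ℝ) < Nat.card G := by exact_mod_cast Nat.card_pos
  have p1 : 1 ≤ 𝐨(MF S) := Nat.card_pos
  have p2 : 1 ≤ 𝐨(⁅M, M⁆) := Nat.card_pos
  refine final_arith (a := 𝐨(W₁)) (b := 𝐨(W₂)) (h := 𝐨(MF S)) (u := 𝐨(V)) (m := 𝐨(⁅M, M⁆))
    (B₁ := B₁.ncard) (B₂ := B₂.ncard) (by exact_mod_cast w1) (by exact_mod_cast w2)
    (by exact_mod_cast p1) (by exact_mod_cast (by omega)) (by exact_mod_cast m1) N0 ?_ ?_ b1 ?_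
  · have := congrArg (Nat.cast : ℕ → ℝ) t1
    push_cast [Nat.cast_sub p1] at this
    exact this
  · have := congrArg (Nat.cast : ℕ → ℝ) t2
    push_cast [Nat.cast_sub (by omega : 1 ≤ 𝐨(W₁)), Nat.cast_sub (by omega : 1 ≤ 𝐨(W₂))] at this
    exact this
  · push_cast [Nat.cast_sub p2] at b2
    refine le_trans (add_le_add_left (mul_le_mul_of_nonneg_left (by linarith) (by positivity)) _) b2

end Cfsg.Agent.FT
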