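/-
PF (10.10), (10.11).
-/
import Cfsg.Agent.FT.PF10a
import Cfsg.Agent.H3.FTAux

set_option autoImplicit false

namespace Cfsg.Agent.FT

open Subgroup Cfsg Cfsg.Agent
open scoped commutatorElement

universe u

variable {G : Type u} [Group G] [Finite G]

namespace PF10b

theorem coh_injOn {L : Subgroup G} {S : Finset (G → ℂ)} {τ τ₁ : (G → ℂ) →ₗ[ℂ] (G → ℂ)}
    (h : CohWith L S τ τ₁) (hS : S ⊆ Irr L) : Set.InjOn τ₁ S := by
  intro χ hχ ψ hψ e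
  refine irr_eq_of_ip_ne_zero (hS hχ) (hS hψ) ?_
  rw [← h.iso χ (mem_Zs_of_mem hχ) ψ (mem_Zs_of_mem hψ), ← e,
    h.iso χ (mem_Zs_of_mem hχ) χ (mem_Zs_of_mem hχ), ip_irr_self (hS hχ)]
  exact one_ne_zero

theorem coh_on {L : Subgroup G} {S : Finset (G → ℂ)} {τ τ₁ : (G → ℂ) →ₗ[ℂ] (G → ℂ)}
    (h : CohWith L S τ τ₁) (hS : S ⊆ Irr L) : ON ⊤ (S.image τ₁) := by
  refine ⟨fun α hα => ?_, fun α hα β hβ hne => ?_⟩
  · obtain ⟨χ, hχ, rfl⟩ := Finset.mem_image.1 hα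
    rw [h.iso χ (mem_Zs_of_mem hχ) χ (mem_Zs_of_mem hχ), ip_irr_self (hS hχ)]
  · obtain ⟨χ, hχ, rfl⟩ := Finset.mem_image.1 hα
    obtain ⟨ψ, hψ, rfl⟩ := Finset.mem_image.1 hβ
    rw [h.iso χ (mem_Zs_of_mem hχ) ψ (mem_Zs_of_mem hψ),
      ip_irr_of_ne (hS hχ) (hS hψ) fun e => hne (by rw [e])]

theorem coh_bessel {L : Subgroup G} {S : Finset (G → ℂ)} {τ τ₁ : (G → ℂ) →ₗ[ℂ] (G → ℂ)}
    (h : CohWith L S τ τ₁) (hS : S ⊆ Irr L) (φ : G → ℂ) :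
    ∑ χ ∈ S, ‖ip ⊤ φ (τ₁ χ)‖ ^ 2 ≤ nsq ⊤ φ := by
  have := (coh_on h hS).bessel φ
  rwa [Finset.sum_image (coh_injOn h hS)] at this

variable [MinOdd G] {M U W₁ W₂ W : Subgroup G}

theorem MF_eq (hM : IsCoatom M) (h : OfTypeP M U W₁ W₂ W) (h5 : ftType M = 5) :
    MF M = ⁅M, M⁆ := by
  have := h.sdD.sup
  rwa [(h.eq_bot_iff hM).2 h5, sup_bot_eq] at this

theorem coherent_TI (hM : IsCoatom M) (h : OfTypeP M U W₁ W₂ W) (h5 : ftType M = 5)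
    (hTI : NormedTI (sharp (MF M)) ⊤ M) : Coherent M (S11 M ⊥) (tau0 M) := by
  have e := MF_eq hM h h5
  have hA := ftA_eq_ftA1 hM (by omega)
  have hp := (type345_constants hM h (by omega)).1
  have hD := h.prDadeF hM
  rw [e] at hTI
  rw [e, hA.1, hA.2] at hD
  have hn : Group.IsNilpotent (⁅M, M⁆ : Subgroup G) := e ▸ isNilpotent_MF M
  refine (sibley_coherence (odd_card M) hn hTI
    (Or.inr ⟨W₁, W₂, W, _, _, hp, h.le2der, hD⟩)).congr fun φ hφ => ?_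
  refine ((ftDade0 hM).dade_eq_ind (B := sharp ⁅M, M⁆) hD.basic.1 (fun a ha => ?_)
    (Zs0_seqIndT (der_normal M) (seqIndD_subset_T _ _ _ _) hφ).1).symm
  have := hTI.cent1_le ha
  rwa [top_inf_eq] at this

theorem subcoh (hM : IsCoatom M) (h : OfTypeP M U W₁ W₂ W) (h2 : 2 < ftType M) :
    ∃ R, Subcoherent M (S11 M ⊥) (tau0 M) R := by
  obtain ⟨R, hR, -⟩ := h.subcoherent hM
  rw [Ms_eq_der hM h2] at hR
  exact ⟨R, hR⟩

/-- PF (10.10.1). -/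
theorem p3_facts (hM : IsCoatom M) (h : OfTypeP M U W₁ W₂ W) (h5 : ftType M = 5) :
    ∃ p : ℕ, p.Prime ∧ 𝐨(⁅M, M⁆) = p ^ 3 ∧ 𝐨(W₂) = p ∧ W₂ = ⁅⁅M, M⁆, ⁅M, M⁆⁆ ∧
      p + 1 = 2 * 𝐨(W₁) := by
  have hn := type345_noncoherence hM h (by omega)
  have e := MF_eq hM h h5
  have hnil : Group.IsNilpotent (⁅M, M⁆ : Subgroup G) := e ▸ isNilpotent_MF M
  obtain ⟨R, hR⟩ := subcoh hM h (by omega)
  have hq : OddFrobQuot ⁅M, M⁆ M ⊥ := ⟨odd_card M, ⟨bot_le, by rw [norm_bot]; exact le_top⟩, bot_le,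
    nilMod_bot_iff.2 hnil, by rw [sup_bot_eq]; exact h.frobKerMod_der2⟩
  obtain ⟨-, hb, q, hq, ⟨n, hqn⟩, hna, hnd⟩ :=
    non_coherent_chief (isSolvable_of_isNilpotent hnil) hR hq hn
  rw [relIndex_bot_left] at hqn
  rw [sup_bot_eq, h.sdM.relIndex_left] at hb
  rw [h.sdM.relIndex_left] at hnd
  have hH : IsPGroup q (⁅M, M⁆ : Subgroup G) := isPGroup_of_card_eq hqn
  have hc := ((h.ofTypeV_iff hM).2 h5).cases
  rw [e] at hc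
  rcases hc with hc | ⟨p, hp, -, hd⟩ | ⟨p, hp, -, h3, hd⟩
  · exact (hn (coherent_TI hM h h5 (e ▸ hc))).elim
  · rw [eq_of_prime_dvd_card_of_isPGroup hq hp.1 hH hp.2] at hd
    exact (hnd hd).elim
  · obtain rfl := eq_of_prime_dvd_card_of_isPGroup hq hp.1 hH hp.2
    have e2 : pCoreOf p ⁅M, M⁆ = ⁅M, M⁆ := le_antisymm (pCoreOf_normal _ _).1
      (le_pCoreOf ⟨le_rfl, le_norm_self _⟩ hH)
    rw [e2] at h3
    have hna' : ¬ IsMulCommutative (⁅M, M⁆ : Subgroup G) := fun hc =>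
      hna (isMulComm_iff_comm_eq_bot.1 hc).le
    obtain ⟨z1, z2⟩ := A3.center_eq_der_of_card_cube hq h3 hna'
    rw [← z2] at z1
    have e3 : W₂ = ⁅⁅M, M⁆, ⁅M, M⁆⁆ :=
      (eq_bot_or_eq_of_card_prime (z1 ▸ hq) h.le2der).resolve_left h.ne_bot2
    have e4 := H1.card_mul_relIndex (der_le ⁅M, M⁆)
    rw [z1, h3] at e4
    have e5 : (⁅⁅M, M⁆, ⁅M, M⁆⁆ : Subgroup G).relIndex ⁅M, M⁆ = p ^ 2 :=
      Nat.eq_of_mul_eq_mul_left hq.pos (by rw [e4]; ring)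
    rw [e5] at hb
    refine ⟨p, hq, h3, by rw [e3, z1], e3, ?_⟩
    obtain ⟨k, hk⟩ := hd
    have o1 := odd_card W₁
    have o2 : Odd p := hq.odd_of_ne_two (ne_two_of_dvd_card hp.2)
    have w3 := three_le_card h.ne_bot1
    generalize 𝐨(W₁) = w at *
    have hle : p ≤ 2 * w := by nlinarith
    have k0 : k ≠ 0 := by rintro rfl; omega
    have k1 : k ≠ 1 := by
      rintro rfl
      obtain ⟨a, ha⟩ := o1
      obtain ⟨b, hb⟩ := o2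
      omega
    have k3 : k < 3 := by
      by_contra hk3
      have : w * 3 ≤ w * k := Nat.mul_le_mul_left _ (by omega)
      omega
    obtain rfl : k = 2 := by omega
    omega

theorem cf1_mem (h : OfTypeP M U W₁ W₂ W) : cf1 W ∈ irrKer W W₁ :=
  cf1_mem_irrKer h.dprod.le_left

theorem cf1_mem' (h : OfTypeP M U W₁ W₂ W) : cf1 W ∈ irrKer W W₂ :=
  cf1_mem_irrKer h.dprod.le_right

theorem dg_mu2 {d n : ℕ} {δ : ℤ} (h : OfTypeP M U W₁ W₂ W) (hc : Const345 M W₁ W₂ W d δ n)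
    {β : G → ℂ} (hβ : β ∈ irrKer W W₁) (h1 : β ≠ cf1 W) : dg (mu2 M W₁ W₂ β) = d := by
  have := hc.deg _ (cf1_mem' h) β hβ h1
  rwa [cf1_mul (irr_mem_CF (mem_irrKer.1 hβ).1)] at this

/-- PF (10.10.2). -/
theorem p3_degrees {d n p : ℕ} {δ : ℤ} (h : OfTypeP M U W₁ W₂ W)
    (hc : Const345 M W₁ W₂ W d δ n) (hp : p.Prime) (h3 : 𝐨(⁅M, M⁆) = p ^ 3) (h2 : 𝐨(W₂) = p)
    (e : W₂ = ⁅⁅M, M⁆, ⁅M, M⁆⁆) :
    d = p ∧ (S11 M W₂).card * 𝐨(W₁) + 1 = p ^ 2 ∧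
      ∀ φ ∈ S11 M ⊥, φ ∈ S11 M W₂ ∨ ∃ β ∈ irrKer W W₁, β ≠ cf1 W ∧ φ = muR M W₁ W₂ β := by
  have hP := h.primeTI
  have nH := der_normal M
  have le2 : W₂ ≤ ⁅M, M⁆ := hP.le2
  have n2 : M ≤ 𝐍(W₂) := by
    rw [e]; exact nH.2.trans (norm_le_norm_der _)
  have nb : M ≤ 𝐍((⊥ : Subgroup G)) := by rw [norm_bot]; exact le_top
  have i1 : W₂.relIndex ⁅M, M⁆ = p ^ 2 := by
    have e4 := H1.card_mul_relIndex le2
    rw [h2, h3] at e4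
    exact Nat.eq_of_mul_eq_mul_left hp.pos (by rw [e4]; ring)
  have i2 : W₂.relIndex M = p ^ 2 * 𝐨(W₁) := by
    rw [← relIndex_mul_relIndex W₂ ⁅M, M⁆ M le2 nH.1, i1, h.sdM.relIndex_left]
  have w0 : (0 : ℝ) < 𝐨(W₁) := card_pos_R W₁
  have s1 := sum_seqIndD_square nH le2 n2 nb bot_le
  rw [i2, relIndex_bot_left, h2] at s1
  set T := seqIndD ⁅M, M⁆ M W₂ ⊥ with hT
  set B := (irrKer W W₁).erase (cf1 W) with hB
  have hBc : (B.card : ℝ) = p - 1 := by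
    rw [hB, Finset.card_erase_of_mem (cf1_mem h), h.cycTI.basic.2.2.2.2.2.2.2.2.1, h2,
      Nat.cast_pred hp.pos]
  have sub : B.image (muR M W₁ W₂) ⊆ T := by
    intro φ hφ
    obtain ⟨β, hβ, rfl⟩ := Finset.mem_image.1 hφ
    obtain ⟨b1, b2⟩ := Finset.mem_erase.1 hβ
    exact (mem_seqIndD_iff_ker nH n2 nb).2 ⟨(hP.muR_facts b2).2.2.2.1, bot_le,
      (hP.not_le_cfKer b2 b1).2⟩
  have s2 : ∑ φ ∈ B.image (muR M W₁ W₂), (dg φ : ℝ) ^ 2 / nsq M φ = (p - 1) * (𝐨(W₁) * d ^ 2) := by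
    rw [Finset.sum_image (hP.res_mu2_injOn.2.mono (Finset.coe_subset.2 (Finset.erase_subset _ _))),
      ← hBc, ← nsmul_eq_mul, ← Finset.sum_const]
    refine Finset.sum_congr rfl fun β hβ => ?_
    obtain ⟨b1, b2⟩ := Finset.mem_erase.1 hβ
    rw [(hP.muR_facts b2).2.2.1, (hP.res_mu2 b2).2.2.2.2, dg_mu2 h hc b2 b1]
    push_cast
    field_simp
  have s3 := Finset.sum_sdiff (f := fun φ => (dg φ : ℝ) ^ 2 / nsq M φ) sub
  rw [s1, s2] at s3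
  have pos : ∀ φ ∈ T \ B.image (muR M W₁ W₂), 0 < (dg φ : ℝ) ^ 2 / nsq M φ := by
    intro φ hφ
    have := seqIndT_facts nH (seqIndD_subset_T _ _ _ _ (Finset.mem_sdiff.1 hφ).1)
    have a1 : (0 : ℝ) < dg φ := by exact_mod_cast this.2.2.2.2.1
    have a2 := this.2.2.2.2.2.2.2.1
    positivity
  have hpd : p ≤ d := by
    obtain ⟨β, hβ⟩ : B.Nonempty := by
      rw [← Finset.card_pos]
      have : (1 : ℝ) < p := by exact_mod_cast hp.one_lt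
      have : (0 : ℝ) < B.card := by rw [hBc]; linarith
      exact_mod_cast this
    obtain ⟨b1, b2⟩ := Finset.mem_erase.1 hβ
    have a1 := irr_dg_dvd_card (hP.res_mu2 b2).1
    rw [h3, dg_congr (res_one _ _), dg_mu2 h hc b2 b1] at a1
    obtain ⟨k, -, hk⟩ := (Nat.dvd_prime_pow hp).1 a1
    have := hc.one_lt
    rcases k with _ | k
    · simp at hk; omega
    · rw [hk]; exact Nat.le_self_pow (by omega) p
  have p1 : (0 : ℝ) < p - 1 := by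
    have : (1 : ℝ) < p := by exact_mod_cast hp.one_lt
    linarith
  have hpd' : (p : ℝ) ≤ d := by exact_mod_cast hpd
  have nn := Finset.sum_nonneg fun φ hφ => (pos φ hφ).le
  push_cast at s3
  have hdp : (d : ℝ) ^ 2 ≤ p ^ 2 := by
    have : (p - 1 : ℝ) * 𝐨(W₁) * d ^ 2 ≤ (p - 1) * 𝐨(W₁) * p ^ 2 := by linarith
    exact le_of_mul_le_mul_left this (by positivity)
  have hdp' : d = p := by
    have : d ^ 2 ≤ p ^ 2 := by exact_mod_cast hdp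
    have := (Nat.pow_le_pow_iff_left two_ne_zero).1 this
    omega
  have emp : T \ B.image (muR M W₁ W₂) = ∅ := by
    by_contra hne
    have := Finset.sum_pos pos (Finset.nonempty_iff_ne_empty.2 hne)
    rw [hdp'] at s3
    linarith
  refine ⟨hdp', ?_, fun φ hφ => ?_⟩
  · have s4 := sum_seqIndD_square nH le_rfl nH.2 n2 le2
    rw [h.sdM.relIndex_left, i1, Finset.sum_congr rfl (g := fun _ => (𝐨(W₁) : ℝ) ^ 2)
      (fun φ hφ => by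
        obtain ⟨a1, a2⟩ := h.mem_S11_of_der2_le e.ge hφ
        rw [nsq_irr a1, a2, div_one]), Finset.sum_const, nsmul_eq_mul] at s4
    have : ((S11 M W₂).card : ℝ) * 𝐨(W₁) + 1 = p ^ 2 := by
      apply mul_left_cancel₀ w0.ne'
      push_cast at s4
      linarith
    exact_mod_cast this
  · obtain ⟨a1, -, a3⟩ := (mem_seqIndD_iff_ker nH nH.2 nb).1 hφ
    by_cases hk : W₂ ≤ cfKer φ
    · exact Or.inl ((mem_seqIndD_iff_ker nH nH.2 n2).2 ⟨a1, hk, a3⟩)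
    · right
      have : φ ∈ B.image (muR M W₁ W₂) :=
        Finset.sdiff_eq_empty_iff_subset.1 emp ((mem_seqIndD_iff_ker nH n2 nb).2 ⟨a1, bot_le, hk⟩)
      obtain ⟨β, hβ, rfl⟩ := Finset.mem_image.1 this
      obtain ⟨b1, b2⟩ := Finset.mem_erase.1 hβ
      exact ⟨β, b2, b1, rfl⟩

theorem orth_mu2 (h : OfTypeP M U W₁ W₂ W) {ζ : G → ℂ} (hζ : ζ ∈ S11 M ⊥) (hi : ζ ∈ Irr M)
    {ω : G → ℂ} (hω : ω ∈ Irr W) : ip M (mu2 M W₁ W₂ ω) ζ = 0 := by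
  rcases h.primeTI.seqIndT_cases (seqIndD_subset_T _ _ _ _ hζ) with ⟨β, hβ, rfl⟩ | ⟨-, h0⟩
  · exact ((h.primeTI.muR_facts hβ).2.1 hi).elim
  · exact ip_eq_zero_symm (h0 ω hω)

theorem ip_bridge (h : OfTypeP M U W₁ W₂ W) (δ : ℤ) (n : ℕ) {ζ l α β : G → ℂ}
    (hl : l ∈ S11 M ⊥) (hi : l ∈ Irr M) (hα : α ∈ irrKer W W₂) (hβ : β ∈ irrKer W W₁) :
    ip M (bridge345 M W₁ W₂ δ n ζ α β) l = -(n : ℂ) * ip M ζ l := by
  rw [bridge345, ip_sub_left, ip_sub_left, ip_smul_left, ip_smul_left,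
    orth_mu2 h hl hi (h.dprod.mul_mem_Irr hα hβ), orth_mu2 h hl hi (mem_irrKer.1 hα).1]
  ring

/-- PF (10.10.3). -/
theorem ip_bridge_coh {d : ℕ} {δ : ℤ} (hM : IsCoatom M) (h : OfTypeP M U W₁ W₂ W)
    (h2 : 2 < ftType M) (hc : Const345 M W₁ W₂ W d δ 2) {S₁ : Finset (G → ℂ)}
    (hS₁ : S₁ ⊆ S11 M ⊥) (hirr : ∀ l ∈ S₁, l ∈ Irr M ∧ dg l = 𝐨(W₁)) (h8 : 8 ≤ S₁.card)
    {ζ : G → ℂ} (hζ : ζ ∈ S₁) {τ₁ : (G → ℂ) →ₗ[ℂ] (G → ℂ)} (hτ : CohWith M S₁ (tau0 M) τ₁)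
    {α β : G → ℂ} (hα : α ∈ irrKer W W₂) (hβ : β ∈ irrKer W W₁) (h1 : β ≠ cf1 W) :
    ip ⊤ (tau0 M (bridge345 M W₁ W₂ δ 2 ζ α β)) (τ₁ ζ) = -((2 : ℕ) : ℂ) := by
  obtain ⟨b1, -, b3, b4, -⟩ :=
    bridge345_facts hM h (by omega) hc (hS₁ hζ) (hirr ζ hζ).1 (hirr ζ hζ).2 hα hβ h1
  set φ := bridge345 M W₁ W₂ δ 2 ζ α β with hφ
  obtain ⟨a, ha⟩ := vchar_ip_int b3 (hτ.vchar ζ (mem_Zs_of_mem hζ))
  have hD := h.prDade hM
  rw [Ms_eq_der hM h2] at hD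
  have hl : ∀ l ∈ S₁.erase ζ, ip ⊤ (tau0 M φ) (τ₁ l) = ((a + 2 : ℤ) : ℂ) := by
    intro l hl
    obtain ⟨l1, l2⟩ := Finset.mem_erase.1 hl
    have hz : ζ - l ∈ Zs0 S₁ := sub_mem_Zs0 (mem_Zs_of_mem hζ) (mem_Zs_of_mem l2) (by
      rw [irr_one_eq (hirr ζ hζ).1, irr_one_eq (hirr l l2).1, (hirr ζ hζ).2, (hirr l l2).2])
    have e := (ftDade0 hM).iso b1 (hD.Zs0_on hS₁ hz).2.1
    change ip ⊤ (tau0 M φ) (tau0 M (ζ - l)) = _ at e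
    rw [← hτ.agree _ hz, map_sub, ip_sub_right, ip_sub_right, ha, hφ,
      ip_bridge h δ 2 (hS₁ hζ) (hirr ζ hζ).1 hα hβ, ip_bridge h δ 2 (hS₁ l2) (hirr l l2).1 hα hβ,
      ip_irr_self (hirr ζ hζ).1, ip_irr_of_ne (hirr ζ hζ).1 (hirr l l2).1 l1.symm] at e
    push_cast at e ⊢
    linear_combination -e
  have bes := coh_bessel hτ (fun l hl => (hirr l hl).1) (tau0 M φ)
  rw [b4, ← Finset.add_sum_erase _ _ hζ, ha, Finset.sum_congr rfl (g := fun _ => ((a : ℝ) + 2) ^ 2)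
    (fun l hl' => by rw [hl l hl', Complex.norm_intCast, sq_abs]; push_cast; rfl),
    Finset.sum_const, nsmul_eq_mul, Complex.norm_intCast, sq_abs,
    Finset.card_erase_of_mem hζ] at bes
  have h7 : (7 : ℝ) ≤ (S₁.card - 1 : ℕ) := by exact_mod_cast (by omega : 7 ≤ S₁.card - 1)
  have : (a : ℝ) ^ 2 + 7 * (a + 2) ^ 2 ≤ 6 := by
    have := mul_le_mul_of_nonneg_right h7 (sq_nonneg ((a : ℝ) + 2))
    push_cast at bes
    linarith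
  have : a ^ 2 + 7 * (a + 2) ^ 2 ≤ 6 := by exact_mod_cast this
  have : a = -2 := by nlinarith
  rw [ha, this]
  push_cast
  rfl

theorem sum_bridge {d n : ℕ} {δ : ℤ} (h : OfTypeP M U W₁ W₂ W) (hc : Const345 M W₁ W₂ W d δ n)
    (ζ β : G → ℂ) :
    muR M W₁ W₂ β - (d : ℂ) • ζ = ∑ α ∈ irrKer W W₂, bridge345 M W₁ W₂ δ n ζ α β +
      (δ : ℂ) • (muR M W₁ W₂ (cf1 W) - ζ) := by
  have e : (d : ℂ) = δ + n * 𝐨(W₁) := by exact_mod_cast hc.ratio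
  have e0 : muR M W₁ W₂ (cf1 W) = ∑ α ∈ irrKer W W₂, mu2 M W₁ W₂ α := by
    rw [h.primeTI.muR_eq]
    exact Finset.sum_congr rfl fun α hα => by rw [mul_cf1 (irr_mem_CF (mem_irrKer.1 hα).1)]
  simp only [bridge345, Finset.sum_sub_distrib, ← Finset.smul_sum, Finset.sum_const]
  rw [← h.primeTI.muR_eq, ← e0, h.cycTI.basic.2.2.2.2.2.2.2.1, e, nsmul_eq_smul_C]
  module

end PF10b

open PF10b

variable [MinOdd G]

/-- PF Theorem (10.10). -/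
theorem ftType_ne_five {M : Subgroup G} (hM : IsCoatom M) : ftType M ≠ 5 := by
  intro h5
  obtain ⟨U, W₁, W₂, W, h⟩ := exists_ofTypeP hM (by omega)
  have h2 : ftType M ≠ 2 := by omega
  refine type345_noncoherence hM h h2 ?_
  obtain ⟨-, d, δ, n, hc⟩ := type345_constants hM h h2
  obtain ⟨p, hp, h3, hw2, e, hw1⟩ := p3_facts hM h h5
  obtain ⟨rfl, hcard, hS⟩ := p3_degrees h hc hp h3 hw2 e
  have w3 := three_le_card h.ne_bot1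
  obtain rfl : n = 2 := by
    have a1 := hc.ratio
    have a2 : (d : ℤ) + 1 = 2 * 𝐨(W₁) := by exact_mod_cast hw1
    have a3 : (3 : ℤ) ≤ 𝐨(W₁) := by exact_mod_cast w3
    have a4 := hc.sgn
    generalize (𝐨(W₁) : ℤ) = w at *
    have : (n : ℤ) = 2 := by rcases a4 with rfl | rfl <;> nlinarith
    exact_mod_cast this
  have h8 : 8 ≤ (S11 M W₂).card := by
    generalize 𝐨(W₁) = w at *
    generalize (S11 M W₂).card = c at *
    obtain rfl : d = 2 * w - 1 := by omega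
    obtain ⟨v, rfl⟩ : ∃ v, w = v + 3 := ⟨w - 3, by omega⟩
    rw [show 2 * (v + 3) - 1 = 2 * v + 5 by omega] at hcard
    by_contra hlt
    have : c * (v + 3) ≤ 7 * (v + 3) := Nat.mul_le_mul_right _ (by omega)
    nlinarith
  obtain ⟨R, hR⟩ := subcoh hM h (by omega)
  have hS₁ : ConjSub (S11 M W₂) (S11 M ⊥) := conjSub_seqIndD _ _ le_rfl bot_le
  have hirr : ∀ l ∈ S11 M W₂, l ∈ Irr M ∧ dg l = 𝐨(W₁) := fun l hl => h.mem_S11_of_der2_le e.ge hl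
  obtain ⟨τ₁, hτ₁⟩ := (hR.mono hS₁).uniform_degree_coherence fun χ hχ ψ hψ => by
    rw [irr_one_eq (hirr χ hχ).1, irr_one_eq (hirr ψ hψ).1, (hirr χ hχ).2, (hirr ψ hψ).2]
  obtain ⟨ζ, hζ⟩ : (S11 M W₂).Nonempty := Finset.card_pos.1 (by omega)
  have hb : ∀ α ∈ irrKer W W₂, ∀ β ∈ irrKer W W₁, β ≠ cf1 W →
      tau0 M (bridge345 M W₁ W₂ δ 2 ζ α β) =
        (δ : ℂ) • (cycσ ⊤ W₁ W₂ (α * β) - cycσ ⊤ W₁ W₂ α) - ((2 : ℕ) : ℂ) • τ₁ ζ :=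
    fun α hα β hβ h1 => bridge345_dade_eq hM h h2 hc (hirr ζ hζ).1 (hirr ζ hζ).2 hα hβ h1 hS₁ hζ hτ₁
      (ip_bridge_coh hM h (by omega) hc hS₁.1 hirr h8 hζ hτ₁ hα hβ h1)
  obtain ⟨χ, hχ, eχ, oχ⟩ :=
    type345_dade_bridge0 hM h h2 (hS₁.1 hζ) (hirr ζ hζ).1 (hirr ζ hζ).2 (by omega)
  have hP := h.primeTI
  have hC := h.cycTI
  set B := (irrKer W W₁).erase (cf1 W) with hB
  obtain ⟨β, hβ⟩ : B.Nonempty := by
    rw [← Finset.card_pos, hB, Finset.card_erase_of_mem (cf1_mem h), hC.basic.2.2.2.2.2.2.2.2.1]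
    omega
  obtain ⟨b1, b2⟩ := Finset.mem_erase.1 hβ
  have hζ' : ∀ ω ∈ Irr W, ip ⊤ (τ₁ ζ) (cycσ ⊤ W₁ W₂ ω) = 0 := fun ω hω =>
    h.coherent_ortho_σ hM (by rw [Ms_eq_der hM (by omega)]; exact hS₁) hτ₁ hζ (hirr ζ hζ).1 hω
  have e0 : etaCol W₁ W₂ (cf1 W) = ∑ α ∈ irrKer W W₂, cycσ ⊤ W₁ W₂ α := by
    rw [hC.etaCol_eq]
    exact Finset.sum_congr rfl fun α hα => by rw [mul_cf1 (irr_mem_CF (mem_irrKer.1 hα).1)]
  -- `χ = τ₁ ζ`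
  have hχζ : τ₁ ζ = χ := by
    refine (hτ₁.dirr hζ (hirr ζ hζ).1).eq_of_ip_eq_one hχ ?_
    have c1 := cf1_mem' h
    obtain ⟨f1, -, -, -, -, f6⟩ :=
      bridge345_facts hM h h2 hc (hS₁.1 hζ) (hirr ζ hζ).1 (hirr ζ hζ).2 c1 b2 b1
    have e1 := (ftDade0 hM).iso f1 (CFon_mono M (ftA_subset_ftA0 M) f6)
    change ip ⊤ (tau0 M _) (tau0 M _) = _ at e1
    have g1 : ip ⊤ (cycσ ⊤ W₁ W₂ (cf1 W * β)) (etaCol W₁ W₂ (cf1 W)) = 0 :=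
      ip_eq_zero_symm (by rw [(hC.ip_etaCol c1 (cf1_mem h) b2).1, if_neg b1.symm])
    have g2 : ip ⊤ (cycσ ⊤ W₁ W₂ (cf1 W)) (etaCol W₁ W₂ (cf1 W)) = 1 := by
      have := (hC.ip_etaCol c1 (cf1_mem h) (cf1_mem h)).1
      rw [if_pos rfl, mul_cf1 (cf1_mem_CF W)] at this
      exact_mod_cast ip_comm_of_int (n := 1) (by exact_mod_cast this)
    have g3 : ip ⊤ (τ₁ ζ) (etaCol W₁ W₂ (cf1 W)) = 0 := by
      rw [e0, ip_sum_right]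
      exact Finset.sum_eq_zero fun α hα => hζ' α (mem_irrKer.1 hα).1
    have g4 := ip_eq_zero_symm (oχ _ (h.dprod.mul_mem_Irr c1 b2))
    have g5 := ip_eq_zero_symm (oχ _ (cf1_mem_Irr W))
    have g6 : ip M (bridge345 M W₁ W₂ δ 2 ζ (cf1 W) β) (muR M W₁ W₂ (cf1 W)) = -δ := by
      have k1 := ((hP.muR_facts b2).2.2.2.2 _ (cf1_mem h)).2 _ c1
      have k2 := ((hP.muR_facts (cf1_mem h)).2.2.2.2 _ (cf1_mem h)).2 _ c1
      rw [if_neg b1] at k1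
      rw [if_pos rfl, mul_cf1 (cf1_mem_CF W)] at k2
      have k3 : ip M ζ (muR M W₁ W₂ (cf1 W)) = 0 := by
        rw [hP.muR_eq, ip_sum_right]
        exact Finset.sum_eq_zero fun α hα => ip_eq_zero_symm
          (orth_mu2 h (hS₁.1 hζ) (hirr ζ hζ).1 (h.dprod.mul_mem_Irr hα (cf1_mem h)))
      rw [bridge345, ip_sub_left, ip_sub_left, ip_smul_left, ip_smul_left, k1, k2, k3]
      ring
    rw [hb _ c1 _ b2 b1, eχ, ip_sub_right M, g6, ip_bridge h δ 2 (hS₁.1 hζ) (hirr ζ hζ).1 c1 b2,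
      ip_irr_self (hirr ζ hζ).1] at e1
    simp only [ip_sub_left, ip_sub_right, ip_smul_left, g1, g2, g3, g4, g5] at e1
    push_cast at e1
    linear_combination e1 / 2
  have hmem : ∀ γ ∈ B, muR M W₁ W₂ γ ∈ S11 M ⊥ := fun γ hγ => by
    have := ((h.prDade hM).muR_mem (Finset.mem_erase.1 hγ).2 (Finset.mem_erase.1 hγ).1).2
    rwa [Ms_eq_der hM (by omega)] at this
  have hdeg : ∀ γ ∈ B, muR M W₁ W₂ γ 1 = d * 𝐨(W₁) := fun γ hγ => by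
    obtain ⟨c1, c2⟩ := Finset.mem_erase.1 hγ
    rw [(hP.muR_facts c2).1.one_eq, (hP.res_mu2 c2).2.2.2.2, dg_mu2 h hc c2 c1]
    push_cast
    ring
  have hS₂ : ConjSub (B.image (muR M W₁ W₂)) (S11 M ⊥) := by
    refine ⟨fun φ hφ => ?_, fun φ hφ => ?_⟩
    · obtain ⟨γ, hγ, rfl⟩ := Finset.mem_image.1 hφ
      exact hmem γ hγ
    · obtain ⟨γ, hγ, rfl⟩ := Finset.mem_image.1 hφ
      obtain ⟨c1, c2⟩ := Finset.mem_erase.1 hγ
      rw [← (hP.star_facts c2).2.1]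
      exact Finset.mem_image_of_mem _
        (Finset.mem_erase.2 ⟨((hP.star_facts c2).2.2.2 c1).2.1, star_mem_irrKer c2⟩)
  obtain ⟨τ₂, hτ₂, v₂⟩ := (h.prDade hM).uniform_muR_coherent b2 b1 (T := B.image (muR M W₁ W₂))
    fun φ hφ => by
      obtain ⟨γ, hγ, rfl⟩ := Finset.mem_image.1 hφ
      exact ⟨γ, (Finset.mem_erase.1 hγ).2, (Finset.mem_erase.1 hγ).1, rfl, by
        rw [hdeg γ hγ, hdeg β hβ]⟩
  have hdis : Disjoint (B.image (muR M W₁ W₂)) (S11 M W₂) := by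
    refine Finset.disjoint_left.2 fun φ hφ hφ' => ?_
    obtain ⟨γ, hγ, rfl⟩ := Finset.mem_image.1 hφ
    exact (hP.muR_facts (Finset.mem_erase.1 hγ).2).2.1 (hirr _ hφ').1
  obtain ⟨τ₃, hτ₃, -⟩ := hR.bridge_coherent hS₂ hτ₂ hS₁ hτ₁ hdis (Finset.mem_image_of_mem _ hβ)
    (natCast_smul_mem_Zs (mem_Zs_of_mem hζ) d)
    (by rw [hdeg β hβ, Pi.smul_apply, irr_one_eq (hirr ζ hζ).1, (hirr ζ hζ).2, smul_eq_mul])
    (by
      have e : (d : ℂ) = δ + (2 : ℕ) * 𝐨(W₁) := by exact_mod_cast hc.ratio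
      rw [sum_bridge h hc, map_add, map_sum, map_smul, eχ, v₂ β b2, hc.sign β b2 b1,
        Finset.sum_congr rfl fun α hα => hb α hα β b2 b1, map_smul, hχζ]
      simp only [Finset.sum_sub_distrib, ← Finset.smul_sum, Finset.sum_const]
      rw [← hC.etaCol_eq, ← e0, hC.basic.2.2.2.2.2.2.2.1, e, nsmul_eq_smul_C]
      module)
  refine ⟨τ₃, hτ₃.mono fun φ hφ => ?_⟩
  rcases hS φ hφ with h1 | ⟨γ, c1, c2, rfl⟩
  · exact Finset.mem_union_right _ h1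
  · exact Finset.mem_union_left _ (Finset.mem_image_of_mem _ (Finset.mem_erase.2 ⟨c2, c1⟩))

/-- PF (10.11), first assertion. -/
theorem TypePPair.primes {S T W₁ W₂ W : Subgroup G} (h : TypePPair S T W₁ W₂ W) :
    𝐨(W₁).Prime ∧ 𝐨(W₂).Prime := by
  obtain ⟨U, hU⟩ := h.exists_ofTypeP
  obtain ⟨V, hV⟩ := h.symm.exists_ofTypeP
  exact ⟨(hU.ofTypeIItoIV h.maxS (ftType_ne_five h.maxS)).prime1,
    (hV.ofTypeIItoIV h.maxT (ftType_ne_five h.maxT)).prime1⟩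

theorem OfTypeP.primes {M U W₁ W₂ W : Subgroup G} (hM : IsCoatom M) (h : OfTypeP M U W₁ W₂ W) :
    𝐨(W₁).Prime ∧ 𝐨(W₂).Prime := by
  obtain ⟨T, hT⟩ := h.exists_pair hM
  exact hT.primes

/-- PF (10.11). -/
theorem typeII_prime_facts {M U W₁ W₂ W : Subgroup G} (hM : IsCoatom M)
    (h : OfTypeP M U W₁ W₂ W) (h2 : ftType M = 2) :
    IsElem 𝐨(W₂) 𝐨(W₁) (MF M) ∧ Hyp9 M U W₁ W₂ W ⊥ ∧ Coherent M (S9 M ⊥) (tau0 M) := by
  have h5 := ftType_ne_five hM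
  obtain ⟨H₀, h9⟩ := exists_hyp9 hM h h5
  obtain ⟨-, -, -, f4, f5, f6, -, f8, -⟩ := h9.factor_facts
  have hp := (h.primes hM).2
  have oH := ((typeII_IV_core hM h h5).1 h2).2
  rw [f8 hp] at f4 f6
  obtain rfl : H₀ = ⊥ := by
    have := H1.card_mul_relIndex h9.ker.chief.lt.le
    rw [f4, ← oH] at this
    exact card_eq_one.1 (Nat.eq_of_mul_eq_mul_right (Nat.pos_of_ne_zero (card_ne_zero _))
      (by rw [this, one_mul]))
  refine ⟨⟨?_, oH⟩, h9, ?_⟩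
  · exact ⟨isMulComm_iff_comm_eq_bot.2 (eq_bot_iff.2 f5), fun x hx => mem_bot.1 (f6 x hx)⟩
  · have := h9.core_coherence
    have hc : IsMulCommutative (fcC M U ⊥) :=
      isMulComm_of_le inf_le_left ((h.ofTypeII_iff hM).2 h2).comm
    rwa [isMulComm_iff_comm_eq_bot.1 hc, sup_bot_eq] at this

end Cfsg.Agent.FT
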