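/-
PF (11.1)-(11.7): groups of type III and IV.
-/
import Cfsg.Agent.FT.PF10b

set_option autoImplicit false
set_option linter.unusedSectionVars false

namespace Cfsg.Agent.FT

open Subgroup Cfsg Cfsg.Agent
open scoped commutatorElement

universe u

namespace PF11a

theorem pow_gt {p q : ℕ} (hp : 3 ≤ p) (hq : 3 ≤ q) (hne : p ≠ q) : 4 * q ^ 2 + 1 < p ^ q := by
  rcases hq.eq_or_lt with rfl | hq
  · calc 4 * 3 ^ 2 + 1 < 4 ^ 3 := by norm_num
      _ ≤ p ^ 3 := Nat.pow_le_pow_left (by omega) 3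
  · refine lt_of_lt_of_le ?_ (Nat.pow_le_pow_left hp q)
    have : ∀ n, 4 ≤ n → 4 * n ^ 2 + 1 < 3 ^ n := by
      intro n hn
      induction n, hn using Nat.le_induction with
      | base => norm_num
      | succ n hn ih =>
        rw [pow_succ 3]
        nlinarith
    exact this q hq

section Class2

variable {X : Type u} [Group X]

theorem comm_mul_mul {x y h k : X} (h1 : Commute h (y * k)) (h2 : Commute k x) :
    ⁅x * h, y * k⁆ = ⁅x, y⁆ := by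
  rw [BG04.comm_mul_left_of_commute h1, BG04.comm_mul_right_of_commute h2]

theorem comm_pow_pow {x y : X} (h1 : Commute x ⁅x, y⁆) (h2 : Commute y ⁅x, y⁆) (n m : ℕ) :
    ⁅x ^ n, y ^ m⁆ = ⁅x, y⁆ ^ (n * m) := by
  have h3 := H1.commutatorElement_pow_left_of_central h1 n
  rw [BG04.comm_pow_right_of_commute (h3 ▸ h2.pow_right n), h3, pow_mul]

/-- The key computation in the non-Galois case of PF (11.7). -/
theorem sq_cent {Z U : Subgroup X} {x s : X} {p q : ℕ} (hp : p.Prime) (hq : Odd q)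
    (hs : s ^ q = 1) (hsU : s ∈ 𝐍(U)) (hsZ : s ∈ 𝐍(Z)) (hUZ : U ≤ 𝐂(Z)) (hZ : Z ≤ 𝐂(Z))
    (hx : x ∈ 𝐂(Z)) (hxp : x ^ p ∈ Z) (hz : ⁅x, s * x * s⁻¹⁆ ∈ Z) (hz1 : ⁅x, s * x * s⁻¹⁆ ≠ 1)
    (hact : ∀ v ∈ U, ∃ n : ℕ, ∃ h ∈ Z, v * x * v⁻¹ = x ^ n * h) {v : X} (hv : v ∈ U) :
    ∃ h ∈ Z, v ^ 2 * x * (v ^ 2)⁻¹ = x * h := by
  classical
  haveI := Fact.mk hp
  have cm : ∀ {a b : X}, a ∈ 𝐂(Z) → b ∈ Z → Commute a b := fun ha hb =>
    (mem_centralizer_iff.1 ha _ hb).symm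
  set y := s * x * s⁻¹ with hy
  have hyZ : y ∈ 𝐂(Z) :=
    H1.conj_mem_of_le_normalizer (H1.normalizer_le_normalizer_centralizer Z) hsZ hx
  have hzp : ⁅x, y⁆ ^ p = 1 := by
    rw [← H1.commutatorElement_pow_left_of_central (cm hx hz), commutatorElement_eq_one_iff_commute]
    exact (cm hyZ hxp).symm
  have ho : orderOf ⁅x, y⁆ = p := orderOf_eq_prime hzp hz1
  choose! n h hh e using hact
  have key : ∀ a ∈ U, (n a : ZMod p) * n (s⁻¹ * a * s) = 1 := by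
    intro a ha
    have ha' : s⁻¹ * a * s ∈ U := H1.conj_mem_of_le_normalizer' le_rfl hsU ha
    have e1 : a * y * a⁻¹ = y ^ n (s⁻¹ * a * s) * (s * h (s⁻¹ * a * s) * s⁻¹) := by
      have := e _ ha'
      rw [hy, conj_pow]
      calc a * (s * x * s⁻¹) * a⁻¹ = s * (s⁻¹ * a * s * x * (s⁻¹ * a * s)⁻¹) * s⁻¹ := by group
        _ = _ := by rw [this]; group
    have hk : s * h (s⁻¹ * a * s) * s⁻¹ ∈ Z :=
      H1.conj_mem_of_le_normalizer le_rfl hsZ (hh _ ha')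
    have e2 : ⁅x, y⁆ = ⁅x, y⁆ ^ (n a * n (s⁻¹ * a * s)) := by
      calc ⁅x, y⁆ = a * ⁅x, y⁆ * a⁻¹ := by rw [(cm (hUZ ha) hz).eq, mul_inv_cancel_right]
        _ = ⁅a * x * a⁻¹, a * y * a⁻¹⁆ := by simp only [commutatorElement_def]; group
        _ = _ := by
          rw [e _ ha, e1, comm_mul_mul (cm (mul_mem (pow_mem hyZ _) (hZ hk)) (hh _ ha)).symm
            (cm (pow_mem hx _) hk).symm, comm_pow_pow (cm hx hz) (cm hyZ hz)]
    have e3 : 1 ≡ n a * n (s⁻¹ * a * s) [MOD p] := by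
      rw [← ho, ← pow_eq_pow_iff_modEq, pow_one]; exact e2
    have := (ZMod.natCast_eq_natCast_iff _ _ _).2 e3
    push_cast at this
    exact this.symm
  have key2 : ∀ k : ℕ, (n ((s ^ (2 * k))⁻¹ * v * s ^ (2 * k)) : ZMod p) = n v := by
    intro k
    induction k with
    | zero => simp
    | succ k ih =>
      have ha : (s ^ (2 * k))⁻¹ * v * s ^ (2 * k) ∈ U :=
        H1.conj_mem_of_le_normalizer' le_rfl (pow_mem hsU _) hv
      have h1 := key _ ha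
      have h2 := key _ (H1.conj_mem_of_le_normalizer' le_rfl hsU ha)
      have e4 : (s ^ (2 * (k + 1)))⁻¹ * v * s ^ (2 * (k + 1)) =
          s⁻¹ * (s⁻¹ * ((s ^ (2 * k))⁻¹ * v * s ^ (2 * k)) * s) * s := by
        rw [mul_add, pow_add]; group
      rw [e4, ← ih]
      exact left_inv_eq_right_inv ((mul_comm _ _).trans h2) ((mul_comm _ _).trans h1)
  obtain ⟨k, rfl⟩ := hq
  have h3 := key2 (k + 1)
  rw [show 2 * (k + 1) = 2 * k + 1 + 1 by ring, pow_succ, hs, one_mul] at h3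
  have h4 := key v hv
  rw [h3] at h4
  have h5 : n v * n v ≡ 1 [MOD p] := by
    rw [← ZMod.natCast_eq_natCast_iff]; push_cast; exact h4
  have h6 : ∃ t, n v * n v = 1 + p * t := by
    have h0 : 1 ≤ n v * n v := by
      rcases Nat.eq_zero_or_pos (n v * n v) with h0 | h0
      · rw [h0] at h5
        exact absurd ((Nat.modEq_iff_dvd' zero_le_one).1 h5) (by simpa using hp.ne_one)
      · exact h0
    obtain ⟨t, ht⟩ := (Nat.modEq_iff_dvd' h0).1 h5.symm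
    exact ⟨t, by omega⟩
  obtain ⟨t, ht⟩ := h6
  refine ⟨(x ^ p) ^ t * h v ^ n v * h v,
    mul_mem (mul_mem (pow_mem hxp _) (pow_mem (hh _ hv) _)) (hh _ hv), ?_⟩
  calc v ^ 2 * x * (v ^ 2)⁻¹ = v * (v * x * v⁻¹) * v⁻¹ := by rw [sq]; group
    _ = (v * x * v⁻¹) ^ n v * (v * h v * v⁻¹) := by rw [conj_pow, e v hv]; group
    _ = _ := by
      rw [e v hv, (cm (hUZ hv) (hh v hv)).eq, mul_inv_cancel_right,
        (cm (pow_mem hx _) (hh v hv)).mul_pow, ← pow_mul, ht, pow_add, pow_one, pow_mul]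
      group

end Class2

variable {G : Type u} [Group G] [Finite G]

theorem sup_zpowers_eq {p : ℕ} (hp : p.Prime) {A B : Subgroup G} (hBA : B ≤ A)
    (hi : B.relIndex A = p) {a : G} (ha : a ∈ A) (haB : a ∉ B) : B ⊔ zpowers a = A := by
  have h1 : B ⊔ zpowers a ≤ A := sup_le hBA (zpowers_le.2 ha)
  have h2 := relIndex_mul_relIndex _ _ _ (le_sup_left : B ≤ B ⊔ zpowers a) h1
  rw [hi] at h2
  rcases (Nat.dvd_prime hp).1 (Dvd.intro_left _ h2) with h | h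
  · exact le_antisymm h1 (relIndex_eq_one.1 h)
  · rw [h] at h2
    have h3 := Nat.eq_of_mul_eq_mul_right hp.pos (h2.trans (one_mul p).symm)
    exact absurd (relIndex_eq_one.1 h3 (mem_sup_right (mem_zpowers a))) haB

theorem exists_relIndex_eq {p : ℕ} (hp : p.Prime) {A K : Subgroup G} (hK : IsPGroup p K)
    (h : A < K) : ∃ Q : Subgroup G, A ≤ Q ∧ Q ≤ K ∧ Q.relIndex K = p := by
  haveI := Fact.mk hp
  have h1 : A.subgroupOf K ≠ ⊤ := fun e => h.not_ge (subgroupOf_eq_top.1 e)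
  obtain ⟨Q, hQ, hAQ⟩ := (eq_top_or_exists_le_coatom (A.subgroupOf K)).resolve_left h1
  refine ⟨Q.map K.subtype, ?_, map_subtype_le _, ?_⟩
  · rw [← map_subgroupOf_eq_of_le h.le]; exact map_mono hAQ
  · rw [relIndex, ← H3.index_eq_of_isCoatom hK hQ, subgroupOf, comap_map_eq_self_of_injective
      K.subtype_injective]

/-- The Galois case of PF (11.7). -/
theorem even_of_irreducible {p q : ℕ} (hp : p.Prime) {H H₀ U : Subgroup G} (hH : IsPGroup p H)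
    (hd : H₀ = ⁅H, H⁆) (h1 : H₀ ≠ ⊥) (hi : H₀.relIndex H = p ^ q) (hU : U ≤ 𝐍(H))
    (hc : U ≤ 𝐂(H₀)) (hirr : ∀ X : Subgroup G, H₀ ≤ X → X ≤ H → U ≤ 𝐍(X) → X = H₀ ∨ X = H) :
    Even q := by
  haveI := Fact.mk hp
  have hle : H₀ ≤ H := hd ▸ der_le H
  have hn : H ≤ 𝐍(H₀) := hd ▸ (der_normal H).2
  have hlt : ⁅H₀, H⁆ < H₀ := by
    refine lt_of_le_of_ne (comm_le_left_iff.2 hn) fun e => h1 (eq_bot_iff.2 ?_)
    exact PF06.le_of_le_comm_sup (nilMod_of_isNilpotent (isNilpotent_of_isPGroup hp hH) ⊥) le_rfl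
      bot_le hle (norm_bot (G := G) ▸ le_top) (e.ge.trans le_sup_left)
  obtain ⟨Q, h2, h3, h4⟩ := exists_relIndex_eq hp (hH.to_le hle) hlt
  have hQ : H ≤ 𝐍(Q) := comm_le_left_iff.1 ((commutator_mono h3 le_rfl).trans h2)
  have hUQ : U ≤ 𝐍(Q) := (hc.trans (cent_anti h3)).trans (cent_le_norm Q)
  haveI := H1.normal_subgroupOf_of_le hQ
  have hX : IsPGroup p (H ⧸ Q.subgroupOf H) := hH.to_quotient _
  have hcom : _root_.commutator (H ⧸ Q.subgroupOf H) = H1.bar H Q H₀ := by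
    rw [hd, H1.bar_commutator le_rfl le_rfl, H1.bar_top, commutator_def]
  obtain ⟨n, hn'⟩ := H2.exists_index_center_eq_of_card_commutator_le hX
    (by rw [hcom, H1.card_bar hle, h4])
  have hZ : center (H ⧸ Q.subgroupOf H) = H1.bar H Q (H ⊓ centMod H Q) := by
    rw [← centralizer_univ, ← coe_top, ← H1.bar_top]
    ext z
    obtain ⟨y, rfl⟩ := H1.qmk_surjective z
    rw [H1.qmk_mem_centralizer_bar_iff le_rfl, H1.qmk_mem_bar_iff (h3.trans hle) inf_le_left,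
      sup_eq_left.2 (le_inf (h3.trans hle) (le_centMod_iff.2
        ⟨le_norm_self Q, comm_le_right_iff.2 hQ⟩)), mem_inf, mem_centMod]
    refine ⟨fun h => ⟨y.2, hQ y.2, fun k hk => ?_⟩, fun h k hk => ?_⟩
    · rw [← commutatorElement_inv]; exact inv_mem (h k hk)
    · rw [← commutatorElement_inv]; exact inv_mem (h.2.2 k hk)
  rcases hirr (H ⊓ centMod H Q) (le_inf hle (le_centMod_iff.2
    ⟨hle.trans hQ, commutator_comm H₀ H ▸ h2⟩)) inf_le_left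
    (H1.le_normalizer_inf hU (norm_le_norm_centMod hU hUQ)) with e | e
  · rw [hZ, e, ← relIndex_top_right, ← H1.bar_top, H1.relIndex_bar (h3.trans hle) hle le_rfl,
      sup_eq_left.2 h3, sup_eq_left.2 (h3.trans hle), hi] at hn'
    rw [Nat.pow_right_injective hp.two_le hn']
    exact even_two_mul n
  · have : H₀ ≤ Q := hd ▸ (le_centMod_iff.1 (e.ge.trans inf_le_right)).2
    rw [relIndex_eq_one.2 this] at h4
    exact absurd h4.symm hp.ne_one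

omit [Finite G] in
theorem comm_zpowers_le {Q : Subgroup G} {x y : G} (hx : x ∈ 𝐍(Q)) (hy : y ∈ 𝐍(Q))
    (h : ⁅x, y⁆ ∈ Q) : ⁅zpowers x, zpowers y⁆ ≤ Q := by
  haveI := H1.normal_subgroupOf_of_le (le_refl 𝐍(Q))
  rw [← H1.bar_le_centralizer_iff (Y := 𝐍(Q)) (zpowers_le.2 hx) (zpowers_le.2 hy),
    H1.bar_zpowers ⟨x, hx⟩, H1.bar_zpowers ⟨y, hy⟩, cent_zpowers, zpowers_le,
    mem_centralizer_singleton_iff, ← commute_iff_eq, ← commutatorElement_eq_one_iff_commute,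
    ← map_commutatorElement, H1.qmk_eq_one_iff]
  exact h

/-- The non-Galois case of PF (11.7). -/
theorem le_centMod_of_conj {p : ℕ} (hp : p.Prime) {M H H₀ H₁ U W₁ : Subgroup G} (ho : Odd 𝐨(M))
    (hH : H ⊲ M) (hnil : Group.IsNilpotent H) (hU : U ≤ M) (hW : W₁ ≤ M) (hWU : W₁ ≤ 𝐍(U))
    (hd : H₀ = ⁅H, H⁆) (h1 : H₀ ≠ ⊥) (hc : U ≤ 𝐂(H₀)) (h01 : H₀ ≤ H₁) (h1H : H₁ ≤ H)
    (hi : H₀.relIndex H₁ = p) (hU1 : U ≤ 𝐍(H₁)) (hs : ⨆ w ∈ W₁, H₁ ^ᵍ w = H) :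
    U ≤ centMod H₁ H₀ := by
  have hle : H₀ ≤ H := hd ▸ der_le H
  have hn : M ≤ 𝐍(H₀) := hd ▸ hH.2.trans (norm_le_norm_der H)
  have hQ : M ≤ 𝐍(⁅H₀, H⁆) := H1.le_normalizer_commutator hn hH.2
  have hlt : ¬ H₀ ≤ ⁅H₀, H⁆ := fun e => h1 (eq_bot_iff.2
    (PF06.le_of_le_comm_sup (nilMod_of_isNilpotent hnil ⊥) le_rfl
      bot_le hle (norm_bot (G := G) ▸ le_top) (e.trans le_sup_left)))
  have hQ0 : ⁅H₀, H⁆ ≤ H₀ := comm_le_left_iff.2 (hH.1.trans hn)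
  obtain ⟨x, hx, hx0⟩ : ∃ x ∈ H₁, x ∉ H₀ := by
    by_contra! hcon
    rw [relIndex_eq_one.2 hcon] at hi
    exact hp.ne_one hi.symm
  have hx1 := sup_zpowers_eq hp h01 hi hx hx0
  have hxM : x ∈ M := hH.1 (h1H hx)
  have hxH : ∀ w ∈ W₁, w * x * w⁻¹ ∈ H := fun w hw =>
    H1.conj_mem_of_le_normalizer hH.2 (hW hw) (h1H hx)
  -- two conjugates of `x` do not commute modulo `[H₀, H]`
  obtain ⟨s, hsW, hxs⟩ : ∃ s ∈ W₁, ⁅x, s * x * s⁻¹⁆ ∉ ⁅H₀, H⁆ := by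
    by_contra! hcon
    have a1 : ∀ K : Subgroup G, H₀ ≤ K → (∀ w ∈ W₁, w * x * w⁻¹ ∈ K) → H ≤ K := by
      intro K b1 b2
      rw [← hs]
      refine iSup₂_le fun w hw => ?_
      rw [← hx1, Subgroup.map_sup, MonoidHom.map_zpowers]
      exact sup_le ((H1.map_conj_eq_self_iff.2 (hn (hW hw))).le.trans b1) (zpowers_le.2 (b2 w hw))
    have a0 : ∀ K : Subgroup G, K ≤ H → H₀ ≤ centMod K ⁅H₀, H⁆ := fun K hK =>
      le_centMod_iff.2 ⟨(hle.trans hH.1).trans hQ,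
        (commutator_comm K H₀).le.trans (commutator_mono le_rfl hK)⟩
    have a2 : H ≤ centMod (zpowers x) ⁅H₀, H⁆ := by
      refine a1 _ (a0 _ (zpowers_le.2 (h1H hx))) fun w hw => ?_
      rw [← zpowers_le, le_centMod_iff]
      exact ⟨(zpowers_le.2 (hH.1 (hxH w hw))).trans hQ,
        comm_zpowers_le (hQ hxM) (hQ (hH.1 (hxH w hw))) (hcon w hw)⟩
    have a3 : x ∈ centMod H ⁅H₀, H⁆ := zpowers_le.1 (le_centMod_iff.2
      ⟨(zpowers_le.2 hxM).trans hQ, (commutator_comm _ _).le.trans (le_centMod_iff.1 a2).2⟩)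
    have a4 : H ≤ centMod H ⁅H₀, H⁆ := a1 _ (a0 _ le_rfl) fun w hw =>
      H1.conj_mem_of_le_normalizer (norm_le_norm_centMod hH.2 hQ) (hW hw) a3
    exact hlt (hd.le.trans (le_centMod_iff.1 a4).2)
  haveI := H1.normal_subgroupOf_of_le hQ
  haveI := H1.normal_subgroupOf_of_le hn
  have hxp : x ^ p ∈ H₀ := by
    have := pow_card_eq_one' (G := H1.bar M H₀ H₁) (x := ⟨_, H1.qmk_mem_bar (y := ⟨x, hxM⟩) hx⟩)
    rw [H1.card_bar (h1H.trans hH.1), hi] at this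
    have := congrArg Subtype.val this
    rw [SubmonoidClass.coe_pow, ← map_pow] at this
    exact H1.qmk_eq_one_iff.1 this
  have hZ : ∀ {y : M}, H1.qmk M ⁅H₀, H⁆ y ∈ H1.bar M ⁅H₀, H⁆ H₀ ↔ (y : G) ∈ H₀ := by
    intro y
    rw [H1.qmk_mem_bar_iff ((hQ0.trans hle).trans hH.1) (hle.trans hH.1), sup_eq_left.2 hQ0]
  have hHZ : H1.bar M ⁅H₀, H⁆ H ≤ 𝐂(H1.bar M ⁅H₀, H⁆ H₀) :=
    (H1.bar_le_centralizer_iff hH.1 (hle.trans hH.1)).2 (commutator_comm _ _).le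
  have key : ∀ v ∈ U, v ^ 2 ∈ centMod H₁ H₀ := by
    intro v hv
    obtain ⟨z, hz, e⟩ := sq_cent (Z := H1.bar M ⁅H₀, H⁆ H₀) (U := H1.bar M ⁅H₀, H⁆ U)
      (x := H1.qmk M ⁅H₀, H⁆ ⟨x, hxM⟩) (s := H1.qmk M ⁅H₀, H⁆ ⟨s, hW hsW⟩) hp ho
      (by rw [← map_pow, pow_card_eq_one', map_one])
      (H1.bar_le_normalizer hWU (H1.qmk_mem_bar hsW))
      (H1.bar_le_normalizer (hW.trans hn) (H1.qmk_mem_bar hsW))
      ((H1.bar_le_centralizer_iff hU (hle.trans hH.1)).2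
        ((H1.commutator_eq_bot_iff_le_centralizer'.2 (cent_comm.1 hc)).le.trans bot_le))
      ((H1.bar_mono hle).trans hHZ) (hHZ (H1.qmk_mem_bar (h1H hx)))
      (by rw [← map_pow, hZ]; exact hxp)
      (by
        rw [← map_inv, ← map_mul, ← map_mul, ← map_commutatorElement, hZ, hd]
        exact commutator_mem_commutator (h1H hx) (hxH s hsW))
      (by
        rw [← map_inv, ← map_mul, ← map_mul, ← map_commutatorElement, Ne, H1.qmk_eq_one_iff]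
        exact hxs)
      (by
        intro a ha'
        obtain ⟨a, ha, rfl⟩ := H1.mem_bar.1 ha'
        have b1 := H1.conj_mem_of_le_normalizer hU1 ha hx
        rw [← hx1, sup_comm,
          H1.mem_sup_iff_of_le_normalizer ((zpowers_le.2 hxM).trans hn)] at b1
        obtain ⟨y, hy, k, hk, e⟩ := b1
        obtain ⟨n, rfl⟩ := (mem_powers_iff_mem_zpowers.2 hy)
        refine ⟨n, H1.qmk M ⁅H₀, H⁆ ⟨k, hH.1 (hle hk)⟩, hZ.2 hk, ?_⟩
        rw [← map_inv, ← map_mul, ← map_mul, ← map_pow, ← map_mul]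
        exact congrArg _ (Subtype.ext e.symm))
      (v := H1.qmk M ⁅H₀, H⁆ ⟨v, hU hv⟩) (H1.qmk_mem_bar hv)
    rw [← inv_mul_eq_iff_eq_mul] at e
    rw [← e, ← map_pow, ← map_inv, ← map_inv, ← map_mul, ← map_mul, ← map_mul, hZ] at hz
    have hv2 : v ^ 2 ∈ M := pow_mem (hU hv) 2
    rw [← zpowers_le, le_centMod_iff, ← hx1, commutator_comm]
    refine ⟨(zpowers_le.2 hv2).trans hn, comm_sup_le (le_norm_self _)
      ((zpowers_le.2 hxM).trans hn) (comm_le_right_iff.2 ((zpowers_le.2 hv2).trans hn)) ?_⟩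
    rw [commutator_comm, ← zpowers_inv]
    refine comm_zpowers_le (hn (inv_mem hxM)) (hn hv2) ?_
    convert hz using 1
    simp [commutatorElement_def, mul_assoc]
  intro v hv
  obtain ⟨k, hk⟩ := ho
  have : v = (v ^ (k + 1)) ^ 2 := by
    have := congrArg Subtype.val (pow_card_eq_one' (G := M) (x := ⟨v, hU hv⟩))
    rw [SubmonoidClass.coe_pow, hk] at this
    rw [← pow_mul, show (k + 1) * 2 = 2 * k + 1 + 1 by ring, pow_succ]
    exact (by rw [this]; simp)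
  rw [this]
  exact key _ (pow_mem hv _)

end PF11a

open PF09a PF11a

variable {G : Type u} [Group G] [Finite G] [MinOdd G]

variable {M U W₁ W₂ W H₀ : Subgroup G}

namespace Hyp9

variable (h : Hyp9 M U W₁ W₂ W H₀)
include h

theorem a11_fit : MF M ⊔ (U ⊓ 𝐂(MF M)) = fittingOf M := h.typeP.facts.1.sup

theorem a11_subcoherent (h2 : ftType M ≠ 2) : ∃ R, Subcoherent M (S11 M ⊥) (tau0 M) R := by
  obtain ⟨R, hR, -⟩ := h.typeP.subcoherent h.max
  have h1 := h.typeP.ftType_ne_one h.max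
  have h0 : ftType M ≠ 0 := by
    unfold ftType
    split_ifs <;> omega
  rw [Ms_eq_der h.max (by omega)] at hR
  exact ⟨R, hR⟩

theorem a11_solv : Group.IsSolvable (⁅M, M⁆ : Subgroup G) :=
  H1.isSolvable_of_le (der_le M) (MinOdd.proper_solv M h.max.1)

theorem a11_norm : M ≤ 𝐍((H₀ ⊔ (U ⊓ 𝐂(MF M)) : Subgroup G)) :=
  (h.a9_sup_normal h.a9_cent_le (H1.le_normalizer_inf (UW_norm h.typeP)
    (H1.le_normalizer_centralizer ((UW_le h.typeP).trans (MF_normal M).2)))).2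

theorem a11_le : H₀ ⊔ (U ⊓ 𝐂(MF M)) ≤ fittingOf M := h.a11_fit ▸ sup_le_sup_right h.a9_lt.le _

theorem a11_relIndex : (H₀ ⊔ (U ⊓ 𝐂(MF M))).relIndex (fittingOf M) = H₀.relIndex (MF M) := by
  have : fittingOf M = (H₀ ⊔ (U ⊓ 𝐂(MF M))) ⊔ MF M := by
    rw [← h.a11_fit, sup_comm H₀, sup_assoc, sup_eq_right.2 h.a9_lt.le, sup_comm]
  rw [this, relIndex_sup_of_norm ((MF_le M).trans h.a11_norm), ← inf_relIndex_right,
    h.a9_sup_inf inf_le_left]

theorem a11_relIndex_der : (fittingOf M).relIndex ⁅M, M⁆ = 𝐂(MF M).relIndex U := by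
  have h2 := H1.card_mul_relIndex h.typeP.fit_le
  rw [h.typeP.facts.1.sdProd.card, h.typeP.sdD.card, ← H1.card_inf_mul_relIndex 𝐂(MF M) U,
    inf_comm U, mul_assoc] at h2
  exact Nat.eq_of_mul_eq_mul_left Nat.card_pos (Nat.eq_of_mul_eq_mul_left Nat.card_pos h2)

theorem a11_card (h2 : ftType M ≠ 2) : H₀.relIndex (MF M) = 𝐨(W₂) ^ 𝐨(W₁) := by
  rw [h.a9_card, h.a9_p_eq (prime2 h.max h.typeP h2)]

end Hyp9

/-- PF (11.3). -/
theorem Hyp9.type34_noncoherence (h : Hyp9 M U W₁ W₂ W H₀) (h2 : ftType M ≠ 2) :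
    ¬ Coherent M (S11 M (H₀ ⊔ (U ⊓ 𝐂(MF M)))) (tau0 M) := by
  intro hc
  obtain ⟨R, hR⟩ := h.a11_subcoherent h2
  refine type345_noncoherence h.max h.typeP h2 (bounded_seqIndD_coherence (der_normal M) h.a11_solv
    hR (norm_bot (G := G) ▸ le_top) (fittingOf_normal M).2 h.a11_norm bot_le h.a11_le
    h.typeP.fit_le (nilMod_of_isNilpotent (H2.isNilpotent_fittingOf M) ⊥) hc ?_)
  rw [h.a11_relIndex, h.a11_card h2, h.typeP.sdM.relIndex_left]
  have hp := prime2 h.max h.typeP h2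
  have hq := h.a9_prime
  have b : ∀ K : Subgroup G, 𝐨(K).Prime → 3 ≤ 𝐨(K) := fun K hK => by
    have := hK.two_le
    obtain ⟨k, hk⟩ := odd_card K
    omega
  refine pow_gt (b _ hp) (b _ hq) fun e => ?_
  have := H1.coprime_of_le h.typeP.basic.2.2.2.2.2.2.2.2.1 (h.typeP.le2der.trans (der_le _)) le_rfl
  rw [e, Nat.coprime_self] at this
  exact hq.ne_one this

/-- PF (11.4). -/
theorem Hyp9.bounded_proper_coherent (h : Hyp9 M U W₁ W₂ W H₀) (h2 : ftType M ≠ 2)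
    {H₁ : Subgroup G} (hn : M ≤ 𝐍(H₁)) (hlt : H₁ < ⁅M, M⁆) (hc : Coherent M (S11 M H₁) (tau0 M)) :
    H₁.relIndex ⁅M, M⁆ ≤ 2 * 𝐨(W₁) * 𝐂(MF M).relIndex U + 1 := by
  obtain ⟨R, hR⟩ := h.a11_subcoherent h2
  have := coherent_seqIndD_bound (der_normal M) h.a11_solv hR hn h.a11_norm (fittingOf_normal M).2
    (fittingOf_normal M).2 hlt h.a11_le le_rfl h.typeP.fit_le
    (h.typeP.facts.1.der_eq.le.trans (sup_le_sup h.a9_elem.2.1 (der_le _))) hc
    (h.type34_noncoherence h2)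
  rw [relIndex_self, mul_one, ← relIndex_mul_relIndex _ _ _ h.typeP.fit_le (der_le M),
    h.a11_relIndex_der, h.typeP.sdM.relIndex_left,
    show 4 * (𝐂(MF M).relIndex U * 𝐨(W₁)) ^ 2 = (2 * 𝐨(W₁) * 𝐂(MF M).relIndex U) ^ 2 by ring,
    Nat.pow_le_pow_iff_left two_ne_zero] at this
  omega

/-- PF (11.5). -/
theorem Hyp9.type34_der2 (h : Hyp9 M U W₁ W₂ W H₀) (h2 : ftType M ≠ 2) :
    ⁅⁅M, M⁆, ⁅M, M⁆⁆ = MF M ⊔ (U ⊓ 𝐂(MF M)) := by
  obtain ⟨R, hR⟩ := h.a11_subcoherent h2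
  have hF := h.typeP.frobKerMod_der2
  have h1 := h.bounded_proper_coherent h2 hF.normN hF.ltN
    (PF06.coherent_of_der_le (der_le M) hR le_rfl)
  rw [h.a11_fit]
  by_contra hne
  have h3 := (PF06.frob_lt hF (odd_card M) le_rfl (lt_of_le_of_ne h.typeP.der2_le hne)
    h.typeP.fit_le hF.normN (fittingOf_normal M).2).2
  have h4 := PF06.one_lt_relIndex (h.typeP.facts.2.2 (h.typeP.ofTypeIItoIV h.max h.not5).ne_botU)
  rw [← relIndex_mul_relIndex _ _ _ h.typeP.der2_le h.typeP.fit_le, h.a11_relIndex_der] at h1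
  rw [h.typeP.sdM.relIndex_left] at h3
  nlinarith

/-- PF (11.6). -/
theorem Hyp9.type34_facts (h : Hyp9 M U W₁ W₂ W H₀) (h2 : ftType M ≠ 2) :
    IsPGroup 𝐨(W₂) (MF M) ∧ U ≤ 𝐂(H₀) ∧ H₀ = ⁅MF M, MF M⁆ ∧ U ⊓ 𝐂(MF M) = ⁅U, U⁆ := by
  have hD := h.typeP.sdD
  have hp := prime2 h.max h.typeP h2
  have hdisj : MF M ⊓ ⁅U, U⁆ = ⊥ := eq_bot_iff.2 (hD.disj ▸ inf_le_inf_left _ (der_le U))
  have h0 : H₀ = MF M ⊓ 𝐂(U) := by
    refine (H1.eq_of_le_of_card_le h.ker.cent (le_of_eq ?_)).symm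
    have a1 := H1.card_mul_relIndex h.a9_lt.le
    rw [h.a11_card h2, ((typeII_IV_core h.max h.typeP h.not5).2 h2).2.2, mul_comm] at a1
    exact Nat.eq_of_mul_eq_mul_left (pow_pos hp.pos _) a1
  have hc : U ≤ 𝐂(H₀) := cent_comm.1 (h0.le.trans inf_le_right)
  have hd : H₀ = ⁅MF M, MF M⁆ := by
    refine le_antisymm (fun x hx => ?_) h.a9_elem.2.1
    have hY : ⁅M, M⁆ ≤ 𝐍((⁅MF M, U⁆ ⊔ ⁅MF M, MF M⁆ : Subgroup G)) :=
      hD.sup.ge.trans (sup_le (le_norm_of_der_le le_sup_right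
        (sup_le (comm_le_left_iff.2 hD.norm) (der_le _)))
        (H1.le_normalizer_sup H1.le_normalizer_commutator_self
          (hD.norm.trans (norm_le_norm_der _))))
    have hU : ⁅M, M⁆ ≤ 𝐍((⁅U, U⁆ : Subgroup G)) :=
      hD.sup.ge.trans (sup_le ((cent_comm.1 h.typeP.facts.2.1).trans (cent_le_norm _))
        (der_normal U).2)
    have a1 : MF M ≤ (⁅MF M, U⁆ ⊔ ⁅MF M, MF M⁆) ⊔ ⁅U, U⁆ :=
      (le_sup_left.trans (h.type34_der2 h2).ge).trans (hD.der_le (H1.le_normalizer_sup hY hU)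
        (le_sup_right.trans le_sup_left) (le_sup_left.trans le_sup_left) le_sup_right)
    have a2 := sup_inf_of_le_left (K := MF M) (((der_le U).trans hD.le_right).trans hY)
      (sup_le (comm_le_left_iff.2 hD.norm) (der_le _))
    rw [inf_eq_right.2 a1, inf_comm, hdisj, sup_bot_eq] at a2
    refine H1.mem_of_commutator_mem_of_abelian_section (der_le _) le_rfl hD.norm
      (hD.norm.trans (norm_le_norm_der _)) (BG16.coprime_MF_U h.typeP).symm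
      (a2 ▸ h.a9_lt.le hx) fun a ha => ?_
    rw [commutatorElement_eq_one_iff_mul_comm.2 (mem_centralizer_iff.1 (hc ha) x hx)]
    exact one_mem _
  refine ⟨?_, hc, hd, le_antisymm ?_ (le_inf (der_le U) h.typeP.facts.2.1)⟩
  · have hP := isSyl_pCoreOf_of_isNilpotent hp (isNilpotent_MF M)
    refine hP.pgrp.to_le (PF06.le_of_le_der_sup (nilMod_of_isNilpotent (isNilpotent_MF M) ⊥)
      bot_le hP.le (relIndex_eq_one.1 ?_))
    have a1 : (⁅MF M, MF M⁆ ⊔ pCoreOf 𝐨(W₂) (MF M)).relIndex (MF M) ∣ 𝐨(W₂) ^ 𝐨(W₁) := by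
      rw [← h.a11_card h2, hd]; exact relIndex_dvd_of_le_left _ le_sup_left
    exact Nat.eq_one_of_dvd_coprimes ((hp.coprime_iff_not_dvd.2 hP.ndvd).pow_left _) a1
      (relIndex_dvd_of_le_left _ le_sup_right)
  · have a1 : U ⊓ 𝐂(MF M) ≤ MF M ⊔ ⁅U, U⁆ :=
      (le_sup_right.trans (h.type34_der2 h2).ge).trans hD.der_le_sup
    have a2 := sup_inf_of_le_right (K := U) ((der_le U).trans hD.norm) (der_le U)
    rw [hD.disj, bot_sup_eq] at a2
    exact a2 ▸ le_inf a1 inf_le_left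

/-- PF (11.7). -/
theorem Hyp9.type34_kernel_trivial (h : Hyp9 M U W₁ W₂ W H₀) (h2 : ftType M ≠ 2) :
    IsElem 𝐨(W₂) 𝐨(W₁) (MF M) ∧ H₀ = ⊥ := by
  obtain ⟨hP, hc, hd, -⟩ := h.type34_facts h2
  have hp := prime2 h.max h.typeP h2
  have h0 : H₀ = ⊥ := by
    by_contra h1
    by_cases hg : GaloisP M U H₀
    · exact Nat.not_even_iff_odd.2 (odd_card W₁)
        (even_of_irreducible hp hP hd h1 (h.a11_card h2) h.typeP.sdD.norm hc hg)
    · obtain ⟨H₁, a, hn⟩ := h.nonGalois hg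
      have := le_centMod_of_conj hp (odd_card M) (MF_normal M) (isNilpotent_MF M) (U_le h.typeP)
        (W₁_le h.typeP) h.typeP.normU hd h1 hc hn.le0 hn.le (hn.card.trans (h.a9_p_eq hp))
        hn.norm hn.sup
      exact hn.one_lt.ne' (hn.a_eq.trans (relIndex_eq_one.2 this))
  refine ⟨⟨⟨isMulComm_iff_comm_eq_bot.2 (hd.symm.trans h0), fun x hx => ?_⟩, ?_⟩, h0⟩
  · have := h.a9_elem.2.2 x hx
    rwa [h.a9_p_eq hp, h0, mem_bot] at this
  · rw [← h.a11_card h2, h0, relIndex_bot_left]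

omit [Finite G] [MinOdd G] in
theorem fcC_bot (M U : Subgroup G) : fcC M U ⊥ = U ⊓ 𝐂(MF M) := by
  rw [fcC, centMod_bot]

/-- PF (10.11) and (11.7) together. -/
theorem OfTypeP.hyp9_bot (hM : IsCoatom M) (h : OfTypeP M U W₁ W₂ W) :
    Hyp9 M U W₁ W₂ W ⊥ ∧ IsElem 𝐨(W₂) 𝐨(W₁) (MF M) := by
  by_cases h2 : ftType M = 2
  · exact ⟨(typeII_prime_facts hM h h2).2.1, (typeII_prime_facts hM h h2).1⟩
  · obtain ⟨H₀, h0⟩ := exists_hyp9 hM h (ftType_ne_five hM)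
    obtain ⟨a, rfl⟩ := h0.type34_kernel_trivial h2
    exact ⟨h0, a⟩

end Cfsg.Agent.FT
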