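/-
PF (11.8).
-/
import Cfsg.Agent.FT.PF11a

set_option autoImplicit false

namespace Cfsg.Agent.FT

open Subgroup Cfsg Cfsg.Agent
open scoped commutatorElement ComplexConjugate

universe u

variable {G : Type u} [Group G] [Finite G] [MinOdd G]

variable {M U W₁ W₂ W : Subgroup G}

local notation "𝒮₁" => S11 M (MF M ⊔ (U ⊓ 𝐂(MF M)))
local notation "𝒮₂" => S9 M (U ⊓ 𝐂(MF M))
local notation "𝒯" => seqIndT ⁅M, M⁆ M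
local notation "τ" => tau0 M
local notation "σ" => cycσ ⊤ W₁ W₂
local notation "μ" => muR M W₁ W₂
local notation "μ₂" => mu2 M W₁ W₂
local notation "η" => etaCol W₁ W₂
local notation "𝔲" => Subgroup.relIndex (fcC M U ⊥) U

namespace PF11b

/-- The standing hypothesis of section 11. -/
structure Hyp (M U W₁ W₂ W : Subgroup G) : Prop where
  max : IsCoatom M
  typeP : OfTypeP M U W₁ W₂ W
  ne2 : ftType M ≠ 2

theorem arith {n a : ℤ} (hn : 2 ≤ n) (h : n * a ^ 2 - 2 * a * n ≤ 2) : -1 < a ∧ a < 3 := by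
  have : a * (a - 2) < 3 := by
    by_contra k
    nlinarith [mul_le_mul hn (not_lt.1 k) (by norm_num) (by omega)]
  constructor <;> nlinarith

namespace Hyp

variable (h : Hyp M U W₁ W₂ W)
include h

theorem two_lt : 2 < ftType M := by
  have := ftType_range M
  have := h.typeP.ftType_ne_one h.max
  have := h.ne2
  omega

theorem h9 : Hyp9 M U W₁ W₂ W ⊥ := (h.typeP.hyp9_bot h.max).1

theorem pti : PrimeTI M ⁅M, M⁆ W₁ W₂ W := h.typeP.primeTI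

theorem cti : CycTI ⊤ W₁ W₂ W := h.typeP.cycTI

theorem nrm : ⁅M, M⁆ ⊲ M := h.pti.basic.1

theorem o1 : cf1 W ∈ irrKer W W₁ := PF04.one1 h.pti

theorem o2 : cf1 W ∈ irrKer W W₂ := PF04.one2 h.pti

theorem cs1 : ConjSub 𝒮₁ (seqIndD ⁅M, M⁆ M (Ms M) ⊥) := conjSub_S11 h.max h.two_lt _

theorem cs2 : ConjSub 𝒮₂ (seqIndD ⁅M, M⁆ M (Ms M) ⊥) := h.typeP.conjSub_S9 h.max _

theorem irr1 {ζ : G → ℂ} (hζ : ζ ∈ 𝒮₁) : ζ ∈ Irr M ∧ dg ζ = 𝐨(W₁) :=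
  h.typeP.mem_S11_of_der2_le (h.h9.type34_der2 h.ne2).le hζ

theorem one1 {ζ : G → ℂ} (hζ : ζ ∈ 𝒮₁) : ζ 1 = 𝐨(W₁) := by
  rw [irr_one_eq (h.irr1 hζ).1, (h.irr1 hζ).2]

theorem ip_mu2 {ζ ω : G → ℂ} (hζ : ζ ∈ 𝒯) (hi : ζ ∈ Irr M) (hω : ω ∈ Irr W) :
    ip M ζ (μ₂ ω) = 0 := by
  rcases h.pti.seqIndT_cases hζ with ⟨β, hβ, rfl⟩ | h1
  · exact absurd hi (h.pti.muR_facts hβ).2.1
  · exact h1.2 ω hω

theorem ip_mu {ζ β : G → ℂ} (hζ : ζ ∈ 𝒯) (hi : ζ ∈ Irr M) (hβ : β ∈ irrKer W W₁) :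
    ip M ζ (μ β) = 0 := by
  rw [h.pti.muR_eq, ip_sum_right]
  exact Finset.sum_eq_zero fun α hα => h.ip_mu2 hζ hi (h.pti.dprod.mul_mem_Irr hα hβ)

theorem on0 {φ : G → ℂ} (hφ : φ ∈ Zs 𝒯) (h1 : φ 1 = 0) :
    φ ∈ CFon M (ftA0 M) ∧ τ φ ∈ VChar ⊤ ∧ ∀ x ∈ hatSet W₁ W₂, τ φ x = 0 := by
  obtain ⟨k1, k2⟩ := Zs0_seqIndT h.nrm subset_rfl (mem_Zs0.2 ⟨hφ, h1⟩)
  have k3 : φ ∈ CFon M (ftA0 M) := by
    refine CFon_mono _ ?_ k1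
    rw [← (ftA_eq_ftA1 h.max h.two_lt).2, ← (ftA_eq_ftA1 h.max h.two_lt).1]
    exact ftA_subset_ftA0 M
  refine ⟨k3, (ftDade0 h.max).vchar k3 k2, fun x hx => ?_⟩
  rw [(h.typeP.prDade h.max).basic.2.2.2.2.2 φ k1.1 x hx]
  exact k1.2 x fun hx' => h.pti.basic.2.2.2.2.2.2.2 x hx hx'.1

theorem mu_mem {β : G → ℂ} (hβ : β ∈ irrKer W W₁) : μ β ∈ 𝒯 := (h.pti.muR_facts hβ).2.2.2.1

theorem mu0_one : μ (cf1 W) 1 = 𝐨(W₁) := by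
  rw [h.pti.col_zero.2.2.2.2]
  simp

theorem ip_mu2_mu0 {α : G → ℂ} (hα : α ∈ irrKer W W₂) : ip M (μ₂ α) (μ (cf1 W)) = 1 := by
  have := PF04.ip_mu2_muR h.pti hα h.o1 h.o1
  rwa [PF04.mul_one' hα, if_pos rfl] at this

theorem ip_one_mu0 : ip M (cf1 M) (μ (cf1 W)) = 1 := by
  rw [← h.pti.col_zero.1, h.ip_mu2_mu0 h.o2]

theorem on_mu0 {ζ : G → ℂ} (hζ : ζ ∈ 𝒮₁) : μ (cf1 W) - ζ ∈ CFon M (ftA0 M) ∧
    τ (μ (cf1 W) - ζ) ∈ VChar ⊤ ∧ ∀ x ∈ hatSet W₁ W₂, τ (μ (cf1 W) - ζ) x = 0 :=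
  h.on0 (sub_mem (mem_Zs_of_mem (h.mu_mem h.o1)) (mem_Zs_of_mem (seqIndD_subset_T _ _ _ _ hζ)))
    (by rw [Pi.sub_apply, h.mu0_one, h.one1 hζ, sub_self])

theorem on_sub {ζ ξ : G → ℂ} (hζ : ζ ∈ 𝒮₁) (hξ : ξ ∈ 𝒮₁) : ζ - ξ ∈ CFon M (ftA0 M) :=
  (h.on0 (sub_mem (mem_Zs_of_mem (seqIndD_subset_T _ _ _ _ hζ))
    (mem_Zs_of_mem (seqIndD_subset_T _ _ _ _ hξ)))
    (by rw [Pi.sub_apply, h.one1 hξ, h.one1 hζ, sub_self])).1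

theorem nsq_mu0 {ζ : G → ℂ} (hζ : ζ ∈ 𝒮₁) : nsq ⊤ (τ (μ (cf1 W) - ζ)) = 𝐨(W₁) + 1 := by
  rw [nsq_eq_of_ip_eq ((ftDade0 h.max).iso (h.on_mu0 hζ).1 (h.on_mu0 hζ).1), nsq_sub,
    (h.pti.muR_facts h.o1).2.2.1, nsq_irr (h.irr1 hζ).1,
    ip_eq_zero_symm (h.ip_mu (seqIndD_subset_T _ _ _ _ hζ) (h.irr1 hζ).1 h.o1)]
  simp

theorem agree1 {τ₁ : (G → ℂ) →ₗ[ℂ] (G → ℂ)} (hc : CohWith M 𝒮₁ τ τ₁) {ζ ξ : G → ℂ} (hζ : ζ ∈ 𝒮₁)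
    (hξ : ξ ∈ 𝒮₁) : τ (ζ - ξ) = τ₁ ζ - τ₁ ξ := by
  rw [← map_sub, hc.agree _ (sub_mem_Zs0 (mem_Zs_of_mem hζ) (mem_Zs_of_mem hξ)
    (by rw [h.one1 hζ, h.one1 hξ]))]

theorem orth1 {τ₁ : (G → ℂ) →ₗ[ℂ] (G → ℂ)} (hc : CohWith M 𝒮₁ τ τ₁) {ζ ω : G → ℂ} (hζ : ζ ∈ 𝒮₁)
    (hω : ω ∈ Irr W) : ip ⊤ (τ₁ ζ) (σ ω) = 0 :=
  h.typeP.coherent_ortho_σ h.max h.cs1 hc hζ (h.irr1 hζ).1 hω

theorem orth_sub {ζ ξ ω : G → ℂ} (hζ : ζ ∈ 𝒮₁) (hξ : ξ ∈ 𝒮₁) (hω : ω ∈ Irr W) :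
    ip ⊤ (τ (ζ - ξ)) (σ ω) = 0 := by
  obtain ⟨R, hR, -⟩ := h.typeP.subcoherent h.max
  obtain ⟨τ₁, hc⟩ := (hR.mono h.cs1).uniform_degree_coherence fun χ hχ ψ hψ => by
    rw [h.one1 hχ, h.one1 hψ]
  rw [h.agree1 hc hζ hξ, ip_sub_left, h.orth1 hc hζ hω, h.orth1 hc hξ hω, sub_self]

theorem ip_eta {φ β : G → ℂ} (hβ : β ∈ irrKer W W₁) (ho : ∀ ω ∈ Irr W, ip ⊤ φ (σ ω) = 0) :
    ip ⊤ φ (η β) = 0 := by
  rw [h.cti.etaCol_eq, ip_sum_right]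
  exact Finset.sum_eq_zero fun α hα => ho _ (h.pti.dprod.mul_mem_Irr hα hβ)

theorem exists_beta : ∃ β ∈ irrKer W W₁, β ≠ cf1 W := by
  obtain ⟨-, -, -, h3, -, -, -, -, hc, -⟩ := h.cti.basic
  exact Finset.exists_mem_ne (by omega) _

theorem mu_facts {β : G → ℂ} (hβ : β ∈ irrKer W W₁) (h1 : β ≠ cf1 W) :
    μ β ∈ 𝒮₂ ∧ dg (μ₂ β) = 𝔲 ∧ μ β 1 = 𝐨(W₁) * 𝔲 := by
  have k := h.h9.reducible_core_ind.2.2 (h.typeP.primes h.max).2 β hβ h1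
  have k1 := k.mem
  rw [bot_sup_eq, fcC_bot] at k1
  have k2 := k.deg
  refine ⟨k1, ?_, by rw [(h.pti.muR_facts hβ).1.one_eq, k2, Nat.cast_mul]⟩
  rw [(h.pti.res_mu2 hβ).2.2.2.2] at k2
  exact Nat.eq_of_mul_eq_mul_left Nat.card_pos k2

theorem star_ne {ζ : G → ℂ} (hζ : ζ ∈ 𝒮₁) : star ζ ≠ ζ :=
  (seqIndD_odd h.nrm le_rfl (MinOdd.odd.of_dvd_nat (card_subgroup_dvd_card M)) hζ).2

theorem S1_nonempty : (𝒮₁).Nonempty := by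
  have k := h.typeP.frobKerMod_der2
  rw [h.h9.type34_der2 h.ne2] at k
  exact seqIndD_nonempty M ⟨k.ltN.le, k.ltK.le.trans k.normN⟩ k.ltN.not_ge

/-- PF (11.8.1). -/
theorem consts : Const345 M W₁ W₂ W 𝔲 1 (𝒮₁).card ∧ 𝔲 = (𝒮₁).card * 𝐨(W₁) + 1 ∧ 2 ≤ (𝒮₁).card := by
  obtain ⟨-, d, δ, n, hc⟩ := type345_constants h.max h.typeP h.ne2
  obtain ⟨β, hβ, h1⟩ := h.exists_beta
  have e1 : d = 𝔲 := by
    rw [← hc.deg _ h.o2 β hβ h1, PF04.one_mul' hβ, (h.mu_facts hβ h1).2.1]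
  subst e1
  obtain ⟨-, -, -, -, -, n1, -, -, -, -, n2, -, -, -⟩ := h.h9.normal_facts
  rw [fcC_bot M U] at n1
  have k := h.typeP.frobKerMod_der2
  rw [h.h9.type34_der2 h.ne2] at k
  have s := sum_seqIndD_square h.nrm le_rfl h.nrm.2 n1.2 k.ltN.le
  rw [Finset.sum_congr rfl fun ζ hζ => by rw [(h.irr1 hζ).2, nsq_irr (h.irr1 hζ).1, div_one],
    Finset.sum_const, nsmul_eq_mul, h.pti.basic.2.2.2.2.1, ← fcC_bot M U, n2, fcC_bot M U] at s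
  have q0 := card_ne_zero_R W₁
  have s2 : (𝔲 : ℝ) = (𝒮₁).card * 𝐨(W₁) + 1 := by
    rw [fcC_bot M U]
    refine mul_left_cancel₀ q0 ?_
    linear_combination -s
  have s3 : 𝔲 = (𝒮₁).card * 𝐨(W₁) + 1 := by exact_mod_cast s2
  have q3 := h.cti.basic.2.2.1
  have r := hc.ratio
  obtain ⟨ζ, hζ⟩ := h.S1_nonempty
  have hn : n = (𝒮₁).card ∧ δ = 1 := by
    rw [s3] at r
    push_cast at r
    have q3' : (3 : ℤ) ≤ 𝐨(W₁) := by exact_mod_cast q3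
    have : (n : ℤ) = (𝒮₁).card := by
      by_contra ne
      rcases lt_or_gt_of_ne ne with l | l <;> rcases hc.sgn with rfl | rfl <;> nlinarith
    exact ⟨by exact_mod_cast this, by rw [this] at r; linarith⟩
  obtain ⟨rfl, rfl⟩ := hn
  exact ⟨hc, s3, Finset.one_lt_card.2 ⟨_, h.cs1.2 ζ hζ, ζ, hζ, h.star_ne hζ⟩⟩

/-- The coherent extension on `𝒮₂`. -/
theorem exists_tau2 {β : G → ℂ} (hβ : β ∈ irrKer W W₁) (h1 : β ≠ cf1 W) :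
    ∃ τ₂, CohWith M 𝒮₂ τ τ₂ ∧ (τ₂ (μ β) = η β ∨ (τ₂ (μ β) = -η (star β) ∧ ∃ ξ ∈ 𝒮₂, ξ ∈ Irr M)) := by
  have hd := h.consts.1.sign β hβ h1
  by_cases hi : ∃ ξ ∈ 𝒮₂, ξ ∈ Irr M
  · obtain ⟨τ₂, hc⟩ := h.h9.core_coherence.mono (S₁ := 𝒮₂) (seqIndD_mono _ _ le_rfl (by
      rw [bot_sup_eq, fcC_bot]
      exact der_le _))
    refine ⟨τ₂, hc, ?_⟩
    rcases h.typeP.coherent_muR h.max h.cs2 hi hβ (h.mu_facts hβ h1).1 hc with k | k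
    · exact Or.inl (by simpa [hd] using k)
    · exact Or.inr ⟨by simpa [hd] using k.1, hi⟩
  · obtain ⟨τ₂, hc, k⟩ := (h.typeP.prDade h.max).uniform_muR_coherent hβ h1 (T := 𝒮₂) fun φ hφ => by
      rcases h.pti.seqIndT_cases (seqIndD_subset_T _ _ _ _ hφ) with ⟨γ, hγ, rfl⟩ | k
      · have h2 : γ ≠ cf1 W := by
          rintro rfl
          have := (seqIndD_orth_cf1 h.nrm h.typeP.sdD.le_left hφ).1
          rw [← conj_ip, h.ip_one_mu0] at this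
          simp at this
        exact ⟨γ, hγ, h2, rfl, by rw [(h.mu_facts hγ h2).2.2, (h.mu_facts hβ h1).2.2]⟩
      · exact absurd ⟨φ, hφ, k.1⟩ hi
    exact ⟨τ₂, hc, Or.inl (by simpa [hd] using k β hβ)⟩

theorem disj : Disjoint 𝒮₂ 𝒮₁ := by
  obtain ⟨-, -, -, -, n0, n1, -⟩ := h.h9.normal_facts
  rw [fcC_bot M U] at n0 n1
  rw [bot_sup_eq] at n0
  refine Finset.disjoint_left.2 fun φ h2 h1 => ?_
  exact ((mem_seqIndD_iff_ker h.nrm h.typeP.basic.2.1.le_norm n0.2).1 h2).2.2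
    (le_sup_left.trans ((mem_seqIndD_iff_ker h.nrm h.nrm.2 n1.2).1 h1).2.1)

theorem not_coherent : ¬ Coherent M (𝒮₂ ∪ 𝒮₁) τ := by
  refine fun hc => h.h9.type34_noncoherence h.ne2 (hc.mono fun φ hφ => ?_)
  obtain ⟨θ, hθ, rfl⟩ := mem_seqIndD.1 hφ
  obtain ⟨k1, k2, k3⟩ := mem_irrKerD.1 hθ
  rw [bot_sup_eq] at k2
  by_cases k : MF M ≤ cfKer θ
  · exact Finset.mem_union_right _ (mem_seqIndD.2 ⟨θ, mem_irrKerD.2 ⟨k1, sup_le k k2, k3⟩, rfl⟩)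
  · exact Finset.mem_union_left _ (mem_seqIndD.2 ⟨θ, mem_irrKerD.2 ⟨k1, k2, k⟩, rfl⟩)

/-- PF (11.8.4). -/
theorem exists_tau1 {ζ : G → ℂ} (hζ : ζ ∈ 𝒮₁)
    (ho : ∀ ω ∈ Irr W, ip ⊤ (τ (μ (cf1 W) - ζ) - η (cf1 W)) (σ ω) = 0) :
    ∃ τ₁, CohWith M 𝒮₁ τ τ₁ ∧ τ (μ (cf1 W) - ζ) = η (cf1 W) - τ₁ ζ := by
  obtain ⟨R, hR, -⟩ := h.typeP.subcoherent h.max
  obtain ⟨-, e1, e2, -⟩ := h.cti.ip_etaCol h.o2 h.o1 h.o1
  have hz := h.irr1 hζ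
  obtain ⟨τ₁, hc, e⟩ := (hR.mono h.cs1).pivot_coherence hζ (ζ₁ := η (cf1 W) - τ (μ (cf1 W) - ζ))
    (sub_mem e2 (h.on_mu0 hζ).2.1) (fun ξ hξ ne => ⟨1, by rw [h.one1 hξ, h.one1 hζ]; simp, by
      rw [Nat.cast_one, one_smul, ip_sub_right, h.ip_eta h.o1 fun ω hω => h.orth_sub hξ hζ hω,
        (ftDade0 h.max).iso (h.on_sub hξ hζ) (h.on_mu0 hζ).1]
      simp [h.ip_mu (seqIndD_subset_T _ _ _ _ hξ) (h.irr1 hξ).1 h.o1,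
        h.ip_mu (seqIndD_subset_T _ _ _ _ hζ) hz.1 h.o1, ip_irr_of_ne (h.irr1 hξ).1 hz.1 ne]⟩)
    (by
      have k := nsq_add ⊤ (τ (μ (cf1 W) - ζ) - η (cf1 W)) (η (cf1 W))
      rw [sub_add_cancel, h.nsq_mu0 hζ, h.ip_eta h.o1 ho,
        nsq_eq_of_ip (φ := η (cf1 W)) (r := 𝐨(W₁)) (by simpa using e1)] at k
      rw [nsq_irr hz.1, ← neg_sub, nsq_neg]
      simp only [Complex.zero_re] at k
      linarith)
  exact ⟨τ₁, hc, by rw [e, sub_sub_cancel]⟩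

local notation "𝔟" => bridge345 M W₁ W₂ 1 (Finset.card 𝒮₁)

theorem ip_bridge {ζ ξ α β : G → ℂ} (hζ : ζ ∈ 𝒮₁) (hξ : ξ ∈ 𝒮₁) (hα : α ∈ irrKer W W₂)
    (hβ : β ∈ irrKer W W₁) : ip M (𝔟 ζ α β) ξ = if ζ = ξ then -((𝒮₁).card : ℂ) else 0 := by
  have k := fun ω hω => ip_eq_zero_symm (h.ip_mu2 (ω := ω) (seqIndD_subset_T _ _ _ _ hξ)
    (h.irr1 hξ).1 hω)
  simp only [bridge345, ip_sub_left, ip_smul_left, k _ (h.pti.dprod.mul_mem_Irr hα hβ),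
    k _ (mem_irrKer.1 hα).1, ip_irr (h.irr1 hζ).1 (h.irr1 hξ).1]
  split_ifs <;> simp

/-- PF (11.8.2), (11.8.3), (11.8.5). -/
theorem tau_bridge_one {ζ β : G → ℂ} (hζ : ζ ∈ 𝒮₁) {τ₁ : (G → ℂ) →ₗ[ℂ] (G → ℂ)}
    (hc : CohWith M 𝒮₁ τ τ₁) (e : τ (μ (cf1 W) - ζ) = η (cf1 W) - τ₁ ζ) (hβ : β ∈ irrKer W W₁)
    (h1 : β ≠ cf1 W) : ip ⊤ (τ (𝔟 ζ (cf1 W) β)) (τ₁ ζ) = -((𝒮₁).card : ℂ) := by
  obtain ⟨hk, -, hn⟩ := h.consts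
  have hz := h.irr1 hζ
  have zT := seqIndD_subset_T _ _ _ _ hζ
  obtain ⟨b1, -, b2, b3, -⟩ :=
    bridge345_facts h.max h.typeP h.ne2 hk (seqIndD_mono _ _ le_rfl bot_le hζ) hz.1 hz.2 h.o2 hβ h1
  have i1 := h.pti.dprod.mul_mem_Irr h.o2 hβ
  have i0 := cf1_mem_Irr W
  have dz := hc.dirr hζ hz.1
  set n := (𝒮₁).card with hn'
  set A := τ (bridge345 M W₁ W₂ 1 n ζ (cf1 W) β) with hA
  obtain ⟨c, hc'⟩ := vchar_ip_int b2 dz.mem_VChar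
  obtain ⟨a, rfl⟩ : ∃ a : ℤ, c = a - n := ⟨c + n, by ring⟩
  push_cast at hc'
  have k1 : ∀ ξ ∈ 𝒮₁, ip ⊤ A (τ₁ ξ) = a - if ζ = ξ then (n : ℂ) else 0 := fun ξ hξ => by
    have := (ftDade0 h.max).iso b1 (h.on_sub hζ hξ)
    rw [h.agree1 hc hζ hξ, ip_sub_right, ip_sub_right, h.ip_bridge hζ hζ h.o2 hβ,
      h.ip_bridge hζ hξ h.o2 hβ, ← hA, hc', if_pos rfl] at this
    split_ifs at this ⊢ <;> linear_combination -this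
  have hy : (a : ℂ) • ∑ ξ ∈ 𝒮₁, ξ - (n : ℂ) • ζ ∈ Zs 𝒮₁ :=
    sub_mem (intCast_smul_mem_Zs (Submodule.sum_mem _ fun ξ hξ => mem_Zs_of_mem hξ) a)
      (natCast_smul_mem_Zs (mem_Zs_of_mem hζ) n)
  set y := (a : ℂ) • ∑ ξ ∈ 𝒮₁, ξ - (n : ℂ) • ζ with hy'
  have on1 : ON M 𝒮₁ := (on_Irr M).mono fun ξ hξ => (h.irr1 hξ).1
  have k2 : ∀ ξ ∈ 𝒮₁, ip M y ξ = a - if ζ = ξ then (n : ℂ) else 0 := fun ξ hξ => by
    rw [hy', ip_sub_left, ip_smul_left, ip_smul_left, on1.ip_sum subset_rfl hξ, if_pos hξ,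
      on1.ip_eq hζ hξ]
    split_ifs <;> simp
  have k3 : ip ⊤ (τ₁ y) (A - τ₁ y) = 0 :=
    ip_eq_zero_of_mem_Zs_left (map_mem_Zs_image τ₁ hy) fun χ hχ => by
      obtain ⟨ξ, hξ, rfl⟩ := Finset.mem_image.1 hχ
      refine ip_eq_zero_symm ?_
      rw [ip_sub_left, k1 ξ hξ, hc.iso _ hy _ (mem_Zs_of_mem hξ), k2 ξ hξ, sub_self]
  have k4 : nsq ⊤ (τ₁ y) = n * a ^ 2 - 2 * a * n + n ^ 2 := by
    rw [hc.nsq_eq hy]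
    refine nsq_eq_of_ip ?_
    conv_lhs => arg 3; rw [hy']
    rw [ip_sub_right, ip_smul_right, ip_smul_right, ip_sum_right, Finset.sum_congr rfl k2, k2 ζ hζ,
      Finset.sum_sub_distrib, Finset.sum_ite_eq, if_pos hζ, if_pos rfl, Finset.sum_const]
    simp only [nsmul_eq_mul, map_intCast, map_natCast]
    push_cast
    ring
  have k5 : (n : ℤ) * a ^ 2 - 2 * a * n ≤ 2 := by
    have := nsq_add ⊤ (τ₁ y) (A - τ₁ y)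
    rw [add_sub_cancel, k3, k4, b3] at this
    have k : (n : ℝ) * a ^ 2 - 2 * a * n ≤ 2 := by
      have := nsq_nonneg ⊤ (A - τ₁ y)
      simp only [Complex.zero_re] at *
      linarith
    exact_mod_cast k
  -- the real character `B`
  have s1 := h.pti.star_facts hβ
  have hβ' := star_mem_irrKer hβ
  obtain ⟨-, s2, -⟩ := (h.typeP.prDade h.max).sub_mu2 h.o2 hβ h1 hβ' (s1.2.2.2 h1).2.1 (by
    rw [s1.2.2.1 _ (mem_irrKer.1 hβ).1,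
      (irr_isChar (h.pti.mu2_mem_Irr (mem_irrKer.1 hβ).1)).star_one])
  rw [hk.sign β hβ h1, Int.cast_one, one_smul] at s2
  have hB : star (A - (σ (cf1 W * β) - σ (cf1 W)) + (n : ℂ) • τ₁ ζ) =
      A - (σ (cf1 W * β) - σ (cf1 W)) + (n : ℂ) • τ₁ ζ := by
    have t1 : star (bridge345 M W₁ W₂ 1 n ζ (cf1 W) β) = bridge345 M W₁ W₂ 1 n ζ (cf1 W) β -
        (μ₂ (cf1 W * β) - μ₂ (cf1 W * star β)) + (n : ℂ) • (ζ - star ζ) := by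
      simp only [bridge345, star_sub, star_smul, ← s1.2.2.1 _ i1, ← s1.2.2.1 _ i0, star_mul',
        star_cf1, star_intCast, star_natCast]
      module
    rw [star_add, star_sub, star_sub, star_smul, hA, ← dade_star, t1, map_add, map_sub, map_smul,
      s2, h.agree1 hc hζ (h.cs1.2 ζ hζ), h.cti.star_σ (irr_mem_CF i1), h.cti.star_σ (cf1_mem_CF W),
      hc.star_eq (ftDade0 h.max) h.cs1.2 hζ hz.1 (h.star_ne hζ), star_mul', star_cf1, star_natCast]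
    module
  have hBv : A - (σ (cf1 W * β) - σ (cf1 W)) + (n : ℂ) • τ₁ ζ ∈ VChar ⊤ :=
    add_mem (sub_mem b2 (sub_mem (h.cti.σ_dirr i1).mem_VChar (h.cti.σ_dirr i0).mem_VChar))
      (vchar_nat_smul dz.mem_VChar n)
  obtain ⟨e1, -, e2, e3⟩ := h.cti.ip_etaCol h.o2 h.o1 hβ
  have e4 := (h.cti.ip_etaCol h.o2 h.o1 h.o1).1
  rw [if_neg h1.symm] at e1
  rw [if_pos rfl, PF04.mul_one' h.o1] at e4
  rw [star_cf1] at e3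
  have e5 : ip ⊤ (σ (cf1 W)) (η (cf1 W)) = 1 := by rw [← conj_ip, e4, map_one]
  have e6 := h.ip_eta h.o1 fun ω hω => h.orth1 hc hζ hω
  have B0 : ip ⊤ (A - (σ (cf1 W * β) - σ (cf1 W)) + (n : ℂ) • τ₁ ζ) (cf1 ⊤) = 0 := by
    have t1 : ip ⊤ A (cf1 ⊤) = -1 := by
      have t2 := h.pti.ip_mu2 h.o2 h.o2 hβ h.o1
      rw [PF04.mul_one' h.o1, h.pti.col_zero.1, if_neg (by tauto)] at t2
      rw [hA, (ftDade0 h.max).ip_dade_cf1 b1, bridge345, h.pti.col_zero.1]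
      simp [t2, (seqIndD_orth_cf1 h.nrm le_rfl hζ).1]
    rw [ip_add_left, ip_sub_left, t1, ← h.cti.σ_cf1, ip_sub_left, h.cti.ip_σ i1 i0, h.cti.ip_σ i0 i0,
      ip_smul_left, h.orth1 hc hζ i0, PF04.one_mul' hβ, if_neg h1]
    simp
  have B1 : ip ⊤ (A - (σ (cf1 W * β) - σ (cf1 W)) + (n : ℂ) • τ₁ ζ) (η (cf1 W)) = a := by
    have t1 := (ftDade0 h.max).iso b1 (h.on_mu0 hζ).1
    have t2 := PF04.ip_mu2_muR h.pti h.o2 hβ h.o1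
    rw [if_neg h1] at t2
    rw [e, ip_sub_right, ip_sub_right, ← hA, hc', h.ip_bridge hζ hζ h.o2 hβ, if_pos rfl,
      bridge345] at t1
    simp only [ip_sub_left, ip_smul_left, t2, h.ip_mu2_mu0 h.o2, h.ip_mu zT hz.1 h.o1] at t1
    rw [ip_add_left, ip_sub_left, ip_sub_left, ip_smul_left, e5, e6, ip_eq_zero_symm e1]
    push_cast at t1
    linear_combination t1
  obtain ⟨m, hm⟩ := ip_real_vchar_mod_two (H := ⊤)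
    (MinOdd.odd.of_dvd_nat (card_subgroup_dvd_card ⊤)) hBv e2 hB e3
  rw [B0, B1, zero_mul, zero_add] at hm
  have hm' : a = 2 * m := by exact_mod_cast hm
  have hn2 : (2 : ℤ) ≤ n := by exact_mod_cast hn
  have ha : a = 0 ∨ a = 2 := by
    have := arith hn2 k5
    omega
  rcases ha with ha | ha
  · rw [hc', ha]; simp
  · have t := bridge345_coherence h.max h.typeP h.ne2 hk (seqIndD_mono _ _ le_rfl bot_le hζ) hz.1 hz.2 h.o2 hβ h1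
      (S₁ := 𝒮₁) ⟨seqIndD_mono _ _ le_rfl bot_le, h.cs1.2⟩ (fun ξ hξ => (h.irr1 hξ).1) hc
      (X := A - τ₁ y) (Y := τ₁ y) (by rw [sub_add_cancel]) (map_mem_Zs_image τ₁ hy) k3
      (by rw [k4, ha]; push_cast; ring)
    rw [Int.cast_one, one_smul] at t
    rw [← t, sub_sub_cancel, ip_add_left, ip_smul_left, e6,
      ip_eq_zero_of_mem_Zs_left (map_mem_Zs_image τ₁ hy) fun χ hχ => by
        obtain ⟨ξ, hξ, rfl⟩ := Finset.mem_image.1 hχ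
        exact h.ip_eta h.o1 fun ω hω => h.orth1 hc hξ hω, ha] at B1
    norm_num at B1

theorem tau_mu_sub {ζ β : G → ℂ} (hζ : ζ ∈ 𝒮₁) {τ₁ : (G → ℂ) →ₗ[ℂ] (G → ℂ)}
    (hc : CohWith M 𝒮₁ τ τ₁) (e : τ (μ (cf1 W) - ζ) = η (cf1 W) - τ₁ ζ) (hβ : β ∈ irrKer W W₁)
    (h1 : β ≠ cf1 W) : τ (μ β - (𝔲 : ℂ) • ζ) = η β - τ₁ ((𝔲 : ℂ) • ζ) := by
  obtain ⟨hk, hu, -⟩ := h.consts
  have hz := h.irr1 hζ
  have t0 := bridge345_dade_eq h.max h.typeP h.ne2 hk hz.1 hz.2 h.o2 hβ h1 (S₁ := 𝒮₁)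
    ⟨seqIndD_mono _ _ le_rfl bot_le, h.cs1.2⟩ hζ hc (h.tau_bridge_one hζ hc e hβ h1)
  have t1 : ∀ α ∈ irrKer W W₂, τ (μ₂ (α * β) - μ₂ (α * cf1 W) - ((𝒮₁).card : ℂ) • ζ) =
      σ (α * β) - σ (α * cf1 W) - ((𝒮₁).card : ℂ) • τ₁ ζ := fun α hα => by
    have t2 := ((h.typeP.prDade h.max).sub2_mu2 hα hβ).2
    rw [hk.sign β hβ h1, Int.cast_one, one_smul, one_smul] at t2
    rw [bridge345, PF04.one_mul' hβ, h.pti.col_zero.1, h.cti.σ_cf1, Int.cast_one, one_smul,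
      one_smul] at t0
    rw [PF04.mul_one' hα]
    simp only [map_add, map_sub] at t0 t2 ⊢
    linear_combination (exp := 1) t0 + t2
  have t2 := Finset.sum_congr rfl t1
  rw [← map_sum, Finset.sum_sub_distrib, Finset.sum_sub_distrib, Finset.sum_sub_distrib,
    Finset.sum_sub_distrib, ← h.pti.muR_eq, ← h.pti.muR_eq, ← h.cti.etaCol_eq, ← h.cti.etaCol_eq,
    Finset.sum_const, Finset.sum_const, PF04.card2 h.pti] at t2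
  rw [hu]
  simp only [map_sub, map_smul, map_nsmul] at t2 e ⊢
  push_cast
  linear_combination (norm := module) t2 + e

end Hyp

end PF11b

/-- PF (11.8). -/
theorem type34_not_ortho_σ (hM : IsCoatom M) (h : OfTypeP M U W₁ W₂ W) (h2 : ftType M ≠ 2)
    {ζ : G → ℂ} (hζ : ζ ∈ S11 M (MF M ⊔ (U ⊓ 𝐂(MF M)))) :
    ¬ ∀ ω ∈ Irr W,
      ip ⊤ (tau0 M (muR M W₁ W₂ (cf1 W) - ζ) - etaCol W₁ W₂ (cf1 W)) (cycσ ⊤ W₁ W₂ ω) = 0 := by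
  intro ho
  have h : PF11b.Hyp M U W₁ W₂ W := ⟨hM, h, h2⟩
  obtain ⟨τ₁, hc, e⟩ := h.exists_tau1 hζ ho
  obtain ⟨β, hβ, h1⟩ := h.exists_beta
  have t := h.tau_mu_sub hζ hc e hβ h1
  obtain ⟨R, hR, -⟩ := h.typeP.subcoherent h.max
  obtain ⟨m1, -, m2⟩ := h.mu_facts hβ h1
  have hz := h.irr1 hζ
  have zT := seqIndD_subset_T _ _ _ _ hζ
  have d1 : μ β 1 = ((𝔲 : ℂ) • ζ) 1 := by rw [m2, Pi.smul_apply, h.one1 hζ, smul_eq_mul, mul_comm]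
  obtain ⟨τ₂, hc₂, k | ⟨k, ξ, hξ, hi⟩⟩ := h.exists_tau2 hβ h1
  · obtain ⟨τ₃, hc₃, -⟩ := hR.bridge_coherent h.cs2 hc₂ h.cs1 hc h.disj m1
      (natCast_smul_mem_Zs (mem_Zs_of_mem hζ) 𝔲) d1 (by rw [t, k])
    exact h.not_coherent ⟨τ₃, hc₃⟩
  · have xT := seqIndD_subset_T _ _ _ _ hξ
    have mc := (h.pti.muR_facts hβ).1
    have p1 : ((dg ξ : ℂ) • μ β) 1 = ((dg (μ β) : ℂ) • ξ) 1 := by
      rw [Pi.smul_apply, Pi.smul_apply, mc.one_eq, irr_one_eq hi, smul_eq_mul, smul_eq_mul, mul_comm]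
    have p2 := hc₂.agree _ (sub_mem_Zs0 (natCast_smul_mem_Zs (mem_Zs_of_mem m1) _)
      (natCast_smul_mem_Zs (mem_Zs_of_mem hξ) _) p1)
    have p3 := (ftDade0 h.max).iso
      (h.on0 (sub_mem (mem_Zs_of_mem (h.mu_mem hβ)) (natCast_smul_mem_Zs (mem_Zs_of_mem zT) 𝔲))
        (by rw [Pi.sub_apply, d1, sub_self])).1
      (h.on0 (sub_mem (natCast_smul_mem_Zs (mem_Zs_of_mem (h.mu_mem hβ)) _)
        (natCast_smul_mem_Zs (mem_Zs_of_mem xT) _)) (by rw [Pi.sub_apply, p1, sub_self])).1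
    have hβ' := star_mem_irrKer hβ
    have q1 := (h.cti.ip_etaCol h.o2 hβ hβ').2.1
    rw [if_neg ((h.pti.star_facts hβ).2.2.2 h1).1.symm] at q1
    have q2 := ip_eq_zero_symm (h.ip_eta hβ fun ω hω =>
      h.typeP.coherent_ortho_σ h.max h.cs2 hc₂ hξ hi hω)
    have q3 := h.ip_eta hβ' fun ω hω => h.orth1 hc hζ hω
    have q4 := hR.coherent_ortho h.cs1 hc h.cs2 hc₂ h.disj.symm (mem_Zs_of_mem hζ) (mem_Zs_of_mem hξ)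
    have q5 := PF04.ip_muR_muR h.pti hβ hβ
    have q6 := seqIndT_orth h.nrm zT xT fun e => Finset.disjoint_left.1 h.disj hξ (e ▸ hζ)
    rw [t, ← p2, map_sub, map_smul, map_smul, map_smul, k] at p3
    simp only [ip_sub_left, ip_sub_right, ip_smul_left, ip_smul_right, ip_neg_right, q1, q2, q3, q4,
      q5, q6, h.ip_mu zT hz.1 hβ, ip_eq_zero_symm (h.ip_mu xT hi hβ)] at p3
    simp [(irr_dg_pos hi).ne', Nat.card_pos.ne'] at p3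

end Cfsg.Agent.FT
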