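/-
PF (11.9).
-/
import Cfsg.Agent.FT.P.PF11b_1

set_option autoImplicit false

namespace Cfsg.Agent.FT

open Subgroup Cfsg Cfsg.Agent
open scoped commutatorElement ComplexConjugate

universe u

variable {G : Type u} [Group G] [Finite G]

namespace PF11b

theorem le_of_nilpotent {K P : Subgroup G} (hK : Group.IsNilpotent K) (hP : P ≤ K)
    (h : K ≤ P ⊔ ⁅K, K⁆) : K ≤ P := by
  by_contra hn
  obtain ⟨Q, ⟨q1, q2⟩, hq⟩ := Set.Finite.exists_maximal (s := {Q : Subgroup G | P ≤ Q ∧ Q < K})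
    (Set.toFinite _) ⟨P, le_rfl, lt_of_le_not_ge hP hn⟩
  have key : ∀ R : Subgroup G, Q < R → R ≤ K → K ≤ R := fun R h1 h2 => by
    by_contra h3
    exact h1.not_ge (hq ⟨q1.trans h1.le, lt_of_le_not_ge h2 h3⟩ h1.le)
  have hN : K ≤ 𝐍(Q) := (key _ (lt_inf_norm_of_isNilpotent hK q2) inf_le_left).trans inf_le_right
  obtain ⟨y, hy, hyQ⟩ := SetLike.exists_of_lt q2
  have hc : CycMod K Q := ⟨y, hy, key _ (lt_of_le_not_ge le_sup_right fun e =>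
    hyQ (e (mem_sup_left (mem_zpowers y)))) (sup_le (zpowers_le.2 hy) q2.le)⟩
  exact q2.not_ge (h.trans (sup_le q1 (hc.der_le hN q2.le)))

theorem arith2 {p q a b : ℤ} (hp : 3 ≤ p) (hq : 3 ≤ q)
    (h : 1 + (p - 1) * b ^ 2 + (q - 1) * (a ^ 2 + (p - 1) * (a + b - 1) ^ 2) ≤ q + 1) :
    (a = 1 ∧ b = 0) ∨ (a = 0 ∧ b = 1 ∧ p ≤ q + 1) := by
  have h1 : 0 ≤ (p - 1) * b ^ 2 := mul_nonneg (by omega) (sq_nonneg _)
  have h2 : a ^ 2 + (p - 1) * (a + b - 1) ^ 2 < 2 := by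
    by_contra k
    nlinarith [mul_le_mul_of_nonneg_left (not_lt.1 k) (show 0 ≤ q - 1 by omega)]
  have h3 : a + b - 1 = 0 := by
    by_contra k
    have := (one_le_sq_iff_one_le_abs _).2 (Int.one_le_abs k)
    nlinarith [sq_nonneg a]
  rw [h3] at h h2
  have h4 : -1 ≤ a ∧ a ≤ 1 := by constructor <;> nlinarith
  obtain rfl : b = 1 - a := by omega
  rcases (by omega : a = -1 ∨ a = 0 ∨ a = 1) with rfl | rfl | rfl
  · nlinarith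
  · exact Or.inr ⟨rfl, rfl, by nlinarith⟩
  · exact Or.inl ⟨rfl, rfl⟩

end PF11b

variable [MinOdd G] {M U W₁ W₂ W : Subgroup G}

local notation "𝒮₁" => S11 M (MF M ⊔ (U ⊓ 𝐂(MF M)))
local notation "𝒮₂" => S9 M (U ⊓ 𝐂(MF M))
local notation "𝒯" => seqIndT ⁅M, M⁆ M
local notation "τ" => tau0 M
local notation "σ" => cycσ ⊤ W₁ W₂
local notation "μ" => muR M W₁ W₂
local notation "μ₂" => mu2 M W₁ W₂
local notation "η" => etaCol W₁ W₂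
local notation "𝔲" => Subgroup.relIndex (fcC M U ⊥) U

namespace PF11b.Hyp

variable (h : Hyp M U W₁ W₂ W)
include h

theorem ip_aut {ζ ω : G → ℂ} (hζ : ζ ∈ 𝒮₁) (hω : ω ∈ Irr W) (v : ℂ →+* ℂ) :
    ip ⊤ (τ (μ (cf1 W) - ζ)) (σ (cfAut v ω)) = ip ⊤ (τ (μ (cf1 W) - ζ)) (σ ω) := by
  have k := ip_cfAut_vchar' v (h.on_mu0 hζ).2.1 (h.cti.σ_dirr hω).mem_VChar
  rw [← dade_cfAut, h.cti.cfAut_σ v (irr_mem_CF hω), cfAut_sub, ← h.pti.muR_cfAut v h.o1, cfAut_cf1,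
    show μ (cf1 W) - cfAut v ζ = μ (cf1 W) - ζ + (ζ - cfAut v ζ) by abel, map_add, ip_add_left,
    h.orth_sub hζ (cfAut_mem_seqIndD v hζ) (cfAut_mem_Irr v hω), add_zero] at k
  exact k

theorem coeffs {ζ : G → ℂ} (hζ : ζ ∈ 𝒮₁) :
    (∀ α ∈ irrKer W W₂, ∀ β ∈ irrKer W W₁,
      ip ⊤ (τ (μ (cf1 W) - ζ)) (σ (α * β)) = if α = cf1 W then 1 else 0) ∧ 𝐨(W₂) < 𝐨(W₁) := by
  obtain ⟨-, -, q3, p3, oq, op, ne, c1, c2, -⟩ := h.cti.basic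
  obtain ⟨hq, hp⟩ := h.typeP.primes h.max
  obtain ⟨v0, v1, v2⟩ := h.on_mu0 hζ
  obtain ⟨α₀, hα₀, n1⟩ := Finset.exists_mem_ne (s := irrKer W W₂) (by omega) (cf1 W)
  obtain ⟨β₀, hβ₀, n2⟩ := h.exists_beta
  have d := h.pti.dprod
  set φ := τ (μ (cf1 W) - ζ) with hφ
  obtain ⟨a, ha⟩ := vchar_ip_int v1 (h.cti.σ_dirr (mem_irrKer.1 hα₀).1).mem_VChar
  obtain ⟨b, hb⟩ := vchar_ip_int v1 (h.cti.σ_dirr (mem_irrKer.1 hβ₀).1).mem_VChar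
  have k0 : ip ⊤ φ (σ (cf1 W * cf1 W)) = 1 := by
    rw [PF04.mul_one' h.o1, h.cti.σ_cf1, hφ, (ftDade0 h.max).ip_dade_cf1 v0, ip_sub_left,
      (seqIndD_orth_cf1 h.nrm le_rfl hζ).1, ← conj_ip, h.ip_one_mu0]
    simp
  have k1 : ∀ α ∈ irrKer W W₂, α ≠ cf1 W → ip ⊤ φ (σ (α * cf1 W)) = a := fun α hα n => by
    obtain ⟨⟨v, rfl⟩, -⟩ := exists_aut_irrKer_prime d.normal_right
      (by rwa [d.symm.sdProd.relIndex_left]) hα₀ n1 hα n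
    rw [PF04.mul_one' hα, hφ, h.ip_aut hζ (mem_irrKer.1 hα₀).1, ha]
  have k2 : ∀ β ∈ irrKer W W₁, β ≠ cf1 W → ip ⊤ φ (σ (cf1 W * β)) = b := fun β hβ n => by
    obtain ⟨⟨v, rfl⟩, -⟩ := exists_aut_irrKer_prime d.normal_left
      (by rwa [d.sdProd.relIndex_left]) hβ₀ n2 hβ n
    rw [PF04.one_mul' hβ, hφ, h.ip_aut hζ (mem_irrKer.1 hβ₀).1, hb]
  have k3 : ∀ α ∈ irrKer W W₂, α ≠ cf1 W → ∀ β ∈ irrKer W W₁, β ≠ cf1 W →
      ip ⊤ φ (σ (α * β)) = ((a + b - 1 : ℤ) : ℂ) := fun α hα n β hβ n' => by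
    have := h.cti.ip_exchange (vchar_mem_CF v1) v2 hα h.o2 hβ h.o1
    rw [k0, k1 α hα n, k2 β hβ n'] at this
    push_cast
    linear_combination this
  have bs := PF03.bessel h.cti φ
  have s1 : ∀ α ∈ (irrKer W W₂).erase (cf1 W), ∑ β ∈ irrKer W W₁, ‖ip ⊤ φ (σ (α * β))‖ ^ 2 =
      a ^ 2 + (𝐨(W₂) - 1 : ℕ) * ((a + b - 1 : ℤ) : ℝ) ^ 2 := fun α hα => by
    obtain ⟨n, hα⟩ := Finset.mem_erase.1 hα
    rw [← Finset.add_sum_erase _ _ h.o1, k1 α hα n, Finset.sum_congr rfl fun β hβ => by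
      rw [k3 α hα n β (Finset.mem_erase.1 hβ).2 (Finset.mem_erase.1 hβ).1], Finset.sum_const,
      Finset.card_erase_of_mem h.o1, c2, Complex.norm_intCast, Complex.norm_intCast, sq_abs, sq_abs,
      nsmul_eq_mul]
  rw [d.sum_Irr fun ω => ‖ip ⊤ φ (σ ω)‖ ^ 2, ← Finset.add_sum_erase _ _ h.o2,
    Finset.sum_congr rfl s1, ← Finset.add_sum_erase _ _ h.o1, k0, Finset.sum_congr rfl fun β hβ => by
      rw [k2 β (Finset.mem_erase.1 hβ).2 (Finset.mem_erase.1 hβ).1], Finset.sum_const,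
    Finset.sum_const, Finset.card_erase_of_mem h.o1, Finset.card_erase_of_mem h.o2, c1, c2,
    Complex.norm_intCast, sq_abs, norm_one, one_pow, nsmul_eq_mul, nsmul_eq_mul, hφ,
    h.nsq_mu0 hζ, Nat.cast_sub (by omega), Nat.cast_sub (by omega)] at bs
  rcases arith2 (p := 𝐨(W₂)) (q := 𝐨(W₁)) (a := a) (b := b) (by exact_mod_cast p3)
    (by exact_mod_cast q3) (by exact_mod_cast bs) with ⟨rfl, rfl⟩ | ⟨rfl, rfl, hl⟩
  · refine absurd (fun ω hω => ?_) (type34_not_ortho_σ h.max h.typeP h.ne2 hζ)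
    obtain ⟨α, hα, β, hβ, rfl⟩ := d.exists_mul hω
    rw [ip_sub_left, (h.cti.ip_etaCol hα h.o1 hβ).1, ← hφ]
    by_cases e1 : α = cf1 W <;> by_cases e2 : β = cf1 W
    · rw [e1, e2, k0]; simp
    · rw [e1, k2 β hβ e2, if_neg (Ne.symm e2)]; simp
    · rw [e2, k1 α hα e1]; simp
    · rw [k3 α hα e1 β hβ e2, if_neg (Ne.symm e2)]; simp
  · refine ⟨fun α hα β hβ => ?_, ?_⟩
    · by_cases e1 : α = cf1 W <;> by_cases e2 : β = cf1 W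
      · rw [e1, e2, k0]; simp
      · rw [e1, k2 β hβ e2]; simp
      · rw [e2, k1 α hα e1, if_neg e1]; simp
      · rw [k3 α hα e1 β hβ e2, if_neg e1]; simp
    · obtain ⟨k, hk⟩ := oq
      obtain ⟨l, hl'⟩ := op
      omega

theorem galois : GaloisP M U ⊥ := by
  by_contra hn
  obtain ⟨H₁, a, ng⟩ := h.h9.nonGalois hn
  obtain ⟨g1, -, g2, g3⟩ := h.h9.nonGalois_characters ng
  obtain ⟨ζ, hζ⟩ := h.S1_nonempty
  obtain ⟨hc, hlt⟩ := h.coeffs hζ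
  obtain ⟨β, hβ, h1⟩ := h.exists_beta
  obtain ⟨m1, m2, m3⟩ := h.mu_facts hβ h1
  have p3 := h.cti.basic.2.2.2.1
  have gd := ng.dvd
  rw [relIndex_bot_left] at g2 g3 gd
  rw [bot_sup_eq, ← (h.h9.type34_facts h.ne2).2.2.2] at g3
  obtain ⟨ξ, hξ, hi, hd⟩ := Set.nonempty_of_ncard_ne_zero (Nat.ne_of_gt (lt_of_lt_of_le (by
    rw [(h.h9.type34_facts h.ne2).2.2.2]
    exact Nat.div_pos (Nat.le_of_dvd (Nat.mul_pos (by omega) Nat.card_pos) g2)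
      (Nat.mul_pos (pow_pos (by have := ng.one_lt; omega) 2) Nat.card_pos)) g3))
  obtain ⟨k, hk⟩ := g1 _ ((h.typeP.prDadeF h.max).muR_mem hβ h1).1
  rw [dg_res, m2] at hk
  have xT := seqIndD_subset_T _ _ _ _ hξ
  have zT := seqIndD_subset_T _ _ _ _ hζ
  have p1 : μ β 1 = ((k : ℂ) • ξ) 1 := by
    rw [m3, Pi.smul_apply, irr_one_eq hi, hd, hk, smul_eq_mul]
    push_cast
    ring
  obtain ⟨τ₂, hc₂, e⟩ := h.exists_tau2 hβ h1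
  have p2 := hc₂.agree _ (sub_mem_Zs0 (mem_Zs_of_mem m1)
    (natCast_smul_mem_Zs (mem_Zs_of_mem hξ) _) p1)
  have p3 := (ftDade0 h.max).iso (h.on_mu0 hζ).1
    (h.on0 (sub_mem (mem_Zs_of_mem (h.mu_mem hβ)) (natCast_smul_mem_Zs (mem_Zs_of_mem xT) _))
      (by rw [Pi.sub_apply, p1, sub_self])).1
  have q1 : ∀ γ ∈ irrKer W W₁, ip ⊤ (τ (μ (cf1 W) - ζ)) (η γ) = 1 := fun γ hγ => by
    rw [h.cti.etaCol_eq, ip_sum_right, Finset.sum_congr rfl fun α hα => hc α hα γ hγ,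
      Finset.sum_ite_eq', if_pos h.o2]
  obtain ⟨m, hm⟩ := vchar_ip_int (h.on_mu0 hζ).2.1 (hc₂.dirr hξ hi).mem_VChar
  have q5 := PF04.ip_muR_muR h.pti h.o1 hβ
  have q6 := seqIndT_orth h.nrm zT xT fun e => Finset.disjoint_left.1 h.disj hξ (e ▸ hζ)
  rw [← p2, map_sub τ₂, map_smul, ip_sub_right, ip_smul_right, hm, ip_sub_left, ip_sub_right,
    ip_sub_right, ip_smul_right, ip_smul_right, q5, q6, if_neg h1.symm,
    h.ip_mu zT (h.irr1 hζ).1 hβ, ip_eq_zero_symm (h.ip_mu xT hi h.o1), map_natCast] at p3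
  have k1 : k = 1 := by
    have : (k : ℤ) ∣ 1 := by
      rcases e with e | ⟨e, -⟩
      · rw [e, q1 β hβ] at p3
        exact ⟨m, by exact_mod_cast (by linear_combination p3 : (1 : ℂ) = k * m)⟩
      · rw [e, ip_neg_right, q1 _ (star_mem_irrKer hβ)] at p3
        exact ⟨-m, by exact_mod_cast (by linear_combination -p3 : (1 : ℂ) = k * -m)⟩
    exact Nat.dvd_one.1 (by exact_mod_cast this)
  obtain ⟨-, u1, u2⟩ := h.consts
  have := Nat.le_of_dvd (by omega) gd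
  rw [k1, mul_one] at hk
  have := Nat.mul_le_mul_right 𝐨(W₁) u2
  omega

end PF11b.Hyp

/-- PF (11.9); `etaCol W₂ W₁ (cf1 W) = ∑_j η_{0j}`. -/
theorem type34_structure (hM : IsCoatom M) (h : OfTypeP M U W₁ W₂ W) (h2 : ftType M ≠ 2) :
    (∀ ζ ∈ S11 M (MF M ⊔ (U ⊓ 𝐂(MF M))), ∀ ω ∈ Irr W,
      ip ⊤ (tau0 M (muR M W₁ W₂ (cf1 W) - ζ) - etaCol W₂ W₁ (cf1 W)) (cycσ ⊤ W₁ W₂ ω) = 0) ∧
      𝐨(W₂) < 𝐨(W₁) ∧ ftType M = 3 ∧ GaloisP M U ⊥ := by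
  have h : PF11b.Hyp M U W₁ W₂ W := ⟨hM, h, h2⟩
  obtain ⟨ζ₀, hζ₀⟩ := h.S1_nonempty
  refine ⟨fun ζ hζ ω hω => ?_, (h.coeffs hζ₀).2, ?_, h.galois⟩
  · obtain ⟨α, hα, β, hβ, rfl⟩ := h.pti.dprod.exists_mul hω
    have k := (h.cti.symm.ip_etaCol hβ h.o2 hα).1
    rw [← cycσ_comm, mul_comm] at k
    rw [ip_sub_left, (h.coeffs hζ).1 α hα β hβ, k]
    simp [eq_comm]
  · obtain ⟨x, hx, hc⟩ := (h.h9.galois_facts h.galois).1
    rw [fcC_bot, (h.h9.type34_facts h2).2.2.2] at hc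
    have k := PF11b.le_of_nilpotent h.typeP.nilU (zpowers_le.2 hx) hc
    have k4 : ftType M ≠ 4 := fun e => ((h.typeP.ofTypeIV_iff hM).2 e).not_comm
      (CycMod.isMulComm (M := ⊥) ⟨x, hx, k.trans le_sup_left⟩ bot_le bot_le)
    have := ftType_range M
    have := h.two_lt
    have := ftType_ne_five hM
    omega

end Cfsg.Agent.FT
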