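/-
PF (12.1)-(12.6).
-/
import Cfsg.Agent.FT.PF11b

set_option autoImplicit false

namespace Cfsg.Agent.FT

open Subgroup Cfsg Cfsg.Agent
open scoped commutatorElement ComplexConjugate

universe u

variable {G : Type u} [Group G] [Finite G]

namespace PF12a

theorem eq_of_constt {K L : Subgroup G} (h : K ⊲ L) {χ χ' φ : G → ℂ} (hχ : χ ∈ seqIndT K L)
    (hχ' : χ' ∈ seqIndT K L) (h1 : φ ∈ constt L χ) (h2 : φ ∈ constt L χ') : χ = χ' := by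
  obtain ⟨θ, hθ, rfl⟩ := mem_seqIndT.1 hχ
  obtain ⟨θ', hθ', rfl⟩ := mem_seqIndT.1 hχ'
  have hφ := (mem_constt.1 h1).1
  rw [mem_constt_ind_iff h.1 hθ hφ] at h1
  rw [mem_constt_ind_iff h.1 hθ' hφ, constt_res_eq_cfClass h hφ h1] at h2
  exact (ind_eq_ind_iff h hθ hθ').2 h2

theorem star_mem_constt {L : Subgroup G} {χ φ : G → ℂ} (h : φ ∈ constt L χ) :
    star φ ∈ constt L (star χ) := by
  rw [mem_constt] at h ⊢
  exact ⟨star_mem_Irr h.1, by rw [ip_star_star]; exact fun e => h.2 (ip_eq_zero_symm e)⟩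

theorem R_eq {L : Subgroup G} {S : Finset (G → ℂ)} {τ : (G → ℂ) →ₗ[ℂ] (G → ℂ)}
    {R R' : (G → ℂ) → Finset (G → ℂ)} (h : Subcoherent L S τ R) (h' : Subcoherent L S τ R')
    {χ : G → ℂ} (hχ : χ ∈ S) : R χ = R' χ := by
  ext α
  rw [h.mem_R_iff hχ, h'.mem_R_iff hχ]

theorem orth_of_pair {L : Subgroup G} {S : Finset (G → ℂ)} {τ : (G → ℂ) →ₗ[ℂ] (G → ℂ)}
    {R : (G → ℂ) → Finset (G → ℂ)} (h : Subcoherent L S τ R) {φ₁ φ₂ ψ : G → ℂ} (h₁ : φ₁ ∈ S)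
    (h₂ : φ₂ ∈ S) (hd : φ₁ 1 = φ₂ 1) (o₁ : ∀ α ∈ R φ₁, ip ⊤ ψ α = 0)
    (o₂ : ∀ α ∈ R φ₂, ip ⊤ ψ α = 0) : ip ⊤ (τ (φ₁ - φ₂)) ψ = 0 := by
  obtain ⟨S₁, k1, k2, hS, τ₁, hc⟩ := h.pair_degree_coherence h₁ h₂ hd
  obtain ⟨E₁, e1, e2⟩ := h.coherent_sum hS hc k1
  obtain ⟨E₂, e3, e4⟩ := h.coherent_sum hS hc k2
  refine ip_eq_zero_symm ?_
  rw [← hc.agree _ (sub_mem_Zs0 (mem_Zs_of_mem k1) (mem_Zs_of_mem k2) hd), map_sub, e2, e4,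
    ip_sub_right, ip_sum_right, ip_sum_right, Finset.sum_eq_zero fun α hα => o₁ α (e1 hα),
    Finset.sum_eq_zero fun α hα => o₂ α (e3 hα), sub_self]

/-- A sum over `Irr H` whose coefficients only depend on the degree vanishes off `H'`. -/
theorem sum_deg_eq_zero {H : Subgroup G} {c : (G → ℂ) → ℂ}
    (hc : ∀ θ ∈ Irr H, ∀ θ' ∈ Irr H, θ 1 = θ' 1 → c θ = c θ') {y : G} (hy : y ∉ ⁅H, H⁆) :
    ∑ θ ∈ Irr H, c θ * θ y = 0 := by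
  obtain ⟨l, hl, hly⟩ := exists_irrKer_notMem_cfKer (der_normal H) hy
  have ll := isLin_of_mem_irrKer le_rfl hl
  rw [ll.mem_cfKer_iff] at hly
  have e : ∑ θ ∈ Irr H, c θ * (l * θ) y = ∑ θ ∈ Irr H, c θ * θ y := by
    refine Finset.sum_nbij' (fun θ => l * θ) (fun θ => star l * θ) (fun θ hθ => ll.mul_mem_Irr hθ)
      (fun θ hθ => ll.star.mul_mem_Irr hθ) (fun θ hθ => ?_) (fun θ hθ => ?_) fun θ hθ => ?_
    · rw [← mul_assoc, ll.star_mul, cf1_mul (irr_mem_CF hθ)]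
    · rw [← mul_assoc, ll.mul_star, cf1_mul (irr_mem_CF hθ)]
    · rw [hc θ hθ _ (ll.mul_mem_Irr hθ) (by rw [Pi.mul_apply, ll.2.1, one_mul])]
  simp only [Pi.mul_apply, mul_left_comm _ (l y), ← Finset.mul_sum] at e
  by_contra h0
  exact hly (mul_right_cancel₀ h0 (by rw [e, one_mul]))

variable [MinOdd G] {L : Subgroup G}

theorem MF_ne_bot (hL : IsCoatom L) : MF L ≠ ⊥ := by
  by_cases h1 : ftType L = 1
  · obtain ⟨U, hU⟩ := exists_sdProd_of_hall (isHallIn_MF L) (MF_normal L).2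
    exact (ofTypeI_of_ftType hL h1 hU).typeF.ne_botF
  · obtain ⟨U, W₁, W₂, W, h⟩ := exists_ofTypeP hL h1
    exact fun e => h.ne_bot2 (eq_bot_iff.2 (e ▸ h.le2F))

omit [MinOdd G] in
theorem on_sharp {φ : G → ℂ} (hφ : φ ∈ Zs0 (S12 L)) :
    φ ∈ CFon L (sharp (MF L)) ∧ φ ∈ VChar L :=
  Zs0_seqIndT (MF_normal L) (seqIndD_subset_T _ _ _ _) hφ

theorem sharp_sub (hL : IsCoatom L) : sharp (MF L) ⊆ ftA L :=
  (sharp_MF_subset_ftA1 hL).trans (ftA1_subset_ftA hL)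

end PF12a

variable [MinOdd G] {L : Subgroup G}

theorem exists_ref_S12 (hL : IsCoatom L) :
    ∃ φ ∈ S12 L, dg φ = (MF L).relIndex L := by
  obtain ⟨θ, -, -, h1, h2⟩ := exists_linInd (MF_le L) (isSolvable_of_isNilpotent (isNilpotent_MF L))
    (bot_lt_iff_ne_bot.2 (PF12a.MF_ne_bot hL)) (norm_bot (G := G) ▸ le_top)
  exact ⟨_, h1, h2⟩

/-- PF (12.2)(a). -/
theorem type1_seqInd_facts (hL : IsCoatom L) (h1 : ftType L = 1) {χ : G → ℂ} (hχ : χ ∈ S12 L) :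
    χ = ∑ φ ∈ constt L χ, φ ∧ (∀ φ ∈ constt L χ, ∀ ψ ∈ constt L χ, φ 1 = ψ 1) ∧
      constt L χ ⊆ irrKerD L (MF L) ⊥ ∧ χ ∈ CFon L (insert 1 (ftA L)) := by
  have hn := MF_normal L
  obtain ⟨U, hU⟩ := exists_sdProd_of_hall (isHallIn_MF L) hn.2
  have hF := (ofTypeI_of_ftType hL h1 hU).typeF
  obtain ⟨U₁, hU₁⟩ := hF.inertia
  have c := (seqIndT_facts hn (seqIndD_subset_T _ _ _ _ hχ)).2.1
  obtain ⟨θ, hθ, rfl⟩ := mem_seqIndD.1 hχ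
  obtain ⟨t1, -, t2⟩ := mem_irrKerD.1 hθ
  have i1 := hU₁.inertia_le hF t1 (mt (irr_eq_cf1_iff t1).1 t2)
  have i2 := le_inertia (irr_mem_CF t1)
  obtain ⟨k1, -, k2⟩ := ind_hall_central_inertia hn (mmax_isSolvable hL) t1
    ((hU.inf_of_le_left i2).der_le_sup.trans (sup_le le_rfl ((commutator_mono i1 i1).trans (by
      have := hU₁.comm
      rw [commutator_eq_bot_iff_le_centralizer.2 U₁.le_centralizer]
      exact bot_le))))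
    (BG16.isHallIn_of_le (isHallIn_MF L) (le_inf hn.1 i2) inf_le_left)
  refine ⟨k1, fun φ hφ ψ hψ => ?_, fun φ hφ => ?_, CFon_mono _ (fun x hx => ?_) c⟩
  · rw [irr_one_eq (mem_constt.1 hφ).1, irr_one_eq (mem_constt.1 hψ).1, k2 φ hφ, k2 ψ hψ]
  · have p1 := (mem_constt.1 hφ).1
    exact mem_irrKerD.2 ⟨p1, bot_le, mt (le_cfKer_iff_of_constt_res hn le_rfl hn.2 p1
      ((mem_constt_ind_iff hn.1 t1 p1).1 hφ)).1 t2⟩
  · exact (eq_or_ne x 1).imp id fun n => PF12a.sharp_sub hL ⟨hx, n⟩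

/-- PF (12.2)(a). -/
theorem irrKerD_MF_on (hL : IsCoatom L) (h1 : ftType L = 1) {φ : G → ℂ}
    (hφ : φ ∈ irrKerD L (MF L) ⊥) :
    φ ∈ CFon L (insert 1 (ftA L)) ∧ ∃ χ ∈ S12 L, φ ∈ constt L χ := by
  have hn := MF_normal L
  obtain ⟨p1, -, p2⟩ := mem_irrKerD.1 hφ
  refine ⟨mem_CFon_of (irr_mem_CF p1) fun x hx hA => irr_reg_off_ker hn p1 p2 ?_, ?_⟩
  · rw [Set.mem_insert_iff, not_or] at hA
    by_contra hb
    obtain ⟨⟨y, hy⟩, hy1⟩ := ne_bot_iff_exists_ne_one.1 hb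
    refine hA.2 ⟨by rwa [BG17.ftDer_of_eq h1], hA.1, y,
      sharp_MF_subset_ftA1 hL ⟨(mem_inf.1 hy).1, fun e => hy1 (Subtype.ext e)⟩, ?_⟩
    exact mem_centralizer_singleton_iff.2 (mem_centralizer_singleton_iff.1 (mem_inf.1 hy).2).symm
  · obtain ⟨θ, hθ⟩ := exists_constt_res hn.1 p1
    have t1 := (mem_constt.1 hθ).1
    exact ⟨_, mem_seqIndD.2 ⟨θ, mem_irrKerD.2 ⟨t1, bot_le,
      mt (le_cfKer_iff_of_constt_res hn le_rfl hn.2 p1 hθ).2 p2⟩, rfl⟩,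
      (mem_constt_ind_iff hn.1 t1 p1).2 hθ⟩

/-- PF (12.2)(b). -/
theorem type1_subcoherent (hL : IsCoatom L) (h1 : ftType L = 1) :
    ∃ R₁ R, Subcoherent L (irrKerD L (MF L) ⊥) (tauA L) R₁ ∧ Subcoherent L (S12 L) (tauA L) R ∧
      ∀ χ ∈ S12 L, R χ = (constt L χ).biUnion R₁ := by
  have hn := MF_normal L
  have hD := ftDade hL
  have on1 : ∀ φ ∈ Zs0 (irrKerD L (MF L) ⊥), φ ∈ CFon L (ftA L) := fun φ hφ =>
    Zs0_le_CFon (fun χ hχ => (irrKerD_MF_on hL h1 hχ).1) hφ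
  have on2 : ∀ φ ∈ Zs0 (S12 L), φ ∈ CFon L (ftA L) := fun φ hφ =>
    CFon_mono _ (PF12a.sharp_sub hL) (PF12a.on_sharp hφ).1
  obtain ⟨R₁, hR⟩ := irr_subcoherent (L := L) (S := irrKerD L (MF L) ⊥) (τ := tauA L)
    ⟨irrKerD_subset _ _ _, fun χ hχ => cfAut_mem_irrKerD (starRingEnd ℂ) hχ⟩
    (fun χ hχ e => by
      obtain ⟨p1, -, p2⟩ := mem_irrKerD.1 hχ
      rw [odd_star_irr_eq_iff (odd_card L) p1] at e
      exact p2 (e ▸ hn.1.trans (le_cfKer_cf1 L)))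
    (fun φ hφ ψ hψ => hD.iso (on1 φ hφ) (on1 ψ hψ))
    fun φ hφ => ⟨hD.vchar (on1 φ hφ) (Zs_mono (irrKerD_subset _ _ _) hφ.1), hD.dade_one φ⟩
  have sub := fun χ hχ => (type1_seqInd_facts hL h1 (χ := χ) hχ).2.2.1
  have T := fun χ (hχ : χ ∈ S12 L) => seqIndD_subset_T _ _ _ _ hχ
  have key : ∀ ξ ∈ S12 L, ∀ χ ∈ S12 L, χ ≠ star ξ → ∀ a ∈ constt L χ, ∀ b ∈ constt L ξ, a ≠ b →
      ∀ α ∈ R₁ a, ∀ β ∈ R₁ b, ip ⊤ α β = 0 := fun ξ hξ χ hχ n a ha b hb ab =>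
    hR.R_orth b (sub ξ hξ hb) a (sub χ hχ ha)
      (ip_irr_of_ne (mem_constt.1 ha).1 (mem_constt.1 hb).1 ab)
      (ip_irr_of_ne (mem_constt.1 ha).1 (star_mem_Irr (mem_constt.1 hb).1) fun e =>
        n (PF12a.eq_of_constt hn (T χ hχ) (T _ (star_mem_seqIndD hξ)) ha
          (e ▸ PF12a.star_mem_constt hb)))
  have nr := fun χ (hχ : χ ∈ S12 L) => (seqIndD_odd hn le_rfl (odd_card L) hχ).2
  have ne : ∀ χ ∈ S12 L, ∀ ψ, ip L χ ψ = 0 → χ ≠ ψ := fun χ hχ ψ e e' => by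
    have := (seqIndT_facts hn (T χ hχ)).2.2.2.2.2.2.2.1
    rw [← e', ip_self, Complex.ofReal_eq_zero] at e
    linarith
  refine ⟨R₁, fun χ => (constt L χ).biUnion R₁, hR, ⟨fun χ hχ => (seqIndT_facts hn (T χ hχ)).1, nr,
    fun χ hχ => star_mem_seqIndD hχ, fun φ hφ ψ hψ => hD.iso (on2 φ hφ) (on2 ψ hψ),
    fun φ hφ => ⟨hD.vchar (on2 φ hφ) (PF12a.on_sharp hφ).2, hD.dade_one φ⟩,
    fun χ hχ ψ hψ => seqIndT_orth hn (T χ hχ) (T ψ hψ), fun χ hχ α hα => ?_,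
    fun χ hχ => ⟨fun α hα => ?_, fun α hα β hβ n => ?_⟩, fun χ hχ => ?_,
    fun ξ hξ φ hφ e1 e2 α hα β hβ => ?_⟩, fun _ _ => rfl⟩
  · obtain ⟨a, ha, hα⟩ := Finset.mem_biUnion.1 hα
    exact hR.R_vchar a (sub χ hχ ha) α hα
  · obtain ⟨a, ha, hα⟩ := Finset.mem_biUnion.1 hα
    exact (hR.R_on a (sub χ hχ ha)).1 α hα
  · obtain ⟨a, ha, hα⟩ := Finset.mem_biUnion.1 hα
    obtain ⟨b, hb, hβ⟩ := Finset.mem_biUnion.1 hβ
    by_cases ab : a = b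
    · exact (hR.R_on a (sub χ hχ ha)).2 α hα β (ab ▸ hβ) n
    · exact key χ hχ χ hχ (nr χ hχ).symm a ha b hb ab α hα β hβ
  · rw [Finset.sum_biUnion fun a ha b hb ab => Finset.disjoint_left.2 fun α hα hβ => by
      have := key χ hχ χ hχ (nr χ hχ).symm a ha b hb ab α hα α hβ
      rw [(hR.R_on a (sub χ hχ ha)).1 α hα] at this
      exact one_ne_zero this,
      ← Finset.sum_congr rfl fun a ha => hR.R_sum a (sub χ hχ ha), ← map_sum,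
      Finset.sum_sub_distrib, ← star_sum, ← (type1_seqInd_facts hL h1 hχ).1]
  · obtain ⟨a, ha, hα⟩ := Finset.mem_biUnion.1 hα
    obtain ⟨b, hb, hβ⟩ := Finset.mem_biUnion.1 hβ
    exact key ξ hξ φ hφ (ne φ hφ _ e2) a ha b hb
      (fun ab => ne φ hφ _ e1 (PF12a.eq_of_constt hn (T φ hφ) (T ξ hξ) ha (ab ▸ hb))) α hα β hβ

theorem PF12a.ortho_aux {L₁ L₂ : Subgroup G} (hL₁ : IsCoatom L₁) (h₁ : ftType L₁ = 1)
    (hL₂ : IsCoatom L₂) (hd : Disjoint (dadeSupp (ftA1 L₂) (ftR L₂)) (dadeSupp (ftA L₁) (ftR L₁)))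
    {R₁ R₂ : (G → ℂ) → Finset (G → ℂ)} (hR₁ : Subcoherent L₁ (S12 L₁) (tauA L₁) R₁)
    (hR₂ : Subcoherent L₂ (S12 L₂) (tauA L₂) R₂) {χ₁ χ₂ : G → ℂ} (hχ₁ : χ₁ ∈ S12 L₁)
    (hχ₂ : χ₂ ∈ S12 L₂) : ∀ α ∈ R₁ χ₁, ∀ β ∈ R₂ χ₂, ip ⊤ α β = 0 := by
  intro α hα β hβ
  obtain ⟨a1, a2⟩ := (hR₁.mem_R_iff hχ₁).1 hα
  obtain ⟨b1, b2⟩ := (hR₂.mem_R_iff hχ₂).1 hβ
  have z := (hR₂.facts hχ₂).2.2.2.2.1
  have gv := (hR₂.vchar _ z).1
  have gs : star (tauA L₂ (χ₂ - star χ₂)) = -tauA L₂ (χ₂ - star χ₂) := by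
    rw [← dade_star, star_sub, star_star, ← map_neg, neg_sub]
  have go : ∀ φ, ip ⊤ (tauA L₂ (χ₂ - star χ₂)) (tauA L₁ φ) = 0 := fun φ => by
    rw [(tau_eq_dade_ftA1 hL₂ (CFon_mono _ (sharp_MF_subset_ftA1 hL₂) (PF12a.on_sharp z).1)).2]
    exact disjoint_dade_ortho hd _ _
  generalize tauA L₂ (χ₂ - star χ₂) = γ at b2 gv gs go
  obtain ⟨f1, -, f2, -⟩ := type1_seqInd_facts hL₁ h₁ hχ₁
  have k : ip ⊤ γ α = 0 := by
    rw [f1, star_sum, ← Finset.sum_sub_distrib, map_sum, ip_sum_left] at a2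
    obtain ⟨φ, hφ, k1⟩ := Finset.exists_ne_zero_of_sum_ne_zero (a2 ▸ one_ne_zero)
    obtain ⟨ψ, hψ, e⟩ := (ftDade hL₁).dade_irr_sub_star (mem_constt.1 hφ).1
      (irrKerD_MF_on hL₁ h₁ (f2 hφ)).1
    have k2 := go (φ - star φ)
    have k3 : ip ⊤ γ (star ψ) = -ip ⊤ γ ψ := by
      rw [ip_star_right, gs, ip_neg_right, vchar_ip_comm gv (irr_mem_VChar hψ)]
    rw [e, ip_sub_right, k3] at k2
    have k4 : ip ⊤ γ ψ = 0 := by linear_combination (1 / 2 : ℂ) * k2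
    rw [k4, neg_zero] at k3
    rw [e, ip_sub_left] at k1
    rcases a1.ip_cases (Or.inl hψ) with r | r | r
    · rw [r, k4]
    · rw [r, ip_neg_right, k4, neg_zero]
    rcases a1.ip_cases (Or.inl (star_mem_Irr hψ)) with s | s | s
    · rw [s, k3]
    · rw [s, ip_neg_right, k3, neg_zero]
    · exact absurd (by rw [ip_eq_zero_symm r, ip_eq_zero_symm s, sub_self]) k1
  rcases a1.ip_cases b1 with r | r | r
  · rw [r, b2] at k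
    exact absurd k one_ne_zero
  · rw [r, ip_neg_right, b2] at k
    exact absurd (neg_eq_zero.1 k) one_ne_zero
  · exact r

/-- PF (12.3). -/
theorem type1_seqInd_ortho {L₁ L₂ : Subgroup G} (hL₁ : IsCoatom L₁) (h₁ : ftType L₁ = 1)
    (hL₂ : IsCoatom L₂) (h₂ : ftType L₂ = 1) (hn : ¬ Conj L₁ L₂)
    {R₁ R₂ : (G → ℂ) → Finset (G → ℂ)} (hR₁ : Subcoherent L₁ (S12 L₁) (tauA L₁) R₁)
    (hR₂ : Subcoherent L₂ (S12 L₂) (tauA L₂) R₂) {χ₁ χ₂ : G → ℂ} (hχ₁ : χ₁ ∈ S12 L₁)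
    (hχ₂ : χ₂ ∈ S12 L₂) : ∀ α ∈ R₁ χ₁, ∀ β ∈ R₂ χ₂, ip ⊤ α β = 0 := by
  rcases dadeSupp_disjoint_or hL₁ hL₂ hn with hd | hd
  · exact fun α hα β hβ => ip_eq_zero_symm (PF12a.ortho_aux hL₂ h₂ hL₁ hd hR₂ hR₁ hχ₂ hχ₁ β hβ α hα)
  · exact PF12a.ortho_aux hL₁ h₁ hL₂ hd hR₁ hR₂ hχ₁ hχ₂

/-- PF (12.4). -/
theorem type1_ortho_constant (hL : IsCoatom L) (h1 : ftType L = 1)
    {R : (G → ℂ) → Finset (G → ℂ)} (hR : Subcoherent L (S12 L) (tauA L) R) {ψ : G → ℂ}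
    (hψ : ψ ∈ CF ⊤) (ho : ∀ φ ∈ S12 L, ∀ α ∈ R φ, ip ⊤ ψ α = 0) {x : G} (hx : x ∈ L)
    (hxH : x ∉ MF L) : ∀ h ∈ MF L, ψ (x * h) = ψ x := by
  have hn := MF_normal L
  obtain ⟨R₁, R', hR₁, hR', e⟩ := type1_subcoherent hL h1
  have k1 : ∀ χ ∈ S12 L, ∀ a ∈ constt L χ, ∀ b ∈ constt L χ, ip L ψ a = ip L ψ b := by
    intro χ hχ a ha b hb
    obtain ⟨f1, f2, f3, -⟩ := type1_seqInd_facts hL h1 hχ
    have o : ∀ a ∈ constt L χ, ∀ α ∈ R₁ a, ip ⊤ ψ α = 0 := fun a ha α hα => ho χ hχ α (by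
      rw [PF12a.R_eq hR hR' hχ, e χ hχ]
      exact Finset.mem_biUnion.2 ⟨a, ha, hα⟩)
    have k := PF12a.orth_of_pair hR₁ (f3 ha) (f3 hb) (f2 a ha b hb) (o a ha) (o b hb)
    obtain ⟨θ, hθ, rfl⟩ := mem_seqIndD.1 hχ
    have t1 := (mem_irrKerD.1 hθ).1
    have r : ∀ a ∈ constt L (ind L (MF L) θ), res (MF L) a = ∑ ξ ∈ cfClass L θ, ξ := fun a ha => by
      have p1 := (mem_constt.1 ha).1
      rw [clifford_res hn p1 ((mem_constt_ind_iff hn.1 t1 p1).1 ha),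
        ← ip_ind_right hn.1 (irr_mem_CF p1), ← conj_ip, f1,
        (on_Irr L).ip_sum (fun a ha => (mem_constt.1 ha).1) p1, if_pos ha, map_one, one_smul]
    have on : a - b ∈ CFon L (ftA L \ ftA1 L) := by
      have c := Zs0_le_CFon (fun χ hχ => (irrKerD_MF_on hL h1 hχ).1)
        (sub_mem_Zs0 (mem_Zs_of_mem (f3 ha)) (mem_Zs_of_mem (f3 hb)) (f2 a ha b hb))
      refine ⟨c.1, fun y hy => ?_⟩
      by_cases hy1 : y ∈ ftA1 L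
      · have hy2 : y ∈ MF L := (Ms_eq_MF_iff hL).2 (Or.inl h1) ▸ hy1.1
        rw [Pi.sub_apply, ← res_of_mem a hy2, ← res_of_mem b hy2, r a ha, r b hb, sub_self]
      · exact c.2 y fun h => hy ⟨h, hy1⟩
    rw [(ftDade hL).dade_eq_ind Set.sdiff_subset (fun y hy => by
      by_contra hc
      exact hy.2 (ftSupport_facts hL (ftA_subset_ftA0 L hy.1) hc).1) on,
      ip_ind_left le_top _ hψ, ip_eq_zero_comm, ip_sub_right, sub_eq_zero] at k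
    exact k
  have k2 : ∀ y ∈ L, y ∉ MF L → ψ y = ∑ φ ∈ irrKer L (MF L), ip L ψ φ * φ y := fun y hy hyH => by
    have s := Finset.sum_sdiff (f := fun φ => ip L ψ φ * φ y) (irrKer_subset L (MF L))
    have u : Irr L \ irrKer L (MF L) = (S12 L).biUnion (constt L) := by
      rw [← irrKer_bot L, ← irrKerD_eq_sdiff]
      ext φ
      rw [Finset.mem_biUnion]
      exact ⟨fun h => (irrKerD_MF_on hL h1 h).2, fun ⟨χ, hχ, h⟩ =>
        (type1_seqInd_facts hL h1 hχ).2.2.1 h⟩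
    rw [u, Finset.sum_biUnion fun a ha b hb ab => Finset.disjoint_left.2 fun φ h1 h2 => ab
      (PF12a.eq_of_constt hn (seqIndD_subset_T _ _ _ _ ha) (seqIndD_subset_T _ _ _ _ hb) h1 h2),
      Finset.sum_eq_zero fun χ hχ => ?_, zero_add] at s
    · rw [s, ← res_of_mem ψ hy, apply_eq_sum_irr (res_mem_CF le_top hψ)]
      simp only [ip_res_left]
    · obtain ⟨c1, c2, -, c3, -⟩ := seqIndT_facts hn (seqIndD_subset_T _ _ _ _ hχ)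
      obtain ⟨a, ha⟩ := constt_nonempty c1.mem_CF c3
      rw [Finset.sum_congr rfl fun b hb => by rw [k1 χ hχ b hb a ha], ← Finset.mul_sum,
        ← Finset.sum_apply, ← (type1_seqInd_facts hL h1 hχ).1, c2.2 y hyH, mul_zero]
  intro h hh
  rw [k2 x hx hxH, k2 _ (mul_mem hx (hn.1 hh)) fun e => hxH ((mul_mem_cancel_right hh).1 e)]
  exact Finset.sum_congr rfl fun φ hφ => by
    rw [apply_mul_of_mem_cfKer (irr_mem_CF (mem_irrKer.1 hφ).1) ((mem_irrKer.1 hφ).2 hh)]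

/-- PF (12.5). -/
theorem type1_invDade_ortho_constant (hL : IsCoatom L) (h1 : ftType L = 1)
    {R : (G → ℂ) → Finset (G → ℂ)} (hR : Subcoherent L (S12 L) (tauA L) R) {ψ : G → ℂ}
    (hψ : ψ ∈ CF ⊤) (ho : ∀ φ ∈ S12 L, ∀ α ∈ R φ, ip ⊤ ψ α = 0) {x y : G} (hx : x ∈ MF L)
    (hx' : x ∉ ⁅MF L, MF L⁆) (hy : y ∈ MF L) (hy' : y ∉ ⁅MF L, MF L⁆) :
    invDade (sharp (MF L)) (ftR L) ψ x = invDade (sharp (MF L)) (ftR L) ψ y := by
  have hn := MF_normal L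
  have hρ := ((ftDadeF hL).invDade_mem_CFon hψ).1
  have k1 : ∀ θ ∈ Irr (MF L), θ ≠ cf1 (MF L) → ∀ θ' ∈ Irr (MF L), θ' ≠ cf1 (MF L) → θ 1 = θ' 1 →
      ip (MF L) (invDade (sharp (MF L)) (ftR L) ψ) θ =
        ip (MF L) (invDade (sharp (MF L)) (ftR L) ψ) θ' := by
    intro θ hθ n θ' hθ' n' e
    have m : ∀ θ ∈ Irr (MF L), θ ≠ cf1 (MF L) → ind L (MF L) θ ∈ S12 L := fun θ hθ n =>
      mem_seqIndD.2 ⟨θ, mem_irrKerD.2 ⟨hθ, bot_le, mt (irr_eq_cf1_iff hθ).2 n⟩, rfl⟩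
    have d : ind L (MF L) θ 1 = ind L (MF L) θ' 1 := by rw [ind_one hn.1, ind_one hn.1, e]
    have k := PF12a.orth_of_pair hR (m θ hθ n) (m θ' hθ' n') d (ho _ (m θ hθ n)) (ho _ (m θ' hθ' n'))
    have on := (PF12a.on_sharp
      (sub_mem_Zs0 (mem_Zs_of_mem (m θ hθ n)) (mem_Zs_of_mem (m θ' hθ' n')) d)).1
    rwa [(tau_eq_tauF hL on).2, (ftDadeF hL).ip_dade_left on hψ, ← map_sub, ip_ind_left hn.1 _ hρ,
      ip_eq_zero_comm, ip_sub_right, sub_eq_zero] at k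
  generalize invDade (sharp (MF L)) (ftR L) ψ = ρ at hρ k1
  obtain ⟨l, hl, hlx⟩ := exists_irrKer_notMem_cfKer (der_normal (MF L)) hx'
  have ll := isLin_of_mem_irrKer le_rfl hl
  have l1 : l ≠ cf1 (MF L) := fun e => hlx (e ▸ le_cfKer_cf1 _ hx)
  have k2 : ∀ z ∈ MF L, z ∉ ⁅MF L, MF L⁆ → ρ z = ip (MF L) ρ (cf1 (MF L)) - ip (MF L) ρ l := by
    intro z hz hz'
    have s := PF12a.sum_deg_eq_zero (H := MF L)
      (c := fun θ => if θ = cf1 (MF L) then ip (MF L) ρ l else ip (MF L) ρ θ)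
      (fun θ hθ θ' hθ' e => by
        split_ifs with e1 e2 e2
        · rfl
        · exact k1 l ll.mem_Irr l1 θ' hθ' e2 (by rw [← e, e1, ll.2.1, cf1_one])
        · exact k1 θ hθ e1 l ll.mem_Irr l1 (by rw [e, e2, ll.2.1, cf1_one])
        · exact k1 θ hθ e1 θ' hθ' e2 e) hz'
    rw [← Finset.add_sum_erase _ _ (cf1_mem_Irr _), if_pos rfl, Finset.sum_congr rfl fun θ hθ => by
      rw [if_neg (Finset.mem_erase.1 hθ).1], cf1_of_mem hz] at s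
    rw [← res_of_mem ρ hz, apply_eq_sum_irr (res_mem_CF hn.1 hρ),
      ← Finset.add_sum_erase _ _ (cf1_mem_Irr _), cf1_of_mem hz]
    simp only [ip_res_left]
    linear_combination s
  rw [k2 x hx hx', k2 y hy hy']

/-- PF (12.6). -/
theorem frobenius_coherence (hL : IsCoatom L) (hF : FrobKer L (MF L)) :
    S12 L ⊆ Irr L ∧ tauA L = tauF L ∧ Coherent L (S12 L) (tauF L) := by
  have hn := MF_normal L
  have e : tauA L = tauF L := by rw [tauA, ftA_frobKer hL hF]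
  have h1 := ftType_eq_one_of_frobKer hL hF
  refine ⟨fun χ hχ => ?_, e, ?_⟩
  · obtain ⟨θ, hθ, rfl⟩ := mem_seqIndD.1 hχ
    rw [mem_irrKerD] at hθ
    exact hF.ind_mem_Irr (mem_irrKer.2 ⟨hθ.1, hθ.2.1⟩) (mt (irr_eq_cf1_iff hθ.1).1 hθ.2.2)
  obtain ⟨R₁, R, -, hR, -⟩ := type1_subcoherent hL h1
  rw [e] at hR
  obtain ⟨U, hU, e2⟩ := hF.exists_frob
  have sd : SdProd (MF L) U L := ⟨e2, hU.norm, hU.sdProd.disj⟩
  have hI := ofTypeI_of_ftType hL h1 sd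
  have hs := isSolvable_of_isNilpotent (isNilpotent_MF L)
  rcases hI.cases with hTI | ⟨hc, -⟩ | ⟨hc, -⟩
  · refine (sibley_coherence (odd_card L) (isNilpotent_MF L) hTI (Or.inl hF)).congr fun φ hφ => ?_
    exact ((ftDadeF hL).dade_eq_ind subset_rfl
      (fun a ha => (top_inf_eq 𝐂[a]).ge.trans (hTI.cent1_le ha)) (PF12a.on_sharp hφ).1).symm
  · refine hR.uniform_degree_coherence fun χ hχ ψ hψ => ?_
    obtain ⟨θ, hθ, rfl⟩ := mem_seqIndD.1 hχ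
    obtain ⟨θ', hθ', rfl⟩ := mem_seqIndD.1 hψ
    rw [ind_one hn.1, ind_one hn.1, (isLin_of_comm hc (mem_irrKerD.1 hθ).1).2.1,
      (isLin_of_comm hc (mem_irrKerD.1 hθ').1).2.1]
  · by_contra hnc
    have hb : L ≤ 𝐍((⊥ : Subgroup G)) := norm_bot (G := G) ▸ le_top
    have hlt := PF06.der_sup_lt hs hF.ltN (hn.1.trans hb)
    obtain ⟨-, -, p, hp, ⟨n, hpn⟩, -, hd⟩ := non_coherent_chief hs hR (M := ⊥)
      ⟨odd_card L, ⟨bot_le, hb⟩, bot_le, nilMod_bot_iff.2 (isNilpotent_MF L),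
        PF06.frobKerMod_of sd hU.ne_botR hU.coprime hs hU.reg
          (by rw [sup_bot_eq]; exact hn.2.trans (norm_le_norm_der _)) bot_le hlt⟩ hnc
    rw [relIndex_bot_left] at hpn
    have := hI.typeF.context.2.2 hU
    refine hd ?_
    rw [sd.relIndex_left, ← IsZGroup.exponent_eq_card]
    exact hc p ⟨hp, prime_dvd_card_of_isPGroup hp (isPGroup_of_card_eq hpn) hU.ne_botK⟩

end Cfsg.Agent.FT
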