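/-
PF (12.8)-(12.12): the group-theoretic part of the proof of Theorem (12.7).
-/
import Cfsg.Agent.FT.PF12a
import Cfsg.Agent.H4.SubCount

set_option autoImplicit false
set_option linter.unusedVariables false
set_option linter.unusedSectionVars false

namespace Cfsg.Agent.FT

open Subgroup Cfsg Cfsg.Agent
open scoped commutatorElement

universe u

variable {G : Type u} [Group G] [Finite G]

namespace PF12b

theorem two_mul_le_of_dvd {a b : ℕ} (ha : Odd a) (hb : Even b) (h0 : b ≠ 0) (h : a ∣ b) :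
    2 * a ≤ b :=
  Nat.le_of_dvd (Nat.pos_of_ne_zero h0)
    (Nat.Coprime.mul_dvd_of_dvd_of_dvd ha.coprime_two_left hb.two_dvd h)

theorem card_lines {p : ℕ} (hp : p.Prime) {T : Subgroup G} (hT : IsElem p 2 T) :
    Nat.card {K : Subgroup G // Nat.card K = p ∧ K ≤ T} = p + 1 := by
  have h := H4.card_pow_prime_eq_one (G := T) hp
  rw [← H4.card_card_le_eq, Nat.card_congr (Equiv.subtypeUnivEquiv
    (H1.pow_eq_one_of_isElementaryAbelian hT.1)), hT.2] at h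
  obtain ⟨q, rfl⟩ := Nat.exists_eq_add_of_le' hp.one_le
  have h1 : q ≠ 0 := by rintro rfl; exact hp.one_lt.ne' rfl
  rw [Nat.add_sub_cancel] at h
  apply Nat.eq_of_mul_eq_mul_left (Nat.pos_of_ne_zero h1)
  linarith

theorem card_dvd_of_free {p : ℕ} (hp : p.Prime) {T E : Subgroup G} (hT : IsElem p 2 T)
    (hE : E ≤ 𝐍(T)) (h : ∀ K : Subgroup G, K ≤ T → 𝐨(K) = p → ∀ a ∈ E, a ∈ 𝐍(K) → a = 1) :
    𝐨(E) ∣ p + 1 := by
  let _ : MulAction E {K : Subgroup G // Nat.card K = p ∧ K ≤ T} :=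
    { smul := fun a K => ⟨K.1 ^ᵍ a, (card_conj _ _).trans K.2.1, conj_le_of_mem_norm K.2.2 (hE a.2)⟩
      one_smul := fun K => Subtype.ext (conj_one K.1)
      mul_smul := fun a b K => Subtype.ext (conj_conj K.1 a b).symm }
  rw [← card_lines hp hT, Nat.card_congr (MulAction.selfEquivOrbitsQuotientProd (G := E) fun K =>
    eq_bot_iff.mpr fun a ha => Subtype.ext (h K.1 K.2.2 K.2.1 a a.2
      (conj_eq_self_iff.mp (congrArg Subtype.val (MulAction.mem_stabilizer_iff.mp ha))))),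
    Nat.card_prod]
  exact Dvd.intro_left _ rfl

/-- The core of PF (12.12). -/
theorem dvd_pred_or_succ {p : ℕ} (hp : p.Prime) {T E : Subgroup G} (hT : IsElem p 2 T)
    (hE : E ≤ 𝐍(T)) (hc : IsMulCommutative E) (hr : SemiReg T E) {x : G} (hx : x ∈ T) (h1 : x ≠ 1)
    (h : ∀ a ∈ E, a ∈ 𝐍(zpowers x) → a = 1) : 𝐨(E) ∣ p - 1 ∨ 𝐨(E) ∣ p + 1 := by
  by_cases h2 : ∃ X ≤ T, 𝐨(X) = p ∧ E ≤ 𝐍(X)
  · obtain ⟨X, h3, h4, h5⟩ := h2
    exact Or.inl (h4 ▸ (hr.mono h3 le_rfl).card_dvd h5)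
  refine Or.inr (card_dvd_of_free hp hT hE fun K hK hKp a ha haK => h a ha ?_)
  obtain ⟨t, rfl⟩ := isCyclic_iff_zpowers.mp (isCyclic_of_card_prime (hKp ▸ hp))
  obtain ⟨k, hk⟩ := mem_zpowers_iff.mp ((mem_normalizer_iff.mp haK t).mp (mem_zpowers t))
  let S : Subgroup G :=
    { carrier := {s | s ∈ T ∧ a * s * a⁻¹ = s ^ k}
      one_mem' := ⟨one_mem _, by simp⟩
      mul_mem' := fun {s s'} hs hs' => ⟨mul_mem hs.1 hs'.1, by
        rw [Commute.mul_zpow (mem_cent.mp (hT.le_cent hs'.1) s hs.1), ← hs.2, ← hs'.2]; group⟩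
      inv_mem' := fun {s} hs => ⟨inv_mem hs.1, by rw [inv_zpow, ← hs.2]; group⟩ }
  have hS : S ≤ T := fun s hs => hs.1
  have h3 : E ≤ 𝐍(S) := le_normalizer_iff.mpr fun b hb s hs =>
    ⟨(mem_normalizer_iff.mp (hE hb) s).mp hs.1, by
      have e := mem_cent.mp (isMulComm_iff_le_cent.mp hc ha) b hb
      rw [conj_zpow, ← hs.2, ← mul_assoc, ← mul_assoc, ← e, mul_assoc _ b⁻¹, ← mul_inv_rev, ← e]
      group⟩
  have h4 : S = T := by
    by_contra e
    refine h2 ⟨S, hS, hT.card_eq_of_two hp hS (fun e' => ?_) e, h3⟩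
    have : t ∈ S := ⟨hK (mem_zpowers t), hk.symm⟩
    rw [e', mem_bot] at this
    rw [this, zpowers_one_eq_bot, card_bot] at hKp
    exact hp.one_lt.ne hKp
  refine mem_norm_of_conj_le ?_
  rw [← zpowers_conj, zpowers_le, (h4.ge hx).2]
  exact zpow_mem_zpowers x k

variable [MinOdd G]

variable (G) in
/-- The statement proved by induction on `q`. -/
def Claim (q : ℕ) : Prop := ∀ M : Subgroup G, IsCoatom M → ftType M = 1 → ¬ q ∣ 𝐨(MF M) →
  ∀ P : Subgroup G, IsSyl q P M → IsCyclic P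

theorem isCyclic_of_claim {q : ℕ} (hq : q.Prime) (h : Claim G q) {M U P : Subgroup G}
    (hM : IsCoatom M) (h1 : ftType M = 1) (hU : SdProd (MF M) U M) (hP : IsSyl q P U) :
    IsCyclic P := by
  by_cases hd : q ∣ 𝐨(U)
  · obtain ⟨S, hS, h2⟩ := exists_isSyl_ge hq hP.pgrp (hP.le.trans hU.le_right)
    refine isCyclic_of_le h2 (h M hM h1 (fun e => hq.one_lt.ne' ?_) S hS)
    exact Nat.eq_one_of_dvd_coprimes (isHallIn_MF M).2 e (hU.relIndex_left ▸ hd)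
  · rw [(hP.eq_bot_iff hq).mpr hd]
    infer_instance

theorem frobKer_of_claim {M U : Subgroup G} (hM : IsCoatom M) (h1 : ftType M = 1)
    (hU : SdProd (MF M) U M) (h : ∀ q : ℕ, q.Prime → q ∣ 𝐨(U) → Claim G q) :
    FrobKer M (MF M) := by
  have h2 : Frob (MF M) U := (ofTypeI_of_ftType hM h1 hU).typeF.context.2.mp
    (isZGroup_iff_isSyl.mpr fun q hq P hP => by
      by_cases hd : q ∣ 𝐨(U)
      · exact isCyclic_of_claim hq (h q hq hd) hM h1 hU hP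
      · rw [(hP.eq_bot_iff hq).mpr hd]
        infer_instance)
  have := h2.frobKer
  rwa [hU.sup] at this

theorem exists_frob_prime {M U : Subgroup G} (h : OfTypeF M U) {q : ℕ} (hq : q.Prime)
    (hd : q ∣ 𝐨(U)) : ∃ Y ≤ U, 𝐨(Y) = q ∧ Frob (MF M) Y := by
  obtain ⟨U₀, h0⟩ := h.compl
  have h1 : q ∣ 𝐨(U₀) := by
    rw [h.context.1 U₀ h0]
    obtain ⟨y, hy, e⟩ := exists_mem_orderOf_eq_prime hq hd
    rw [← e, ← Subgroup.orderOf_mk y hy]
    exact Monoid.order_dvd_exponent _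
  obtain ⟨Y, hY, e⟩ := exists_le_card_eq_prime hq h1
  exact ⟨Y, hY.trans h0.le, e, h0.frob.mono le_rfl hY h.ne_botF
    (ne_bot_of_card_prime (e ▸ hq)) (hY.trans h0.frob.norm)⟩

/-- PF (12.8), (12.9). -/
structure Cex (p : ℕ) (M P₀ L : Subgroup G) (x : G) : Prop where
  prime : p.Prime
  ih : ∀ q < p, q.Prime → Claim G q
  maxM : IsCoatom M
  type1 : ftType M = 1
  syl : IsSyl p P₀ M
  ndvd : ¬ p ∣ 𝐨(MF M)
  ncyc : ¬ IsCyclic P₀
  comm : IsMulCommutative P₀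
  rk : pRank p P₀ ≤ 2
  maxL : IsCoatom L
  leL : P₀ ≤ Ms L
  mem : x ∈ P₀
  ne_one : x ≠ 1
  pow : x ^ p = 1
  ncent : ¬ MF M ⊓ 𝐂[x] ≤ ⁅MF M, MF M⁆
  uniq : UniqMax 𝐂[x] M
  nle : ¬ 𝐂[x] ≤ L

theorem MF_ne_bot {M : Subgroup G} (hM : IsCoatom M) (h1 : ftType M = 1) : MF M ≠ ⊥ := by
  obtain ⟨U, hU⟩ := exists_sdProd_of_hall (isHallIn_MF M) (MF_normal M).2
  exact (ofTypeI_of_ftType hM h1 hU).typeF.ne_botF

/-- PF (12.9). -/
theorem exists_cex {p : ℕ} (hp : p.Prime) (ih : ∀ q < p, q.Prime → Claim G q)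
    (h : ¬ Claim G p) : ∃ (M P₀ L : Subgroup G) (x : G), Cex p M P₀ L x := by
  simp only [Claim, not_forall] at h
  obtain ⟨M, hM, h1, hd, P, hP, hc⟩ := h
  have hP1 : P ≠ ⊥ := fun e => hc (e ▸ inferInstance)
  obtain ⟨U, hU, hPU⟩ := exists_hall_ge (π := (piOf (MF M))ᶜ) (mmax_isSolvable hM) hP.le
    (isPi_of_isPGroup hp hP.pgrp fun e => hd e.2)
  have hsd := sdProd_of_hall (hall_MF M) hU (MF_normal M).2
  obtain ⟨h2, h3, -⟩ := typeI_II_facts hM (by omega) (U := U) (by rwa [BG17.ftDer_of_eq h1])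
  obtain ⟨h4, h5⟩ := h2 p hp P (hP.of_le hPU hsd.le_right)
  obtain ⟨A, hA, hA2⟩ := (le_pRank_iff hp).mp (two_le_pRank_of_not_isCyclic hp
    (ne_two_of_isPGroup hp hP.pgrp hP1) hP.pgrp hc)
  obtain ⟨L₀, hL₀, h6⟩ := exists_mmax_dvd_Ms hp
    ((prime_dvd_card_of_isPGroup hp hP.pgrp hP1).trans (card_subgroup_dvd_card P))
  obtain ⟨S, hS⟩ := exists_isSyl hp (Ms L₀)
  obtain ⟨g, -, h7⟩ := (hS.trans_hall hp (ftCore_facts hL₀).2.1.hall ⟨hp, h6⟩).exists_le_conj hp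
    hP.pgrp le_top
  have h8 : P ≤ Ms (L₀ ^ᵍ g) := by
    rw [Ms_conj]
    exact h7.trans (conj_mono hS.le g)
  have h9 : ¬ ∀ a ∈ A, a ≠ 1 → MF M ⊓ 𝐂[a] ≤ ⁅MF M, MF M⁆ := fun e =>
    (H1.commutator_lt_of_isSolvable (BG16.isSolvable_MF M) (MF_ne_bot hM h1)).not_ge
      (H1.le_of_forall_centralizer_le hA2.comm (hA2.not_isCyclic hp le_rfl)
        ((hA.trans hP.le).trans (MF_normal M).2)
        (hA2.card ▸ ((Nat.Prime.coprime_iff_not_dvd hp).mpr hd).pow_left 2) e)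
  push Not at h9
  obtain ⟨x, hx, hx1, h10⟩ := h9
  have h11 := h3 (zpowers x) (zpowers_le.mpr (hPU (hA hx))) (by simpa using hx1) (by
    rw [cent_zpowers]
    exact fun e => h10 (e.le.trans bot_le))
  rw [cent_zpowers] at h11
  refine ⟨M, P, L₀ ^ᵍ g, x, hp, ih, hM, h1, hP, hd, hc, h4, (pRank_le_rank hp P).trans h5,
    isCoatom_conj hL₀ g, h8, hA hx, hx1, hA2.1.2 x hx, h10, h11, fun e => hd ?_⟩
  rw [h11.eq (isCoatom_conj hL₀ g) e, (Ms_eq_MF_iff hM).mpr (Or.inl h1)] at h8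
  exact (prime_dvd_card_of_isPGroup hp hP.pgrp hP1).trans (card_dvd_of_le h8)

namespace Cex

variable {p : ℕ} {M P₀ L : Subgroup G} {x : G} (h : Cex p M P₀ L x)
include h

theorem ne_bot : P₀ ≠ ⊥ := fun e => h.ncyc (e ▸ inferInstance)

theorem dvd : p ∣ 𝐨(P₀) := prime_dvd_card_of_isPGroup h.prime h.syl.pgrp h.ne_bot

theorem ne_two : p ≠ 2 := ne_two_of_dvd_card h.dvd

theorem odd : Odd p := h.prime.odd_of_ne_two h.ne_two

theorem two_le : 2 ≤ pRank p P₀ :=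
  two_le_pRank_of_not_isCyclic h.prime h.ne_two h.syl.pgrp h.ncyc

theorem typeL : ftType L = 1 := by
  by_contra h1
  obtain ⟨U, W₁, W₂, W, hP⟩ := exists_ofTypeP h.maxL h1
  have h2 := (hP.ofTypeIItoIV h.maxL (ftType_ne_five h.maxL)).tiF
  suffices h3 : P₀ ≤ MF L from h.nle ((h2.cent1_le
    ⟨MF_le_fittingOf L (h3 h.mem), h.ne_one⟩).trans' (le_inf le_top le_rfl))
  by_cases h4 : ftType L = 2
  · exact h.leL.trans ((Ms_eq_MF_iff h.maxL).mpr (Or.inr (Or.inl h4))).le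
  by_cases h5 : p ∣ 𝐨(MF L)
  · exact le_of_hall_normal (hall_MF L) (MF_normal L).2 (h.leL.trans (Ms_le L))
      (isPi_of_isPGroup h.prime h.syl.pgrp ⟨h.prime, h5⟩)
  obtain ⟨-, -, h6, h7⟩ := type34_structure h.maxL hP h4
  have h8 := (hP.hyp9_bot h.maxL).1
  have h9 := (h8.galois_facts h7).1
  rw [fcC_bot, (h8.type34_facts h4).2.2.2,
    isMulComm_iff_comm_eq_bot.mp ((hP.ofTypeIII_iff h.maxL).mpr h6).comm, cycMod_bot_iff] at h9
  obtain ⟨g, -, h10⟩ := exists_le_conj_hall (π := (piOf (MF L))ᶜ)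
    (isSolvable_of_le_mmax h.maxL (der_le L)) (BG16.hall_U hP)
    (h.leL.trans (Ms_eq_der h.maxL (by omega)).le)
    (isPi_of_isPGroup h.prime h.syl.pgrp fun e => h5 e.2)
  exact absurd (isCyclic_of_le h10 ((isCyclic_map_iff (conj_injective g)).mpr h9)) h.ncyc

theorem Ms_eq : Ms L = MF L := (Ms_eq_MF_iff h.maxL).mpr (Or.inl h.typeL)

theorem leH : P₀ ≤ MF L := h.leL.trans h.Ms_eq.le

theorem mem_sharp : x ∈ sharp (MF L) := ⟨h.leH h.mem, h.ne_one⟩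

theorem dvdH : p ∣ 𝐨(MF L) := h.dvd.trans (card_dvd_of_le h.leH)

/-- PF (12.10). -/
theorem frobL : FrobKer L (MF L) := by
  obtain ⟨E, hE⟩ := exists_sdProd_of_hall (isHallIn_MF L) (MF_normal L).2
  have hI := ofTypeI_of_ftType h.maxL h.typeL hE
  refine frobKer_of_claim h.maxL h.typeL hE fun q hq hd => h.ih q ?_ hq
  obtain ⟨Y, hY, hYq, hF⟩ := exists_frob_prime hI.typeF hq hd
  rcases hI.cases with h1 | ⟨h1, h2⟩ | ⟨h1, -⟩
  · exact absurd ((h1.cent1_le h.mem_sharp).trans' (le_inf le_top le_rfl)) h.nle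
  · have h3 := isSyl_pCoreOf_of_isNilpotent h.prime (isNilpotent_MF L)
    have h4 : Y ≤ 𝐍(pCoreOf p (MF L)) := hF.norm.trans (H2.normalizer_le_normalizer_pCoreOf _ _)
    refine (pi_aut_rank2 h.prime h.ne_two hq (fun e => h.prime.one_lt.ne' ?_) h3.pgrp
      ((pRank_mono h.prime h3.le).trans ((pRank_le_rank h.prime _).trans h2.le)) h4 ?_).2.1
    · exact Nat.eq_one_of_dvd_coprimes hF.coprime h.dvdH (by rw [hYq, e])
    · have h5 := hF.reg.symm.cent_eq_bot h3.le (h3.ne_bot h.prime h.dvdH)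
      rw [← inf_relIndex_right, inf_comm, h5, relIndex_bot_left, hYq]
  · have h2 : q ∣ p - 1 := by
      refine Dvd.dvd.trans ?_ (h1 p ⟨h.prime, h.dvdH⟩)
      obtain ⟨y, hy, e⟩ := exists_mem_orderOf_eq_prime hq hd
      rw [← e, ← Subgroup.orderOf_mk y hy]
      exact Monoid.order_dvd_exponent _
    have := h.prime.two_le
    have := Nat.le_of_dvd (by omega) h2
    omega

theorem mem_ftA0 : x ∈ ftA0 L :=
  ftA_subset_ftA0 L (ftA1_subset_ftA h.maxL (sharp_MF_subset_ftA1 h.maxL h.mem_sharp))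

theorem Nsig_eq : Nsig x = M :=
  have h1 := (ftSupport_facts h.maxL h.mem_ftA0 h.nle).2.1
  h.uniq.eq h1.max h1.le

/-- PF (12.11), first part. -/
theorem sdM : SdProd (MF M) (L ⊓ M) M := by
  have := (ftSupport_facts h.maxL h.mem_ftA0 h.nle).2.2.1
  rwa [h.Nsig_eq] at this

theorem ftR_eq : ftR L x = MF M ⊓ 𝐂[x] := by
  rw [ftR, if_neg h.nle, h.Nsig_eq]

theorem le_inf' : P₀ ≤ L ⊓ M := le_inf (h.leH.trans (MF_le L)) h.syl.le

theorem pCore_inf : pCoreOf p (MF L) ⊓ M = P₀ :=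
  have h1 := isSyl_pCoreOf_of_isNilpotent h.prime (isNilpotent_MF L)
  h.syl.eq_of_le h.prime (le_inf (h1.le_of_normal h.prime (pCoreOf_normal p _).2 h.syl.pgrp h.leH)
    h.syl.le) inf_le_right (h1.pgrp.to_le inf_le_left)

theorem exists_frobY : ∃ Y ≤ M, 𝐨(Y) = p ∧ Frob (MF M) Y := by
  obtain ⟨Y, h1, h2, h3⟩ := exists_frob_prime (ofTypeI_of_ftType h.maxM h.type1 h.sdM).typeF
    h.prime (h.dvd.trans (card_dvd_of_le h.le_inf'))
  exact ⟨Y, h1.trans inf_le_right, h2, h3⟩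

theorem not_le_cent : ¬ P₀ ≤ 𝐂(MF M) := fun e => by
  obtain ⟨Y, h1, h2, h3⟩ := h.exists_frobY
  obtain ⟨g, hg, h4⟩ := h.syl.exists_conj_le h.prime (isPGroup_of_card_prime h2) h1
  have h5 := h4.trans e
  rw [← conj_eq_of_mem_norm ((MF_normal M).2 hg), conj_le_cent_iff, cent_comm] at h5
  exact h3.ne_botK (by rw [← h3.cent_eq_bot, inf_eq_left.mpr h5])

/-- PF (12.11), second part. -/
theorem inf_le : L ⊓ M ≤ MF L := by
  refine le_of_hall_normal (hall_MF L) (MF_normal L).2 inf_le_left fun q hq hd => ?_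
  by_contra h1
  obtain ⟨A, hA, hAq⟩ := exists_le_card_eq_prime hq hd
  have hA1 : A ≠ ⊥ := ne_bot_of_card_prime (hAq ▸ hq)
  have h2 : SemiReg (MF L) A := h.frobL.semiReg (hA.trans inf_le_left)
    (isPi_disjoint (isPi_piOf _) (isPi_of_card_prime hq hAq h1))
  have h3 : Frob P₀ A := ⟨h.ne_bot, hA1, by
    rw [← h.pCore_inf]
    exact H1.le_normalizer_inf (((hA.trans inf_le_left).trans (MF_normal L).2).trans
      (H2.normalizer_le_normalizer_pCoreOf _ _)) ((hA.trans inf_le_right).trans (le_norm_self M)),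
    h2.mono h.leH le_rfl⟩
  have h4 : MF M ⊓ 𝐂(A) ≠ ⊥ := fun e => by
    have h5 := h3.wielandt_fix (M := MF M) (h.syl.le.trans (MF_normal M).2)
      ((hA.trans inf_le_right).trans (MF_normal M).2)
      ((isHallIn_MF M).2.coprime_dvd_right
        (h.sdM.relIndex_left ▸ card_dvd_of_le (sup_le h.le_inf' hA))) (BG16.isSolvable_MF M)
    rw [cent_sup, inf_left_comm, e] at h5
    simp only [inf_bot_eq, card_bot, one_pow, one_mul] at h5
    exact h.not_le_cent (cent_comm.mp (inf_eq_left.mp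
      (H1.eq_of_le_of_card_le inf_le_left h5.le)))
  obtain ⟨U₁, hU₁⟩ := (ofTypeI_of_ftType h.maxM h.type1 h.sdM).typeF.inertia
  obtain ⟨k₁, hk₁, h5⟩ := (bot_or_exists_ne_one _).resolve_left h4
  obtain ⟨k₂, hk₂, h6⟩ := SetLike.not_le_iff_exists.mp h.ncent
  have h7 : A ≤ U₁ := (le_inf hA (mem_cent_iff_cent1.mp hk₁.2)).trans (hU₁.cent k₁ hk₁.1 h5)
  have h8 : x ∈ U₁ := hU₁.cent k₂ hk₂.1 (fun e => h6 (e ▸ one_mem _))
    ⟨h.le_inf' h.mem, mem_cent1_comm.mp hk₂.2⟩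
  have h9 : A ≤ A ⊓ 𝐂[x] :=
    le_inf le_rfl ((h7.trans (isMulComm_iff_le_cent.mp hU₁.comm)).trans (cent_le_cent1 h8))
  rw [h2.symm x h.mem_sharp.1 h.ne_one] at h9
  exact hA1 (eq_bot_iff.mpr h9)

/-- PF (12.12). -/
theorem two_mul_le : 2 * (MF L).relIndex L ≤ p + 1 := by
  obtain ⟨E, hF, hE⟩ := h.frobL.exists_frob
  have hEL : E ≤ L := le_sup_right.trans hE.le
  have e : (MF L).relIndex L = 𝐨(E) := by
    have := hF.sdProd.relIndex_left
    rwa [hE] at this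
  have h1 := isSyl_pCoreOf_of_isNilpotent h.prime (isNilpotent_MF L)
  set P := pCoreOf p (MF L)
  have h2 := isElem_omegaOne_of_comm h.prime (isMulComm_center P)
  set T := omegaOne p 𝐙(P)
  have hP : P₀ ≤ P := h.pCore_inf.ge.trans inf_le_left
  have h3 : T ≤ P₀ := by
    rw [← h.pCore_inf]
    exact le_inf ((omegaOne_le _ _).trans inf_le_left) ((((omegaOne_le _ _).trans
      inf_le_right).trans (cent_le_cent1 (hP h.mem))).trans h.uniq.le)
  have h4 : E ≤ 𝐍(T) := ((hF.norm.trans (H2.normalizer_le_normalizer_pCoreOf _ _)).trans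
    (norm_le_norm_center P)).trans (norm_le_norm_omegaOne _ _)
  have h5 : SemiReg T E := hF.reg.mono (h3.trans h.leH) le_rfl
  have h6 : 0 < pRank p 𝐙(P) := (pRank_pos_iff h.prime).mpr (prime_dvd_card_of_isPGroup h.prime
    (h1.pgrp.to_le inf_le_left) (center_ne_bot (isNilpotent_of_isPGroup h.prime h1.pgrp)
      (h1.ne_bot h.prime h.dvdH)))
  have h7 := (le_pRank h.prime h3 h2).trans h.rk
  have h8 : 𝐨(E) ∣ p - 1 ∨ 𝐨(E) ∣ p + 1 := by
    rcases h7.lt_or_eq with h9 | h9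
    · have := h5.card_dvd h4
      rw [h2.card, show pRank p 𝐙(P) = 1 by omega, pow_one] at this
      exact Or.inl this
    rw [h9] at h2
    have h10 : E ⊓ 𝐂(T) = ⊥ := h5.symm.cent_eq_bot le_rfl (h2.ne_bot h.prime two_ne_zero)
    refine dvd_pred_or_succ h.prime h2 h4 ?_ h5 (x := x) ?_ h.ne_one fun a ha h11 => ?_
    · rw [isMulComm_iff_comm_eq_bot, eq_bot_iff, ← h10]
      refine le_inf (der_le E) (gl2_coprime_abelian h.prime h2.1 h2.card.le h4
        (isSolvable_of_le_mmax h.maxL hEL) (odd_relIndex _ _) fun e => h.prime.one_lt.ne' ?_)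
      exact Nat.eq_one_of_dvd_coprimes hF.coprime h.dvdH (e.trans (relIndex_dvd_card' _ _))
    · exact isMaxElem_iff.mp (isMaxElem_of_pRank_le h.prime h3 h2 h.rk) |>.2.2 x h.mem
        (cent_anti h3 (isMulComm_iff_le_cent.mp h.comm h.mem)) h.pow
    · have h12 : UniqMax 𝐂(zpowers x) M := by rw [cent_zpowers]; exact h.uniq
      exact mem_bot.mp (hF.reg.disj ▸
        mem_inf.mpr ⟨h.inf_le (mem_inf.mpr ⟨hEL ha, h12.norm_le_of_cent h11⟩), ha⟩)
  have := h.prime.two_le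
  rw [e]
  rcases h8 with h9 | h9
  · have := two_mul_le_of_dvd (odd_card E) (h.prime.even_sub_one h.ne_two) (by omega) h9
    omega
  · exact two_mul_le_of_dvd (odd_card E) h.odd.add_one (by omega) h9

theorem sq_le : p ^ 2 ≤ 𝐨(MF L) :=
  Nat.le_of_dvd Nat.card_pos ((pow_dvd_pow p h.two_le).trans
    ((pow_pRank_dvd h.prime P₀).trans (card_dvd_of_le h.leH)))

theorem three_le : 3 ≤ (MF L).relIndex L := by
  have h1 : (MF L).relIndex L ≠ 1 := fun e => h.frobL.ltK.not_ge (relIndex_eq_one.mp e)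
  obtain ⟨k, hk⟩ := odd_relIndex (MF L) L
  omega

theorem five_le : 5 ≤ ⁅MF M, MF M⁆.relIndex (MF M) := by
  obtain ⟨Y, h1, h2, h3⟩ := h.exists_frobY
  have := H1.normal_subgroupOf_of_le ((MF_normal M).2.trans (norm_le_norm_der (MF M)))
  have h4 := h3.bar (Y := M) (N := ⁅MF M, MF M⁆) (sup_le (MF_le M) h1)
    (H1.commutator_lt_of_isSolvable (BG16.isSolvable_MF M) h3.ne_botK)
  have h5 := h4.card_dvd
  have h6 := h4.card_lt
  rw [card_bar_of_disj h1 (eq_bot_iff.mpr (h3.reg.disj.le.trans'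
    (inf_le_inf_right Y (der_le _)))), h2, H1.card_bar (MF_le M)] at h5 h6
  have h7 := three_le_of_prime_dvd h.prime h.dvd
  obtain ⟨k, hk⟩ := odd_relIndex ⁅MF M, MF M⁆ (MF M)
  omega

theorem notMem : x ∉ MF M := fun e => h.ndvd
  ((orderOf_eq_prime_iff (hp := ⟨h.prime⟩)).mpr ⟨h.pow, h.ne_one⟩ ▸ orderOf_dvd_card_of_mem e)

theorem not_conj : ¬ Conj L M := by
  rintro ⟨g, e⟩
  exact h.ndvd (by rw [e, MF_conj, card_conj]; exact h.dvdH)

theorem not_frobM : ¬ FrobKer M (MF M) := fun e => by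
  obtain ⟨k, hk, h1⟩ := SetLike.not_le_iff_exists.mp h.ncent
  exact h.notMem ((frobKer_iff.mp e).2.2.2 k hk.1 (fun e => h1 (e ▸ one_mem _))
    ⟨h.syl.le h.mem, mem_cent1_comm.mp hk.2⟩)

end Cex

end PF12b

end Cfsg.Agent.FT
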