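/-
PF (12.13)-(12.17).
-/
import Cfsg.Agent.FT.P.PF12b_1

set_option autoImplicit false
set_option linter.unusedVariables false
set_option linter.unusedSectionVars false

namespace Cfsg.Agent.FT

open Subgroup Cfsg Cfsg.Agent
open scoped commutatorElement

universe u

variable {G : Type u} [Group G] [Finite G] [MinOdd G]

namespace PF12b

theorem int_eq_zero_of_ineq {a : ℤ} {e h p : ℝ} (hp : 3 ≤ p) (he : 0 < e) (h1 : 2 * e ≤ p + 1)
    (h2 : p ^ 2 ≤ h) (h3 : 0 ≤ e - 1 + 2 * a - a ^ 2 * (h - 1) / e) : a = 0 := by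
  by_contra h0
  have h4 : (1 : ℝ) ≤ a ^ 2 := by exact_mod_cast (one_le_sq_iff_one_le_abs a).mpr (Int.one_le_abs h0)
  have h5 : (a : ℝ) ≤ a ^ 2 := by exact_mod_cast Int.le_self_sq a
  have h6 : 2 * (p - 1) ≤ (h - 1) / e := by
    rw [le_div_iff₀ he]
    nlinarith
  rw [mul_div_assoc] at h3
  nlinarith [mul_le_mul_of_nonneg_left h6 (sq_nonneg (a : ℝ))]

theorem final_ineq {e i k m h c : ℝ} (he : 3 ≤ e) (hi : 5 ≤ i) (hk : 0 < k) (hc : 0 < c)
    (hch : c ≤ h) (hm : (e - 1) ^ 2 ≤ m)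
    (h1 : 1 - e / h + (k * i * c)⁻¹ * ((k * i - k) * m) ≤ 1) : False := by
  have h2 : (k * i * c)⁻¹ * ((k * i - k) * m) = (i - 1) * m / (i * c) := by field_simp
  have h3 : (i - 1) * m / (i * c) ≤ e / c :=
    le_trans (by linarith) (div_le_div_of_nonneg_left (by linarith) hc hch)
  rw [div_le_div_iff₀ (by positivity) hc] at h3
  have h4 : (i - 1) * m ≤ e * i := by nlinarith
  have h5 : 4 * e ≤ 3 * m := by nlinarith
  nlinarith [mul_le_mul_of_nonneg_left h5 (show 0 ≤ i - 1 by linarith)]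

section Char

variable {L N : Subgroup G} {τ₁ : (G → ℂ) →ₗ[ℂ] (G → ℂ)} {χ : G → ℂ}

theorem ortho_R (hL : IsCoatom L) (h1 : ftType L = 1) (hτ : CohWith L (S12 L) (tauA L) τ₁)
    (hχ : χ ∈ S12 L) (hN : IsCoatom N) (h2 : ftType N = 1) (hn : ¬ Conj L N) :
    ∃ R, Subcoherent N (S12 N) (tauA N) R ∧ ∀ φ ∈ S12 N, ∀ α ∈ R φ, ip ⊤ (τ₁ χ) α = 0 := by
  obtain ⟨-, RL, -, hRL, -⟩ := type1_subcoherent hL h1
  obtain ⟨-, R, -, hR, -⟩ := type1_subcoherent hN h2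
  obtain ⟨E, hE, e⟩ := hRL.coherent_sum ⟨subset_rfl, hRL.conj_mem⟩ hτ hχ
  refine ⟨R, hR, fun φ hφ α hα => ?_⟩
  rw [e, ip_sum_left]
  exact Finset.sum_eq_zero fun β hβ =>
    type1_seqInd_ortho hL h1 hN h2 hn hRL hR hχ hφ β (hE hβ) α hα

theorem one_lt_card (hL : IsCoatom L) (hχ : χ ∈ S12 L) (h1 : ftType L = 1) :
    1 < (S12 L).card := by
  obtain ⟨-, RL, -, hRL, -⟩ := type1_subcoherent hL h1
  exact Finset.one_lt_card.mpr ⟨_, hRL.conj_mem χ hχ, _, hχ, hRL.not_real χ hχ⟩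

/-- The computation of PF (12.14). -/
theorem invDade_eq (hL : IsCoatom L) (hτ : CohWith L (S12 L) (tauF L) τ₁) (hχ : χ ∈ S12 L)
    (hi : χ ∈ Irr L) (hd : dg χ = (MF L).relIndex L)
    (hβ : ip ⊤ (tauF L (ind L (MF L) (cf1 (MF L)) - χ)) (τ₁ χ) = -1) {a : G}
    (ha : a ∈ sharp (MF L)) : invDade (sharp (MF L)) (ftR L) (τ₁ χ) a = χ a := by
  have hn := MF_normal L
  have hψ := vchar_mem_CF (hτ.vchar χ (mem_Zs_of_mem hχ))
  have hS : ∀ ξ ∈ S12 L, ξ ∈ seqIndT (MF L) L := fun ξ hξ =>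
    Finset.mem_of_mem_erase ((seqIndD_self_bot hn).le hξ)
  have h0 : (((MF L).relIndex L : ℕ) : ℂ) ≠ 0 := by
    rw [← hd, ← irr_one_eq hi]; exact irr_one_ne_zero hi
  rw [((ftDadeF hL).invDade_seqInd_sum (c := fun ξ => ip L ξ χ) (ind_cf1_mem_seqIndT _ L) hψ
    fun ξ hξ hne => ?_).1 a ha, ← seqIndD_self_bot hn, Finset.sum_eq_single_of_mem χ hχ]
  · simp [ip_irr_self hi, nsq_irr hi]
  · intro ξ hξ hne
    simp [seqIndT_orth hn (hS ξ hξ) (hS χ hχ) hne]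
  · have hξ' : ξ ∈ S12 L := by
      rw [S12, seqIndD_self_bot hn]
      exact Finset.mem_erase.mpr ⟨hne, hξ⟩
    obtain ⟨-, -, -, -, -, h1, ⟨d, h2⟩, -⟩ := seqIndT_facts hn hξ
    have h3 : ξ 1 / ind L (MF L) (cf1 (MF L)) 1 = d := by
      rw [ind_one hn.1, cf1_one, mul_one, h1, h2, Nat.cast_mul, mul_div_cancel_left₀ _ h0]
    have h4 : ξ - (d : ℂ) • χ ∈ Zs0 (S12 L) := sub_mem_Zs0 (mem_Zs_of_mem hξ')
      (natCast_smul_mem_Zs (mem_Zs_of_mem hχ) d) (by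
        rw [h1, h2, Pi.smul_apply, irr_one_eq hi, hd, Nat.cast_mul, smul_eq_mul, mul_comm])
    rw [h3, show ξ - (d : ℂ) • ind L (MF L) (cf1 (MF L)) =
      (ξ - (d : ℂ) • χ) - (d : ℂ) • (ind L (MF L) (cf1 (MF L)) - χ) by rw [smul_sub]; abel,
      map_sub, map_smul, ip_sub_left, ip_smul_left, hβ, ← hτ.agree _ h4,
      hτ.iso _ h4.1 _ (mem_Zs_of_mem hχ), ip_sub_left, ip_smul_left, ip_irr_self hi]
    ring

end Char

namespace Cex

variable {p : ℕ} {M P₀ L : Subgroup G} {x : G} (h : Cex p M P₀ L x)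
  {τ₁ : (G → ℂ) →ₗ[ℂ] (G → ℂ)} {χ : G → ℂ} (hτ : CohWith L (S12 L) (tauF L) τ₁)
  (hχ : χ ∈ S12 L) (hd : dg χ = (MF L).relIndex L)
include h hτ hχ

theorem ortho {N : Subgroup G} (hN : IsCoatom N) (h2 : ftType N = 1) (hn : ¬ Conj L N) :
    ∃ R, Subcoherent N (S12 N) (tauA N) R ∧ ∀ φ ∈ S12 N, ∀ α ∈ R φ, ip ⊤ (τ₁ χ) α = 0 :=
  ortho_R h.maxL h.typeL ((frobenius_coherence h.maxL h.frobL).2.1 ▸ hτ) hχ hN h2 hn

theorem mem_VChar : τ₁ χ ∈ VChar ⊤ := hτ.vchar χ (mem_Zs_of_mem hχ)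

include hd in
/-- PF (12.14), and the use of (7.8)(b) in (12.16). -/
theorem psi_mul : (∀ k ∈ MF M, τ₁ χ (x * k) = χ x) ∧
    1 - ((MF L).relIndex L : ℝ) / 𝐨(MF L) ≤ nsq L (invDade (sharp (MF L)) (ftR L) (τ₁ χ)) := by
  have hi := (frobenius_coherence h.maxL h.frobL).1 hχ
  have hψ := vchar_mem_CF (h.mem_VChar hτ hχ)
  obtain ⟨R, hR, ho⟩ := h.ortho hτ hχ h.maxM h.type1 h.not_conj
  have h1 := type1_ortho_constant h.maxM h.type1 hR hψ ho (h.syl.le h.mem) h.notMem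
  have h2 := one_lt_card h.maxL hχ h.typeL
  obtain ⟨Γ, -, h3, -, a, h4, h5, -, h6⟩ := (ftDadeF h.maxL).ind1_sub_lin hτ h2 hi hχ hd
  have h7 := ((ftDadeF h.maxL).ind1_sub_lin_basic hτ h2 hi hχ hd).1 χ hχ
  have e1 := h.two_mul_le
  have e2 := h.sq_le
  have e3 := three_le_of_prime_dvd h.prime h.dvd
  have e4 := h.three_le
  have h8 : a = 0 := int_eq_zero_of_ineq (p := p) (by exact_mod_cast e3)
    (by exact_mod_cast (by omega : 0 < (MF L).relIndex L)) (by exact_mod_cast e1)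
    (by exact_mod_cast e2) (h5 ▸ nsq_nonneg ⊤ Γ)
  refine ⟨fun k hk => ?_, (h6 (by nlinarith)).1⟩
  rw [h1 k hk, ← invDade_eq h.maxL hτ hχ hi hd ?_ h.mem_sharp]
  · refine (PF02.invDade_of_const h.mem_sharp fun u hu => ?_).symm
    rw [h.ftR_eq] at hu
    rw [← mem_cent1.mp hu.2, h1 u hu.1]
  · rw [h4, h8, Int.cast_zero, zero_smul, add_zero, ip_add_left, ip_sub_left, ip_eq_zero_symm h7,
      ip_eq_zero_symm (h3 χ hχ), (hτ.dirr hχ hi).ip_self]
    ring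

/-- PF (12.15), first part. -/
theorem invDade_M {g : G} (hg : g ∈ sharp (MF M)) :
    invDade (sharp (MF M)) (ftR M) (τ₁ χ) g = τ₁ χ g := by
  refine PF02.invDade_of_const hg fun u hu => ?_
  by_cases hC : 𝐂[g] ≤ M
  · rw [ftR, if_pos hC, mem_bot] at hu
    rw [hu, one_mul]
  rw [ftR, if_neg hC] at hu
  obtain ⟨-, h1, -, -, -, ⟨h2, h3⟩, h4, h5, -⟩ := ftSupport_facts h.maxM
    (ftA_subset_ftA0 M (ftA1_subset_ftA h.maxM (sharp_MF_subset_ftA1 h.maxM hg))) hC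
  have h6 : ftType (Nsig g) = 1 := by
    have := (ftType_range (Nsig g)).1
    by_contra e
    exact h.not_frobM (h5 (by omega))
  obtain ⟨R, hR, ho⟩ := h.ortho hτ hχ h1.max h6 (by
    rintro ⟨y, e⟩
    rw [e, show g = y * (y⁻¹ * g * y) * y⁻¹ by group] at h2 h3
    rw [conj_mem_ftA_conj, ftA_frobKer h.maxL h.frobL] at h2
    exact h3 (conj_mem_ftA1_conj.mpr (sharp_MF_subset_ftA1 h.maxL h2)))
  rw [← mem_cent1.mp hu.2]
  exact type1_ortho_constant h1.max h6 hR (vchar_mem_CF (h.mem_VChar hτ hχ)) ho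
    (h1.le (self_mem_cent1 g)) (fun e => h3 (sharp_MF_subset_ftA1 h1.max ⟨e, hg.2⟩)) u hu.1

/-- PF (12.15), second part. -/
theorem psi_const {g g' : G} (hg : g ∈ MF M) (h1 : g ∉ ⁅MF M, MF M⁆) (hg' : g' ∈ MF M)
    (h2 : g' ∉ ⁅MF M, MF M⁆) : τ₁ χ g = τ₁ χ g' := by
  obtain ⟨R, hR, ho⟩ := h.ortho hτ hχ h.maxM h.type1 h.not_conj
  rw [← h.invDade_M hτ hχ ⟨hg, fun e => h1 (e ▸ one_mem _)⟩,
    ← h.invDade_M hτ hχ ⟨hg', fun e => h2 (e ▸ one_mem _)⟩]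
  exact type1_invDade_ortho_constant h.maxM h.type1 hR (vchar_mem_CF (h.mem_VChar hτ hχ)) ho
    hg h1 hg' h2

theorem psi_int {g : G} (hg : g ∈ MF M) (h1 : g ∉ ⁅MF M, MF M⁆) : ∃ m : ℤ, τ₁ χ g = m := by
  refine int_of_aut_fixed (vchar_isIntegral (h.mem_VChar hτ hχ) g) fun u => ?_
  obtain ⟨k, -, h2, h3⟩ := exists_pow_of_aut u (orderOf_pos g)
  rw [vchar_aut_apply (h.mem_VChar hτ hχ) (orderOf_pos g) h3 (mem_top g) (pow_orderOf_eq_one g)]
  refine h.psi_const hτ hχ (pow_mem hg k) (fun e => h1 ?_) hg h1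
  obtain ⟨m, hm⟩ := exists_pow_eq_self_of_coprime h2
  exact hm ▸ pow_mem e m

omit hτ hχ in
/-- PF (12.16). -/
theorem false : False := by
  obtain ⟨hS, -, τ₁, hτ⟩ := frobenius_coherence h.maxL h.frobL
  obtain ⟨χ, hχ, hd⟩ := exists_ref_S12 h.maxL
  obtain ⟨g, hg, h1⟩ := SetLike.not_le_iff_exists.mp h.ncent
  obtain ⟨h2, h3⟩ := h.psi_mul hτ hχ hd
  obtain ⟨m, hm⟩ := h.psi_int hτ hχ hg.1 h1
  have hψ := h.mem_VChar hτ hχ
  have hε := Complex.isPrimitiveRoot_exp p h.prime.ne_zero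
  obtain ⟨z₁, hz₁, h4⟩ := vchar_ker_mod_prim h.prime hε hψ (mem_top x) h.pow
    (mem_cent1_iff_commute.mp hg.2)
  obtain ⟨z₂, hz₂, h5⟩ := vchar_ker_mod_prim h.prime hε (irr_mem_VChar (hS hχ))
    (MF_le L h.mem_sharp.1) h.pow (Commute.one_right x)
  rw [h2 g hg.1, hm] at h4
  rw [mul_one, irr_one_eq (hS hχ), hd] at h5
  obtain ⟨c, hc⟩ := dvd_of_mod_prim h.prime hε (n := m - (MF L).relIndex L) (hz₂.sub hz₁) (by
    rw [mul_sub, ← h4, ← h5]; push_cast; ring)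
  have e1 := h.two_mul_le
  have e4 := h.three_le
  have h6 : (((MF L).relIndex L : ℤ) - 1) ^ 2 ≤ m ^ 2 := by
    have := h.prime.pos
    rcases le_or_gt 0 c with h7 | h7
    · have : (0 : ℤ) ≤ p * c := by positivity
      exact pow_le_pow_left₀ (by omega) (by omega) 2
    · have : (p : ℤ) * c ≤ -p := by nlinarith
      rw [← neg_sq m]
      exact pow_le_pow_left₀ (by omega) (by omega) 2
  have h7 := ((ftDadeF h.maxL).nsq_invDade_le_supp (vchar_mem_CF hψ)).1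
  have h8 := ((ftDadeF h.maxM).nsq_invDade_le_supp (vchar_mem_CF hψ)).1
  have h9 := dadeSupp_ftA1_disjoint h.maxL h.maxM h.not_conj
  rw [ftA1, ftA1, h.Ms_eq, (Ms_eq_MF_iff h.maxM).mpr (Or.inl h.type1)] at h9
  have h10 : nsq L (invDade (sharp (MF L)) (ftR L) (τ₁ χ)) +
      nsq M (invDade (sharp (MF M)) (ftR M) (τ₁ χ)) ≤ 1 := by
    refine (add_le_add h7 h8).trans ?_
    rw [← mul_add, ← sum_fs_union h9, ← (hτ.dirr hχ (hS hχ)).nsq, nsq_def, card_top]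
    exact mul_le_mul_of_nonneg_left (Finset.sum_le_sum_of_subset_of_nonneg
      (fs_subset fun y _ => mem_top y) fun _ _ _ => by positivity) (by positivity)
  have h11 : (𝐨(M) : ℝ)⁻¹ * ((𝐨(MF M) - 𝐨(⁅MF M, MF M⁆)) * m ^ 2) ≤
      nsq M (invDade (sharp (MF M)) (ftR M) (τ₁ χ)) := by
    rw [nsq_def]
    refine mul_le_mul_of_nonneg_left (le_trans (le_of_eq ?_) (Finset.sum_le_sum_of_subset_of_nonneg
      (fs_subset (A := (MF M : Set G) \ (⁅MF M, MF M⁆ : Subgroup G)) fun y hy => MF_le M hy.1)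
      fun _ _ _ => by positivity)) (by positivity)
    rw [sum_fs_congr (g := fun _ => (m : ℝ) ^ 2) fun y hy => by
      rw [h.invDade_M hτ hχ ⟨hy.1, fun e => hy.2 (e ▸ one_mem _)⟩, h.psi_const hτ hχ hy.1 hy.2 hg.1 h1,
        hm, Complex.norm_intCast, sq_abs],
      Finset.sum_const, card_fs, Set.ncard_sdiff (der_le (MF M)), nsmul_eq_mul,
      Nat.cast_sub (Set.ncard_le_ncard (der_le (MF M)))]
    rfl
  rw [h.sdM.card, ← H1.card_mul_relIndex (der_le (MF M))] at h11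
  push_cast at h11
  exact final_ineq (by exact_mod_cast e4) (by exact_mod_cast h.five_le) (card_pos_R _)
    (card_pos_R _) (by exact_mod_cast card_le_of_le h.inf_le) (by exact_mod_cast h6)
    ((add_le_add h3 h11).trans h10)

end Cex

theorem claim (p : ℕ) (hp : p.Prime) : Claim G p := by
  induction p using Nat.strong_induction_on with
  | _ p ih =>
  by_contra h
  obtain ⟨M, P₀, L, x, h1⟩ := exists_cex hp ih h
  exact h1.false

/-- A representative of the conjugacy class of a subgroup. -/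
noncomputable def rep (M : Subgroup G) : Subgroup G := Classical.epsilon (Conj M)

theorem conj_rep (M : Subgroup G) : Conj M (rep M) := Classical.epsilon_spec ⟨M, Conj.refl M⟩

theorem rep_eq {M L : Subgroup G} (h : Conj M L) : rep M = rep L :=
  congrArg Classical.epsilon (funext fun _ => propext ⟨h.symm.trans, h.trans⟩)

end PF12b

/-- PF Theorem (12.7). -/
theorem type1_frobenius {M : Subgroup G} (hM : IsCoatom M) (h1 : ftType M = 1) :
    FrobKer M (MF M) := by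
  obtain ⟨U, hU⟩ := exists_sdProd_of_hall (isHallIn_MF M) (MF_normal M).2
  exact PF12b.frobKer_of_claim hM h1 hU fun q hq _ => PF12b.claim q hq

open PF12b in
/-- PF Theorem (12.17). -/
theorem exists_typePPair : ∃ S T W₁ W₂ W : Subgroup G, TypePPair S T W₁ W₂ W := by
  classical
  refine typeP_pair_cases.resolve_left fun h => ?_
  have hs : ∀ M : Subgroup G, IsCoatom M → Ms M = MF M := fun M hM =>
    (Ms_eq_MF_iff hM).mpr (Or.inl (h M hM))
  have hc : ∀ M : Subgroup G, IsCoatom M → ∀ a ∈ sharp (MF M), 𝐂[a] ≤ M := fun M hM a ha => by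
    by_contra hC
    obtain ⟨-, h1, -, -, -, ⟨h2, h3⟩, -⟩ := ftSupport_facts hM
      (ftA_subset_ftA0 M (ftA1_subset_ftA hM (sharp_MF_subset_ftA1 hM ha))) hC
    rw [ftA_frobKer h1.max (type1_frobenius h1.max (h _ h1.max))] at h2
    exact h3 (sharp_MF_subset_ftA1 h1.max h2)
  have hr : ∀ M : Subgroup G, IsCoatom M → IsCoatom (rep M) := fun M hM => by
    obtain ⟨g, e⟩ := conj_rep M
    exact e ▸ isCoatom_conj hM g
  let I := (Set.toFinite {M : Subgroup G | IsCoatom M ∧ rep M = M}).toFinset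
  have hI : ∀ M, M ∈ I ↔ IsCoatom M ∧ rep M = M := fun M => Set.Finite.mem_toFinset _
  have hI' : ∀ M, IsCoatom M → rep M ∈ I := fun M hM =>
    (hI _).mpr ⟨hr M hM, (rep_eq (conj_rep M)).symm⟩
  obtain ⟨M, hM, -⟩ := mmax_exists (H := (⊥ : Subgroup G)) (ne_top_of_isMulComm inferInstance)
  obtain ⟨p, hp, hd⟩ := Nat.exists_prime_and_dvd (n := (Ms M).relIndex ⊤) fun e =>
    ne_top_of_le_mmax hM (Ms_le M) (top_le_iff.mp (relIndex_eq_one.mp e))
  obtain ⟨L, hL, hd'⟩ := exists_mmax_dvd_Ms hp (hd.trans (relIndex_top_right (Ms M) ▸ index_dvd_card _))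
  obtain ⟨g, hg, h1⟩ := no_coherent_Frobenius_partition MinOdd.odd I
    (Finset.one_lt_card.mpr ⟨_, hI' M hM, _, hI' L hL, fun e => by
      obtain ⟨y, e'⟩ := (conj_rep M).trans (e ▸ (conj_rep L).symm)
      rw [e', Ms_conj, card_conj] at hd'
      exact hp.one_lt.ne' (Nat.eq_one_of_dvd_coprimes (ftCore_facts hM).2.1.2 hd' hd)⟩)
    (L := id) (H := MF) (fun M hM => type1_frobenius ((hI M).mp hM).1 (h M ((hI M).mp hM).1))
    (fun M _ => isNilpotent_MF M)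
    (fun M hM => (ftDadeF ((hI M).mp hM).1).normedTI
      (sharp_nonempty.mpr (MF_ne_bot ((hI M).mp hM).1 (h M ((hI M).mp hM).1))) (hc M ((hI M).mp hM).1))
    fun M hM L hL hne => by
      obtain ⟨h1, h2⟩ := (hI M).mp hM
      obtain ⟨h3, h4⟩ := (hI L).mp hL
      rw [← hs M h1, ← hs L h3]
      exact ftCore_coprime h1 h3 fun e => hne (h2.symm.trans ((rep_eq e).trans h4))
  obtain ⟨N, hN, h2⟩ := dadeSupp_ftA1_cover h hg
  obtain ⟨y, e⟩ := conj_rep N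
  refine h1 _ (hI' N hN) ?_
  rw [← dadeSupp_ftA1_conj hN y, ← e, ftA1, hs _ (hr N hN),
    (ftDadeF (hr N hN)).dadeSupp_eq_classSupp (hc _ (hr N hN))] at h2
  exact h2

end Cfsg.Agent.FT
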