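/-
PF (13.2), (13.3), (13.5)-(13.8).
-/
import Cfsg.Agent.FT.PF12b

set_option autoImplicit false
set_option linter.unusedVariables false
set_option linter.unusedSectionVars false

namespace Cfsg.Agent.FT

open Subgroup Cfsg Cfsg.Agent
open scoped commutatorElement

universe u

variable {G : Type u} [Group G] [Finite G] [MinOdd G]

variable {S U W₁ W₂ W : Subgroup G}

namespace PF13a

theorem relIndex_fcC (S U : Subgroup G) : (fcC S U ⊥).relIndex U = 𝐂(MF S).relIndex U := by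
  rw [fcC_bot, inf_relIndex_left]

theorem comm (hS : IsCoatom S) (h : OfTypeP S U W₁ W₂ W) : IsMulCommutative U := by
  by_cases h2 : ftType S = 2
  · exact ((h.ofTypeII_iff hS).mpr h2).comm
  · exact ((h.ofTypeIII_iff hS).mpr (type34_structure hS h h2).2.2.1).comm

theorem der_fcC (hS : IsCoatom S) (h : OfTypeP S U W₁ W₂ W) :
    ⊥ ⊔ ⁅fcC S U ⊥, fcC S U ⊥⁆ = ⊥ := by
  rw [bot_sup_eq, ← isMulComm_iff_comm_eq_bot]
  exact isMulComm_of_le inf_le_left (comm hS h)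

theorem fitting_eq (h : OfTypeP S U W₁ W₂ W) : MF S ⊔ fcC S U ⊥ = fittingOf S := by
  rw [fcC_bot, h.facts.1.sup]

theorem cent_le (hS : IsCoatom S) (h : OfTypeP S U W₁ W₂ W) {x : G} (hx : x ∈ ftA0 S) :
    𝐂[x] ≤ S := by
  by_contra hC
  obtain ⟨-, h1, -, -, -, ⟨h2, h3⟩, h4, h5, -⟩ := ftSupport_facts hS hx hC
  by_cases h6 : ftType (Nsig x) = 2
  · exact h.ftType_ne_one hS (ftType_eq_one_of_frobKer hS (h5 h6))
  · have := (ftType_range (Nsig x)).1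
    rw [ftA_frobKer h1.max (type1_frobenius h1.max (by omega))] at h2
    exact h3 (sharp_MF_subset_ftA1 h1.max h2)

end PF13a

open PF13a in
/-- PF (13.2). -/
theorem typeP_facts (hS : IsCoatom S) (h : OfTypeP S U W₁ W₂ W) :
    (ftType S = 2 ∨ ftType S = 3) ∧ (𝐨(W₁) < 𝐨(W₂) → ftType S = 2) ∧ Frob U W₁ ∧
      IsMulCommutative U ∧ IsElem 𝐨(W₂) 𝐨(W₁) (MF S) ∧
      𝐂(MF S).relIndex U ≤ (𝐨(W₂) ^ 𝐨(W₁) - 1) / (𝐨(W₂) - 1) ∧
      Coherent S (S9 S ⊥) (tau0 S) ∧ NormedTI (ftA0 S) ⊤ S ∧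
      (∀ α ∈ CFon S (ftA0 S), tau0 S α = ind ⊤ S α) ∧ IsMulCommutative (fittingOf S) ∧
      fittingOf S = MF S ⊔ (U ⊓ 𝐂(MF S)) := by
  obtain ⟨h9, he⟩ := h.hyp9_bot hS
  obtain ⟨hq, hp⟩ := h.primes hS
  refine ⟨or_iff_not_imp_left.mpr fun h2 => (type34_structure hS h h2).2.2.1,
    fun h1 => by_contra fun h2 => h1.not_gt (type34_structure hS h h2).2.1,
    h.basic.2.2.2.2.2.2.2.2.2 fun e => ftType_ne_five hS ((h.eq_bot_iff hS).mp e), comm hS h, he,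
    ?_, der_fcC hS h ▸ h9.core_coherence, (ftDade0 hS).normedTI ?_ fun a => cent_le hS h,
    fun α hα => (ftDade0 hS).dade_eq_ind subset_rfl (fun a => cent_le hS h) hα,
    h.facts.1.isMulComm he.comm (isMulComm_of_le inf_le_left (comm hS h)), h.facts.1.sup.symm⟩
  · have h1 : (𝐨(W₂) - 1) ^ (𝐨(W₁) - 1) ≤ (𝐨(W₂) ^ 𝐨(W₁) - 1) / (𝐨(W₂) - 1) := by
      have := hp.two_le
      have := hq.two_le
      rw [Nat.le_div_iff_mul_le (by omega), ← pow_succ, Nat.sub_add_cancel hq.one_le]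
      exact Nat.le_sub_one_of_lt (Nat.pow_lt_pow_left (by omega) hq.ne_zero)
    have h2 : 0 < 𝐨(W₂) - 1 := Nat.sub_pos_of_lt hp.one_lt
    rw [← relIndex_fcC]
    by_cases hg : GaloisP S U ⊥
    · have h3 := (h9.galois_facts hg).2.2.1
      rw [relIndex_bot_left] at h3
      exact Nat.le_of_dvd ((Nat.pow_pos h2).trans_le h1) h3
    · obtain ⟨H₁, a, h3⟩ := h9.nonGalois hg
      have h4 := h3.dvd
      rw [relIndex_bot_left] at h4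
      exact ((Nat.le_of_dvd (Nat.pow_pos (zero_lt_one.trans h3.one_lt)) h3.u_dvd).trans
        (Nat.pow_le_pow_left (Nat.le_of_dvd h2 h4) _)).trans h1
  · exact (sharp_nonempty.mpr (he.ne_bot hp hq.ne_zero)).mono
      (((sharp_MF_subset_ftA1 hS).trans (ftA1_subset_ftA hS)).trans (ftA_subset_ftA0 S))

open PF13a in
/-- PF (13.3)(a),(c). -/
theorem typeP_muR_facts (hS : IsCoatom S) (h : OfTypeP S U W₁ W₂ W) {β : G → ℂ}
    (hβ : β ∈ irrKer W W₁) :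
    delt S W₁ W₂ β = 1 ∧ (β ≠ cf1 W → muR S W₁ W₂ β ∈ seqIndD (fittingOf S) S (MF S) ⊥ ∧
      dg (muR S W₁ W₂ β) = 𝐂(MF S).relIndex U * 𝐨(W₁) ∧
      dg (mu2 S W₁ W₂ β) = 𝐂(MF S).relIndex U) := by
  by_cases h1 : β = cf1 W
  · exact ⟨h1 ▸ h.primeTI.col_zero.2.1, fun e => absurd h1 e⟩
  obtain ⟨h9, -⟩ := h.hyp9_bot hS
  obtain ⟨hq, hp⟩ := h.primes hS
  obtain ⟨h2, -, ξ, h3, h4⟩ := h9.reducible_core_ind.2.2 hp β hβ h1
  rw [fitting_eq h] at h3 h4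
  rw [relIndex_fcC] at h2
  have h5 : dg (mu2 S W₁ W₂ β) = 𝐂(MF S).relIndex U := Nat.eq_of_mul_eq_mul_left hq.pos
    ((h.primeTI.res_mu2 hβ).2.2.2.2.symm.trans h2)
  refine ⟨(PrimeTI.delt_cases S W₁ W₂ β).resolve_right fun e => ?_, fun _ =>
    ⟨(mem_seqIndD_iff_ker (fittingOf_normal S) (MF_normal S).2 (norm_bot.ge.trans' le_top)).mpr
      ⟨mem_seqIndT.mpr ⟨ξ, h3.mem_Irr, h4.symm⟩, bot_le,
        fun e => (h.primeTI.not_le_cfKer hβ h1).2 (h.le2F.trans e)⟩, by rw [h2, mul_comm], h5⟩⟩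
  have h6 := h.primeTI.mu2_dg_mod (PF04.one2 h.primeTI) hβ
  have h7 := Int.natCast_dvd_natCast.mpr h9.normal_facts.2.2.2.2.2.2.2.2.2.2.2.2.2
  rw [PF04.one_mul' hβ, h5, e] at h6
  rw [relIndex_fcC, Nat.cast_sub (Nat.pos_of_ne_zero (CH1.relIndex_ne_zero' _ _))] at h7
  have h8 := Int.le_of_dvd (by omega) (dvd_sub h6 h7)
  have := h.cycTI.basic.2.2.1
  omega

open PF13a in
/-- PF (13.3)(b). -/
theorem typeP_no_ind_fitting (hS : IsCoatom S) (h : OfTypeP S U W₁ W₂ W)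
    (hn : ¬ ∃ l ∈ S9 S ⊥, l ∈ Irr S ∧ l ∈ seqIndT (fittingOf S) S) :
    GaloisP S U ⊥ ∧ U ⊓ 𝐂(MF S) = ⊥ ∧ 𝐨(U) = (𝐨(W₂) ^ 𝐨(W₁) - 1) / (𝐨(W₂) - 1) := by
  rcases (h.hyp9_bot hS).1.reducible_core_cases with ⟨χ, h1, h2, -, ξ, h3, h4⟩ |
    ⟨h1, h2, -, -, h3, -⟩
  · rw [der_fcC hS h] at h1
    rw [fitting_eq h] at h3 h4
    exact absurd ⟨χ, h1, h2, mem_seqIndT.mpr ⟨ξ, h3.mem_Irr, h4.symm⟩⟩ hn
  · rw [relIndex_bot_left] at h3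
    exact ⟨h1, (fcC_bot S U).symm.trans h2, h3⟩

namespace PF13a

theorem S9_cases (h : OfTypeP S U W₁ W₂ W) {φ : G → ℂ} (hφ : φ ∈ S9 S ⊥) :
    φ ∈ Irr S ∨ ∃ β ∈ irrKer W W₁, β ≠ cf1 W ∧ φ = muR S W₁ W₂ β := by
  rcases h.primeTI.seqIndT_cases (seqIndD_subset_T _ _ _ _ hφ) with ⟨β, hβ, e⟩ | h1
  · refine Or.inr ⟨β, hβ, fun h1 => ((mem_seqIndD_iff_ker (der_normal S) (MF_normal S).2
      (norm_bot.ge.trans' le_top)).mp hφ).2.2 ?_, e⟩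
    rw [e, h1, h.primeTI.col_zero.2.2.2.2, cfKer_smul (card_ne_zero_C _)]
    exact h.sdD.le_left.trans (le_cfKer_cf1 _)
  · exact Or.inl h1.1

theorem muR_one (hS : IsCoatom S) (h : OfTypeP S U W₁ W₂ W) {β : G → ℂ}
    (hβ : β ∈ irrKer W W₁) (h1 : β ≠ cf1 W) :
    muR S W₁ W₂ β 1 = (𝐂(MF S).relIndex U * 𝐨(W₁) : ℕ) := by
  rw [(h.primeTI.muR_facts hβ).1.one_eq, ((typeP_muR_facts hS h hβ).2 h1).2.1]

end PF13a

open PF13a in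
/-- PF (13.3)(c). -/
theorem typeP_coherence (hS : IsCoatom S) (h : OfTypeP S U W₁ W₂ W) :
    ∃ τ₁, CohWith S (S9 S ⊥) (tau0 S) τ₁ ∧
      ((∀ β ∈ irrKer W W₁, β ≠ cf1 W → τ₁ (muR S W₁ W₂ β) = etaCol W₁ W₂ β) ∨
        ∀ β ∈ irrKer W W₁, β ≠ cf1 W → τ₁ (muR S W₁ W₂ β) = -etaCol W₁ W₂ (star β)) := by
  by_cases hi : ∃ χ ∈ S9 S ⊥, χ ∈ Irr S
  · obtain ⟨τ₁, hτ⟩ := (typeP_facts hS h).2.2.2.2.2.2.1
    refine ⟨τ₁, hτ, or_iff_not_imp_left.mpr fun h1 β hβ hβ1 => ?_⟩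
    push Not at h1
    obtain ⟨γ, hγ, hγ1, h1⟩ := h1
    have key := fun β (hβ : β ∈ irrKer W W₁) hβ1 => by
      have := h.coherent_muR hS (h.conjSub_S9 hS ⊥) hi hβ (h.muR_mem_S9 hS hβ hβ1) hτ
      rw [(typeP_muR_facts hS h hβ).1, Int.cast_one, one_smul, one_smul] at this
      exact this
    obtain ⟨h2, h3⟩ := (key γ hγ hγ1).resolve_left h1
    refine ((key β hβ hβ1).resolve_left fun h4 => ?_).1
    rcases h3 β hβ (h.muR_mem_S9 hS hβ hβ1) (by rw [muR_one hS h hβ hβ1, muR_one hS h hγ hγ1])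
      with e | e
    · exact h1 (e ▸ h4)
    · have h5 := hτ.iso _ (mem_Zs_of_mem (h.muR_mem_S9 hS hβ hβ1)) _
        (mem_Zs_of_mem (h.muR_mem_S9 hS hγ hγ1))
      rw [h4, h2, ← e, ip_neg_right, (h.cycTI.ip_etaCol (PF04.one2 h.primeTI) hβ hβ).2.1,
        if_pos rfl, ((h.primeTI.muR_facts hβ).2.2.2.2 γ hγ).1,
        if_neg (e ▸ ((h.primeTI.star_facts hγ).2.2.2 hγ1).1), neg_eq_zero] at h5
      exact card_ne_zero_C _ h5
  · obtain ⟨γ, hγ, hγ1⟩ := Finset.exists_mem_ne (s := irrKer W W₁) (by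
      rw [PF04.card1 h.primeTI]; exact (h.primes hS).2.one_lt) (cf1 W)
    obtain ⟨τ₁, hτ, h1⟩ := (h.prDadeF hS).uniform_muR_coherent hγ hγ1 (T := S9 S ⊥) fun φ hφ => by
      obtain ⟨β, hβ, hβ1, e⟩ := (S9_cases h hφ).resolve_left fun e => hi ⟨φ, hφ, e⟩
      exact ⟨β, hβ, hβ1, e, by rw [e, muR_one hS h hβ hβ1, muR_one hS h hγ hγ1]⟩
    refine ⟨τ₁, hτ, Or.inl fun β hβ _ => ?_⟩
    rw [h1 β hβ, (typeP_muR_facts hS h hγ).1, Int.cast_one, one_smul]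

namespace PF13a

theorem exists_split {H P : Subgroup G} (hH : IsMulCommutative H) {ψ φ : G → ℂ}
    (hψ : ψ ∈ VChar H) (hφ : φ ∈ VChar H) {b : ℤ}
    (h1 : ∀ θ ∈ irrKerD H P ⊥, ip H (ψ - φ) θ = b) (h2 : ∀ θ ∈ irrKer H P, ip H φ θ = 0) :
    ∃ α ∈ VChar H, P ≤ cfKer α ∧ ip H φ α = 0 ∧ ∀ x, x ≠ 1 → ψ x = φ x + α x := by
  have h3 : ψ - φ - (b : ℂ) • ∑ θ ∈ Irr H, θ ∈ VChar H := sub_mem (sub_mem hψ hφ)
    (vchar_int_smul (sum_mem fun θ hθ => irr_mem_VChar hθ) b)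
  have h4 : ∀ θ ∈ Irr H, ¬ P ≤ cfKer θ → ip H (ψ - φ - (b : ℂ) • ∑ θ ∈ Irr H, θ) θ = 0 :=
    fun θ hθ hk => by
      rw [ip_sub_left, h1 θ (mem_irrKerD.mpr ⟨hθ, bot_le, hk⟩), ip_smul_left,
        (on_Irr H).ip_sum subset_rfl hθ, if_pos hθ, mul_one, sub_self]
  refine ⟨_, h3, ?_, ?_, fun x hx => ?_⟩
  · rw [eq_sum_irr (vchar_mem_CF h3)]
    refine le_cfKer_sum fun θ hθ y hy z => ?_
    by_cases hk : P ≤ cfKer θ
    · rw [Pi.smul_apply, Pi.smul_apply, hk hy z]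
    · rw [h4 θ hθ hk, zero_smul, Pi.zero_apply, Pi.zero_apply]
  · rw [ip_eq_sum_irr (vchar_mem_CF hφ)]
    refine Finset.sum_eq_zero fun θ hθ => ?_
    by_cases hk : P ≤ cfKer θ
    · rw [h2 θ (mem_irrKer.mpr ⟨hθ, hk⟩), zero_mul]
    · rw [h4 θ hθ hk, map_zero, mul_zero]
  · have h5 := sum_irr_one_mul H x
    rw [if_neg hx, Finset.sum_congr rfl fun θ hθ => by rw [(isLin_of_comm hH hθ).2.1, one_mul]] at h5
    simp [Finset.sum_apply, h5]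

theorem sum_sharp {H : Subgroup G} {χ φ α : G → ℂ} (ho : ip H φ α = 0)
    (h : ∀ x ∈ sharp H, χ x = φ x + α x) : ∑ x ∈ fs (sharp H), ‖χ x‖ ^ 2 =
      𝐨(H) * nsq H φ + 𝐨(H) * nsq H α - ‖φ 1 + α 1‖ ^ 2 := by
  rw [← mul_add, ← nsq_add_of_orth ho, nsq_def, mul_inv_cancel_left₀ (card_ne_zero_R H),
    sum_fs_sharp, sum_fs_congr fun x hx => by rw [h x hx]]
  simp

theorem card_mul_le {H P : Subgroup G} (hP : P ≤ H) {α : G → ℂ} (h : P ≤ cfKer α) :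
    𝐨(P) * ‖α 1‖ ^ 2 ≤ 𝐨(H) * nsq H α := by
  rw [nsq_def, mul_inv_cancel_left₀ (card_ne_zero_R H), ← nsmul_eq_mul, ← sum_fs_const,
    sum_fs_congr (g := fun x => ‖α x‖ ^ 2) fun x hx => by rw [apply_of_mem_cfKer (h hx)]]
  exact Finset.sum_le_sum_of_subset_of_nonneg (fs_subset hP) fun _ _ _ => by positivity

theorem card_mul_nsq {H L : Subgroup G} (hH : H ≤ L) {φ : G → ℂ} (h : ∀ x, x ∉ H → φ x = 0) :
    𝐨(H) * nsq H φ = 𝐨(L) * nsq L φ := by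
  rw [nsq_def, nsq_def, mul_inv_cancel_left₀ (card_ne_zero_R H),
    mul_inv_cancel_left₀ (card_ne_zero_R L)]
  exact sum_fs_subset hH fun x _ hx => by rw [h x hx]; simp

theorem seqIndD_subset_Zs {H K L P : Subgroup G} (hP : P ≤ H) (hH : H ≤ K) (hK : K ≤ L)
    {ζ : G → ℂ} (hζ : ζ ∈ seqIndD H L P ⊥) : ζ ∈ Zs (seqIndD K L P ⊥) := by
  obtain ⟨θ, hθ, rfl⟩ := mem_seqIndD.mp hζ
  obtain ⟨h1, -, h2⟩ := mem_irrKerD.mp hθ
  rw [← ind_ind hK hH, eq_sum_constt (ind_mem_CF K H θ), map_sum]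
  refine sum_mem fun χ hχ => ?_
  have h3 := (mem_constt.mp hχ).1
  obtain ⟨n, hn⟩ := ((irr_isChar h1).ind hH).ip_nat (irr_isChar h3)
  rw [map_smul, hn]
  exact natCast_smul_mem_Zs (mem_Zs_of_mem (mem_seqIndD.mpr ⟨χ, mem_irrKerD.mpr ⟨h3, bot_le,
    fun e => h2 ((le_cfKer_res hP e).trans (((irr_isChar h3).res hH).cfKer_le_constt
      ((mem_constt_ind_iff hH h1 h3).mp hχ)))⟩, rfl⟩)) n

/-- PF (13.5). -/
theorem split (hS : IsCoatom S) (h : OfTypeP S U W₁ W₂ W) {τ₁ : (G → ℂ) →ₗ[ℂ] (G → ℂ)}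
    (hτ : CohWith S (S9 S ⊥) (tau0 S) τ₁) {χ ζ : G → ℂ} (hχ : χ ∈ VChar ⊤)
    (hζ : ζ ∈ seqIndD (fittingOf S) S (MF S) ⊥) {c : ℂ} (hc : c • ζ ∈ VChar (fittingOf S))
    (ho : ∀ φ ∈ S9 S ⊥, ip ⊤ (τ₁ φ) χ = ip S φ (c • ζ)) :
    ∃ α ∈ VChar (fittingOf S), ∃ n : ℤ, α 1 = n ∧ (∀ x ∈ sharp (MF S), χ x = c * ζ x + n) ∧
      𝐨(MF S) * (n : ℝ) ^ 2 ≤ 𝐨(fittingOf S) * nsq (fittingOf S) α ∧
      ∑ x ∈ fs (sharp (fittingOf S)), ‖χ x‖ ^ 2 = 𝐨(S) * nsq S (c • ζ) +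
        𝐨(fittingOf S) * nsq (fittingOf S) α - ‖c * ζ 1 + n‖ ^ 2 := by
  obtain ⟨-, -, -, -, -, -, -, -, hI, hH, -⟩ := typeP_facts hS h
  have hn := fittingOf_normal S
  set H := fittingOf S
  have hP : MF S ≤ H := MF_le_fittingOf S
  have hT := seqIndD_subset_T H S (MF S) ⊥
  have h1 : ∀ ξ ∈ seqIndD H S (MF S) ⊥, ξ 1 = H.relIndex S := fun ξ hξ => by
    obtain ⟨θ, hθ, rfl⟩ := mem_seqIndD.mp hξ
    rw [ind_one hn.1, (isLin_of_comm hH (irrKerD_subset _ _ _ hθ)).2.1, mul_one]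
  have h2 : c • ζ ∈ CF S := Submodule.smul_mem _ c (seqIndT_facts hn (hT hζ)).1.mem_CF
  have h3 : ∀ ξ ∈ seqIndD H S (MF S) ⊥, ip S (res S χ - c • ζ) ξ = ip S (res S χ - c • ζ) ζ :=
    fun ξ hξ => by
      have h4 : ξ - ζ ∈ Zs0 (S9 S ⊥) := sub_mem_Zs0 (seqIndD_subset_Zs hP h.fit_le (der_le S) hξ)
        (seqIndD_subset_Zs hP h.fit_le (der_le S) hζ) (by rw [h1 ξ hξ, h1 ζ hζ])
      have h5 := (Zs0_seqIndT hn hT (sub_mem_Zs0 (mem_Zs_of_mem hξ) (mem_Zs_of_mem hζ)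
        (by rw [h1 ξ hξ, h1 ζ hζ]))).1
      have h6 : ip ⊤ (τ₁ (ξ - ζ)) χ = ip S (ξ - ζ) (c • ζ) := by
        obtain ⟨d, hd⟩ := mem_Zs_iff'.mp h4.1
        rw [hd, map_sum, ip_sum_left, ip_sum_left]
        exact Finset.sum_congr rfl fun φ hφ => by rw [map_smul, ip_smul_left, ip_smul_left, ho φ hφ]
      rw [hτ.agree _ h4, hI _ (CFon_mono S ((sharp_fitting_subset_ftA hS).trans
        (ftA_subset_ftA0 S)) h5), ip_ind_left le_top _ (vchar_mem_CF hχ)] at h6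
      rw [← sub_eq_zero, ← ip_sub_right, ip_eq_zero_comm, ip_sub_right, ip_res_right, h6, sub_self]
  have h4 : ∀ θ, ip H (res H χ - c • ζ) θ = ip S (res S χ - c • ζ) (ind S H θ) := fun θ => by
    rw [ip_ind_right hn.1 (sub_mem (res_mem_CF le_top (vchar_mem_CF hχ)) h2)]
    exact ip_congr (fun x hx => by simp [res_of_mem _ hx, res_of_mem _ (hn.1 hx)]) fun _ _ => rfl
  obtain ⟨θ₀, hθ₀, e⟩ := mem_seqIndD.mp hζ
  obtain ⟨b, hb⟩ := vchar_ip_int (sub_mem (vchar_res le_top hχ) hc)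
    (irr_mem_VChar (irrKerD_subset _ _ _ hθ₀))
  obtain ⟨α, h5, h6, h7, h8⟩ := exists_split (P := MF S) hH (vchar_res le_top hχ) hc (b := b)
    (fun θ hθ => by rw [← hb, h4, h4, e, h3 _ (mem_seqIndD.mpr ⟨θ, hθ, rfl⟩)])
    fun θ hθ => by
      obtain ⟨h9, h10⟩ := mem_irrKer.mp hθ
      rw [← ip_ind_right hn.1 h2, ip_smul_left, seqIndT_orth hn (hT hζ)
        (mem_seqIndT.mpr ⟨θ, h9, rfl⟩) fun e => ((mem_seqIndD_iff_ker hn (MF_normal S).2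
          (norm_bot.ge.trans' le_top)).mp hζ).2.2
          (e ▸ (le_cfKer_ind_irr_iff hn.1 (MF_normal S).2 h9).mpr h10), mul_zero]
  obtain ⟨n, hn'⟩ := vchar_one_int h5
  have h9 : ∀ x ∈ sharp H, χ x = (c • ζ) x + α x := fun x hx => by
    rw [← h8 x hx.2, res_of_mem _ hx.1]
  refine ⟨α, h5, n, hn', fun x hx => ?_, ?_, ?_⟩
  · rw [h9 x ⟨hP hx.1, hx.2⟩, apply_of_mem_cfKer (h6 hx.1), hn']
    rfl
  · have := card_mul_le hP h6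
    rwa [hn', Complex.norm_intCast, sq_abs] at this
  · rw [sum_sharp h7 h9, card_mul_nsq hn.1 fun x => CF_off (vchar_mem_CF hc), hn']
    rfl

theorem two_mul_le (hS : IsCoatom S) (h : OfTypeP S U W₁ W₂ W) :
    2 * 𝐂(MF S).relIndex U + 1 ≤ 𝐨(MF S) := by
  obtain ⟨-, -, -, -, h1, h2, -⟩ := typeP_facts hS h
  have h3 := h.cycTI.basic.2.2.2.1
  have h4 := Nat.card_pos (α := MF S)
  rw [Nat.le_div_iff_mul_le (by omega), ← h1.card] at h2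
  have := Nat.mul_le_mul_left (𝐂(MF S).relIndex U) (show 2 ≤ 𝐨(W₂) - 1 by omega)
  omega

theorem int_bound {u P : ℝ} (h : 2 * u + 1 ≤ P) (hu : 0 ≤ u) (n : ℤ) :
    (u + n) ^ 2 ≤ u ^ 2 + P * n ^ 2 := by
  have h1 : (n : ℝ) ≤ n ^ 2 := by exact_mod_cast Int.le_self_sq n
  nlinarith [sq_nonneg (n : ℝ)]

theorem exists_elts (hS : IsCoatom S) (h : OfTypeP S U W₁ W₂ W) :
    ∃ y ∈ W₁, ∃ x ∈ W₂, y ^ 𝐨(W₁) = 1 ∧ Commute y x ∧ x ≠ 1 ∧ y * x ∈ hatSet W₁ W₂ := by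
  obtain ⟨y, hy, h1⟩ := (bot_or_exists_ne_one _).resolve_left h.ne_bot1
  obtain ⟨x, hx, h2⟩ := (bot_or_exists_ne_one _).resolve_left h.ne_bot2
  exact ⟨y, hy, x, hx, orderOf_dvd_iff_pow_eq_one.mp (orderOf_dvd_card_of_mem hy),
    h.dprod.commute hy hx, h2, h.dprod.mem_hatSet.mpr ⟨y, hy, h1, x, hx, h2, rfl⟩⟩

end PF13a

open PF13a in
/-- PF (13.6). -/
theorem typeP_sum_ind_fitting_lb (hS : IsCoatom S) (h : OfTypeP S U W₁ W₂ W)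
    {τ₁ : (G → ℂ) →ₗ[ℂ] (G → ℂ)} (hτ : CohWith S (S9 S ⊥) (tau0 S) τ₁) {l : G → ℂ}
    (hl : l ∈ S9 S ⊥) (hi : l ∈ Irr S) (hH : l ∈ seqIndT (fittingOf S) S) :
    dg l = 𝐂(MF S).relIndex U * 𝐨(W₁) ∧
      (𝐨(S) : ℝ) - (dg l : ℝ) ^ 2 ≤ ∑ x ∈ fs (sharp (fittingOf S)), ‖τ₁ l x‖ ^ 2 := by
  have hn := fittingOf_normal S
  have hd : dg l = 𝐂(MF S).relIndex U * 𝐨(W₁) := by
    obtain ⟨θ, hθ, rfl⟩ := mem_seqIndT.mp hH
    rw [(irr_isChar hθ).dg_ind hn.1, (isLin_of_comm (typeP_facts hS h).2.2.2.2.2.2.2.2.2.1 hθ).dg,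
      mul_one, ← fitting_eq h, (h.hyp9_bot hS).1.normal_facts.2.2.2.2.2.2.2.2.2.2.2.1,
      relIndex_fcC, mul_comm]
  have h1 := (seqIndT_facts hn hH).2.1
  have hψ := hτ.vchar l (mem_Zs_of_mem hl)
  obtain ⟨α, -, n, -, h2, h3, h4⟩ := split hS h hτ hψ (ζ := l) (c := 1)
    ((mem_seqIndD_iff_ker hn (MF_normal S).2 (norm_bot.ge.trans' le_top)).mpr ⟨hH,
      ((mem_seqIndD_iff_ker (der_normal S) (MF_normal S).2 (norm_bot.ge.trans' le_top)).mp hl).2⟩)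
    (by rw [one_smul, ← res_eq_self fun x => CFon_off h1]; exact vchar_res hn.1 (irr_mem_VChar hi))
    fun φ hφ => by rw [one_smul, hτ.iso _ (mem_Zs_of_mem hφ) _ (mem_Zs_of_mem hl)]
  obtain ⟨y, hy, x, hx, h5, h6, h7, h8⟩ := exists_elts hS h
  have hq := (h.primes hS).1
  have hε := Complex.isPrimitiveRoot_exp _ hq.ne_zero
  obtain ⟨z₁, hz₁, h9⟩ := vchar_ker_mod_prim hq hε hψ (mem_top y) h5 h6
  obtain ⟨z₂, hz₂, h10⟩ := vchar_ker_mod_prim hq hε (irr_mem_VChar hi) (h.sdM.le_right hy) h5 h6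
  rw [h.cycTI.vanish_of_orth (vchar_mem_CF hψ) (fun ω hω =>
    h.coherent_ortho_σ hS (h.conjSub_S9 hS ⊥) hτ hl hi hω) _ h8, h2 x ⟨h.le2F hx, h7⟩] at h9
  rw [CFon_off h1 fun e => h.primeTI.basic.2.2.2.2.2.2.2 _ h8 (h.fit_le e)] at h10
  obtain ⟨b, rfl⟩ := dvd_of_mod_prim hq hε (n := n) (hz₂.sub hz₁) (by
    rw [mul_sub, ← h9, ← h10]; ring)
  refine ⟨hd, ?_⟩
  rw [h4, one_smul, one_mul, nsq_irr hi, mul_one, irr_one_eq hi, ← Int.cast_natCast (R := ℂ),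
    ← Int.cast_add, Complex.norm_intCast, sq_abs, hd]
  have h11 := int_bound (P := 𝐨(MF S)) (u := 𝐂(MF S).relIndex U)
    (by exact_mod_cast two_mul_le hS h) (by positivity) b
  push_cast at h3 ⊢
  nlinarith [mul_le_mul_of_nonneg_left h11 (sq_nonneg (𝐨(W₁) : ℝ))]

open PF13a in
/-- PF (13.7). -/
theorem typeP_sum_eta10_lb (hS : IsCoatom S) (h : OfTypeP S U W₁ W₂ W) {α : G → ℂ}
    (hα : α ∈ irrKer W W₂) (h1 : α ≠ cf1 W) :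
    (𝐨(fittingOf S) : ℝ) - 1 ≤ ∑ x ∈ fs (sharp (fittingOf S)), ‖cycσ ⊤ W₁ W₂ α x‖ ^ 2 := by
  obtain ⟨τ₁, hτ, h2⟩ := typeP_coherence hS h
  have hω := irrKer_subset _ _ hα
  have hψ := (h.cycTI.σ_dirr hω).mem_VChar
  obtain ⟨γ, hγ, hγ1⟩ := Finset.exists_mem_ne (s := irrKer W W₁) (by
    rw [PF04.card1 h.primeTI]; exact (h.primes hS).2.one_lt) (cf1 W)
  have h0 : ∀ β ∈ irrKer W W₁, β ≠ cf1 W → ip ⊤ (etaCol W₁ W₂ β) (cycσ ⊤ W₁ W₂ α) = 0 :=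
    fun β hβ e => by
      have := (h.cycTI.ip_etaCol hα hβ (PF04.one1 h.primeTI)).1
      rwa [if_neg e, PF04.mul_one' hα] at this
  obtain ⟨δ, hδ, n, hn, h3, h4, h5⟩ := split hS h hτ hψ ((typeP_muR_facts hS h hγ).2 hγ1).1 (c := 0)
    (by rw [zero_smul]; exact zero_mem _) fun φ hφ => by
      rw [zero_smul, ip_zero_right]
      rcases S9_cases h hφ with hi | ⟨β, hβ, hβ1, rfl⟩
      · exact h.coherent_ortho_σ hS (h.conjSub_S9 hS ⊥) hτ hφ hi hω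
      · rcases h2 with h2 | h2
        · rw [h2 β hβ hβ1, h0 β hβ hβ1]
        · rw [h2 β hβ hβ1, ip_neg_left, h0 _ (star_mem_irrKer hβ)
            ((h.primeTI.star_facts hβ).2.2.2 hβ1).2.1, neg_zero]
  obtain ⟨y, hy, x, hx, h6, h7, h8, h9⟩ := exists_elts hS h
  have hq := (h.primes hS).1
  have hε := Complex.isPrimitiveRoot_exp _ hq.ne_zero
  obtain ⟨z₁, hz₁, h10⟩ := vchar_ker_mod_prim hq hε hψ (mem_top y) h6 h7
  obtain ⟨z₂, hz₂, h11⟩ := vchar_ker_mod_prim hq hε (irr_mem_VChar hω) (h.dprod.le_left hy) h6 h7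
  rw [h.cycTI.σ_restrict (irr_mem_CF hω) h9, h3 x ⟨h.le2F hx, h8⟩] at h10
  rw [PF04.apply_ker h.primeTI hα hx] at h11
  have h12 : n ≠ 0 := by
    rintro rfl
    have := dvd_of_mod_prim hq hε (n := 1) (hz₁.sub hz₂) (by rw [mul_sub, ← h10, ← h11]; simp)
    exact hq.one_lt.ne' (Nat.dvd_one.mp (Int.natCast_dvd_natCast.mp this))
  rw [h5, zero_smul, nsq_zero, mul_zero, zero_add, zero_mul, zero_add, Complex.norm_intCast, sq_abs]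
  obtain ⟨N, hN⟩ := vchar_nsq_nat hδ
  have h13 := vchar_one_le_nsq hδ fun e => h12 (by rw [e, Pi.zero_apply] at hn; exact_mod_cast hn.symm)
  rw [hN] at h4 h13 ⊢
  rcases (show 1 ≤ N by exact_mod_cast h13).eq_or_lt with e | e
  · obtain ⟨ε, hε, θ, hθ, e'⟩ := (dirr_of_nsq_one hδ (by rw [hN, ← e, Nat.cast_one])).exists_sign
    rw [e', Pi.smul_apply, (isLin_of_comm (typeP_facts hS h).2.2.2.2.2.2.2.2.2.1 hθ).2.1,
      smul_eq_mul, mul_one, Int.cast_inj] at hn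
    rcases hε with rfl | rfl <;> simp [← e, ← hn]
  · have h14 : (2 : ℝ) ≤ N := by exact_mod_cast e
    have h15 : (2 : ℝ) ≤ 𝐨(MF S) := by
      exact_mod_cast (three_le_card (ne_bot_of_le_ne_bot h.ne_bot2 h.le2F)).trans' (by norm_num)
    nlinarith [card_pos_R (fittingOf S), sq_nonneg (n : ℝ)]

open PF13a in
/-- PF (13.8). -/
theorem typeP_sum_eta01_lb (hS : IsCoatom S) (h : OfTypeP S U W₁ W₂ W) {β : G → ℂ}
    (hβ : β ∈ irrKer W W₁) (h1 : β ≠ cf1 W) :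
    (𝐨(⁅S, S⁆) : ℝ) - (𝐂(MF S).relIndex U : ℝ) ^ 2 ≤
      ∑ x ∈ fs (sharp (fittingOf S)), ‖cycσ ⊤ W₁ W₂ β x‖ ^ 2 := by
  obtain ⟨τ₁, hτ, h2⟩ := typeP_coherence hS h
  have hω := irrKer_subset _ _ hβ
  have h0 : ∀ β' ∈ irrKer W W₁, ip ⊤ (etaCol W₁ W₂ β') (cycσ ⊤ W₁ W₂ β) =
      if β' = β then 1 else 0 := fun β' hβ' => by
    have := (h.cycTI.ip_etaCol (PF04.one2 h.primeTI) hβ' hβ).1
    rwa [PF04.one_mul' hβ] at this
  obtain ⟨γ, hγ, hγ1, δ, hδ, h3⟩ : ∃ γ ∈ irrKer W W₁, γ ≠ cf1 W ∧ ∃ δ : ℤ, (δ = 1 ∨ δ = -1) ∧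
      ∀ β' ∈ irrKer W W₁, β' ≠ cf1 W →
        ip ⊤ (τ₁ (muR S W₁ W₂ β')) (cycσ ⊤ W₁ W₂ β) = if β' = γ then (δ : ℂ) else 0 := by
    rcases h2 with h2 | h2
    · exact ⟨β, hβ, h1, 1, Or.inl rfl, fun β' hβ' e => by rw [h2 β' hβ' e, h0 β' hβ', Int.cast_one]⟩
    · refine ⟨star β, star_mem_irrKer hβ, ((h.primeTI.star_facts hβ).2.2.2 h1).2.1, -1, Or.inr rfl,
        fun β' hβ' e => ?_⟩
      rw [h2 β' hβ' e, ip_neg_left, h0 _ (star_mem_irrKer hβ')]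
      simp only [star_eq_iff_star_eq (r := β'), eq_comm (a := β')]
      split_ifs <;> simp
  have hq := card_ne_zero_C W₁
  obtain ⟨h4, -, h5, h6, h7⟩ := h.primeTI.muR_facts hγ
  have h8 := ((typeP_muR_facts hS h hγ).2 hγ1).1
  have h9 := (seqIndT_facts (fittingOf_normal S) (seqIndD_subset_T _ _ _ _ h8)).2.1
  obtain ⟨α, -, n, -, -, h10, h11⟩ := split hS h hτ (h.cycTI.σ_dirr hω).mem_VChar h8
    (c := ((δ / 𝐨(W₁) : ℝ) : ℂ)) (by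
      rw [← res_eq_self fun x => CFon_off h9, (h.primeTI.res_mu2 hγ).2.2.2.1, map_smul, smul_smul,
        res_res h.fit_le]
      push_cast
      rw [div_mul_cancel₀ _ hq]
      exact vchar_int_smul (vchar_res (fittingOf_normal S).1
        (irr_mem_VChar (h.primeTI.mu2_mem_Irr (irrKer_subset _ _ hγ)))) δ) fun φ hφ => by
      rw [ip_smul_right, Complex.conj_ofReal]
      rcases S9_cases h hφ with hi | ⟨β', hβ', hβ1, rfl⟩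
      · rw [h.coherent_ortho_σ hS (h.conjSub_S9 hS ⊥) hτ hφ hi hω, seqIndT_orth (der_normal S)
          (seqIndD_subset_T _ _ _ _ hφ) h6 fun e => (h.primeTI.muR_facts hγ).2.1 (e ▸ hi), mul_zero]
      · rw [h3 β' hβ' hβ1, ((h.primeTI.muR_facts hβ').2.2.2.2 γ hγ).1]
        split_ifs
        · push_cast
          rw [div_mul_cancel₀ _ hq]
        · rw [mul_zero]
  have h12 : ((δ / 𝐨(W₁) : ℝ) : ℂ) * muR S W₁ W₂ γ 1 + n =
      (δ * (𝐂(MF S).relIndex U + δ * n) : ℤ) := by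
    rw [muR_one hS h hγ hγ1]
    push_cast
    field_simp
    rcases hδ with rfl | rfl <;> simp [add_comm]
  have h13 : (δ : ℝ) ^ 2 = 1 := by rcases hδ with rfl | rfl <;> simp
  have h14 := int_bound (P := 𝐨(MF S)) (u := 𝐂(MF S).relIndex U)
    (by exact_mod_cast two_mul_le hS h) (by positivity) (δ * n)
  have h15 : (𝐨(S) : ℝ) * nsq S (((δ / 𝐨(W₁) : ℝ) : ℂ) • muR S W₁ W₂ γ) = 𝐨(⁅S, S⁆) := by
    have := card_ne_zero_R W₁
    rw [nsq_real_smul, h5, h.sdM.card, div_pow, h13]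
    push_cast
    field_simp
  rw [h11, h12, h15, Complex.norm_intCast, sq_abs]
  push_cast at h14 ⊢
  rw [mul_pow, h13, one_mul] at h14 ⊢
  linarith

end Cfsg.Agent.FT
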