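/-
PF (13.4), (13.9), (13.10).
-/
import Cfsg.Agent.FT.PF13a
import Cfsg.Agent.FT.P.PF13b_1
import Cfsg.Agent.FT.P.PF13b_2

set_option autoImplicit false

namespace Cfsg.Agent.FT

open Subgroup Cfsg Cfsg.Agent
open scoped commutatorElement

universe u

variable {G : Type u} [Group G] [Finite G] [MinOdd G]

variable {S T U V W₁ W₂ W : Subgroup G}

namespace PF13b

theorem ti_fitting (hS : IsCoatom S) (h : OfTypeP S U W₁ W₂ W) :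
    NormedTI (sharp (fittingOf S)) ⊤ S := (h.ofTypeIItoIV hS (ftType_ne_five hS)).tiF

theorem disjoint_fitting (hS : IsCoatom S) (h : OfTypeP S U W₁ W₂ W) (hT : IsCoatom T)
    (h' : OfTypeP T V W₂ W₁ W) :
    Disjoint (classSupp (sharp (fittingOf S)) ⊤) (classSupp (sharp (fittingOf T)) ⊤) := by
  rw [Set.disjoint_left]
  rintro _ ⟨a, ha, g, -, rfl⟩ ⟨b, hb, k, -, e⟩
  obtain ⟨-, -, -, -, hQ, -, -, -, -, hab, -⟩ := typeP_facts hT h'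
  have h1 : 𝐂[a] ≤ S := by simpa using (ti_fitting hS h).cent1_le ha
  have h2 : MF T ≤ 𝐂[b] :=
    (MF_le_fittingOf T).trans ((isMulComm_iff_le_cent.1 hab).trans (cent_le_cent1 hb.1))
  have h3 : MF T ^ᵍ k ≤ S ^ᵍ g := by
    refine (conj_mono h2 k).trans ?_
    rw [← cent1_conj, ← e, cent1_conj]
    exact conj_mono h1 g
  have h4 := card_dvd_of_le h3
  rw [card_conj, card_conj, hQ.card, h.sdM.card] at h4
  have h5 := (Nat.Coprime.pow_left _ h.basic.2.2.2.2.2.2.2.2.1.symm).dvd_of_dvd_mul_left h4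
  obtain ⟨hq, hp⟩ := h.primes hS
  have := (Nat.pow_dvd_pow_iff_le_right hq.one_lt).1 (h5.trans (pow_one _).symm.dvd)
  exact hp.one_lt.not_ge this

theorem coh_apply_eq (hS : IsCoatom S) (h : OfTypeP S U W₁ W₂ W)
    {τ₁ : (G → ℂ) →ₗ[ℂ] (G → ℂ)} (hτ : CohWith S (S9 S ⊥) (tau0 S) τ₁) {φ ψ : G → ℂ}
    (hφ : φ ∈ S9 S ⊥) (hφ' : φ ∈ seqIndT (fittingOf S) S) (hψ : ψ ∈ S9 S ⊥)
    (hψ' : ψ ∈ seqIndT (fittingOf S) S) (h1 : φ 1 = ψ 1) {x : G}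
    (hx : x ∉ classSupp (sharp (fittingOf S)) ⊤) : τ₁ φ x = τ₁ ψ x := by
  have h2 := hτ.agree _ (sub_mem_Zs0 (mem_Zs_of_mem hφ) (mem_Zs_of_mem hψ) h1)
  have h3 : φ - ψ ∈ CFon S (sharp (fittingOf S)) :=
    mem_CFon_sharp (sub_mem (seqIndT_facts (fittingOf_normal S) hφ').2.1
      (seqIndT_facts (fittingOf_normal S) hψ').2.1) (by simp [h1])
  rw [(typeP_facts hS h).2.2.2.2.2.2.2.2.1 _
    (CFon_mono S ((sharp_fitting_subset_ftA hS).trans (ftA_subset_ftA0 S)) h3), map_sub] at h2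
  have h4 := (ind_mem_CFon ⊤ (H := S) (φ := φ - ψ) fun y _ hy => CFon_off h3 hy).2 x hx
  rw [← h2] at h4
  exact sub_eq_zero.1 h4

/-- The facts about a character `λ` as in PF (13.4). -/
theorem lam_facts (hS : IsCoatom S) (h : OfTypeP S U W₁ W₂ W) {l : G → ℂ}
    (hl : l ∈ S9 S ⊥) (hi : l ∈ Irr S) (hH : l ∈ seqIndT (fittingOf S) S) :
    ∃ τ₁, CohWith S (S9 S ⊥) (tau0 S) τ₁ ∧
      Dirr ⊤ (τ₁ l) ∧ Dirr ⊤ (τ₁ (star l)) ∧ ip ⊤ (τ₁ l) (τ₁ (star l)) = 0 ∧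
      (∀ ω ∈ Irr W, ip ⊤ (τ₁ l) (cycσ ⊤ W₁ W₂ ω) = 0) ∧
      (∀ x, x ∉ classSupp (sharp (fittingOf S)) ⊤ → τ₁ l x = τ₁ (star l) x) ∧
      ∃ ε : ℂ, ε ≠ 0 ∧ ∃ β ∈ irrKer W W₁,
        ∀ x, x ∉ classSupp (sharp (fittingOf S)) ⊤ → τ₁ l x = ε * etaCol W₁ W₂ β x := by
  obtain ⟨τ₁, hτ, hμ⟩ := typeP_coherence hS h
  have hl' := star_mem_seqIndD hl
  obtain ⟨β, hβ, h1⟩ := exists_ne_cf1 h.cycTI
  have key : ∀ x, x ∉ classSupp (sharp (fittingOf S)) ⊤ → τ₁ l x = τ₁ (muR S W₁ W₂ β) x := by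
    intro x hx
    obtain ⟨h2, h3, -⟩ := (typeP_muR_facts hS h hβ).2 h1
    refine coh_apply_eq hS h hτ hl hH (h.muR_mem_S9 hS hβ h1) (seqIndD_subset_T _ _ _ _ h2) ?_ hx
    rw [(irr_isChar hi).one_eq_iff (h.primeTI.muR_facts hβ).1, h3,
      (typeP_sum_ind_fitting_lb hS h hτ hl hi hH).1]
  refine ⟨τ₁, hτ, hτ.dirr hl hi, hτ.dirr hl' (star_mem_Irr hi), ?_, fun ω hω =>
    h.coherent_ortho_σ hS (h.conjSub_S9 hS ⊥) hτ hl hi hω, fun x hx => ?_, ?_⟩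
  · rw [hτ.iso _ (mem_Zs_of_mem hl) _ (mem_Zs_of_mem hl')]
    exact (seqIndD_odd (der_normal S) h.sdD.le_left (odd_card S) hl).1
  · exact coh_apply_eq hS h hτ hl hH hl' (star_mem_seqIndT hH) (irr_isChar hi).star_one.symm hx
  · rcases hμ with hμ | hμ
    · exact ⟨1, one_ne_zero, β, hβ, fun x hx => by rw [key x hx, hμ β hβ h1, one_mul]⟩
    · exact ⟨-1, by simp, _, star_mem_irrKer hβ, fun x hx => by rw [key x hx, hμ β hβ h1]; simp⟩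

/-- PF (13.4). -/
theorem not_lam_both (hS : IsCoatom S) (h : OfTypeP S U W₁ W₂ W) (hT : IsCoatom T)
    (h' : OfTypeP T V W₂ W₁ W)
    (hl : ∃ l ∈ S9 S ⊥, l ∈ Irr S ∧ l ∈ seqIndT (fittingOf S) S) :
    ¬ ∃ l ∈ S9 T ⊥, l ∈ Irr T ∧ l ∈ seqIndT (fittingOf T) T := by
  rintro ⟨θ, hθ, hθi, hθH⟩
  obtain ⟨l, hl, hi, hH⟩ := hl
  obtain ⟨τ₁, -, a1, a2, a3, a4, a5, ε, hε, β, hβ, a6⟩ := lam_facts hS h hl hi hH
  obtain ⟨τ₂, -, b1, b2, b3, b4, b5, δ, hδ, α, hα, b6⟩ := lam_facts hT h' hθ hθi hθH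
  have hd := Set.disjoint_left.1 (disjoint_fitting hS h hT h')
  have h1 : ip ⊤ (τ₁ l) (τ₂ θ) = 0 := by
    refine (vchar_pairs_orthonormal a1 a2 b1 b2 a3 b3 (u := 1) (v := 1) one_ne_zero one_ne_zero
      (ip_eq_zero_of_disjoint fun x _ => ?_)
      (a5 1 (one_notMem_classSupp fun e => e.2 rfl)) ?_).1
    · by_cases hx : x ∈ classSupp (sharp (fittingOf S)) ⊤
      · right; simp [b5 x (hd hx)]
      · left; simp [a5 x hx]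
    · rw [b5 1 (one_notMem_classSupp fun e => e.2 rfl)]
  have h2 : ip ⊤ (τ₁ l - ε • etaCol W₁ W₂ β) (τ₂ θ - δ • etaCol W₂ W₁ α) = 0 :=
    ip_eq_zero_of_disjoint fun x _ => by
      by_cases hx : x ∈ classSupp (sharp (fittingOf S)) ⊤
      · right; simp [b6 x (hd hx)]
      · left; simp [a6 x hx]
  rw [ip_sub_left, ip_sub_right, ip_sub_right, h1, ip_smul_left, ip_smul_left, ip_smul_right,
    ip_smul_right, ip_etaCol_etaCol h.cycTI hα hβ,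
    ip_etaCol_eq_zero h'.cycTI hα fun ω hω => by rw [cycσ_comm]; exact a4 ω hω,
    ip_eq_zero_symm (ip_etaCol_eq_zero h.cycTI hβ fun ω hω => by
      rw [cycσ_comm]; exact b4 ω hω)] at h2
  simp [hε, hδ] at h2

theorem card_facts (hS : IsCoatom S) (h : OfTypeP S U W₁ W₂ W) :
    𝐨(U) = 𝐨(U ⊓ 𝐂(MF S)) * 𝐂(MF S).relIndex U ∧ 𝐨(⁅S, S⁆) = 𝐨(W₂) ^ 𝐨(W₁) * 𝐨(U) ∧
      𝐨(S) = 𝐨(W₂) ^ 𝐨(W₁) * 𝐨(U) * 𝐨(W₁) ∧
      𝐨(fittingOf S) = 𝐨(W₂) ^ 𝐨(W₁) * 𝐨(U ⊓ 𝐂(MF S)) := by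
  have hP := (typeP_facts hS h).2.2.2.2.1.card
  refine ⟨by rw [inf_comm, H1.card_inf_mul_relIndex], by rw [h.sdD.card, hP],
    by rw [h.sdM.card, h.sdD.card, hP], by rw [h.facts.1.card, hP]⟩

/-- PF (13.10). -/
theorem ineq_of_lam (hS : IsCoatom S) (h : OfTypeP S U W₁ W₂ W)
    (hl : ∃ l ∈ S9 S ⊥, l ∈ Irr S ∧ l ∈ seqIndT (fittingOf S) S) :
    Ineq 𝐨(W₂) 𝐨(W₁) (𝐂(MF S).relIndex U) 𝐨(U ⊓ 𝐂(MF S)) := by
  obtain ⟨T, hp⟩ := h.exists_pair hS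
  obtain ⟨V, h'⟩ := hp.symm.exists_ofTypeP
  have hT := hp.maxT
  obtain ⟨-, hD, hv⟩ := typeP_no_ind_fitting hT h' (not_lam_both hS h hT h' hl)
  obtain ⟨l, hl, hi, hH⟩ := hl
  obtain ⟨τ₁, hτ₁, a1, -, -, -, -, ε, hε, β, hβ, a5⟩ := lam_facts hS h hl hi hH
  obtain ⟨α, hα, hα1⟩ := exists_ne_cf1 h'.cycTI
  obtain ⟨hq, hp⟩ := h.primes hS
  have hη := h.cycTI.σ_dirr (irrKer_subset _ _ hα)
  have hd := disjoint_fitting hS h hT h'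
  have e1 := nsq_split (ti_fitting hS h) (ti_fitting hT h') hd a1.mem_CF
  have e2 := nsq_split (ti_fitting hS h) (ti_fitting hT h') hd hη.mem_CF
  have e3 := nsq_split (ti_fitting hS h) (ti_fitting hT h') hd (cf1_mem_CF ⊤)
  have e4 := ncard_le_two
    (A := (classSupp (sharp (fittingOf S)) ⊤ ∪ classSupp (sharp (fittingOf T)) ⊤)ᶜ)
    (fun x hx k hk hk' => hx (hk'.imp (mem_classSupp_of_pow hk) (mem_classSupp_of_pow hk)))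
    a1.mem_VChar hη.mem_VChar fun x hx => by
      rw [a5 x fun e => hx (Or.inl e)]
      exact (etaCol_ne_zero_or h.cycTI hq hα hα1 hβ x).imp_left (mul_ne_zero hε)
  obtain ⟨b1, b2⟩ := typeP_sum_ind_fitting_lb hS h hτ₁ hl hi hH
  have b3 := typeP_sum_eta10_lb hS h hα hα1
  have b4 := typeP_sum_eta01_lb hT h' hα hα1
  rw [cycσ_comm] at b4
  rw [a1.nsq] at e1
  rw [hη.nsq] at e2
  simp only [nsq_cf1, cf1_top_apply, norm_one, one_pow, Finset.sum_const, card_fs, ncard_sharp,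
    nsmul_eq_mul, mul_one, Nat.cast_pred Nat.card_pos] at e3
  have b5 : 0 ≤ ∑ x ∈ fs (sharp (fittingOf T)), ‖τ₁ l x‖ ^ 2 := by positivity
  have hG : (0 : ℝ) < (Nat.card G : ℝ)⁻¹ := inv_pos.2 (by exact_mod_cast Nat.card_pos)
  have hS' : (0 : ℝ) < (𝐨(S) : ℝ)⁻¹ := inv_pos.2 (card_pos_R S)
  have hT' : (0 : ℝ) < (𝐨(T) : ℝ)⁻¹ := inv_pos.2 (card_pos_R T)
  have key : (𝐨(T) : ℝ)⁻¹ * (𝐨(⁅T, T⁆) - (𝐂(MF T).relIndex V : ℝ) ^ 2 - (𝐨(fittingOf T) - 1)) ≤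
      (𝐨(S) : ℝ)⁻¹ * (dg l : ℝ) ^ 2 := by
    have c1 := mul_le_mul_of_nonneg_left e4 hG.le
    have c2 := mul_le_mul_of_nonneg_left b2 hS'.le
    have c3 := mul_le_mul_of_nonneg_left b3 hS'.le
    have c4 := mul_le_mul_of_nonneg_left b4 hT'.le
    have c5 := mul_nonneg hT'.le b5
    have c6 := inv_mul_cancel₀ (card_ne_zero_R S)
    linarith
  obtain ⟨s1, -, s3, -⟩ := card_facts hS h
  obtain ⟨t1, t2, t3, t4⟩ := card_facts hT h'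
  rw [hD, card_bot, one_mul] at t1
  rw [hD, card_bot, mul_one] at t4
  rw [← t1, b1, t2, t3, t4, s3, s1] at key
  have hv' := geom_mul_real hq.two_le 𝐨(W₂)
  unfold Ineq
  rw [← hv] at hv' ⊢
  have hu : (0 : ℝ) < 𝐂(MF S).relIndex U := by
    exact_mod_cast Nat.pos_of_ne_zero (index_ne_zero_of_finite (H := 𝐂(MF S).subgroupOf U))
  have hc := card_pos_R (U ⊓ 𝐂(MF S))
  have hv0 := card_pos_R V
  have hq0 := card_pos_R W₁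
  have hp0 := card_pos_R W₂
  have e : (𝐨(W₂) : ℝ) ^ 𝐨(W₁) = 𝐨(W₂) * (𝐨(W₂) : ℝ) ^ (𝐨(W₁) - 1) := by
    rw [← pow_succ', Nat.sub_add_cancel hq.one_le]
  push_cast at key
  rw [e] at key
  have hQ : (0 : ℝ) < (𝐨(W₁) : ℝ) ^ 𝐨(W₂) := by positivity
  have hP : (0 : ℝ) < (𝐨(W₂) : ℝ) ^ (𝐨(W₁) - 1) := by positivity
  generalize (𝐨(W₁) : ℝ) ^ 𝐨(W₂) = Q at key hv' hQ ⊢
  generalize (𝐨(W₂) : ℝ) ^ (𝐨(W₁) - 1) = P at key hP ⊢
  rw [← hv', inv_mul_eq_div, inv_mul_eq_div, div_le_div_iff₀ (by positivity) (by positivity)] at key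
  refine le_of_mul_le_mul_right ?_
    (show (0 : ℝ) < 𝐨(V) * 𝐨(W₂) * 𝐂(MF S).relIndex U * 𝐨(W₁) by positivity)
  linarith

end PF13b

end Cfsg.Agent.FT
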