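/-
PF (13.12), (13.13), (13.15), (13.16).
-/
import Cfsg.Agent.FT.P.PF13b_3

set_option autoImplicit false

namespace Cfsg.Agent.FT

open Subgroup Cfsg Cfsg.Agent
open scoped commutatorElement

universe u

variable {G : Type u} [Group G] [Finite G] [MinOdd G]

variable {S U W₁ W₂ W : Subgroup G}

open PF13b

theorem PF13b.pq (hS : IsCoatom S) (h : OfTypeP S U W₁ W₂ W) :
    𝐨(W₂).Prime ∧ 𝐨(W₁).Prime ∧ 𝐨(W₂) ≠ 2 ∧ 𝐨(W₁) ≠ 2 ∧ 𝐨(W₂) ≠ 𝐨(W₁) :=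
  ⟨(h.primes hS).2, (h.primes hS).1, ne_two_of_dvd_card dvd_rfl, ne_two_of_dvd_card dvd_rfl,
    h.cycTI.basic.2.2.2.2.2.2.1.symm⟩

theorem PF13b.relIndex_fcC (S U : Subgroup G) :
    (fcC S U ⊥).relIndex U = 𝐂(MF S).relIndex U := by
  rw [fcC_bot, inf_comm, inf_relIndex_right]

theorem PF13b.cent_eq_bot (hS : IsCoatom S) (h : OfTypeP S U W₁ W₂ W) : U ⊓ 𝐂(MF S) = ⊥ := by
  by_contra hC
  obtain ⟨hp, hq, hp2, hq2, hpq⟩ := pq hS h
  have hi := ineq_of_lam hS h (by_contra fun hn => hC (typeP_no_ind_fitting hS h hn).2.1)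
  obtain ⟨h9, hP⟩ := h.hyp9_bot hS
  have hW : W₁ ≤ 𝐍(U ⊓ 𝐂(MF S)) := H1.le_normalizer_inf h.normU
    ((h.sdM.le_right.trans (MF_normal S).2).trans (H1.normalizer_le_normalizer_centralizer _))
  have hc := BG16.coprime_MF_U h
  rw [hP.card] at hc
  obtain ⟨e1, e2, e3, e4⟩ := hi.reg hp hq hp2 hq2 hpq (odd_card _) (card_eq_one.not.2 hC)
    ((h.basic.2.2.2.2.1.mono inf_le_left le_rfl).card_dvd hW)
    (fun hd => hp.one_lt.ne' (Nat.eq_one_of_dvd_coprimes hc (dvd_pow_self _ hq.ne_zero)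
      (hd.trans (card_dvd_of_le inf_le_left)))) (typeP_facts hS h).2.2.2.2.2.1 (by
      rw [← relIndex_fcC]
      by_cases hg : GaloisP S U ⊥
      · right
        simpa only [relIndex_bot_left] using (h9.galois_facts hg).2.2.1
      · left
        obtain ⟨H₁, a, ha⟩ := h9.nonGalois hg
        have h1 := ha.dvd
        rw [relIndex_bot_left] at h1
        have := ha.one_lt
        have := hp.one_lt
        exact (Nat.le_of_dvd (by positivity) ha.u_dvd).trans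
          (Nat.pow_le_pow_left (Nat.le_of_dvd (by omega) h1) _))
  obtain ⟨s1, -, s3, s4⟩ := card_facts hS h
  have h1 := H1.card_mul_relIndex (fittingOf_normal S).1
  rw [s3, s4, s1, e1, e2, e3, e4] at h1
  have h2 := le_MF (fittingOf_normal S) (H2.isNilpotent_fittingOf S) ⟨(fittingOf_normal S).1, by
    rw [s4, e1, e2, e4, show (fittingOf S).relIndex S = 93 by omega]; norm_num⟩
  exact hC (le_bot_iff.1 (h.sdD.disj ▸ le_inf (h.facts.1.le_right.trans h2) inf_le_left))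

/-- PF (13.12). -/
theorem typeP_reg_Fcore (hS : IsCoatom S) (h : OfTypeP S U W₁ W₂ W) :
    U ⊓ 𝐂(MF S) = ⊥ ∧ fcC S U ⊥ = ⊥ ∧ fittingOf S = MF S ∧ 𝐂(MF S).relIndex U = 𝐨(U) := by
  have hC := cent_eq_bot hS h
  refine ⟨hC, by rw [fcC_bot, hC], by rw [← h.facts.1.sup, hC, sup_bot_eq], ?_⟩
  rw [← relIndex_fcC, fcC_bot, hC, relIndex_bot_left]

theorem PF13b.ineq_one (hS : IsCoatom S) (h : OfTypeP S U W₁ W₂ W)
    (hl : ∃ l ∈ S9 S ⊥, l ∈ Irr S ∧ l ∈ seqIndT (fittingOf S) S) : Ineq 𝐨(W₂) 𝐨(W₁) 𝐨(U) 1 := by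
  have := ineq_of_lam hS h hl
  rwa [(typeP_reg_Fcore hS h).2.2.2, cent_eq_bot hS h, card_bot] at this

/-- PF (13.13). -/
theorem typeP_nonGalois_facts (hS : IsCoatom S) (h : OfTypeP S U W₁ W₂ W) (hn : ¬ GaloisP S U ⊥) :
    𝐨(W₁) = 3 ∧ 𝐨(U) = ((𝐨(W₂) - 1) / 2) ^ 2 := by
  obtain ⟨hp, hq, hp2, hq2, hpq⟩ := pq hS h
  obtain ⟨H₁, a, ha⟩ := (h.hyp9_bot hS).1.nonGalois hn
  have h1 := ha.dvd
  have h2 := ha.u_dvd
  rw [relIndex_bot_left] at h1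
  rw [(typeP_reg_Fcore hS h).2.1, relIndex_bot_left] at h2
  exact (ineq_one hS h (by_contra fun e => hn (typeP_no_ind_fitting hS h e).1)).nonGalois hp hq hp2
    hq2 hpq h1 ((odd_card U).of_dvd_nat (ha.a_eq ▸ relIndex_dvd_card _ _)) h2

/-- PF (13.15). -/
theorem typeP_galois_card (hS : IsCoatom S) (h : OfTypeP S U W₁ W₂ W) (hg : GaloisP S U ⊥) :
    𝐨(U) = if 𝐨(W₂) ≡ 1 [MOD 𝐨(W₁)] then (𝐨(W₂) ^ 𝐨(W₁) - 1) / (𝐨(W₂) - 1) / 𝐨(W₁)
      else (𝐨(W₂) ^ 𝐨(W₁) - 1) / (𝐨(W₂) - 1) := by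
  obtain ⟨hp, hq, hp2, hq2, hpq⟩ := pq hS h
  have hc := h.basic.2.2.2.2.1.coprime h.normU
  by_cases hl : ∃ l ∈ S9 S ⊥, l ∈ Irr S ∧ l ∈ seqIndT (fittingOf S) S
  · refine (ineq_one hS h hl).galois hp hq hp2 hq2 hpq hc ?_
    have := ((h.hyp9_bot hS).1.galois_facts hg).2.2.1
    rwa [(typeP_reg_Fcore hS h).2.1, relIndex_bot_left, relIndex_bot_left] at this
  · have h1 := (typeP_no_ind_fitting hS h hl).2.2
    rw [if_neg fun e => hq.one_lt.ne' (Nat.eq_one_of_dvd_coprimes hc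
      (h1 ▸ (primes_mod_cases hp hq hp2 hq2).2.1 e) dvd_rfl), h1]

/-- PF (13.16). -/
theorem typeP_norm_cent_compl (hS : IsCoatom S) (h : OfTypeP S U W₁ W₂ W) :
    𝐍(W₂) = MF S ⊔ W₁ ∧ 𝐂(W₂) = MF S ⊔ W₁ := by
  have hP := (h.hyp9_bot hS).2
  have h1 : W₁ ≤ 𝐂(W₂) := h.dprod.symm.cent
  have h2 : MF S ≤ 𝐂(W₂) := (isMulComm_iff_le_cent.1 hP.elemAb.1).trans (cent_anti h.le2F)
  have h3 : 𝐍(W₂) ≤ S := by
    simpa using (ti_fitting hS h).norm_le h.ne_bot2 fun x hx =>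
      ⟨(h.le2F.trans (MF_le_fittingOf S)) hx.1, hx.2⟩
  obtain ⟨b1, b2, -, b4, b5, -⟩ := h.basic
  have h4 : U ⊓ 𝐍(W₂) = ⊥ := by
    by_contra hK
    have hF : Frob (U ⊓ 𝐍(W₂)) W₁ := ⟨hK, h.ne_bot1,
      H1.le_normalizer_inf h.normU ((h1.trans (cent_le_norm _)).trans le_normalizer),
      b5.mono inf_le_left le_rfl⟩
    have h5 : U ⊓ 𝐍(W₂) ≤ 𝐂(W₂) := by
      rw [← hF.comm_eq]
      exact (commutator_mono inf_le_right h1).trans
        (comm_le_right_iff.2 (H1.normalizer_le_normalizer_centralizer _))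
    have hle : U ⊓ 𝐍(W₂) ⊔ W₁ ≤ U ⊔ W₁ := sup_le_sup_right inf_le_left _
    have h6 := hF.wielandt_fix ((le_sup_left.trans hle).trans b2.norm)
      (le_sup_right.trans b2.norm)
      (H1.coprime_of_le (b2.relIndex_left ▸ (isHallIn_MF S).2) le_rfl hle)
      (isSolvable_of_isNilpotent (isNilpotent_MF S))
    rw [cent_sup, inf_comm 𝐂(_), ← inf_assoc, b4, inf_eq_left.2 (cent_comm.1 h5),
      Nat.mul_right_inj (pow_pos Nat.card_pos _).ne'] at h6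
    have h7 := H1.eq_of_le_of_card_le (inf_le_left : MF S ⊓ 𝐂(U ⊓ 𝐍(W₂)) ≤ _) h6.le
    exact hK (le_bot_iff.1 (cent_eq_bot hS h ▸ le_inf inf_le_left
      (cent_comm.1 (h7.ge.trans inf_le_right))))
  have h5 : 𝐍(W₂) = MF S ⊔ W₁ := by
    rw [← inf_eq_right.2 h3]
    conv_lhs => rw [← b2.sup]
    rw [sup_inf_of_le_left b2.norm (h2.trans (cent_le_norm _)),
      sup_inf_of_le_right h.normU (h1.trans (cent_le_norm _)), h4, bot_sup_eq]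
  exact ⟨h5, le_antisymm ((cent_le_norm _).trans h5.le) (sup_le h2 h1)⟩

end Cfsg.Agent.FT
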