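/-
PF (13.17).
-/
import Cfsg.Agent.FT.PF13b

set_option autoImplicit false

namespace Cfsg.Agent.FT

open Subgroup Cfsg Cfsg.Agent
open scoped commutatorElement

universe u

variable {G : Type u} [Group G] [Finite G] [MinOdd G]

variable {S U W₁ W₂ W : Subgroup G}

omit [Finite G] [MinOdd G] in
theorem PF13c.relIndex_dvd {N E M : Subgroup G} (h : N ⊲ M) (hE : E ≤ M) :
    N.relIndex E ∣ N.relIndex M := by
  rw [← relIndex_sup_of_norm (hE.trans h.2)]
  exact ⟨_, (relIndex_mul_relIndex N (N ⊔ E) M le_sup_left (sup_le h.1 hE)).symm⟩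

theorem PF13c.isHallIn_U (hS : IsCoatom S) (h : OfTypeP S U W₁ W₂ W) : IsHallIn U S := by
  have hF := (typeP_facts hS h).2.2.1
  refine ⟨h.sdD.le_right.trans (der_le S), ?_⟩
  rw [← relIndex_mul_relIndex U ⁅S, S⁆ S h.sdD.le_right (der_le S), h.sdD.relIndex_right,
    h.sdM.relIndex_left]
  refine Nat.Coprime.mul_right ?_ hF.coprime
  have := (isHallIn_MF S).2
  rw [h.basic.2.1.relIndex_left, h.basic.1.card] at this
  exact (Nat.Coprime.coprime_mul_right_right this).symm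

/-- The order of `L_F` is prime to `p` when `L` has type I. -/
theorem PF13c.coprime_MF (hS : IsCoatom S) (h : OfTypeP S U W₁ W₂ W) {L : Subgroup G}
    (hL : IsCoatom L) (h1 : ftType L = 1) : 𝐨(MF L).Coprime 𝐨(W₂) := by
  have := ftCore_coprime hL hS fun e => h.ftType_ne_one hS (e.ftType_eq.trans h1)
  exact (this.coprime_dvd_left (card_dvd_of_le (BG15.MF_le_Ms hL))).coprime_dvd_right
    (card_dvd_of_le (h.le2F.trans (BG15.MF_le_Ms hS)))

/-- PF (13.17). -/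
theorem typeII_support_facts {T L : Subgroup G} (hp : TypePPair S T W₁ W₂ W)
    (h : OfTypeP S U W₁ W₂ W) (h2 : ftType S = 2) (hL : IsCoatom L) (hUL : 𝐍(U) ≤ L) :
    FrobKer L (MF L) ∧ U ≤ MF L ∧
      (SdProd (MF L) W₁ L ∨ ∃ y ∈ MF T, SdProd (MF L) (W₁ ⊔ W₂ ^ᵍ y) L ∧
        𝐨(W₁ ⊔ W₂ ^ᵍ y) = 𝐨(W₂) * 𝐨(W₁)) := by
  have hS := hp.maxS
  have hT := hp.maxT
  obtain ⟨hq, hp'⟩ := hp.primes
  obtain ⟨-, -, hF, cU, -⟩ := typeP_facts hS h
  obtain ⟨V, hV⟩ := hp.symm.exists_ofTypeP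
  have eQ := (typeP_facts hT hV).2.2.2.2.1
  have sL := mmax_isSolvable hL
  have UL : U ≤ L := (le_norm_self U).trans hUL
  have W1L : W₁ ≤ L := h.normU.trans hUL
  have notc : ¬ U ≤ 𝐂(W₁) := fun e => hF.ne_botK (by rw [← hF.cent_eq_bot, inf_eq_left.2 e])
  have nS : ¬ Conj S L := by
    rintro ⟨g, rfl⟩
    have k1 := hall_conj (PF13c.isHallIn_U hS h).hall g
    obtain ⟨x, hx, e⟩ := exists_conj_eq_hall sL k1 (hall_of_card_eq k1 UL (card_conj U g).symm)
    refine ((h.ofTypeII_iff hS).2 h2).not_norm ?_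
    rw [← conj_le_conj_iff (g := g), ← norm_conj, ← e, norm_conj]
    exact conj_le_of_mem hUL hx
  have nT : ¬ Conj T L := by
    rintro ⟨g, rfl⟩
    have k1 : IsElem 𝐨(W₁) 𝐨(W₂) (MF (T ^ᵍ g)) := by rw [MF_conj]; exact eQ.conj g
    have k2 : W₁ ≤ MF (T ^ᵍ g) := le_of_hall_normal (hall_MF _) (MF_normal _).2 W1L
      (isPi_of_card_prime hq rfl (mem_piOf.2 ⟨hq, k1.prime_dvd hp'.ne_zero⟩))
    refine notc (comm_eq_bot_iff.1 (eq_bot_iff.2 ?_))
    have k3 : U ⊓ MF (T ^ᵍ g) = ⊥ := (disjoint_of_coprime_natCard (by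
      rw [k1.card]; exact hF.coprime.pow_right _)).eq_bot
    rw [← k3]
    exact le_inf (comm_le_left_iff.2 h.normU) ((commutator_mono le_rfl k2).trans
      (comm_le_right_iff.2 (UL.trans (MF_normal _).2)))
  have t1 : ftType L = 1 := by
    by_contra e
    exact (hp.conj L hL e).elim nS nT
  have frob := type1_frobenius hL t1
  obtain ⟨f1, -, f3, f4⟩ := frobKer_iff.1 frob
  have cq := PF13c.coprime_MF hT hV hL t1
  have UH : U ≤ MF L := by
    by_cases e : U ⊓ MF L = ⊥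
    · exfalso
      have k1 : 𝐨(MF L).Coprime 𝐨(U) := by
        refine (isHallIn_MF L).2.coprime_dvd_right ?_
        have := PF13c.relIndex_dvd (MF_normal L) UL
        rwa [← inf_relIndex_right, inf_comm, e, relIndex_bot_left] at this
      have k2 : MF L ⊓ (U ⊔ W₁) = ⊥ := (disjoint_of_coprime_natCard (by
        rw [h.basic.1.card]; exact Nat.Coprime.mul_right k1 cq)).eq_bot
      have k3 := odd_regular_prime_normal (odd_card _) f1 ((sup_le UL W1L).trans f3)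
        (frob.semiReg (sup_le UL W1L) k2) le_sup_right hq
      exact notc (cent_comm.1 (le_cent_of_norm_of_disj h.normU (le_sup_left.trans k3)
        h.basic.1.disj))
    · obtain ⟨⟨x, hx⟩, h1⟩ := (ne_bot_iff_exists_ne_one).1 e
      exact (le_inf UL ((isMulComm_iff_le_cent.1 cU).trans (cent_le_cent1 hx.1))).trans
        (f4 x hx.2 fun e => h1 (Subtype.ext e))
  refine ⟨frob, UH, ?_⟩
  obtain ⟨E, hE, WE⟩ := exists_hall_ge sL W1L (coprime_iff_isPi_compl.1 cq.symm)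
  have sd := sdProd_of_hall (hall_MF L) hE f3
  have reg := frob.semiReg sd.le_right sd.disj
  have nE := odd_regular_prime_normal (odd_card _) f1 sd.norm reg WE hq
  rw [(typeP_norm_cent_compl hT hV).1] at nE
  have n2 : W₂ ≤ 𝐍(MF T) := hV.hall1.1.trans (MF_normal T).2
  have sdQ : SdProd (MF T) W₂ (MF T ⊔ W₂) := sdProd_of_coprime n2 (by
    rw [eQ.card]; exact (hp.dprod.coprime_of_isCyclic hp.cyc).pow_left _)
  have EQ : MF T ⊓ E = W₁ := by
    have k1 := odd_regular_pgroup_cyclic hq (ne_two_of_dvd_card (dvd_refl 𝐨(W₁)))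
      (eQ.pgrp.to_le (inf_le_left : MF T ⊓ E ≤ _)) f1 (inf_le_right.trans sd.norm)
      (reg.mono le_rfl inf_le_right)
    rw [eq_omegaOne_of_isCyclic hq k1 (le_inf hV.le2F WE) rfl,
      omegaOne_eq_self fun a ha => eQ.elemAb.2 a (mem_inf.1 ha).1]
  have cE : 𝐨(E) = 𝐨(W₁) * (MF T).relIndex E := by
    rw [← inf_relIndex_right, EQ, H1.card_mul_relIndex WE]
  have dE : (MF T).relIndex E ∣ 𝐨(W₂) := by
    rw [← sdQ.relIndex_left]
    exact PF13c.relIndex_dvd sdQ.normal nE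
  rcases (Nat.dvd_prime hp').1 dE with e | e
  · left
    rwa [eq_of_le_of_card_ge WE (by rw [cE, e, mul_one])]
  · right
    obtain ⟨X, XE, cX⟩ := exists_le_card_eq_prime hp' (H := E) (by rw [cE, e]; exact dvd_mul_left _ _)
    have syl : IsSyl 𝐨(W₂) W₂ (MF T ⊔ W₂) := ⟨le_sup_right, isPGroup_of_card_prime rfl, by
      rw [sdQ.relIndex_right, eQ.card]
      exact hp'.coprime_iff_not_dvd.1
        ((hp.dprod.coprime_of_isCyclic hp.cyc).symm.pow_right _)⟩
    obtain ⟨g, hg, k1⟩ := syl.exists_le_conj hp' (isPGroup_of_card_prime cX) (XE.trans nE)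
    obtain ⟨y, hy, w, hw, rfl⟩ := sdQ.mem_iff.1 hg
    rw [← conj_conj, conj_eq_of_mem hw] at k1
    have k2 : X = W₂ ^ᵍ y := eq_of_le_of_card_ge k1 (by rw [card_conj, cX])
    have k3 : 𝐨(W₁ ⊔ X) = 𝐨(W₂) * 𝐨(W₁) := by
      rw [(sdProd_of_coprime (XE.trans (odd_regular_prime_normal (odd_card _) f1 sd.norm reg WE hq))
        (cX ▸ hp.dprod.coprime_of_isCyclic hp.cyc)).card, cX, mul_comm]
    refine ⟨y, hy, ?_, k2 ▸ k3⟩
    rwa [← k2, eq_of_le_of_card_ge (sup_le WE XE) (by rw [k3, cE, e, mul_comm])]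

end Cfsg.Agent.FT
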