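/-
PF (13.18).
-/
import Cfsg.Agent.FT.P.PF13c_1

set_option autoImplicit false

namespace Cfsg.Agent.FT

open Subgroup Cfsg Cfsg.Agent
open scoped commutatorElement ComplexConjugate

universe u

variable {G : Type u} [Group G] [Finite G] [MinOdd G]

variable {S U W₁ W₂ W : Subgroup G}

namespace PF13c

omit [MinOdd G] in
theorem sdPW (h : OfTypeP S U W₁ W₂ W) : SdProd (MF S) W₁ (MF S ⊔ W₁) :=
  ⟨rfl, h.hall1.1.trans (MF_normal S).2,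
    eq_bot_iff.2 ((inf_le_inf_right _ h.sdD.le_left).trans h.sdM.disj.le)⟩

omit [MinOdd G] in
theorem PW_le (h : OfTypeP S U W₁ W₂ W) : MF S ⊔ W₁ ≤ S := sup_le (MF_le S) h.hall1.1

omit [MinOdd G] in
theorem inf_PW (h : OfTypeP S U W₁ W₂ W) : ⁅S, S⁆ ⊓ (MF S ⊔ W₁) = MF S := by
  rw [inf_comm, sup_inf_of_le_left (sdPW h).norm h.sdD.le_left, inf_comm, h.sdM.disj, sup_bot_eq]

theorem mem_PW_of_conj (hS : IsCoatom S) (h : OfTypeP S U W₁ W₂ W) {x g : G}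
    (hx : x ∈ MF S ⊔ W₁) (hP : x ∉ MF S) (hg : g ∈ S) (hc : g⁻¹ * x * g ∈ MF S ⊔ W₁) :
    g ∈ MF S ⊔ W₁ := by
  have hF := (typeP_facts hS h).2.2.1
  obtain ⟨a, ha, v, hv, rfl⟩ := h.basic.2.1.mem_iff.1 hg
  have nP := (MF_normal S).2
  have k1 : a⁻¹ * x * a ∈ MF S ⊔ W₁ :=
    mul_mem (mul_mem (inv_mem (mem_sup_left ha)) hx) (mem_sup_left ha)
  obtain ⟨b, hb, w, hw, e⟩ := (sdPW h).mem_iff.1 k1
  have w1 : w ≠ 1 := by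
    rintro rfl
    refine hP ?_
    have : x = a * b * a⁻¹ := by rw [← mul_one b, e]; group
    rw [this]; exact mul_mem (mul_mem ha hb) (inv_mem ha)
  have k2 : v⁻¹ * b * v ∈ MF S := by
    have := (mem_normalizer_iff.1 (nP (inv_mem (h.basic.2.1.le_right hv))) b).1 hb
    rwa [inv_inv] at this
  have k3 : v⁻¹ * w * v⁻¹⁻¹ ∈ MF S ⊔ W₁ := by
    have : v⁻¹ * w * v⁻¹⁻¹ = (v⁻¹ * b * v)⁻¹ * ((a * v)⁻¹ * x * (a * v)) := by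
      have : x = a * (b * w) * a⁻¹ := by rw [e]; group
      rw [this]; group
    rw [this]; exact mul_mem (inv_mem (mem_sup_left k2)) hc
  have k4 : v⁻¹ * w * v⁻¹⁻¹ ∈ W₁ := by
    have := mem_inf.2 ⟨k3, mul_mem (mul_mem (inv_mem hv) (mem_sup_right hw)) (inv_mem (inv_mem hv))⟩
    rwa [sup_inf_of_le_right (sdPW h).norm le_sup_right, h.basic.2.1.disj, bot_sup_eq] at this
  exact mul_mem (mem_sup_left ha)
    (mem_sup_right ((inv_mem_iff).1 (hF.mem_of_conj_mem hw w1 (inv_mem hv) k4)))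

theorem gamma_one (hS : IsCoatom S) (h : OfTypeP S U W₁ W₂ W) {x : G}
    (hx : x ∈ MF S ⊔ W₁) (hP : x ∉ MF S) : ind S (MF S ⊔ W₁) (cf1 (MF S ⊔ W₁)) x = 1 := by
  rw [ind_of_mem _ _ (PW_le h hx), ← sum_fs_subset (A := (MF S ⊔ W₁ : Subgroup G)) (PW_le h)
    fun g hg hn => res_of_notMem _ fun e => hn (mem_PW_of_conj hS h hx hP hg e),
    sum_fs_congr (g := fun _ => (1 : ℂ)) fun g hg => by
      have : g⁻¹ * x * g ∈ MF S ⊔ W₁ := mul_mem (mul_mem (inv_mem hg) hx) hg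
      rw [res_of_mem _ this, cf1_of_mem this], sum_fs_const]
  simp [(Nat.card_pos (α := (MF S ⊔ W₁ : Subgroup G))).ne']

omit [MinOdd G] in
theorem gamma_der (h : OfTypeP S U W₁ W₂ W) {x : G} (hx : x ∈ ⁅S, S⁆) :
    ind S (MF S ⊔ W₁) (cf1 (MF S ⊔ W₁)) x = 𝐨(U) * cf1 (MF S) x := by
  rw [← res_of_mem (ind S (MF S ⊔ W₁) (cf1 (MF S ⊔ W₁))) hx, res_ind_of_mul (der_le S) (PW_le h) (fun g hg => by
      obtain ⟨k, hk, w, hw, e⟩ := h.sdM.mem_iff.1 hg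
      exact ⟨k, hk, w, mem_sup_right hw, e.symm⟩) (cf1_mem_CF _), inf_PW h,
    ← ind_res_self, res_cf1 le_sup_left, ind_cf1_normal h.sdD.normal, h.sdD.relIndex_left]
  rfl

theorem nsq_gamma (hS : IsCoatom S) (h : OfTypeP S U W₁ W₂ W) :
    nsq S (ind S (MF S ⊔ W₁) (cf1 (MF S ⊔ W₁))) = ((𝐨(U) : ℝ) - 1) / 𝐨(W₁) + 1 := by
  refine nsq_eq_of_ip ?_
  rw [ip_ind_right (PW_le h) (ind_mem_CF _ _ _), ip_cf1_right,
    sum_fs_diff (A := (MF S : Set G)) (fun _ hx => mem_sup_left hx),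
    sum_fs_congr (g := fun _ => (𝐨(U) : ℂ)) fun x hx => by
      rw [gamma_der h (h.sdD.le_left hx), cf1_of_mem hx, mul_one],
    sum_fs_congr (A := _ \ _) (g := fun _ => (1 : ℂ)) fun x hx => gamma_one hS h hx.1 hx.2,
    sum_fs_const]
  have e := sum_fs_diff (A := (MF S : Set G)) (B := (MF S ⊔ W₁ : Subgroup G))
    (fun _ hx => mem_sup_left hx) fun _ => (1 : ℂ)
  rw [sum_fs_const, sum_fs_const] at e
  rw [← sub_eq_iff_eq_add'.2 e, (sdPW h).card]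
  have k1 := card_ne_zero_C (MF S)
  have k2 := card_ne_zero_C W₁
  simp only [nsmul_eq_mul]
  push_cast
  field_simp
  ring

theorem mu_facts (hS : IsCoatom S) (h : OfTypeP S U W₁ W₂ W) {β : G → ℂ}
    (hβ : β ∈ irrKer W W₁) (h1 : β ≠ cf1 W) :
    mu2 S W₁ W₂ β ∈ Irr S ∧ mu2 S W₁ W₂ β 1 = 𝐨(U) ∧
      (∀ x ∈ ⁅S, S⁆, x ∉ MF S → mu2 S W₁ W₂ β x = 0) ∧
      (∀ x ∈ W₁, x ≠ 1 → mu2 S W₁ W₂ β x = 1) ∧
      ip S (ind S (MF S ⊔ W₁) (cf1 (MF S ⊔ W₁))) (mu2 S W₁ W₂ β) = 0 ∧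
      ip S (mu2 S W₁ W₂ β) (cf1 S) = 0 := by
  have hp := h.primeTI
  obtain ⟨-, -, r3, r4⟩ := typeP_reg_Fcore hS h
  obtain ⟨m1, m2⟩ := typeP_muR_facts hS h hβ
  obtain ⟨m2, -, m3⟩ := m2 h1
  have hi := hp.mu2_mem_Irr (irrKer_subset _ _ hβ)
  have nk : ¬ MF S ≤ cfKer (mu2 S W₁ W₂ β) := fun e => (hp.not_le_cfKer hβ h1).1
    (le_cfKer_res hp.le2 (h.le2F.trans e))
  refine ⟨hi, by rw [irr_one_eq hi, m3, r4], fun x hx hn => ?_, fun x hx hn => ?_, ?_, ?_⟩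
  · rw [r3] at m2
    have k := CFon_off (seqIndT_facts (MF_normal S) (seqIndD_subset_T _ _ _ _ m2)).2.1 hn
    rw [(hp.res_mu2 hβ).2.2.2.1, Pi.smul_apply, res_of_mem _ hx, smul_eq_mul] at k
    exact (mul_eq_zero.1 k).resolve_left (card_ne_zero_C _)
  · have := hp.mu2_apply (PF04.one2 hp) hβ (h.dprod.le_left hx)
      fun e => hn (mem_bot.1 (h.dprod.disj ▸ mem_inf.2 ⟨hx, e⟩))
    rw [PF04.one_mul' hβ, m1, PF04.apply_ker hp hβ hx] at this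
    simpa using this
  · by_contra e
    have hc := (isChar_cf1 (MF S ⊔ W₁)).ind (PW_le h)
    refine nk (le_trans ?_ (hc.cfKer_le_constt (mem_constt.2 ⟨hi, e⟩)))
    exact (le_cfKer_ind_irr_iff (PW_le h) (MF_normal S).2 (cf1_mem_Irr _)).2
      (le_sup_left.trans (le_cfKer_cf1 _))
  · exact ip_irr_of_ne hi (cf1_mem_Irr S) fun e => nk (e ▸ (MF_le S).trans (le_cfKer_cf1 S))

theorem bridge_on (hS : IsCoatom S) (h : OfTypeP S U W₁ W₂ W) {β : G → ℂ}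
    (hβ : β ∈ irrKer W W₁) (h1 : β ≠ cf1 W) :
    bridge13 S W₁ W₂ β ∈ CFon S (sharp (MF S) ∪ classSupp (hatSet W₁ W₂) S) := by
  obtain ⟨k1, k2, k3, k4, -⟩ := mu_facts hS h hβ h1
  have hp := h.primeTI
  have hc : bridge13 S W₁ W₂ β ∈ CF S := sub_mem (ind_mem_CF _ _ _) (irr_mem_CF k1)
  refine mem_CFon_of hc fun x hx hn => ?_
  by_cases hK : x ∈ ⁅S, S⁆
  · rw [bridge13, Pi.sub_apply, gamma_der h hK]
    by_cases hP : x ∈ MF S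
    · obtain rfl : x = 1 := by
        by_contra e
        exact hn (Or.inl ⟨hP, e⟩)
      rw [k2, cf1_one, mul_one, sub_self]
    · rw [cf1_of_notMem hP, k3 x hK hP, mul_zero, sub_zero]
  · obtain ⟨y, ⟨hy, hy2⟩, g, hg, rfl⟩ := hp.exists_conj_mem hx hK
    have hy1 : y ∈ W₁ := by
      by_contra e
      exact hn (Or.inr ⟨y, ⟨h.dprod.sup ▸ hy, e, hy2⟩, g, hg, rfl⟩)
    have y1 : y ≠ 1 := fun e => hy2 (e ▸ one_mem _)
    rw [CF_conj hc hg, bridge13, Pi.sub_apply, k4 y hy1 y1, gamma_one hS h (mem_sup_right hy1)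
      fun e => y1 (mem_bot.1 ((sdPW h).disj ▸ mem_inf.2 ⟨e, hy1⟩)), sub_self]

end PF13c

open PF13c

/-- PF (13.18)(a),(b). -/
theorem bridge13_facts (hS : IsCoatom S) (h : OfTypeP S U W₁ W₂ W) {β : G → ℂ}
    (hβ : β ∈ irrKer W W₁) (h1 : β ≠ cf1 W) :
    bridge13 S W₁ W₂ β ∈ CFon S (ftA0 S) ∧
      bridge13 S W₁ W₂ β ∈ CFon S (sharp (MF S) ∪ classSupp (hatSet W₁ W₂) S) ∧
      bridge13 S W₁ W₂ β ∈ VChar S ∧ tau0 S (bridge13 S W₁ W₂ β) ∈ VChar ⊤ ∧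
      tau0 S (bridge13 S W₁ W₂ β) ∈
        CFon ⊤ (classSupp (sharp (MF S)) ⊤ ∪ classSupp (hatSet W₁ W₂) ⊤) ∧
      𝐨(W₁) ∣ 𝐨(U) - 1 ∧ nsq S (bridge13 S W₁ W₂ β) = ((𝐨(U) : ℝ) - 1) / 𝐨(W₁) + 2 := by
  have k1 := bridge_on hS h hβ h1
  have k2 : bridge13 S W₁ W₂ β ∈ CFon S (ftA0 S) := CFon_mono S (Set.union_subset
    ((sharp_MF_subset_ftA1 hS).trans ((ftA1_subset_ftA hS).trans (ftA_subset_ftA0 S)))
    ((h.ftA0_eq hS).1 ▸ Set.subset_union_right)) k1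
  obtain ⟨m1, -, -, -, m2, -⟩ := mu_facts hS h hβ h1
  have k3 : bridge13 S W₁ W₂ β ∈ VChar S :=
    sub_mem (vchar_ind (PW_le h) (cf1_mem_VChar _)) (irr_mem_VChar m1)
  obtain ⟨-, -, hF, -, -, -, -, -, hτ, -⟩ := typeP_facts hS h
  refine ⟨k2, k1, k3, (ftDade0 hS).vchar k2 k3, ?_, hF.card_dvd, ?_⟩
  · rw [hτ _ k2]
    refine CFon_mono _ ?_ (ind_mem_CFon ⊤ fun x _ hx => k1.2 x hx)
    rintro _ ⟨a, ha | ha, g, hg, rfl⟩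
    · exact Or.inl ⟨a, ha, g, hg, rfl⟩
    · exact Or.inr (conj_mem_classSupp (classSupp_mono subset_rfl le_top ha) hg)
  · rw [bridge13, nsq_sub_of_orth m2, nsq_gamma hS h, nsq_irr m1]; ring

omit [MinOdd G] in
theorem PF13c.exists_beta (h : CycTI ⊤ W₁ W₂ W) : ∃ β ∈ irrKer W W₁, β ≠ cf1 W :=
  Finset.exists_mem_ne (by rw [h.basic.2.2.2.2.2.2.2.2.1]; have := h.basic.2.2.2.1; omega) _

theorem PF13c.tau_sub (hS : IsCoatom S) (h : OfTypeP S U W₁ W₂ W) {β γ : G → ℂ}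
    (hβ : β ∈ irrKer W W₁) (h1 : β ≠ cf1 W) (hγ : γ ∈ irrKer W W₁) (h2 : γ ≠ cf1 W) :
    tau0 S (bridge13 S W₁ W₂ γ) - tau0 S (bridge13 S W₁ W₂ β) =
      cycσ ⊤ W₁ W₂ β - cycσ ⊤ W₁ W₂ γ := by
  have := ((h.prDade hS).sub_mu2 (PF04.one2 h.primeTI) hβ h1 hγ h2
    ((mu_facts hS h hβ h1).2.1.trans (mu_facts hS h hγ h2).2.1.symm)).2.1
  rw [PF04.one_mul' hβ, PF04.one_mul' hγ, (typeP_muR_facts hS h hβ).1, Int.cast_one,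
    one_smul] at this
  rw [← this, ← map_sub, bridge13, bridge13, sub_sub_sub_cancel_left]

/-- PF (13.18)(c),(d). -/
theorem bridge13_gap (hS : IsCoatom S) (h : OfTypeP S U W₁ W₂ W) :
    ∃ Γ ∈ VChar (⊤ : Subgroup G),
      (∀ β ∈ irrKer W W₁, β ≠ cf1 W →
        tau0 S (bridge13 S W₁ W₂ β) - cf1 ⊤ + cycσ ⊤ W₁ W₂ β = Γ) ∧
      ip ⊤ Γ (cf1 ⊤) = 0 ∧ star Γ = Γ ∧
      ∀ X Y : G → ℂ, Γ = X + Y → ip ⊤ X Y = 0 → (∀ ω ∈ Irr W, ip ⊤ Y (cycσ ⊤ W₁ W₂ ω) = 0) →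
        nsq ⊤ Y ≤ ((𝐨(U) : ℝ) - 1) / 𝐨(W₁) := by
  have hc := h.cycTI
  have hp := h.primeTI
  obtain ⟨β, hβ, h1⟩ := exists_beta hc
  have hβi := irrKer_subset _ _ hβ
  have hβ' := star_mem_irrKer hβ
  have hβi' := irrKer_subset _ _ hβ'
  obtain ⟨-, -, s3, s4⟩ := hp.star_facts hβ
  obtain ⟨s4, s5, -⟩ := s4 h1
  obtain ⟨k1, -, -, k2, -, -, k3⟩ := bridge13_facts hS h hβ h1
  set Γ := tau0 S (bridge13 S W₁ W₂ β) - cf1 ⊤ + cycσ ⊤ W₁ W₂ β with hΓ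
  have v1 := (hc.σ_dirr hβi).mem_VChar
  have hv : Γ ∈ VChar ⊤ := add_mem (sub_mem k2 (cf1_mem_VChar _)) v1
  have e1 : ∀ γ ∈ irrKer W W₁, γ ≠ cf1 W →
      tau0 S (bridge13 S W₁ W₂ γ) - cf1 ⊤ + cycσ ⊤ W₁ W₂ γ = Γ := fun γ hγ h2 => by
    rw [hΓ]; linear_combination tau_sub hS h hβ h1 hγ h2
  have o1 : ∀ γ ∈ Irr W, γ ≠ cf1 W → ip ⊤ (cycσ ⊤ W₁ W₂ γ) (cf1 ⊤) = 0 := fun γ hγ h2 => by
    rw [← hc.σ_cf1, hc.ip_σ hγ (cf1_mem_Irr W), if_neg h2]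
  have e2 : ip ⊤ Γ (cf1 ⊤) = 0 := by
    rw [hΓ, ip_add_left, ip_sub_left, o1 β hβi h1, (ftDade0 hS).ip_dade_cf1 k1, bridge13,
      ip_sub_left, (mu_facts hS h hβ h1).2.2.2.2.2, ip_ind_left (PW_le h) _ (cf1_mem_CF S),
      ← ip_res_right, res_cf1 (PW_le h)]
    simp
  have e3 : star Γ = Γ := by
    conv_rhs => rw [← e1 _ hβ' s5]
    rw [hΓ, star_add, star_sub, star_cf1, hc.star_σ (irr_mem_CF hβi), ← dade_star, bridge13,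
      bridge13, star_sub, ← ind_star, star_cf1, s3 β hβi]
  refine ⟨Γ, hv, e1, e2, e3, fun X Y e oXY oY => ?_⟩
  obtain ⟨a, ha⟩ := vchar_ip_int hv v1
  have ha' : ip ⊤ Γ (cycσ ⊤ W₁ W₂ (star β)) = a := by
    rw [← hc.star_σ (irr_mem_CF hβi), ← e3, ip_star_star, ip_comm_of_int ha]
  have oY1 : ip ⊤ Y (cf1 ⊤) = 0 := hc.σ_cf1 ▸ oY _ (cf1_mem_Irr W)
  have e4 : tau0 S (bridge13 S W₁ W₂ β) = (cf1 ⊤ - cycσ ⊤ W₁ W₂ β + X) + Y := by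
    linear_combination e
  have k4 := nsq_eq_of_ip_eq ((ftDade0 hS).iso k1 k1)
  change nsq ⊤ (tau0 S _) = _ at k4
  rw [k3, e4, nsq_add_of_orth (by
    rw [ip_add_left, ip_sub_left, oXY, ip_eq_zero_symm oY1, ip_eq_zero_symm (oY _ hβi)]; simp)] at k4
  have eX : X = Γ - Y := by rw [e]; abel
  have k5 := (hc.on_image_σ.1.mono (Finset.image_subset_image (f := cycσ ⊤ W₁ W₂)
    (s₁ := {cf1 W, β, star β}) (by
      simp [Finset.insert_subset_iff, cf1_mem_Irr, hβi, hβi']))).bessel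
    (cf1 ⊤ - cycσ ⊤ W₁ W₂ β + X)
  rw [Finset.sum_image (hc.on_image_σ.2.mono (by
      simp [Set.insert_subset_iff, cf1_mem_Irr, hβi, hβi'])),
    Finset.sum_insert (by simp [h1.symm, s5.symm]), Finset.sum_pair s4.symm, eX, hc.σ_cf1] at k5
  simp only [ip_add_left, ip_sub_left, ip_cf1_cf1, o1 β hβi h1, e2, oY1, ha, ha', oY _ hβi,
    oY _ hβi', ip_eq_zero_symm (o1 β hβi h1), ip_eq_zero_symm (o1 _ hβi' s5), hc.ip_σ hβi hβi,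
    hc.ip_σ hβi hβi', if_neg s4.symm, if_true, sub_zero, add_zero, zero_sub, zero_add,
    norm_one] at k5
  have k6 : ‖(-1 + a : ℂ)‖ ^ 2 = ((-1 + a : ℤ) : ℝ) ^ 2 := by
    rw [← sq_abs ((-1 + a : ℤ) : ℝ), ← Complex.norm_intCast]; push_cast; rfl
  rw [k6, Complex.norm_intCast, sq_abs, ← eX] at k5
  have k7 : (1 : ℤ) ≤ (-1 + a) ^ 2 + a ^ 2 := by nlinarith [Int.le_self_sq a]
  have k8 : (1 : ℝ) ≤ ((-1 + a : ℤ) : ℝ) ^ 2 + (a : ℝ) ^ 2 := by exact_mod_cast k7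
  linarith

end Cfsg.Agent.FT
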