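/-
PF (13.19).
-/
import Cfsg.Agent.FT.P.PF13c_2

set_option autoImplicit false

namespace Cfsg.Agent.FT

open Subgroup Cfsg Cfsg.Agent
open scoped commutatorElement ComplexConjugate

universe u

variable {G : Type u} [Group G] [Finite G] [MinOdd G]

variable {S U W₁ W₂ W : Subgroup G}

open PF13c

/-- The preamble of PF (13.19). -/
theorem type1_coherence {L : Subgroup G} (hL : IsCoatom L) (h1 : ftType L = 1) :
    S12 L ⊆ Irr L ∧ ∃ τ₁, CohWith L (S12 L) (tauF L) τ₁ ∧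
      ∃ φ ∈ S12 L, dg φ = (MF L).relIndex L := by
  obtain ⟨k1, -, τ₁, k2⟩ := frobenius_coherence hL (type1_frobenius hL h1)
  exact ⟨k1, τ₁, k2, exists_ref_S12 hL⟩

theorem PF13c.disjoint_supp (hS : IsCoatom S) (h : OfTypeP S U W₁ W₂ W) {L : Subgroup G}
    (hL : IsCoatom L) (h1 : ftType L = 1) :
    Disjoint (dadeSupp (sharp (MF L)) (ftR L)) (classSupp (MF S) ⊤ ∪ classSupp W ⊤) := by
  obtain ⟨T, hp⟩ := h.exists_pair hS
  obtain ⟨V, hV⟩ := hp.symm.exists_ofTypeP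
  have c2 := coprime_MF hS h hL h1
  have c1 := coprime_MF hp.maxT hV hL h1
  have oc : ∀ x y : G, orderOf (x * y * x⁻¹) = orderOf y := fun x y =>
    (MulAut.conj x).orderOf_eq y
  rw [Set.disjoint_left]
  rintro _ ⟨a, ha, r, hr, g, rfl⟩ hx
  have k1 : a ∈ zpowers (r * a) := by
    have := piPt_mem_zpowers (PF02.dpi L (sharp (MF L))) (r * a)
    rwa [PF02.piPt_mul_H (ftDadeF hL) ha hr] at this
  have k2 : 𝐨(MF L).Coprime (orderOf (g * (r * a) * g⁻¹)) := by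
    rcases hx with ⟨y, hy, z, -, e⟩ | ⟨y, hy, z, -, e⟩
    · rw [e, oc]
      refine Nat.Coprime.coprime_dvd_right (orderOf_dvd_card_of_mem hy) ?_
      rw [(typeP_facts hS h).2.2.2.2.1.card]
      exact c2.pow_right _
    · rw [e, oc]
      refine Nat.Coprime.coprime_dvd_right (orderOf_dvd_card_of_mem hy) ?_
      rw [h.dprod.card]
      exact c1.mul_right c2
  rw [oc] at k2
  exact ha.2 (orderOf_eq_one_iff.1 (Nat.eq_one_of_dvd_coprimes k2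
    (orderOf_dvd_card_of_mem ha.1) (orderOf_dvd_of_mem_zpowers k1)))

/-- PF (13.19). -/
theorem typeI_bridge_facts (hS : IsCoatom S) (h : OfTypeP S U W₁ W₂ W) {L : Subgroup G}
    (hL : IsCoatom L) (h1 : ftType L = 1) {τ₁ : (G → ℂ) →ₗ[ℂ] (G → ℂ)}
    (hτ : CohWith L (S12 L) (tauF L) τ₁) {φ : G → ℂ} (hφ : φ ∈ S12 L)
    (hd : dg φ = (MF L).relIndex L) :
    Disjoint (dadeSupp (sharp (MF L)) (ftR L)) (classSupp (MF S) ⊤ ∪ classSupp W ⊤) ∧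
      (∀ ξ ∈ S12 L, ∀ ω ∈ Irr W, ip ⊤ (τ₁ ξ) (cycσ ⊤ W₁ W₂ ω) = 0) ∧
      (∀ β ∈ irrKer W W₁, β ≠ cf1 W → ∀ β' ∈ irrKer W W₁, β' ≠ cf1 W →
        ip ⊤ (betaF L φ) (cycσ ⊤ W₁ W₂ β) = ip ⊤ (betaF L φ) (cycσ ⊤ W₁ W₂ β')) ∧
      ∀ β ∈ irrKer W W₁, β ≠ cf1 W →
        ((∃ n : ℤ, ip ⊤ (tau0 S (bridge13 S W₁ W₂ β)) (τ₁ φ) = 2 * n + 1) ∧
          ((𝐨(MF L) : ℝ) - 1) / (MF L).relIndex L ≤ ((𝐨(U) : ℝ) - 1) / 𝐨(W₁)) ∨
        ((∃ n : ℤ, ip ⊤ (betaF L φ) (cycσ ⊤ W₁ W₂ β) = 2 * n + 1) ∧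
          𝐨(W₂) ≤ (MF L).relIndex L) := by
  have hD := ftDadeF hL
  have hdis := disjoint_supp hS h hL h1
  have hc := h.cycTI
  have nH := MF_normal L
  have hirr := (type1_coherence hL h1).1
  have hT : S12 L ⊆ seqIndT (MF L) L := seqIndD_subset_T _ _ _ _
  have hodd : ∀ ξ ∈ S12 L, ip L ξ (star ξ) = 0 ∧ star ξ ≠ ξ := fun ξ hξ =>
    seqIndD_odd nH le_rfl (odd_card L) hξ
  have zs : ∀ ξ ∈ S12 L, ξ - star ξ ∈ Zs0 (S12 L) := fun ξ hξ =>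
    sub_mem_Zs0 (mem_Zs_of_mem hξ) (mem_Zs_of_mem (star_mem_seqIndD hξ))
      (irr_isChar (hirr hξ)).star_one.symm
  have van : ∀ α, ∀ x ∈ classSupp (MF S) ⊤ ∪ classSupp W ⊤, tauF L α x = 0 := fun α x hx =>
    dade_of_notMem α (Set.disjoint_right.1 hdis hx)
  have oβ : ∀ α, ∀ β ∈ irrKer W W₁, β ≠ cf1 W →
      ip ⊤ (tauF L α) (tau0 S (bridge13 S W₁ W₂ β)) = 0 := by
    intro α β hβ hβ1
    refine ip_eq_zero_of_disjoint fun x _ => ?_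
    by_cases hx : x ∈ classSupp (MF S) ⊤ ∪ classSupp W ⊤
    · exact Or.inl (van α x hx)
    · refine Or.inr (CFon_off (bridge13_facts hS h hβ hβ1).2.2.2.2.1 fun e => hx ?_)
      exact Set.union_subset_union (classSupp_mono (sharp_subset _) le_rfl)
        (classSupp_mono (fun y hy => PF04.hat_le h.primeTI hy) le_rfl) e
  have oσ : ∀ ξ ∈ S12 L, ∀ ω ∈ Irr W, ip ⊤ (τ₁ ξ) (cycσ ⊤ W₁ W₂ ω) = 0 := by
    intro ξ hξ ω hω
    have k1 := zs ξ hξ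
    have k3 := hτ.vchar _ k1.1
    have k5 := hc.NC_le_nsq k3
    rw [hτ.nsq_eq k1.1, nsq_sub_of_orth (hodd ξ hξ).1, nsq_star, nsq_irr (hirr hξ)] at k5
    have k6 : cycNC ⊤ W₁ W₂ (τ₁ (ξ - star ξ)) ≤ 2 := by
      exact_mod_cast k5.trans_eq (by norm_num : (1 : ℝ) + 1 = (2 : ℕ))
    have k7 := hc.NC_min (vchar_mem_CF k3) (fun x hx => by
      rw [hτ.agree _ k1]
      exact van _ x (Or.inr (subset_classSupp _ _ (PF04.hat_le h.primeTI hx))))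
      (by have := hc.basic.2.2.1; have := hc.basic.2.2.2.1; omega) ω hω
    have k8 := hτ.iso _ k1.1 _ (mem_Zs_of_mem hξ)
    rw [ip_sub_left, ip_irr_self (hirr hξ), ip_eq_zero_symm (hodd ξ hξ).1] at k8
    rcases (hτ.dirr hξ (hirr hξ)).ip_cases (hc.σ_dirr hω) with e | e | e
    · rw [e, k7] at k8; norm_num at k8
    · rw [e, ip_neg_right, k7] at k8; norm_num at k8
    · exact e
  have cst : ∀ β ∈ irrKer W W₁, β ≠ cf1 W → ∀ β' ∈ irrKer W W₁, β' ≠ cf1 W →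
      ip ⊤ (betaF L φ) (cycσ ⊤ W₁ W₂ β) = ip ⊤ (betaF L φ) (cycσ ⊤ W₁ W₂ β') := by
    intro β hβ hβ1 γ hγ hγ1
    rw [← sub_eq_zero, ← ip_sub_right, ← tau_sub hS h hβ hβ1 hγ hγ1, ip_sub_right, betaF,
      oβ _ β hβ hβ1, oβ _ γ hγ hγ1, sub_zero]
  refine ⟨hdis, oσ, cst, fun β hβ hβ1 => ?_⟩
  have hφ' := star_mem_seqIndD hφ
  obtain ⟨b1, b2, b3, b4, b5, -⟩ := hD.ind1_sub_lin_basic hτ
    (Finset.one_lt_card.2 ⟨_, hφ', _, hφ, (hodd φ hφ).2⟩) (hirr hφ) hφ hd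
  change ip ⊤ (betaF L φ) _ = 1 at b3
  change betaF L φ ∈ _ at b4
  change nsq ⊤ (betaF L φ) = _ at b5
  obtain ⟨Γ, g1, g2, g3, g4, g5⟩ := bridge13_gap hS h
  have hβi := irrKer_subset _ _ hβ
  have v1 := hτ.vchar _ (mem_Zs_of_mem hφ)
  have v2 := (hc.σ_dirr hβi).mem_VChar
  have v3 := (bridge13_facts hS h hβ hβ1).2.2.2.1
  have o1 : ip ⊤ (cycσ ⊤ W₁ W₂ β) (cf1 ⊤) = 0 := by
    rw [← hc.σ_cf1, hc.ip_σ hβi (cf1_mem_Irr W), if_neg hβ1]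
  set Δ := betaF L φ - cf1 ⊤ + τ₁ φ with hΔ
  have d1 : Δ ∈ VChar ⊤ := add_mem (sub_mem b4 (cf1_mem_VChar _)) v1
  have d2 : ip ⊤ Δ (cf1 ⊤) = 0 := by rw [hΔ, ip_add_left, ip_sub_left, b3, b1 φ hφ]; simp
  have d3 : star Δ = Δ := by
    have := hτ.agree _ (zs φ hφ)
    rw [hΔ, star_add, star_sub, star_cf1, hτ.star_eq hD (fun _ => star_mem_seqIndD) hφ (hirr hφ)
      (hodd φ hφ).2, betaF, ← dade_star, star_sub, ← ind_star, star_cf1]
    simp only [map_sub] at this ⊢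
    linear_combination -this
  obtain ⟨n, hn⟩ := ip_real_vchar_mod_two (H := ⊤) (odd_card _) d1 g1 d3 g4
  obtain ⟨bS, hbS⟩ := vchar_ip_int v3 v1
  obtain ⟨bL, hbL⟩ := vchar_ip_int b4 v2
  have key : bS + bL = 2 * n + 1 := by
    have k := oβ (ind L (MF L) (cf1 (MF L)) - φ) β hβ hβ1
    change ip ⊤ (betaF L φ) _ = 0 at k
    rw [d2, zero_mul, zero_add, ← g2 β hβ hβ1, hΔ] at hn
    have k1 : ip ⊤ (cf1 ⊤) (tau0 S (bridge13 S W₁ W₂ β)) = 1 := by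
      rw [← g2 β hβ hβ1, ip_add_left, ip_sub_left, o1, ip_cf1_cf1, add_zero, sub_eq_zero] at g3
      rw [← conj_ip, g3, map_one]
    simp only [ip_add_left, ip_sub_left, ip_add_right, ip_sub_right, k, b3, hbL, k1, ip_cf1_cf1,
      ip_eq_zero_symm o1, ip_comm_of_int hbS, b1 φ hφ, oσ φ hφ β hβi] at hn
    have : ((bS + bL : ℤ) : ℂ) = ((2 * n + 1 : ℤ) : ℂ) := by push_cast; linear_combination hn
    exact_mod_cast this
  have e0 : (0 : ℝ) < (MF L).relIndex L := by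
    exact_mod_cast Nat.pos_of_ne_zero (CH1.relIndex_ne_zero' _ _)
  rcases Int.even_or_odd' bS with ⟨m, hm | hm⟩
  · -- `bL` is odd
    right
    refine ⟨⟨n - m, by rw [hbL, show bL = 2 * (n - m) + 1 by omega]; push_cast; ring⟩, ?_⟩
    have sub : (irrKer W W₁).image (cycσ ⊤ W₁ W₂) ⊆ (Irr W).image (cycσ ⊤ W₁ W₂) :=
      Finset.image_subset_image (irrKer_subset _ _)
    have hE : ∀ α ∈ (irrKer W W₁).image (cycσ ⊤ W₁ W₂), α ∈ VChar ⊤ := fun α hα => by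
      obtain ⟨ω, hω, rfl⟩ := Finset.mem_image.1 (sub hα)
      exact (hc.σ_dirr hω).mem_VChar
    obtain ⟨c, c1, -, c3⟩ := (hc.on_image_σ.1.mono sub).exists_split hE b4
    set Y := ∑ α ∈ (irrKer W W₁).image (cycσ ⊤ W₁ W₂), (c α : ℂ) • α with hY
    have hYz : Y ∈ Zs ((irrKer W W₁).image (cycσ ⊤ W₁ W₂)) := mem_Zs_iff'.2 ⟨c, rfl⟩
    have k1 : 1 ≤ nsq ⊤ (betaF L φ - Y) := by
      refine vchar_one_le_nsq (sub_mem b4 (Zs_le_VChar hE hYz)) fun e => ?_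
      have k2 : ip ⊤ (betaF L φ) (τ₁ (φ - star φ)) = 0 := by
        rw [sub_eq_zero.1 e]
        refine ip_eq_zero_of_mem_Zs_left hYz fun α hα => ?_
        obtain ⟨ω, hω, rfl⟩ := Finset.mem_image.1 (sub hα)
        rw [map_sub, ip_sub_right, ip_eq_zero_symm (oσ _ hφ ω hω), ip_eq_zero_symm (oσ _ hφ' ω hω),
          sub_zero]
      rw [hτ.agree _ (zs φ hφ), betaF, hD.iso b2 (Zs0_seqIndT nH hT (zs φ hφ)).1, ip_sub_left,
        ip_sub_right, ip_sub_right, ip_eq_zero_symm (seqIndD_orth_cf1 nH le_rfl hφ).2,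
        ip_eq_zero_symm (seqIndD_orth_cf1 nH le_rfl hφ').2, ip_irr_self (hirr hφ),
        (hodd φ hφ).1] at k2
      norm_num at k2
    have k2 : (𝐨(W₂) : ℝ) ≤ ∑ α ∈ (irrKer W W₁).image (cycσ ⊤ W₁ W₂), (c α : ℝ) ^ 2 := by
      rw [← hc.basic.2.2.2.2.2.2.2.2.1, ← Finset.card_image_of_injOn
        (hc.on_image_σ.2.mono (irrKer_subset W W₁)), Finset.card_eq_sum_ones]
      push_cast
      refine Finset.sum_le_sum fun α hα => ?_
      have k3 : c α ≠ 0 := by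
        intro e
        have k4 := c1 α hα
        obtain ⟨ω, hω, rfl⟩ := Finset.mem_image.1 hα
        rw [e] at k4
        by_cases e' : ω = cf1 W
        · rw [e', hc.σ_cf1, b3] at k4; norm_num at k4
        · rw [cst ω hω e' β hβ hβ1, hbL] at k4
          have : bL = 0 := by exact_mod_cast k4
          omega
      exact_mod_cast (one_le_sq_iff_one_le_abs _).2 (Int.one_le_abs k3)
    exact_mod_cast (by linarith : (𝐨(W₂) : ℝ) ≤ (MF L).relIndex L)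
  · -- `bS` is odd
    left
    refine ⟨⟨m, by rw [hbS, hm]; push_cast; ring⟩, ?_⟩
    have eC : ((MF L).relIndex L : ℂ) ≠ 0 := CH1.relIndex_ne_zero_C _ _
    have k1 : ∀ ψ ∈ S12 L, ip ⊤ Γ (τ₁ ψ) = ((dg ψ * bS / (MF L).relIndex L : ℝ) : ℂ) := by
      intro ψ hψ
      have m1 : ((MF L).relIndex L : ℂ) • ψ - (dg ψ : ℂ) • φ ∈ Zs0 (S12 L) :=
        sub_mem_Zs0 (natCast_smul_mem_Zs (mem_Zs_of_mem hψ) _)
          (natCast_smul_mem_Zs (mem_Zs_of_mem hφ) _)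
          (by simp [irr_one_eq (hirr hψ), irr_one_eq (hirr hφ), hd, mul_comm])
      have k := ip_eq_zero_symm (oβ (((MF L).relIndex L : ℂ) • ψ - (dg ψ : ℂ) • φ) β hβ hβ1)
      rw [← hτ.agree _ m1, map_sub, map_smul, map_smul, ip_sub_right, ip_smul_right,
        ip_smul_right, hbS, Complex.conj_natCast, Complex.conj_natCast] at k
      rw [← g2 β hβ hβ1, ip_add_left, ip_sub_left, ip_eq_zero_symm (b1 ψ hψ),
        ip_eq_zero_symm (oσ ψ hψ β hβi)]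
      push_cast
      field_simp
      linear_combination k
    have oo : ∀ ψ ∈ S12 L, ∀ ψ' ∈ S12 L, ip ⊤ (τ₁ ψ) (τ₁ ψ') = if ψ = ψ' then 1 else 0 :=
      fun ψ hψ ψ' hψ' => by
        rw [hτ.iso _ (mem_Zs_of_mem hψ) _ (mem_Zs_of_mem hψ'), ip_irr (hirr hψ) (hirr hψ')]
    set Y := ∑ ψ ∈ S12 L, ip ⊤ Γ (τ₁ ψ) • τ₁ ψ with hY
    have k2 : ∀ ψ ∈ S12 L, ip ⊤ (Γ - Y) (τ₁ ψ) = 0 := fun ψ hψ => by
      rw [ip_sub_left, hY, ip_sum_left, Finset.sum_eq_single ψ, ip_smul_left, oo ψ hψ ψ hψ]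
      · simp
      · intro ψ' hψ' hne
        rw [ip_smul_left, oo _ hψ' _ hψ, if_neg hne, mul_zero]
      · exact fun hn => (hn hψ).elim
    have k3 := g5 (Γ - Y) Y (by abel) (by
      conv_lhs => enter [3]; rw [hY]
      rw [ip_sum_right]
      exact Finset.sum_eq_zero fun ψ hψ => by rw [ip_smul_right, k2 ψ hψ, mul_zero]) fun ω hω => by
      rw [hY, ip_sum_left]
      exact Finset.sum_eq_zero fun ψ hψ => by rw [ip_smul_left, oσ ψ hψ ω hω, mul_zero]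
    refine le_trans ?_ k3
    have k4 := sum_seqIndD_square nH le_rfl nH.2 (M := ⊥) (le_top.trans norm_bot.ge) bot_le
    rw [relIndex_bot_left] at k4
    rw [hY, nsq_sum_of_orth fun ψ hψ ψ' hψ' hne => by
      rw [ip_smul_left, ip_smul_right, oo _ hψ _ hψ', if_neg hne, mul_zero, mul_zero],
      Finset.sum_congr rfl (g := fun ψ => (bS / (MF L).relIndex L : ℝ) ^ 2 *
        ((dg ψ : ℝ) ^ 2 / nsq L ψ)) fun ψ hψ => by
        rw [k1 ψ hψ, nsq_real_smul, hτ.nsq_eq (mem_Zs_of_mem hψ), nsq_irr (hirr hψ)]; ring,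
      ← Finset.mul_sum, k4]
    have k5 : (1 : ℝ) ≤ (bS : ℝ) ^ 2 := by
      exact_mod_cast (one_le_sq_iff_one_le_abs _).2 (Int.one_le_abs (by omega))
    have k6 : (0 : ℝ) ≤ (𝐨(MF L) : ℝ) - 1 := by
      have : (1 : ℝ) ≤ 𝐨(MF L) := by exact_mod_cast Nat.card_pos
      linarith
    rw [div_le_iff₀ e0]
    have : (bS / (MF L).relIndex L : ℝ) ^ 2 * ((MF L).relIndex L * ((𝐨(MF L) : ℝ) - 1)) *
      (MF L).relIndex L = bS ^ 2 * ((𝐨(MF L) : ℝ) - 1) := by field_simp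
    rw [this]
    nlinarith

end Cfsg.Agent.FT
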