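/-
PF (14.1)-(14.9), and the lemmas on nonconjugate groups of type I used in (14.14).
-/
import Cfsg.Agent.FT.PF13c

set_option autoImplicit false
set_option linter.unusedSectionVars false
set_option linter.unusedVariables false

namespace Cfsg.Agent.FT

open Subgroup Cfsg Cfsg.Agent
open scoped commutatorElement

universe u

variable {G : Type u} [Group G] [Finite G] [MinOdd G]

namespace PF14a

theorem on_image {L : Subgroup G} {S : Finset (G → ℂ)} {τ τ₁ : (G → ℂ) →ₗ[ℂ] (G → ℂ)}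
    (h : CohWith L S τ τ₁) (hi : S ⊆ Irr L) : ON ⊤ (S.image τ₁) ∧ Set.InjOn τ₁ S := by
  refine ⟨⟨fun α hα => ?_, fun α hα β hβ hne => ?_⟩, fun χ hχ ψ hψ e => ?_⟩
  · obtain ⟨χ, hχ, rfl⟩ := Finset.mem_image.1 hα
    exact (h.dirr hχ (hi hχ)).ip_self
  · obtain ⟨χ, hχ, rfl⟩ := Finset.mem_image.1 hα
    obtain ⟨ψ, hψ, rfl⟩ := Finset.mem_image.1 hβ
    rw [h.iso χ (mem_Zs_of_mem hχ) ψ (mem_Zs_of_mem hψ)]
    exact ip_irr_of_ne (hi hχ) (hi hψ) fun e => hne (congrArg τ₁ e)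
  · refine irr_eq_of_ip_ne_zero (hi hχ) (hi hψ) ?_
    rw [← h.iso χ (mem_Zs_of_mem hχ) ψ (mem_Zs_of_mem hψ), e, (h.dirr hψ (hi hψ)).ip_self]
    exact one_ne_zero

theorem one_le_norm_sq {z : ℂ} {n : ℤ} (h : z = n) (h0 : z ≠ 0) : 1 ≤ ‖z‖ ^ 2 := by
  subst h
  rw [Complex.norm_intCast]
  have : 1 ≤ |n| := Int.one_le_abs fun e => h0 (by simp [e])
  exact one_le_pow₀ (by exact_mod_cast this)

theorem one_lt_card_S12 {L : Subgroup G} {φ : G → ℂ} (hφ : φ ∈ S12 L) : 1 < (S12 L).card :=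
  Finset.one_lt_card.2 ⟨_, star_mem_seqIndD hφ, φ, hφ,
    (seqIndD_odd (MF_normal L) le_rfl (odd_card L) hφ).2⟩

theorem succ_pow_le {n k : ℕ} (hn : 0 < n) (hk : k ≤ n) : (n + 1) ^ k ≤ 3 * n ^ k := by
  have n0 : (0 : ℝ) < n := by exact_mod_cast hn
  have h1 : (1 + (n : ℝ)⁻¹) ^ k ≤ 3 :=
    ((pow_le_pow_right₀ (le_add_of_nonneg_right (by positivity)) hk).trans
      Real.one_add_inv_pow_le_exp).trans Real.exp_one_lt_three.le
  have h2 : ((n : ℝ) + 1) ^ k ≤ 3 * (n : ℝ) ^ k := by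
    rw [show (n : ℝ) + 1 = (1 + (n : ℝ)⁻¹) * n by field_simp, mul_pow]
    exact mul_le_mul_of_nonneg_right h1 (by positivity)
  exact_mod_cast h2

theorem cast_geom {p : ℕ} (hp : 2 ≤ p) (q : ℕ) :
    (((p ^ q - 1) / (p - 1) : ℕ) : ℝ) * (p - 1) = (p : ℝ) ^ q - 1 := by
  have := congrArg (Nat.cast : ℕ → ℝ) (Nat.div_mul_cancel (Nat.sub_one_dvd_pow_sub_one p q))
  rwa [Nat.cast_mul, Nat.cast_sub (by omega : 1 ≤ p), Nat.cast_sub (Nat.one_le_pow _ _ (by omega)),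
    Nat.cast_pow, Nat.cast_one] at this

end PF14a

open PF14a

section NonConj

variable {M L : Subgroup G}

theorem disjoint_dade_type1 (hM : IsCoatom M) (hM1 : ftType M = 1) (hL : IsCoatom L)
    (hL1 : ftType L = 1) (hn : ¬ Conj M L) :
    Disjoint (dadeSupp (sharp (MF M)) (ftR M)) (dadeSupp (sharp (MF L)) (ftR L)) := by
  have := dadeSupp_ftA1_disjoint hM hL hn
  rwa [ftA1, ftA1, (Ms_eq_MF_iff hM).2 (Or.inl hM1), (Ms_eq_MF_iff hL).2 (Or.inl hL1)] at this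

theorem coherent_type1_ortho (hM : IsCoatom M) (hM1 : ftType M = 1) (hL : IsCoatom L)
    (hL1 : ftType L = 1) (hn : ¬ Conj M L) {τM τL : (G → ℂ) →ₗ[ℂ] (G → ℂ)}
    (hτM : CohWith M (S12 M) (tauF M) τM) (hτL : CohWith L (S12 L) (tauF L) τL) :
    ∀ ψ ∈ S12 M, ∀ φ ∈ S12 L, ip ⊤ (τM ψ) (τL φ) = 0 := by
  exact fun ψ hψ φ hφ => disjoint_coherent_ortho MinOdd.odd (ftDadeF hM) (ftDadeF hL)
    (disjoint_dade_type1 hM hM1 hL hL1 hn) hτM hτL ((type1_coherence hM hM1).1 hψ) hψ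
    ((type1_coherence hL hL1).1 hφ) hφ

/-- The inequality used in both branches of PF (14.14). -/
theorem coherent_type1_core_le (hM : IsCoatom M) (hM1 : ftType M = 1) (hL : IsCoatom L)
    (hL1 : ftType L = 1) (hn : ¬ Conj M L) {τM : (G → ℂ) →ₗ[ℂ] (G → ℂ)}
    (hτM : CohWith M (S12 M) (tauF M) τM) {ψ φ : G → ℂ} (hψ : ψ ∈ S12 M)
    (hdψ : dg ψ = (MF M).relIndex M) (hφ : φ ∈ S12 L) (hdφ : dg φ = (MF L).relIndex L)
    (ha : ip ⊤ (betaF L φ) (τM ψ) ≠ 0) :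
    ((𝐨(MF M) : ℝ) - 1) / (MF M).relIndex M ≤ (MF L).relIndex L - 1 := by
  obtain ⟨iL, τL, hτL, -⟩ := type1_coherence hL hL1
  have iM := (type1_coherence hM hM1).1
  have hF := type1_frobenius hL hL1
  have hdis := disjoint_dade_type1 hL hL1 hM hM1 fun h => hn h.symm
  obtain ⟨Γ, -, -, -, a, e, -, -, hb⟩ :=
    (ftDadeF hL).ind1_sub_lin hτL (one_lt_card_S12 hφ) (iL hφ) hφ hdφ
  have b1 := (hb (PF10a.two_mul_succ_le (odd_relIndex _ _) (odd_card _)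
    (fun e => hF.ltN.ne' (card_eq_one.1 e))
    (by simpa using PF10a.frobKerMod_dvd hF))).2
  have b2 := ((ftDadeF hM).ind1_sub_lin_basic hτM (one_lt_card_S12 hψ) (iM hψ) hψ hdψ).1
  have b3 := ((ftDadeF hL).ind1_sub_lin_basic hτL (one_lt_card_S12 hφ) (iL hφ) hφ hdφ).2.2.2.1
  have o := coherent_type1_ortho hM hM1 hL hL1 hn hτM hτL
  obtain ⟨n, hn'⟩ := vchar_ip_int b3 (hτM.vchar ψ (mem_Zs_of_mem hψ))
  have e0 : (0 : ℝ) < (MF M).relIndex M :=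
    Nat.cast_pos.2 (Nat.pos_of_ne_zero index_ne_zero_of_finite)
  have b4 : ∀ ξ ∈ S12 M, (dg ξ : ℝ) ^ 2 / nsq M ξ ≤
      ((MF M).relIndex M : ℝ) ^ 2 * ‖ip ⊤ Γ (τM ξ)‖ ^ 2 := fun ξ hξ => by
    have f := seqIndT_facts (MF_normal M) (seqIndD_subset_T _ _ _ _ hξ)
    obtain ⟨k, hk⟩ := f.2.2.2.2.2.2.1
    have z := sub_mem_Zs0 (mem_Zs_of_mem hξ) (natCast_smul_mem_Zs (mem_Zs_of_mem hψ) k) (by
      rw [f.2.2.2.2.2.1, hk, Pi.smul_apply, irr_one_eq (iM hψ), hdψ]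
      simp [mul_comm])
    have c1 := disjoint_dade_ortho hdis (ind L (MF L) (cf1 (MF L)) - φ) (ξ - (k : ℂ) • ψ)
    rw [← hτM.agree _ z, map_sub τM, map_smul, ip_sub_right, ip_smul_right, sub_eq_zero,
      map_natCast] at c1
    have c2 : ip ⊤ (tauF L (ind L (MF L) (cf1 (MF L)) - φ)) (τM ξ) = ip ⊤ Γ (τM ξ) := by
      rw [e, ip_add_left, ip_add_left, ip_sub_left, ip_eq_zero_symm (b2 ξ hξ),
        ip_eq_zero_symm (o ξ hξ φ hφ), ip_smul_left, ip_sum_left, Finset.sum_eq_zero fun χ hχ => by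
          rw [ip_smul_left, ip_eq_zero_symm (o ξ hξ χ hχ), mul_zero]]
      simp
    rw [← c2, c1, norm_mul, mul_pow, nsq_irr (iM hξ), hk, Complex.norm_natCast]
    have := one_le_norm_sq hn' ha
    push_cast
    nlinarith [mul_nonneg (sq_nonneg ((MF M).relIndex M : ℝ)) (sq_nonneg (k : ℝ))]
  have b5 := Finset.sum_le_sum b4
  have b6 := (on_image hτM iM).1.bessel Γ
  rw [Finset.sum_image (on_image hτM iM).2] at b6
  rw [sum_seqIndD_square (MF_normal M) le_rfl (MF_normal M).2 (le_top.trans norm_bot.ge) bot_le,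
    ← Finset.mul_sum, relIndex_bot_left] at b5
  rw [div_le_iff₀ e0]
  nlinarith

end NonConj

variable {S T U V W₁ W₂ W L : Subgroup G}

/-- PF (14.4). -/
theorem sec14_galT (hp : TypePPair S T W₁ W₂ W) (hT : OfTypeP T V W₂ W₁ W)
    (hlt : 𝐨(W₁) < 𝐨(W₂)) :
    ftType S = 2 ∧ GaloisP T V ⊥ ∧ 𝐨(V) = (𝐨(W₁) ^ 𝐨(W₂) - 1) / (𝐨(W₁) - 1) ∧ IsCyclic V := by
  obtain ⟨U, hS⟩ := hp.exists_ofTypeP
  have w3 := hp.cycTI.basic.2.2.1
  have hg : GaloisP T V ⊥ := by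
    by_contra hcon
    have := (typeP_nonGalois_facts hp.maxT hT hcon).1
    omega
  refine ⟨(typeP_facts hp.maxS hS).2.1 hlt, hg, ?_, ?_⟩
  · rw [typeP_galois_card hp.maxT hT hg, if_neg fun e => ?_]
    have := e.eq_of_lt_of_lt hlt (by omega)
    omega
  · have := ((hT.hyp9_bot hp.maxT).1.galois_facts hg).1
    rwa [(typeP_reg_Fcore hp.maxT hT).2.1, cycMod_bot_iff] at this

/-- PF (14.5). -/
theorem sec14_defL (hp : TypePPair S T W₁ W₂ W) (hS : OfTypeP S U W₁ W₂ W)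
    (hlt : 𝐨(W₁) < 𝐨(W₂)) (hL : IsCoatom L) (hUL : 𝐍(U) ≤ L) :
    ∃ y ∈ MF T, SdProd (MF L) (W₁ ⊔ W₂ ^ᵍ y) L ∧ (MF L).relIndex L = 𝐨(W₂) * 𝐨(W₁) := by
  have h2 := (typeP_facts hp.maxS hS).2.1 hlt
  obtain ⟨hF, hUH, h | ⟨y, hy, h, hc⟩⟩ := typeII_support_facts hp hS h2 hL hUL
  swap
  · exact ⟨y, hy, h, h.relIndex_left.trans hc⟩
  exfalso
  have h1 := ftType_eq_one_of_frobKer hL hF
  obtain ⟨-, τ₁, hτ, φ, hφ, hd⟩ := type1_coherence hL h1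
  obtain ⟨-, -, w1, w2, -, -, -, -, k2, -⟩ := hp.cycTI.basic
  obtain ⟨β, hβ, b1⟩ := Finset.exists_mem_ne (s := irrKer W W₁) (by omega) (cf1 W)
  rcases (typeI_bridge_facts hp.maxS hS hL h1 hτ hφ hd).2.2.2 β hβ b1 with ⟨-, e⟩ | ⟨-, e⟩
  · rw [h.relIndex_left, div_le_div_iff_of_pos_right (card_pos_R W₁), sub_le_sub_iff_right,
      Nat.cast_le] at e
    refine ((hS.ofTypeII_iff hp.maxS).2 h2).not_norm (hUL.trans ?_)
    rw [← h.sup, ← H1.eq_of_le_of_card_le hUH e]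
    exact PF09a.UW_le hS
  · rw [h.relIndex_left] at e
    omega

namespace PF14a

theorem semiReg (hp : TypePPair S T W₁ W₂ W) (hS : OfTypeP S U W₁ W₂ W)
    (hlt : 𝐨(W₁) < 𝐨(W₂)) (hL : IsCoatom L) (hUL : 𝐍(U) ≤ L) :
    U ≤ MF L ∧ ∃ y ∈ MF T, W₂ ^ᵍ y ≤ L ∧ SemiReg (MF L) (W₂ ^ᵍ y) := by
  obtain ⟨hF, hUH, -⟩ := typeII_support_facts hp hS ((typeP_facts hp.maxS hS).2.1 hlt) hL hUL
  obtain ⟨y, hy, h, -⟩ := sec14_defL hp hS hlt hL hUL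
  exact ⟨hUH, y, hy, le_sup_right.trans h.le_right,
    (hF.semiReg h.le_right h.disj).mono le_rfl le_sup_right⟩

end PF14a

/-- PF (14.6). -/
theorem sec14_galS (hp : TypePPair S T W₁ W₂ W) (hS : OfTypeP S U W₁ W₂ W)
    (hlt : 𝐨(W₁) < 𝐨(W₂)) : GaloisP S U ⊥ := by
  by_contra hcon
  obtain ⟨-, h2, hFU, -, hP, -⟩ := typeP_facts hp.maxS hS
  have h2 := h2 hlt
  obtain ⟨L, hL, hUL⟩ :=
    mmax_exists (norm_ne_top_of_le_mmax hp.maxS (PF09a.U_le hS) hFU.ne_botK)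
  obtain ⟨hUH, y, -, hyL, hreg⟩ := semiReg hp hS hlt hL hUL
  obtain ⟨q3, hu⟩ := typeP_nonGalois_facts hp.maxS hS hcon
  obtain ⟨H₁, a, hn⟩ := (hS.hyp9_bot hp.maxS).1.nonGalois hcon
  have hC := (typeP_reg_Fcore hp.maxS hS).2.1
  have a1 := hn.u_dvd
  have a2 := hn.pow_mem
  have a3 := hn.dvd
  rw [hC, relIndex_bot_left, q3, hu, Nat.pow_dvd_pow_iff two_ne_zero] at a1
  rw [hC] at a2
  rw [relIndex_bot_left] at a3
  have hpp := hp.primes.2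
  obtain ⟨t, ht⟩ := odd_card W₂
  rw [ht, Nat.add_sub_cancel] at a3
  rw [ht, Nat.add_sub_cancel, Nat.mul_div_cancel_left _ two_pos] at a1 hu
  obtain rfl : a = t := Nat.dvd_antisymm
    ((Nat.coprime_two_right.2 (hn.a_eq ▸ odd_relIndex _ _)).dvd_of_dvd_mul_left a3) a1
  obtain ⟨r, hr, hra⟩ := Nat.exists_prime_and_dvd hn.one_lt.ne'
  have hrU : r ∣ 𝐨(U) := hu ▸ hra.trans (dvd_pow_self a two_ne_zero)
  have r3 := three_le_of_prime_dvd hr hrU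
  obtain ⟨R₀, hR₀⟩ := exists_isSyl hr U
  have a0 : a ≠ 0 := by have := hn.one_lt; omega
  have hnc : ¬ IsCyclic R₀ := fun hc => by
    obtain ⟨x, rfl⟩ := isCyclic_iff_zpowers.1 hc
    have b1 := hR₀.card_eq_pow_factorization hr
    rw [hu, Nat.factorization_pow, Nat.card_zpowers] at b1
    have b2 := orderOf_dvd_of_pow_eq_one (mem_bot.1 (a2 x (hR₀.le (mem_zpowers x))))
    rw [b1, hr.pow_dvd_iff_le_factorization a0] at b2
    have b3 := hr.factorization_pos_of_dvd a0 hra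
    simp at b2
    omega
  obtain ⟨x, hx, x1, hxP⟩ : ∃ x ∈ R₀, x ≠ 1 ∧ MF S ⊓ 𝐂[x] ≠ ⊥ := by
    by_contra hcon'
    push Not at hcon'
    exact hnc (odd_regular_pgroup_cyclic hr (by omega) hR₀.pgrp
      (hP.ne_bot hpp (by omega)) (hR₀.le.trans hS.sdD.norm) hcon')
  have hd : ftDer S = ⁅S, S⁆ := if_neg (by omega)
  obtain ⟨t1, t2, -⟩ := typeI_II_facts hp.maxS h2.le (hd ▸ hS.sdD)
  have c1 : 𝐂[x] ≤ S := cent_zpowers x ▸ (t2 (zpowers x) (zpowers_le.2 (hR₀.le hx))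
    (by simpa using x1) (by rwa [cent_zpowers])).le
  obtain ⟨R, hR⟩ : ∃ R, R = pCoreOf r (MF L) := ⟨_, rfl⟩
  have hRs : IsSyl r R (MF L) := hR ▸ isSyl_pCoreOf_of_isNilpotent hr (isNilpotent_MF L)
  have hRn := hRs.norm_le_of_isNilpotent hr (isNilpotent_MF L)
  have c2 : R₀ ≤ R := hRs.le_of_normal hr ((le_norm_self _).trans hRn) hR₀.pgrp (hR₀.le.trans hUH)
  have c3 : omegaOne r 𝐙(R) ≤ S :=
    (omegaOne_le _ _).trans ((inf_le_right.trans (cent_le_cent1 (c2 hx))).trans c1)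
  obtain ⟨k, hk⟩ := elemAb_exists_isElem hr (elemAb_omegaOne (p := r) (isMulComm_center R))
  have c4 : ¬ r ∣ U.relIndex S := by
    rw [← relIndex_mul_relIndex U ⁅S, S⁆ S hS.sdD.le_right (der_le S), hS.sdD.relIndex_right,
      hS.sdM.relIndex_left, hr.dvd_mul]
    rintro (h | h)
    · exact hr.one_lt.ne' (Nat.eq_one_of_dvd_coprimes (PF09a.coprime_MF hS) h
        (hrU.trans (card_dvd_of_le le_sup_left)))
    · exact hr.one_lt.ne' (Nat.eq_one_of_dvd_coprimes hFU.coprime hrU h)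
  have c5 : k ≤ 2 := by
    refine (le_pRank hr c3 hk).trans ?_
    rw [← pRank_eq_of_not_dvd_relIndex hr (PF09a.U_le hS) c4, ← hR₀.pRank_eq hr]
    exact (pRank_le_rank hr _).trans (t1 r hr R₀ hR₀).2
  have c6 : omegaOne r 𝐙(R) ≠ ⊥ := omegaOne_ne_bot hr (prime_dvd_card_of_isPGroup hr
    (hRs.pgrp.to_le inf_le_left) (center_ne_bot (isNilpotent_of_isPGroup hr hRs.pgrp)
      fun e => x1 (mem_bot.1 (e ▸ c2 hx))))
  have c7 := (hreg.mono ((omegaOne_le r 𝐙(R)).trans (inf_le_left.trans hRs.le)) le_rfl).card_dvd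
    (((hyL.trans (MF_normal L).2).trans hRn).trans
      ((norm_le_norm_center R).trans (norm_le_norm_omegaOne _ r)))
  rw [card_conj, hk.card] at c7
  have c8 : r ≤ a := Nat.le_of_dvd (Nat.pos_of_ne_zero a0) hra
  have c9 : 𝐨(W₂) ∣ (r + 1) * (r - 1) := by
    interval_cases k
    · exact absurd (card_eq_one.1 hk.card) c6
    · exact (pow_one r ▸ c7).mul_left _
    · rwa [← Nat.sq_sub_sq r 1]
  rcases (Nat.Prime.dvd_mul hpp).1 c9 with h | h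
  · have := Nat.le_of_dvd (by omega) h
    omega
  · have := Nat.le_of_dvd (by omega) h
    omega

/-- PF (14.7), with (14.2) and BG appendix C. -/
theorem sec14_not_norm (hp : TypePPair S T W₁ W₂ W) (hS : OfTypeP S U W₁ W₂ W)
    (hlt : 𝐨(W₁) < 𝐨(W₂)) (hL : IsCoatom L) (hUL : 𝐍(U) ≤ L) : ¬ L ≤ 𝐍(U) := by
  intro hLU
  obtain ⟨hUH, y, hy, hyL, hreg⟩ := semiReg hp hS hlt hL hUL
  have hg := sec14_galS hp hS hlt
  obtain ⟨hq, hpp⟩ := hp.primes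
  obtain ⟨-, -, w1, w2, -⟩ := hp.cycTI.basic
  have a1 := (hreg.mono hUH le_rfl).card_dvd (hyL.trans hLU)
  rw [card_conj] at a1
  have a2 := typeP_galois_card hp.maxS hS hg
  have a3 := Nat.div_mul_cancel (Nat.sub_one_dvd_pow_sub_one 𝐨(W₂) 𝐨(W₁))
  have u0 : 0 < 𝐨(U) := Nat.card_pos
  split_ifs at a2 with hm
  · have a4 := Nat.div_mul_cancel
      ((primes_mod_cases hpp hq (by omega) (by omega)).2.1 hm)
    rw [← a2] at a4
    rw [← a4] at a3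
    obtain ⟨k, hk⟩ := a1
    obtain ⟨p, hp'⟩ : ∃ p, 𝐨(W₂) = p + 1 := ⟨𝐨(W₂) - 1, by omega⟩
    obtain ⟨q, hq'⟩ : ∃ q, 𝐨(W₁) = q + 1 := ⟨𝐨(W₁) - 1, by omega⟩
    have a5 : 𝐨(U) = (p + 1) * k + 1 := by rw [← hp']; omega
    have a6 : 1 ≤ (p + 1) ^ (q + 1) := Nat.one_le_pow _ _ (by omega)
    rw [hp', hq', a5, Nat.add_sub_cancel] at a3
    have a7 : ((p : ℤ) + 1) ∣ q := by
      have a8 : (((p : ℤ) + 1) * k + 1) * (q + 1) * p = (p + 1) ^ (q + 1) - 1 := by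
        exact_mod_cast (congrArg (Nat.cast : ℕ → ℤ) a3).trans (Nat.cast_sub a6)
      exact ⟨k * (q + 1) * p + (q + 1) - (p + 1) ^ q, by linear_combination -a8⟩
    have := Int.le_of_dvd (by omega) a7
    omega
  have h9 := (hS.hyp9_bot hp.maxS).1
  have hC := (typeP_reg_Fcore hp.maxS hS).2.1
  have b0 := (h9.galois_facts hg).2.1
  obtain ⟨F, _, _, f, ψ, b1, b2, b3, b4, b5, b6, b7, -, b9⟩ := h9.galois hg
  rw [hC, relIndex_bot_left, relIndex_bot_left, a2] at b0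
  rw [relIndex_bot_left] at b1 b9
  rw [hC] at b6
  obtain ⟨V, hT⟩ := hp.symm.exists_ofTypeP
  have hQ := (hT.hyp9_bot hp.maxT).2
  refine hlt.not_ge (prime_dim_normed_finField hpp hq b0 F b1 (P := MF S) (U := U) (Q := MF T)
    (P₀ := W₂) f ψ ⟨fun _ _ => trivial, fun x hx z hz e => ?_, fun z _ => b2 z⟩ b3 hS.sdD.norm b7
    (fun x hx z hz e => ?_) (a2 ▸ a3) (fun x => ⟨fun hx => ⟨hS.le2F hx, (b9 x (hS.le2F hx)).1
      (mem_sup_left hx)⟩, fun hx => by simpa using (b9 x hx.1).2 hx.2⟩) hQ.comm ?_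
    ((PF09a.W₁_le hT).trans (MF_normal T).2) hy (hyL.trans hLU))
  · have := b3 _ (mul_mem hx (inv_mem hz)) z hz
    rw [inv_mul_cancel_right, e, right_eq_add, b4 _ (mul_mem hx (inv_mem hz)), mem_bot] at this
    exact mul_inv_eq_one.1 this
  · have c1 := b5 z hz _ (inv_mem hz)
    have c2 := b5 x hx _ (inv_mem hz)
    rw [mul_inv_cancel, (b6 1 (one_mem _)).2 (one_mem _)] at c1
    rw [e, ← c1, b6 _ (mul_mem hx (inv_mem hz)), mem_bot] at c2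
    exact mul_inv_eq_one.1 c2
  · rw [hQ.card]
    exact ((Nat.coprime_primes hq hpp).2 hlt.ne).pow_left _

/-- PF (14.8)(a). -/
theorem pow_succ_lt_pow_succ {p q : ℕ} (hq : 3 ≤ q) (hp : q + 2 ≤ p) : p ^ (q + 1) < q ^ (p + 1) := by
  induction p, hp using Nat.le_induction with
  | base =>
    rcases hq.eq_or_lt with rfl | hq
    · norm_num
    have h1 := succ_pow_le (n := q + 1) (k := q + 1) (by omega) le_rfl
    have h2 := succ_pow_le (n := q) (k := q) (by omega) le_rfl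
    have h3 : 9 * (q + 1) < q ^ 3 := by
      have : 16 * q ≤ q ^ 3 := by
        rw [pow_succ]; exact Nat.mul_le_mul_right _ (by nlinarith)
      omega
    calc (q + 2) ^ (q + 1) ≤ 3 * ((q + 1) ^ q * (q + 1)) := h1
      _ ≤ 3 * (3 * q ^ q * (q + 1)) := by gcongr
      _ = q ^ q * (9 * (q + 1)) := by ring
      _ < q ^ q * q ^ 3 := by gcongr
      _ = q ^ (q + 2 + 1) := by ring
  | succ p hp ih =>
    calc (p + 1) ^ (q + 1) ≤ 3 * p ^ (q + 1) := succ_pow_le (by omega) (by omega)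
      _ < 3 * q ^ (p + 1) := by omega
      _ ≤ q * q ^ (p + 1) := by gcongr
      _ = q ^ (p + 1 + 1) := by ring

/-- PF (14.8)(b). -/
theorem sec14_ratio (hp : TypePPair S T W₁ W₂ W) (hS : OfTypeP S U W₁ W₂ W)
    (hT : OfTypeP T V W₂ W₁ W) (hlt : 𝐨(W₁) < 𝐨(W₂)) :
    ((𝐨(U) : ℝ) - 1) / 𝐨(W₁) < ((𝐨(V) : ℝ) - 1) / 𝐨(W₂) := by
  have hu := (typeP_facts hp.maxS hS).2.2.2.2.2.1
  rw [(typeP_reg_Fcore hp.maxS hS).2.2.2] at hu
  have hv := (sec14_galT hp hT hlt).2.2.1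
  obtain ⟨-, -, w1, w2, ⟨r, hr⟩, ⟨s, hs⟩, -⟩ := hp.cycTI.basic
  have h1 := pow_succ_lt_pow_succ w1 (by omega : 𝐨(W₁) + 2 ≤ 𝐨(W₂))
  have h2 := cast_geom (by omega : 2 ≤ 𝐨(W₂)) 𝐨(W₁)
  have h3 := cast_geom (by omega : 2 ≤ 𝐨(W₁)) 𝐨(W₂)
  rw [← hv] at h3
  have hu' := (Nat.cast_le (α := ℝ)).2 hu
  have h1' := (Nat.cast_lt (α := ℝ)).2 h1
  have w1' : (3 : ℝ) ≤ 𝐨(W₁) := by exact_mod_cast w1
  have hlt' : (𝐨(W₁) : ℝ) < 𝐨(W₂) := by exact_mod_cast hlt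
  have u1 : (1 : ℝ) ≤ 𝐨(U) := by exact_mod_cast Nat.card_pos (α := U)
  push_cast at h1'
  rw [pow_succ, pow_succ] at h1'
  generalize (((𝐨(W₂) ^ 𝐨(W₁) - 1) / (𝐨(W₂) - 1) : ℕ) : ℝ) = N at *
  generalize (𝐨(W₂) : ℝ) ^ 𝐨(W₁) = X at *
  generalize (𝐨(W₁) : ℝ) ^ 𝐨(W₂) = Y at *
  generalize (𝐨(W₁) : ℝ) = q at *
  generalize (𝐨(W₂) : ℝ) = p at *
  generalize (𝐨(U) : ℝ) = u at *
  generalize (𝐨(V) : ℝ) = v at *
  rw [div_lt_div_iff₀ (by linarith) (by linarith)]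
  refine lt_of_mul_lt_mul_right (a := q - 1) ?_ (by linarith)
  have e1 : (v - 1) * q * (q - 1) = Y * q - q * q := by linear_combination q * h3
  have e2 : (N - 1) * p * (p - 1) = X * p - p * p := by linear_combination p * h2
  have e3 : (u - 1) * p * (q - 1) ≤ (N - 1) * p * (p - 1) := by
    have p0 : 0 ≤ p := by linarith
    exact mul_le_mul (mul_le_mul_of_nonneg_right (by linarith) p0) (by linarith) (by linarith)
      (mul_nonneg (by linarith) p0)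
  nlinarith

/-- PF (14.9). -/
theorem sec14_typeT (hp : TypePPair S T W₁ W₂ W) (hlt : 𝐨(W₁) < 𝐨(W₂)) : ftType T = 2 := by
  by_contra h2
  obtain ⟨U, hS⟩ := hp.exists_ofTypeP
  obtain ⟨V, hT⟩ := hp.symm.exists_ofTypeP
  have c : PF10a.Ctx T V W₂ W₁ W := ⟨hp.maxT, hT, h2⟩
  have ct := hp.cycTI
  have hC := (typeP_reg_Fcore hp.maxT hT).1
  have s1 := (type34_structure hp.maxT hT h2).1
  have s2 := (hT.hyp9_bot hp.maxT).1.type34_der2 h2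
  rw [hC, sup_bot_eq] at s1 s2
  have s3 : ∀ ζ ∈ S11 T (MF T), ζ ∈ Irr T ∧ dg ζ = 𝐨(W₂) := fun ζ hζ =>
    hT.mem_S11_of_der2_le s2.le hζ
  have s4 : ConjSub (S11 T (MF T)) (S11 T ⊥) := conjSub_seqIndD _ _ le_rfl bot_le
  obtain ⟨R, hR, -⟩ := hT.subcoherent hp.maxT
  obtain ⟨τ₁, hτ⟩ := (hR.mono (c.sub s4)).uniform_degree_coherence fun χ hχ ψ hψ => by
    rw [irr_one_eq (s3 χ hχ).1, irr_one_eq (s3 ψ hψ).1, (s3 χ hχ).2, (s3 ψ hψ).2]
  obtain ⟨Γ, g1, g2, g3, g4, g5⟩ := bridge13_gap hp.maxS hS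
  obtain ⟨-, -, w1, w2, -, -, -, -, k2, -⟩ := ct.basic
  obtain ⟨β, hβ, b1⟩ := Finset.exists_mem_ne (s := irrKer W W₁) (by omega) (cf1 W)
  have e1 := PF10a.cf1_mem₁ hp.dprod
  have e2 := PF10a.cf1_mem₂ hp.dprod
  have hm := c.pt.muR_facts e2
  have oσ : ∀ ζ ∈ S11 T (MF T), ∀ ω ∈ Irr W, ip ⊤ (τ₁ ζ) (cycσ ⊤ W₁ W₂ ω) = 0 := fun ζ hζ ω hω =>
    cycσ_comm ⊤ W₂ W₁ ▸ hT.coherent_ortho_σ hp.maxT (c.sub s4) hτ hζ (s3 ζ hζ).1 hω
  have key : ∀ ζ ∈ S11 T (MF T), 1 ≤ ‖ip ⊤ Γ (τ₁ ζ)‖ ^ 2 := fun ζ hζ => by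
    obtain ⟨hi, hd⟩ := s3 ζ hζ
    have a0 := c.muR0_sub (s4.1 hζ) hd
    have a1 := CFon_mono T c.sharp_subset a0
    obtain ⟨ψ, hψ⟩ : ∃ ψ, ψ = tau0 T (muR T W₂ W₁ (cf1 W) - ζ) := ⟨_, rfl⟩
    have a2 : ψ ∈ VChar ⊤ :=
      hψ ▸ (ftDade0 hp.maxT).vchar a1 (sub_mem hm.1.mem_VChar (irr_mem_VChar hi))
    have a3 := hτ.vchar ζ (mem_Zs_of_mem hζ)
    have a4 : star (ψ + τ₁ ζ) = ψ + τ₁ ζ := by
      have d1 := (c.pt.star_facts e2).2.1
      rw [star_cf1] at d1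
      have d2 := hτ.agree _ (sub_mem_Zs0 (mem_Zs_of_mem hζ) (mem_Zs_of_mem (s4.2 ζ hζ))
        (irr_isChar hi).star_one.symm)
      rw [map_sub, map_sub] at d2
      rw [star_add, hτ.star_eq (ftDade0 hp.maxT) s4.2 hζ hi (c.star_ne (s4.1 hζ)), hψ,
        ← dade_star, star_sub, ← d1, map_sub, map_sub]
      linear_combination (norm := skip) -d2
      abel
    have a5 : ip ⊤ ψ (cf1 ⊤) = 1 := by
      have := (hm.2.2.2.2 _ e2).2 _ e1
      rw [if_pos rfl, PF10a.mul_cf1' e1, c.pt.col_zero.1] at this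
      rw [hψ, (ftDade0 hp.maxT).ip_dade_cf1 a1, ip_sub_left,
        (seqIndD_orth_cf1 (der_normal T) le_rfl hζ).1,
        ip_comm_of_int (n := 1) (by simpa using this)]
      simp
    have a6 : ip ⊤ ψ (cycσ ⊤ W₁ W₂ β) = 0 := by
      have d1 := s1 ζ hζ β (irrKer_subset _ _ hβ)
      have d2 := (ct.ip_etaCol e2 e1 hβ).1
      rw [PF10a.cf1_mul' hβ, if_neg b1.symm] at d2
      rwa [← hψ, ip_sub_left, cycσ_comm ⊤ W₂ W₁, d2, sub_zero] at d1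
    have a7 : ip ⊤ ψ (tau0 S (bridge13 S W₁ W₂ β)) = 0 := by
      refine ip_eq_zero_of_disjoint fun x _ => ?_
      by_cases hx : x ∈ dadeSupp (ftA1 T) (ftR T)
      · refine Or.inr (CFon_off (bridge13_facts hp.maxS hS hβ b1).2.2.2.2.1 ?_)
        rintro (⟨a, ha, g, -, rfl⟩ | h)
        · exact Set.disjoint_left.1 (dadeSupp_ftA1_disjoint hp.maxS hp.maxT hp.not_conj)
            (conj_mem_dadeSupp_iff.2 (subset_dadeSupp _ _ (sharp_MF_subset_ftA1 hp.maxS ha))) hx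
        · exact Set.disjoint_left.1 (hp.cover.2 T hp.maxT) h hx
      · rw [hψ, (tau_eq_dade_ftA1 hp.maxT (c.A1_eq ▸ a0)).1]
        exact Or.inl (dade_of_notMem _ hx)
    obtain ⟨n, hn⟩ := ip_real_vchar_mod_two (odd_card ⊤) (add_mem a2 a3) g1 a4 g4
    have a8 : ip ⊤ ψ Γ = -1 := by
      rw [← g2 β hβ b1, ip_add_right, ip_sub_right, a5, a6, a7]
      simp
    rw [g3, mul_zero, zero_add, ip_add_left, a8] at hn
    have a9 : ip ⊤ Γ (τ₁ ζ) = (2 * n + 1 : ℤ) :=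
      ip_comm_of_int (by push_cast; linear_combination hn)
    refine one_le_norm_sq a9 ?_
    rw [a9, Int.cast_ne_zero]
    omega
  obtain ⟨o1, o2⟩ := on_image hτ fun ζ hζ => (s3 ζ hζ).1
  have f1 := g5 (Γ - ∑ α ∈ (S11 T (MF T)).image τ₁, ip ⊤ Γ α • α) _ (sub_add_cancel _ _).symm
    (by
      rw [ip_sum_right]
      exact Finset.sum_eq_zero fun α hα => by rw [ip_smul_right, o1.ip_sub_proj Γ hα, mul_zero])
    fun ω hω => by
      rw [ip_sum_left]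
      refine Finset.sum_eq_zero fun α hα => ?_
      obtain ⟨ζ, hζ, rfl⟩ := Finset.mem_image.1 hα
      rw [ip_smul_left, oσ ζ hζ ω hω, mul_zero]
  rw [o1.nsq_sum_smul, Finset.sum_image o2] at f1
  have f2 := (Finset.sum_le_sum key).trans f1
  have f3 := sum_seqIndD_square (der_normal T) le_rfl (der_normal T).2 (MF_normal T).2
    hT.sdD.le_left
  rw [Finset.sum_congr rfl (g := fun _ => (𝐨(W₂) : ℝ) ^ 2) fun ζ hζ => by
    rw [(s3 ζ hζ).2, nsq_irr (s3 ζ hζ).1, div_one], hT.sdM.relIndex_left, hT.sdD.relIndex_left,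
    Finset.sum_const, nsmul_eq_mul] at f3
  rw [Finset.sum_const, nsmul_eq_mul, mul_one] at f2
  refine (sec14_ratio hp hS hT hlt).not_ge (le_trans (le_of_eq ?_) f2)
  have p0 := card_ne_zero_R W₂
  rw [div_eq_iff p0]
  exact mul_left_cancel₀ p0 (by linear_combination -f3)

end Cfsg.Agent.FT
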