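/-
PF (14.10)-(14.16): the final contradiction.
-/
import Cfsg.Agent.FT.PF14a

set_option autoImplicit false
set_option linter.unusedSectionVars false
set_option linter.unusedVariables false

namespace Cfsg.Agent.FT

open Subgroup Cfsg Cfsg.Agent
open scoped commutatorElement ComplexConjugate

universe u

namespace PF14b

theorem num_x {x m : ℕ} (hm : Odd m) (hx : Odd x) (h : x ≡ 1 [MOD m]) (h1 : x ≠ 1) :
    2 * m + 1 ≤ x := by
  obtain ⟨t, ht⟩ := (Nat.modEq_iff_dvd' hx.pos).1 h.symm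
  have hx0 := hx.pos
  rcases t with _ | _ | t
  · omega
  · obtain ⟨a, ha⟩ := hm
    obtain ⟨b, hb⟩ := hx
    omega
  · have : m * (t + 1 + 1) = 2 * m + m * t := by ring
    omega

theorem modEq_of_dvd_sub {n m : ℕ} (h0 : 0 < n) (h : m ∣ n - 1) : n ≡ 1 [MOD m] :=
  ((Nat.modEq_iff_dvd' h0).2 h).symm

theorem modEq_of_mul {v x m : ℕ} (h1 : v * x ≡ 1 [MOD m]) (h2 : v ≡ 1 [MOD m]) : x ≡ 1 [MOD m] := by
  have := (h2.mul_right x).symm.trans h1
  rwa [one_mul] at this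

theorem geom_eq {p : ℕ} (hp : 2 ≤ p) (q : ℕ) :
    (p ^ q - 1) / (p - 1) = ∑ i ∈ Finset.range q, p ^ i := (Nat.geomSum_eq hp q).symm

theorem geom_lb {p q : ℕ} (hp : 2 ≤ p) (hq : 3 ≤ q) :
    p ^ (q - 1) + p + 1 ≤ (p ^ q - 1) / (p - 1) := by
  obtain ⟨r, rfl⟩ := Nat.exists_eq_add_of_le' hq
  rw [geom_eq hp, Finset.sum_range_succ, Finset.sum_range_succ', Finset.sum_range_succ']
  simp only [zero_add, pow_one, pow_zero, show r + 3 - 1 = r + 2 by omega]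
  omega

theorem geom_modEq {p q : ℕ} (hp : 2 ≤ p) (hq : 0 < q) : (p ^ q - 1) / (p - 1) ≡ 1 [MOD p] := by
  obtain ⟨r, rfl⟩ := Nat.exists_eq_add_of_le' hq
  rw [geom_eq hp, Finset.sum_range_succ', pow_zero]
  have : p ∣ ∑ i ∈ Finset.range r, p ^ (i + 1) :=
    Finset.dvd_sum fun i _ => dvd_pow_self p (Nat.succ_ne_zero i)
  simpa using ((Nat.modEq_zero_iff_dvd.2 this).add_right 1)

theorem le_three_pow {p : ℕ} (hp : 3 ≤ p) : p ≤ 3 ^ (p - 2) := by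
  induction p, hp using Nat.le_induction with
  | base => norm_num
  | succ p hp ih =>
    rw [show p + 1 - 2 = p - 2 + 1 by omega, pow_succ]
    omega

theorem sq_le_three_pow {p : ℕ} (hp : 7 ≤ p) : p ^ 2 ≤ 3 ^ (p - 3) := by
  induction p, hp using Nat.le_induction with
  | base => norm_num
  | succ p hp ih =>
    rw [show p + 1 - 3 = p - 3 + 1 by omega, pow_succ 3]
    nlinarith

theorem num_final {p q u v k : ℕ} (hq : 3 ≤ q) (hp : q + 2 ≤ p) (hu : 2 * q + 1 ≤ u)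
    (hv : p * q ≤ v) (hk : v * (2 * p + 1) ≤ k)
    (h : (1 : ℝ) ≤ (q * p : ℕ) / k + (k - 1) / (k * (q * p : ℕ)) + ((q - 1) * (p - 1)) / (q * p) +
      1 / (u * q) + 1 / (v * p)) : False := by
  have hq' : (3 : ℝ) ≤ q := by exact_mod_cast hq
  have hp' : (q : ℝ) + 2 ≤ p := by exact_mod_cast hp
  have hu' : 2 * (q : ℝ) + 1 ≤ u := by exact_mod_cast hu
  have hv' : (p : ℝ) * q ≤ v := by exact_mod_cast hv
  have hk' : (v : ℝ) * (2 * p + 1) ≤ k := by exact_mod_cast hk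
  have q0 : (0 : ℝ) < q := by linarith
  have p0 : (0 : ℝ) < p := by linarith
  have v0 : (0 : ℝ) < v := lt_of_lt_of_le (by positivity) hv'
  have k0 : (0 : ℝ) < k := lt_of_lt_of_le (by positivity) hk'
  push_cast at h
  have h1 : (q : ℝ) * p / k ≤ 1 / (2 * p) := by
    rw [div_le_div_iff₀ k0 (by positivity)]
    nlinarith
  have h2 : ((k : ℝ) - 1) / (k * (q * p)) ≤ 1 / (q * p) := by
    rw [div_le_div_iff₀ (by positivity) (by positivity)]
    nlinarith [mul_pos q0 p0]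
  have h3 : 1 / ((u : ℝ) * q) ≤ 1 / (7 * q) :=
    one_div_le_one_div_of_le (by positivity) (mul_le_mul_of_nonneg_right (by linarith) q0.le)
  have h4 : 1 / ((v : ℝ) * p) ≤ 1 / (15 * p) :=
    one_div_le_one_div_of_le (by positivity) (mul_le_mul_of_nonneg_right (by nlinarith) p0.le)
  have h5 : (1 : ℝ) ≤ 1 / (2 * p) + 1 / (q * p) + ((q - 1) * (p - 1)) / (q * p) + 1 / (7 * q) +
      1 / (15 * p) := by linarith
  have h6 : (1 : ℝ) / (2 * p) + 1 / (q * p) + ((q - 1) * (p - 1)) / (q * p) + 1 / (7 * q) +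
      1 / (15 * p) = 1 + (2 - 13 / 30 * q - 6 / 7 * p) / (q * p) := by
    field_simp; ring
  have h7 : (2 - 13 / 30 * (q : ℝ) - 6 / 7 * p) / (q * p) < 0 :=
    div_neg_of_neg_of_pos (by linarith) (by positivity)
  linarith

theorem num_b {p q v : ℕ} (hq : 3 ≤ q) (hp : q + 2 ≤ p) (oq : Odd q) (op : Odd p)
    (hv : v = (q ^ p - 1) / (q - 1)) (h : v ≤ p * q * (p * q - 1) + 1) : q = 3 ∧ p = 5 := by
  have h1 := geom_lb (p := q) (q := p) (by omega) (by omega)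
  have h2 : q ^ (p - 3) < p ^ 2 := by
    have e : q ^ (p - 1) = q ^ (p - 3) * q ^ 2 := by rw [← pow_add]; congr 1; omega
    have h3 : p * q * (p * q - 1) ≤ p ^ 2 * q ^ 2 :=
      (Nat.mul_le_mul_left _ (Nat.sub_le _ _)).trans (le_of_eq (by ring))
    exact Nat.lt_of_mul_lt_mul_right (a := q ^ 2) (by omega)
  have h3 := pow_succ_lt_pow_succ hq hp
  have h4 : q = 3 := by
    by_contra h4
    have h5 : 5 ≤ q := by obtain ⟨a, ha⟩ := oq; omega
    have e : q ^ (p + 1) = q ^ (p - 3) * q ^ 4 := by rw [← pow_add]; congr 1; omega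
    have h6 : p ^ 6 ≤ p ^ (q + 1) := Nat.pow_le_pow_right (by omega) (by omega)
    have h7 : q ^ 4 ≤ p ^ 4 := Nat.pow_le_pow_left (by omega) 4
    have h8 := Nat.mul_le_mul h2.le h7
    rw [← pow_add p, show 2 + 4 = 6 from rfl] at h8
    omega
  subst h4
  refine ⟨rfl, ?_⟩
  by_contra h5
  have := sq_le_three_pow (p := p) (by obtain ⟨a, ha⟩ := op; omega)
  omega

theorem num15 {p q u x : ℕ} (hq : 3 ≤ q) (hp : q + 2 ≤ p) (oq : Odd q) (op : Odd p) (ox : Odd x)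
    (h1 : p ≡ 1 [MOD q]) (hu : q * u = (p ^ q - 1) / (p - 1)) (h2 : u ≡ 1 [MOD q])
    (h3 : u * x ≡ 1 [MOD p]) (h4 : u * x ≡ 1 [MOD q])
    (h : u * x ≤ p * q * (p * q - 1) + 1) : False := by
  have h5 : x ≡ q [MOD p] := by
    have e1 := (hu ▸ geom_modEq (p := p) (q := q) (by omega) (by omega)).mul_right x
    have e2 := h3.mul_left q
    rw [mul_assoc, one_mul] at e1
    rw [mul_one] at e2
    exact e1.symm.trans e2
  have h6 := modEq_of_mul h4 h2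
  have h7 : q ≤ x := by
    by_contra h7
    have := Nat.ModEq.eq_of_lt_of_lt h5 (by omega) (by omega)
    omega
  obtain ⟨n, hn⟩ := (Nat.modEq_iff_dvd' h7).1 h5.symm
  have hx : x = q + p * n := by omega
  have h8 : n ≡ 1 [MOD q] := by
    refine modEq_of_mul ?_ h1
    rw [hx] at h6
    exact ((Nat.add_modEq_left (n := q) (a := p * n)).symm).trans h6
  have h9 : Even n := by
    by_contra h9
    rw [hx] at ox
    exact Nat.not_odd_iff_even.2 (oq.add_odd (op.mul (Nat.not_even_iff_odd.1 h9))) ox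
  have h10 : q + 1 ≤ n := by
    rcases Nat.eq_zero_or_pos n with rfl | h0
    · have := Nat.ModEq.eq_of_lt_of_lt h8 (by omega) (by omega)
      omega
    · obtain ⟨t, ht⟩ := (Nat.modEq_iff_dvd' h0).1 h8.symm
      rcases t with _ | t
      · obtain ⟨a, ha⟩ := h9; omega
      · have : q * (t + 1) = q + q * t := by ring
        omega
  have h11 : q + p * (q + 1) ≤ x := hx ▸ Nat.add_le_add_left (Nat.mul_le_mul_left p h10) q
  have h12 := hu ▸ geom_lb (p := p) (q := q) (by omega) hq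
  have h13 := Nat.mul_le_mul h12 h11
  have h14 := Nat.mul_le_mul_left q h
  rw [← mul_assoc] at h14
  have h15 := h13.trans h14
  obtain ⟨s, hs⟩ : ∃ s, p * q = s + 1 := ⟨p * q - 1, by
    have : 0 < p * q := Nat.mul_pos (by omega) (by omega)
    omega⟩
  rw [show p * q - 1 = s by omega] at h15
  by_cases h16 : q = 3
  · subst h16
    norm_num at h15
    have : s = 3 * p - 1 := by omega
    subst this
    obtain ⟨r, rfl⟩ := Nat.exists_eq_add_of_le' hp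
    rw [show 3 * (r + (3 + 2)) - 1 = 3 * r + 14 by omega] at h15
    nlinarith [Nat.zero_le (r ^ 3), Nat.zero_le (r ^ 2)]
  · have h17 : p ^ 4 ≤ p ^ (q - 1) :=
      Nat.pow_le_pow_right (by omega) (by obtain ⟨a, ha⟩ := oq; omega)
    have h18 : (p ^ 4 + 1) * (p * q) ≤ (p ^ (q - 1) + p + 1) * (q + p * (q + 1)) :=
      Nat.mul_le_mul (by omega) (by nlinarith)
    have h19 : q * (p * q * s + 1) ≤ q * (p * q * (p * p) + 1) :=
      Nat.mul_le_mul_left _ (Nat.add_le_add_right (Nat.mul_le_mul_left _ (by nlinarith)) 1)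
    have h20 : q * (p * q * (p * p) + 1) < (p ^ 4 + 1) * (p * q) := by
      have h21 : q * (p * q * (p * p)) ≤ p ^ 4 * (p * q) := by
        calc q * (p * q * (p * p)) = (q * (p * p)) * (p * q) := by ring
          _ ≤ _ := Nat.mul_le_mul_right _ (by
            calc q * (p * p) ≤ (p * p) * (p * p) := Nat.mul_le_mul_right _ (by nlinarith)
              _ = p ^ 4 := by ring)
      nlinarith
    omega

variable {G : Type u} [Group G] [Finite G] [MinOdd G]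

variable {S T U V W₁ W₂ W L : Subgroup G}

theorem frob_index {K : Subgroup G} (hF : FrobKer L K) :
    𝐨(K) ≡ 1 [MOD K.relIndex L] ∧ 2 * K.relIndex L + 1 ≤ 𝐨(K) := by
  obtain ⟨R, hR, rfl⟩ := hF.exists_frob
  have h1 : 𝐨(K) ≡ 1 [MOD K.relIndex (K ⊔ R)] := by
    rw [hR.sdProd.relIndex_left]
    exact modEq_of_dvd_sub Nat.card_pos hR.card_dvd
  exact ⟨h1, num_x (odd_relIndex _ _) (odd_card _) h1 fun e => hF.ltN.ne' (card_eq_one.1 e)⟩

theorem star_mem_S12 {φ : G → ℂ} (hφ : φ ∈ S12 L) :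
    star φ ∈ S12 L ∧ star φ ≠ φ ∧ 1 < (S12 L).card := by
  have h1 := star_mem_seqIndD hφ
  have h2 := (seqIndD_odd (MF_normal L) le_rfl (odd_card L) hφ).2
  exact ⟨h1, h2, Finset.one_lt_card.2 ⟨_, h1, _, hφ, h2⟩⟩

/-- PF (14.11.2). -/
theorem support_coherence (hp : TypePPair S T W₁ W₂ W) (hS : OfTypeP S U W₁ W₂ W)
    (hT : OfTypeP T V W₂ W₁ W) (hL : IsCoatom L) (h1 : ftType L = 1)
    {τ₁ : (G → ℂ) →ₗ[ℂ] (G → ℂ)} (hτ : CohWith L (S12 L) (tauF L) τ₁) {φ : G → ℂ}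
    (hφ : φ ∈ S12 L) (hd : dg φ = (MF L).relIndex L)
    (hu : ((𝐨(U) : ℝ) - 1) / 𝐨(W₁) < ((𝐨(MF L) : ℝ) - 1) / (MF L).relIndex L)
    (hv : ((𝐨(V) : ℝ) - 1) / 𝐨(W₂) < ((𝐨(MF L) : ℝ) - 1) / (MF L).relIndex L)
    (he : (MF L).relIndex L ≤ 𝐨(W₁) * 𝐨(W₂)) :
    (MF L).relIndex L = 𝐨(W₁) * 𝐨(W₂) ∧ ∃ c : (G → ℂ) → ℤ, (∀ ω ∈ Irr W, Odd (c ω)) ∧
      ∃ χ, (χ = τ₁ φ ∨ χ = -τ₁ (star φ)) ∧
        betaF L φ = ∑ ω ∈ Irr W, (c ω : ℂ) • cycσ ⊤ W₁ W₂ ω - χ := by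
  classical
  have C := hp.cycTI
  have hi := (type1_coherence hL h1).1
  obtain ⟨s1, s2, s3⟩ := star_mem_S12 hφ
  obtain ⟨-, b1, b2, b3, b4, -⟩ := (ftDadeF hL).ind1_sub_lin_basic hτ s3 (hi hφ) hφ hd
  obtain ⟨f1, f2, -, f3⟩ := typeI_bridge_facts hp.maxS hS hL h1 hτ hφ hd
  obtain ⟨-, -, -, f4⟩ := typeI_bridge_facts hp.maxT hT hL h1 hτ hφ hd
  change ip ⊤ (betaF L φ) _ = 1 at b2
  change betaF L φ ∈ _ at b3
  change nsq ⊤ (betaF L φ) = _ at b4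
  have hc : ∀ ω : G → ℂ, ∃ n : ℤ, ω ∈ Irr W → ip ⊤ (betaF L φ) (cycσ ⊤ W₁ W₂ ω) = n := fun ω => by
    by_cases hω : ω ∈ Irr W
    · obtain ⟨n, hn⟩ := vchar_ip_int b3 (C.σ_dirr hω).mem_VChar
      exact ⟨n, fun _ => hn⟩
    · exact ⟨0, fun h => absurd h hω⟩
  choose c hc using hc
  have c1 : c (cf1 W) = 1 := by
    have := hc _ (cf1_mem_Irr W)
    rw [C.σ_cf1, b2] at this
    exact_mod_cast this.symm
  have oβ : ∀ β ∈ irrKer W W₁, Odd (c β) := fun β hβ => by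
    by_cases e : β = cf1 W
    · rw [e, c1]; exact odd_one
    · obtain ⟨⟨n, hn⟩, -⟩ := (f3 β hβ e).resolve_left fun h => absurd h.2 (not_le.2 hu)
      rw [hc β (irrKer_subset _ _ hβ)] at hn
      exact ⟨n, by exact_mod_cast hn⟩
  have oα : ∀ α ∈ irrKer W W₂, Odd (c α) := fun α hα => by
    by_cases e : α = cf1 W
    · rw [e, c1]; exact odd_one
    · obtain ⟨⟨n, hn⟩, -⟩ := (f4 α hα e).resolve_left fun h => absurd h.2 (not_le.2 hv)
      rw [cycσ_comm, hc α (irrKer_subset _ _ hα)] at hn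
      exact ⟨n, by exact_mod_cast hn⟩
  have oω : ∀ ω ∈ Irr W, Odd (c ω) := fun ω hω => by
    obtain ⟨α, hα, β, hβ, e⟩ := hp.dprod.exists_mul hω
    have hα' := irrKer_subset _ _ hα
    have hβ' := irrKer_subset _ _ hβ
    have := C.ip_exchange (vchar_mem_CF b3) (fun x hx => dade_of_notMem _ fun h =>
      Set.disjoint_left.1 f1 h (Or.inr (subset_classSupp _ _ (hp.dprod.sup ▸ hx.1)))) hα
      (cf1_mem_irrKer hp.dprod.le_right) hβ (cf1_mem_irrKer hp.dprod.le_left)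
    rw [← e, mul_cf1 (irr_mem_CF hα'), cf1_mul (irr_mem_CF hβ'), cf1_mul (cf1_mem_CF W), hc ω hω,
      hc α hα', hc β hβ', hc _ (cf1_mem_Irr W), c1] at this
    have h2 : c ω = c α + c β - 1 := by
      have : (c ω : ℂ) = c α + c β - 1 := by push_cast at this; linear_combination this
      exact_mod_cast this
    rw [h2]
    exact ((oα α hα).add_odd (oβ β hβ)).sub_odd odd_one
  obtain ⟨χ, hχ⟩ : ∃ χ, χ = ∑ ω ∈ Irr W, (c ω : ℂ) • cycσ ⊤ W₁ W₂ ω - betaF L φ := ⟨_, rfl⟩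
  have v1 : χ ∈ VChar ⊤ := hχ ▸ sub_mem (sum_mem fun ω hω =>
    vchar_int_smul (C.σ_dirr hω).mem_VChar _) b3
  have n1 := PF09c.proj_idx (H := ⊤) (Irr W) (cycσ ⊤ W₁ W₂) (fun i hi j hj => by
    rw [C.ip_σ hi hj]) (betaF L φ)
  rw [Finset.sum_congr (s₁ := Irr W) rfl (g := fun ω => (c ω : ℂ) • cycσ ⊤ W₁ W₂ ω)
    (fun ω hω => by rw [hc ω hω]), ← neg_sub, ← hχ, nsq_neg, b4] at n1
  have n2 : ((𝐨(W₁) * 𝐨(W₂) : ℕ) : ℝ) ≤ ∑ ω ∈ Irr W, ‖ip ⊤ (betaF L φ) (cycσ ⊤ W₁ W₂ ω)‖ ^ 2 := by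
    rw [← hp.dprod.card, ← card_Irr_of_comm C.basic.1, Finset.card_eq_sum_ones, Nat.cast_sum]
    refine Finset.sum_le_sum fun ω hω => ?_
    rw [hc ω hω, Complex.norm_intCast, sq_abs]
    have : c ω ≠ 0 := fun e => by simpa [e] using oω ω hω
    exact_mod_cast (one_le_sq_iff_one_le_abs _).2 (Int.one_le_abs this)
  have z0 : φ - star φ ∈ Zs0 (S12 L) := sub_mem_Zs0 (mem_Zs_of_mem hφ) (mem_Zs_of_mem s1)
    (irr_isChar (hi hφ)).star_one.symm
  have i1 : ip ⊤ χ (τ₁ φ) - ip ⊤ χ (τ₁ (star φ)) = 1 := by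
    have o : ∀ ξ ∈ S12 L, ip ⊤ χ (τ₁ ξ) = -ip ⊤ (betaF L φ) (τ₁ ξ) := fun ξ hξ => by
      rw [hχ, ip_sub_left, ip_sum_left, Finset.sum_eq_zero fun ω hω => by
        rw [ip_smul_left, ip_eq_zero_symm (f2 ξ hξ ω hω), mul_zero], zero_sub]
    have := (ftDadeF hL).iso b1 (Zs0_seqIndT (MF_normal L) (seqIndD_subset_T _ _ _ _) z0).1
    rw [← hτ.agree _ z0, map_sub τ₁, ip_sub_right, ip_sub_left L, ip_sub_right, ip_sub_right,
      ip_eq_zero_symm (seqIndD_orth_cf1 (MF_normal L) le_rfl hφ).2,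
      ip_eq_zero_symm (seqIndD_orth_cf1 (MF_normal L) le_rfl s1).2, ip_irr_self (hi hφ),
      ip_irr_of_ne (hi hφ) (hi s1) s2.symm] at this
    rw [o φ hφ, o _ s1]
    change ip ⊤ (betaF L φ) _ - ip ⊤ (betaF L φ) _ = _ at this
    linear_combination -this
  have n3 := vchar_one_le_nsq v1 fun e => by simp [e, ip_zero_left] at i1
  have he' : ((MF L).relIndex L : ℝ) ≤ (𝐨(W₁) * 𝐨(W₂) : ℕ) := by exact_mod_cast he
  have d1 : Dirr ⊤ χ := dirr_of_nsq_one v1 (by linarith)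
  refine ⟨le_antisymm he (by exact_mod_cast (by linarith : ((𝐨(W₁) * 𝐨(W₂) : ℕ) : ℝ) ≤
    (MF L).relIndex L)), c, oω, χ, ?_, by rw [hχ, sub_sub_cancel]⟩
  have d2 := hτ.dirr hφ (hi hφ)
  have d3 := hτ.dirr s1 (hi s1)
  rcases d1.ip_cases d2 with e | e | e
  · exact Or.inl e
  · rw [e, ip_neg_left, ip_neg_left, d2.ip_self, hτ.iso _ (mem_Zs_of_mem hφ) _ (mem_Zs_of_mem s1),
      ip_irr_of_ne (hi hφ) (hi s1) s2.symm] at i1
    norm_num at i1
  · exact Or.inr (d1.eq_of_ip_eq_one d3.neg (by rw [ip_neg_right, ← i1, e, zero_sub]))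

theorem tiP (hM : IsCoatom S) (hS : OfTypeP S U W₁ W₂ W) : NormedTI (sharp (MF S)) ⊤ S :=
  (typeP_facts hM hS).2.2.2.2.2.2.2.1.mono ((sharp_MF_subset_ftA1 hM).trans
    ((ftA1_subset_ftA hM).trans (ftA_subset_ftA0 S))) (sharp_nonempty.2 fun e =>
      hS.ne_bot2 (eq_bot_iff.2 (e ▸ hS.le2F))) (ftDadeF hM).norm

theorem not_dvd_orderOf (hM : IsCoatom S) (hS : OfTypeP S U W₁ W₂ W) (hg : GaloisP S U ⊥) {g : G}
    (h1 : g ∉ classSupp (hatSet W₁ W₂) ⊤) (h2 : g ∉ classSupp (sharp (MF S)) ⊤)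
    (h3 : g ∉ classSupp (sharp W₁) ⊤) : ¬ 𝐨(W₂) ∣ orderOf g := by
  intro hd
  have pp := (hS.primes hM).2
  obtain ⟨h9, hE⟩ := hS.hyp9_bot hM
  obtain ⟨x, hx, ox⟩ := exists_mem_orderOf_eq_prime pp (H := zpowers g) (by rwa [Nat.card_zpowers])
  have hP : IsSyl 𝐨(W₂) (MF S) ⊤ := by
    rw [isSyl_iff_hall pp]
    refine hall_congr (ftCore_facts hM).1.hall fun r hr _ => ?_
    rw [mem_piOf, hE.2, Set.mem_singleton_iff]
    exact ⟨fun h => (Nat.prime_dvd_prime_iff_eq hr pp).1 (hr.dvd_of_dvd_pow h.2),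
      fun h => ⟨hr, h ▸ dvd_pow_self _ (card_ne_zero W₁)⟩⟩
  obtain ⟨y, -, hy⟩ := hP.exists_conj_le pp (Q := zpowers x)
    (isPGroup_of_card_prime (by rw [Nat.card_zpowers, ox])) le_top
  have x1 : y * x * y⁻¹ ∈ sharp (MF S) := ⟨hy (conj_mem_conj (mem_zpowers x) y), fun e => by
    have : x = 1 := by simpa using e
    rw [this, orderOf_one] at ox
    exact pp.one_lt.ne ox⟩
  have g1 : y * g * y⁻¹ ∈ 𝐂[y * x * y⁻¹] := by
    rw [cent1_conj, conj_mem_conj_iff]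
    exact cent1_le_cent1_of_mem_zpowers hx (self_mem_cent1 g)
  have g2 : y * g * y⁻¹ ∈ S := (tiP hM hS).cent1_le x1 (mem_inf.2 ⟨trivial, g1⟩)
  rw [← conj_mem_classSupp_iff (X := ⊤) (g := y) trivial] at h1 h2 h3
  obtain ⟨g', hg'⟩ : ∃ g', g' = y * g * y⁻¹ := ⟨_, rfl⟩
  have g0 : g' ≠ 1 := fun e => by
    have : g = 1 := by simpa [e] using hg'.symm
    rw [this, orderOf_one] at hd
    exact pp.one_lt.ne' (Nat.eq_one_of_dvd_one hd)
  rw [← hg'] at h1 h2 h3 g1 g2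
  by_cases g3 : g' ∈ ⁅S, S⁆
  · obtain ⟨z, hz, v, hv, e⟩ := hS.sdD.mem_iff.1 g3
    have c1 : z ∈ 𝐂[y * x * y⁻¹] := cent_le_cent1 x1.1 (hE.le_cent hz)
    have c2 : v ∈ 𝐂[y * x * y⁻¹] := by simpa [← e] using mul_mem (inv_mem c1) g1
    rcases (h9.galois_facts hg).2.2.2.1 v hv _ x1.1 (by
      rw [mem_bot, commutatorElement_eq_one_iff_mul_comm]; exact mem_cent1.1 c2) with c3 | c3
    · exact x1.2 c3
    · rw [(typeP_reg_Fcore hM hS).2.1, mem_bot] at c3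
      rw [c3, mul_one] at e
      exact h2 (subset_classSupp _ _ ⟨e ▸ hz, g0⟩)
  · obtain ⟨w, hw, s, -, e⟩ := hS.primeTI.exists_conj_mem g2 g3
    by_cases w1 : w ∈ W₁
    · exact h3 ⟨w, ⟨w1, fun e => hw.2 (e ▸ one_mem _)⟩, s, trivial, e⟩
    · exact h1 ⟨w, ⟨hS.dprod.sup ▸ hw.1, w1, hw.2⟩, s, trivial, e⟩

theorem odd_sum (C : CycTI ⊤ W₁ W₂ W) {c : (G → ℂ) → ℤ} (hc : ∀ ω ∈ Irr W, Odd (c ω)) {g : G}
    (hg : (orderOf g).Coprime 𝐨(W)) :
    1 ≤ ‖(∑ ω ∈ Irr W, (c ω : ℂ) • cycσ ⊤ W₁ W₂ ω) g‖ := by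
  classical
  have h1 : ∀ ω : G → ℂ, ∃ n : ℤ, ω ∈ Irr W → cycσ ⊤ W₁ W₂ ω g = n := fun ω => by
    by_cases hω : ω ∈ Irr W
    · obtain ⟨n, hn⟩ := C.σ_int_of_coprime hω Nat.card_pos (fun x hx => by
        obtain ⟨k, hk⟩ := orderOf_dvd_card_of_mem hx
        rw [hk, pow_mul, (C.isLin hω).pow_card hx, one_pow]) hg
      exact ⟨n, fun _ => hn⟩
    · exact ⟨0, fun h => absurd h hω⟩
  choose n hn using h1
  have h2 : (∑ ω ∈ Irr W, (c ω : ℂ) • cycσ ⊤ W₁ W₂ ω) g = (∑ ω ∈ Irr W, c ω * n ω : ℤ) := by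
    rw [Finset.sum_apply, Int.cast_sum]
    exact Finset.sum_congr rfl fun ω hω => by rw [Pi.smul_apply, hn ω hω, smul_eq_mul, Int.cast_mul]
  have h3 : ∀ ω ∈ Irr W, n (star ω) = n ω := fun ω hω => by
    have := hn _ (star_mem_Irr hω)
    rw [← C.star_σ (irr_mem_CF hω), star_apply', hn ω hω, map_intCast] at this
    exact_mod_cast this.symm
  have h4 : ((∑ ω ∈ Irr W, c ω * n ω : ℤ) : ZMod 2) = 1 := by
    have e1 : n (cf1 W) = 1 := by
      have := hn _ (cf1_mem_Irr W)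
      rw [C.σ_cf1, cf1_top_apply] at this
      exact_mod_cast this.symm
    rw [Int.cast_sum, Finset.sum_congr rfl (g := fun ω => (n ω : ZMod 2)) fun ω hω => by
      rw [Int.cast_mul, (ZMod.intCast_eq_one_iff_odd).2 (hc ω hω), one_mul],
      ← Finset.add_sum_erase _ _ (cf1_mem_Irr W), e1, Int.cast_one, add_eq_left]
    refine Finset.sum_involution (fun ω _ => star ω) (fun ω hω => ?_) (fun ω hω _ e => ?_)
      (fun ω hω => ?_) fun ω _ => star_star ω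
    · rw [h3 ω (Finset.mem_of_mem_erase hω)]
      exact CharTwo.add_self_eq_zero _
    · obtain ⟨e1, e2⟩ := Finset.mem_erase.1 hω
      exact e1 ((odd_star_irr_eq_iff C.odd e2).1 e)
    · obtain ⟨e1, e2⟩ := Finset.mem_erase.1 hω
      exact Finset.mem_erase.2 ⟨fun e => e1 (by rw [← star_star ω, e, star_cf1]), star_mem_Irr e2⟩
  rw [h2, Complex.norm_intCast]
  exact_mod_cast Int.one_le_abs fun e => by simp [e] at h4

end PF14b

end Cfsg.Agent.FT
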