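/-
PF (14.11)-(14.16).
-/
import Cfsg.Agent.FT.P.PF14b_1

set_option autoImplicit false
set_option linter.unusedSectionVars false
set_option linter.unusedVariables false

namespace Cfsg.Agent.FT

open Subgroup Cfsg Cfsg.Agent
open scoped commutatorElement ComplexConjugate

universe u

variable {G : Type u} [Group G] [Finite G] [MinOdd G]

namespace PF14b

variable {S T U V W₁ W₂ W L : Subgroup G}

theorem pq_facts (hp : TypePPair S T W₁ W₂ W) (hlt : 𝐨(W₁) < 𝐨(W₂)) :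
    3 ≤ 𝐨(W₁) ∧ 𝐨(W₁) + 2 ≤ 𝐨(W₂) := by
  refine ⟨hp.cycTI.basic.2.2.1, ?_⟩
  obtain ⟨a, ha⟩ := odd_card W₁
  obtain ⟨b, hb⟩ := odd_card W₂
  omega

theorem u_facts (hM : IsCoatom S) (hS : OfTypeP S U W₁ W₂ W) :
    𝐨(U) ≡ 1 [MOD 𝐨(W₁)] ∧ 2 * 𝐨(W₁) + 1 ≤ 𝐨(U) := by
  have hF := (typeP_facts hM hS).2.2.1
  have h1 := modEq_of_dvd_sub Nat.card_pos hF.card_dvd
  exact ⟨h1, num_x (odd_card _) (odd_card _) h1 fun e => by
    have := hF.card_lt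
    have h0 : 0 < 𝐨(W₁) := Nat.card_pos
    omega⟩

theorem ratioP (hM : IsCoatom S) (hS : OfTypeP S U W₁ W₂ W) :
    ((classSupp (sharp (MF S)) ⊤).ncard : ℝ) ≤ Nat.card G * (1 / (𝐨(U) * 𝐨(W₁))) := by
  have h1 := (tiP hM hS).ncard_classSupp
  rw [ncard_sharp, card_top, hS.sdM.card, hS.sdD.card] at h1
  have h2 : (classSupp (sharp (MF S)) ⊤).ncard * (𝐨(U) * 𝐨(W₁)) ≤ Nat.card G :=
    Nat.le_of_mul_le_mul_left (c := 𝐨(MF S)) (by
      refine le_trans (le_of_eq ?_) (h1.le.trans (Nat.mul_le_mul_right _ (Nat.sub_le _ _)))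
      ring) Nat.card_pos
  have := card_pos_R U
  have := card_pos_R W₁
  rw [mul_one_div, le_div_iff₀ (by positivity)]
  exact_mod_cast h2

end PF14b

open PF14b

/-- PF (14.11). -/
theorem sec14_defK {S T V W₁ W₂ W M : Subgroup G} (hp : TypePPair S T W₁ W₂ W)
    (hT : OfTypeP T V W₂ W₁ W) (hlt : 𝐨(W₁) < 𝐨(W₂)) (hM : IsCoatom M) (hVM : 𝐍(V) ≤ M) :
    MF M = V ∧ (MF M).relIndex M = 𝐨(W₂) * 𝐨(W₁) := by
  classical
  obtain ⟨U, hS⟩ := hp.exists_ofTypeP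
  have t2 := sec14_typeT hp hlt
  obtain ⟨hF, hVK, hc⟩ := typeII_support_facts hp.symm hT t2 hM hVM
  have hM1 := ftType_eq_one_of_frobKer hM hF
  obtain ⟨q3, hqp⟩ := pq_facts hp hlt
  have hc' : 𝐨(W₂) ∣ (MF M).relIndex M ∧ (MF M).relIndex M ≤ 𝐨(W₁) * 𝐨(W₂) := by
    rcases hc with h1 | ⟨y, -, h1, h2⟩
    · rw [h1.relIndex_left]
      exact ⟨dvd_rfl, Nat.le_mul_of_pos_left _ Nat.card_pos⟩
    · rw [h1.relIndex_left, h2]
      exact ⟨dvd_mul_left _ _, le_rfl⟩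
  by_cases hK : MF M = V
  · refine ⟨hK, ?_⟩
    rcases hc with h1 | ⟨y, -, h1, h2⟩
    · exfalso
      have h2 : M ≤ T := by
        rw [← h1.sup, hK]
        exact sup_le (hT.sdD.le_right.trans (der_le T)) hT.sdM.le_right
      exact ((hT.ofTypeII_iff hp.maxT).2 t2).not_norm (hVM.trans h2)
    · rw [h1.relIndex_left, h2, mul_comm]
  exfalso
  obtain ⟨-, gT, hv, -⟩ := sec14_galT hp hT hlt
  have gS := sec14_galS hp hS hlt
  obtain ⟨k1, k2⟩ := frob_index hF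
  obtain ⟨x, hx⟩ := card_dvd_of_le hVK
  have hx2 : 2 * 𝐨(W₂) + 1 ≤ x := by
    refine num_x (odd_card _) (Odd.of_dvd_nat (odd_card (MF M)) (hx ▸ dvd_mul_left _ _))
      (modEq_of_mul (hx ▸ k1.of_dvd hc'.1) (u_facts hp.maxT hT).1) fun e => hK ?_
    rw [e, mul_one] at hx
    exact (eq_of_le_of_card_ge hVK hx.le).symm
  have hk : 𝐨(V) * (2 * 𝐨(W₂) + 1) ≤ 𝐨(MF M) := hx ▸ Nat.mul_le_mul_left _ hx2
  have hvl : 𝐨(W₂) * 𝐨(W₁) ≤ 𝐨(V) := by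
    have h1 := geom_lb (p := 𝐨(W₁)) (q := 𝐨(W₂)) (by omega) (by omega)
    have h2 := (le_three_pow (p := 𝐨(W₂)) (by omega)).trans (Nat.pow_le_pow_left q3 _)
    have h3 := Nat.mul_le_mul_right 𝐨(W₁) h2
    rw [← pow_succ, show 𝐨(W₂) - 2 + 1 = 𝐨(W₂) - 1 by omega] at h3
    omega
  have e0 : (0 : ℝ) < (MF M).relIndex M := by exact_mod_cast PF09c.relIndex_pos _ _
  have p0 := card_pos_R W₂
  have q0 := card_pos_R W₁
  have hr : ((𝐨(V) : ℝ) - 1) / 𝐨(W₂) < ((𝐨(MF M) : ℝ) - 1) / (MF M).relIndex M := by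
    rw [div_lt_div_iff₀ p0 e0]
    have h1 : ((MF M).relIndex M : ℝ) ≤ 𝐨(W₁) * 𝐨(W₂) := by exact_mod_cast hc'.2
    have h2 : (𝐨(V) : ℝ) * (2 * 𝐨(W₂) + 1) ≤ 𝐨(MF M) := by exact_mod_cast hk
    have h3 : (𝐨(W₁) : ℝ) + 2 ≤ 𝐨(W₂) := by exact_mod_cast hqp
    have h4 : (1 : ℝ) ≤ 𝐨(V) := by exact_mod_cast Nat.card_pos (α := V)
    refine (mul_le_mul_of_nonneg_left h1 (by linarith)).trans_lt ?_
    rw [← mul_assoc]
    exact mul_lt_mul_of_pos_right (by nlinarith) p0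
  obtain ⟨hi, τ₁, hτ, ψ, hψ, hd⟩ := type1_coherence hM hM1
  obtain ⟨he, c, hc, χ, hχ, eβ⟩ := support_coherence hp hS hT hM hM1 hτ hψ hd
    ((sec14_ratio hp hS hT hlt).trans hr) hr hc'.2
  obtain ⟨s1, s2, s3⟩ := star_mem_S12 hψ
  have D := ftDadeF hM
  -- (14.11.3)
  obtain ⟨G₀, hG₀⟩ : ∃ G₀ : Set G, G₀ = {g | g ∉ dadeSupp (sharp (MF M)) (ftR M) ∧
    g ∉ classSupp (hatSet W₁ W₂) ⊤ ∧ g ∉ classSupp (sharp (MF S)) ⊤ ∧
    g ∉ classSupp (sharp (MF T)) ⊤} := ⟨_, rfl⟩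
  have lb : ∀ g ∈ G₀, 1 ≤ ‖τ₁ ψ g‖ ^ 2 := by
    intro g hg
    rw [hG₀] at hg
    obtain ⟨g1, g2, g3, g4⟩ := hg
    have n1 := not_dvd_orderOf hp.maxS hS gS g2 g3
      fun h => g4 (classSupp_mono (sharp_mono hT.le2F) le_rfl h)
    have n2 := not_dvd_orderOf hp.maxT hT gT (hatSet_comm W₁ W₂ ▸ g2) g4
      fun h => g3 (classSupp_mono (sharp_mono hS.le2F) le_rfl h)
    have h1 := odd_sum hp.cycTI hc (g := g) (by
      rw [hp.dprod.card]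
      exact Nat.Coprime.mul_right ((Nat.Prime.coprime_iff_not_dvd hp.primes.1).2 n2).symm
        ((Nat.Prime.coprime_iff_not_dvd hp.primes.2).2 n1).symm)
    have h2 : betaF M ψ g = 0 := dade_of_notMem _ g1
    rw [eβ, Pi.sub_apply, sub_eq_zero] at h2
    rw [h2] at h1
    refine one_le_pow₀ (h1.trans (le_of_eq ?_))
    rcases hχ with rfl | rfl
    · rfl
    · rw [← hτ.star_eq D (fun χ => star_mem_seqIndD) hψ (hi hψ) s2, Pi.neg_apply, norm_neg,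
        star_apply', Complex.norm_conj]
  -- (14.11.4)
  have d1 := hτ.dirr hψ (hi hψ)
  obtain ⟨Γ, -, -, -, a, -, -, -, l1⟩ := D.ind1_sub_lin hτ s3 (hi hψ) hψ hd
  replace l1 := (l1 k2).1.trans (D.nsq_invDade_le_supp d1.mem_CF).1
  have l2 := d1.nsq
  rw [nsq_def, card_top, sum_fs_diff (PF02.sub_top (dadeSupp (sharp (MF M)) (ftR M))),
    mul_add] at l2
  have l3 : (G₀.ncard : ℝ) ≤ ∑ g ∈ fs (((⊤ : Subgroup G) : Set G) \
      dadeSupp (sharp (MF M)) (ftR M)), ‖τ₁ ψ g‖ ^ 2 := by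
    refine le_trans ?_ (Finset.sum_le_sum_of_subset_of_nonneg (fs_subset (A := G₀)
      fun g hg => ⟨trivial, (hG₀ ▸ hg).1⟩) fun _ _ _ => by positivity)
    rw [← card_fs, Finset.card_eq_sum_ones, Nat.cast_sum]
    exact Finset.sum_le_sum fun g hg => by simpa using lb g (mem_fs.1 hg)
  have g0 : (0 : ℝ) < Nat.card G := by exact_mod_cast Nat.card_pos
  have l4 : (Nat.card G : ℝ)⁻¹ * G₀.ncard ≤ (MF M).relIndex M / 𝐨(MF M) := by
    have := mul_le_mul_of_nonneg_left l3 (inv_pos.2 g0).le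
    linarith
  have l5 : Nat.card G ≤ G₀.ncard + (dadeSupp (sharp (MF M)) (ftR M)).ncard +
      (classSupp (hatSet W₁ W₂) ⊤).ncard + (classSupp (sharp (MF S)) ⊤).ncard +
      (classSupp (sharp (MF T)) ⊤).ncard := by
    rw [← Set.ncard_univ]
    refine le_trans (Set.ncard_le_ncard (t := G₀ ∪ dadeSupp (sharp (MF M)) (ftR M) ∪
      classSupp (hatSet W₁ W₂) ⊤ ∪ classSupp (sharp (MF S)) ⊤ ∪ classSupp (sharp (MF T)) ⊤)
      fun g _ => ?_) ?_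
    · simp only [hG₀, Set.mem_union, Set.mem_ofPred_eq]
      tauto
    · refine (Set.ncard_union_le _ _).trans (Nat.add_le_add_right ?_ _)
      refine (Set.ncard_union_le _ _).trans (Nat.add_le_add_right ?_ _)
      refine (Set.ncard_union_le _ _).trans (Nat.add_le_add_right ?_ _)
      exact Set.ncard_union_le _ _
  have l6 := PF02.ncard_supp_real D
  rw [ncard_sharp, ← H1.card_mul_relIndex (MF_le M), Nat.cast_sub Nat.card_pos, Nat.cast_mul,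
    Nat.cast_one] at l6
  have l7 : (Nat.card G : ℝ)⁻¹ * (classSupp (hatSet W₁ W₂) ⊤).ncard =
      ((𝐨(W₁) - 1) * (𝐨(W₂) - 1)) / (𝐨(W₁) * 𝐨(W₂)) := by
    have h1 := hp.ti.ncard_classSupp
    rw [hp.cycTI.basic.2.2.2.2.2.2.2.2.2.1, hp.dprod.card, card_top] at h1
    have h2 := congrArg (Nat.cast : ℕ → ℝ) h1
    push_cast [Nat.cast_sub (Nat.card_pos (α := W₁)), Nat.cast_sub (Nat.card_pos (α := W₂))] at h2
    field_simp
    linear_combination h2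
  have l8 := (inv_mul_le_iff₀ g0).2 (ratioP hp.maxS hS)
  have l9 := (inv_mul_le_iff₀ g0).2 (ratioP hp.maxT hT)
  have l10 := mul_le_mul_of_nonneg_left (Nat.cast_le (α := ℝ).2 l5) (inv_pos.2 g0).le
  rw [inv_mul_cancel₀ g0.ne'] at l10
  push_cast at l10
  rw [he] at l4 l6
  refine num_final q3 hqp (u_facts hp.maxS hS).2 hvl hk ?_
  simp only [mul_add] at l10
  linarith

/-- PF Theorem (14.2). -/
theorem typeII_exclusion {S T W₁ W₂ W : Subgroup G} (hp : TypePPair S T W₁ W₂ W)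
    (hlt : 𝐨(W₁) < 𝐨(W₂)) : False := by
  classical
  obtain ⟨U, hS⟩ := hp.exists_ofTypeP
  obtain ⟨V, hT⟩ := hp.symm.exists_ofTypeP
  obtain ⟨s2, gT, hv, cV⟩ := sec14_galT hp hT hlt
  have gS := sec14_galS hp hS hlt
  have t2 := sec14_typeT hp hlt
  obtain ⟨q3, hqp⟩ := pq_facts hp hlt
  have ex : ∀ {S U W₁ W₂ : Subgroup G}, IsCoatom S → OfTypeP S U W₁ W₂ W →
      ∃ L, IsCoatom L ∧ 𝐍(U) ≤ L := by
    intro S U W₁ W₂ hM hS
    refine mmax_exists (norm_ne_top_of_le_mmax hM (hS.sdD.le_right.trans (der_le S)) fun e => ?_)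
    have := (u_facts hM hS).2
    rw [e, card_bot] at this
    have h0 : 0 < 𝐨(W₁) := Nat.card_pos
    omega
  obtain ⟨L, hL, hUL⟩ := ex hp.maxS hS
  obtain ⟨M, hM, hVM⟩ := ex hp.maxT hT
  obtain ⟨hFL, hUH, -⟩ := typeII_support_facts hp hS s2 hL hUL
  obtain ⟨hFM, -⟩ := typeII_support_facts hp.symm hT t2 hM hVM
  have hL1 := ftType_eq_one_of_frobKer hL hFL
  have hM1 := ftType_eq_one_of_frobKer hM hFM
  obtain ⟨-, -, -, eL⟩ := sec14_defL hp hS hlt hL hUL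
  obtain ⟨hK, eM⟩ := sec14_defK hp hT hlt hM hVM
  have nn := sec14_not_norm hp hS hlt hL hUL
  -- (14.12)
  have hn : ¬ Conj M L := by
    rintro ⟨g, rfl⟩
    refine nn ((MF_normal _).2.trans (norm_le_norm_of_le_cyclic ?_ hUH))
    rw [MF_conj, isCyclic_map_iff (conj_injective g), hK]
    exact cV
  obtain ⟨iL, τL, hτL, φ, hφ, dφ⟩ := type1_coherence hL hL1
  obtain ⟨iM, τM, hτM, ψ, hψ, dψ⟩ := type1_coherence hM hM1
  have bd : ∀ n : ℕ, ((n : ℝ) - 1) / (𝐨(W₂) * 𝐨(W₁) : ℕ) ≤ (𝐨(W₂) * 𝐨(W₁) : ℕ) - 1 →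
      n ≤ 𝐨(W₂) * 𝐨(W₁) * (𝐨(W₂) * 𝐨(W₁) - 1) + 1 := by
    intro n h
    have h0 : 0 < 𝐨(W₂) * 𝐨(W₁) := Nat.mul_pos Nat.card_pos Nat.card_pos
    rw [div_le_iff₀ (by exact_mod_cast h0), ← Nat.cast_pred h0, sub_le_iff_le_add, mul_comm] at h
    exact_mod_cast h
  -- (14.14)
  have hc : 𝐨(MF L) ≤ 𝐨(W₂) * 𝐨(W₁) * (𝐨(W₂) * 𝐨(W₁) - 1) + 1 ∨
      (ip ⊤ (betaF L φ) (τM ψ) ≠ 0 ∧ 𝐨(W₁) = 3 ∧ 𝐨(W₂) = 5) := by
    rcases dade_sub_lin_nonorthogonal MinOdd.odd (ftDadeF hL) (ftDadeF hM)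
      (disjoint_dade_type1 hL hL1 hM hM1 fun h => hn h.symm) hτL hτM (iL hφ) hφ dφ (iM hψ) hψ dψ
      with h1 | h1
    · have := coherent_type1_core_le hM hM1 hL hL1 hn hτM hψ dψ hφ dφ h1
      rw [eL, eM, hK] at this
      exact Or.inr ⟨h1, num_b q3 hqp (odd_card _) (odd_card _) hv (bd _ this)⟩
    · have := coherent_type1_core_le hL hL1 hM hM1 (fun h => hn h.symm) hτL hφ dφ hψ dψ h1
      rw [eL, eM] at this
      exact Or.inl (bd _ this)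
  obtain ⟨x, hx⟩ := card_dvd_of_le hUH
  have ox : Odd x := Odd.of_dvd_nat (odd_card (MF L)) (hx ▸ dvd_mul_left _ _)
  have k1 := (frob_index hFL).1
  rw [eL, hx] at k1
  have u1 := (u_facts hp.maxS hS).1
  have hu := typeP_galois_card hp.maxS hS gS
  obtain ⟨pq, pp⟩ := hp.primes
  -- (14.15)
  by_cases hm : 𝐨(W₂) ≡ 1 [MOD 𝐨(W₁)]
  · rw [if_pos hm] at hu
    rcases hc with h1 | ⟨-, h1, h2⟩
    · refine num15 q3 hqp (odd_card _) (odd_card _) ox hm ?_ u1 (k1.of_dvd (dvd_mul_right _ _))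
        (k1.of_dvd (dvd_mul_left _ _)) (hx ▸ h1)
      rw [hu, Nat.mul_div_cancel' ((primes_mod_cases pp pq (by omega) (by omega)).2.1 hm)]
    · rw [h1, h2] at hm
      exact absurd hm (by decide)
  -- (14.16)
  rw [if_neg hm] at hu
  have u2 : 𝐨(U) ≡ 1 [MOD 𝐨(W₂) * 𝐨(W₁)] :=
    (Nat.modEq_and_modEq_iff_modEq_mul hp.cycTI.basic.2.1.symm).1
      ⟨hu ▸ geom_modEq pp.two_le pq.pos, u1⟩
  have x2 := num_x ((odd_card W₂).mul (odd_card W₁)) ox (modEq_of_mul k1 u2) fun e => nn (by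
    rw [e, mul_one] at hx
    rw [eq_of_le_of_card_ge hUH hx.le]
    exact (MF_normal L).2)
  rcases hc with h1 | ⟨h0, h1, h2⟩
  · have h2 := hu ▸ geom_lb pp.two_le q3
    have h3 : 𝐨(W₂) ^ 2 ≤ 𝐨(W₂) ^ (𝐨(W₁) - 1) := Nat.pow_le_pow_right pp.pos (by omega)
    have h4 : 𝐨(W₂) * 𝐨(W₁) ≤ 𝐨(U) := by nlinarith
    have h5 := Nat.mul_le_mul h4 x2
    have h6 := Nat.mul_le_mul_left (𝐨(W₂) * 𝐨(W₁)) (Nat.sub_le (𝐨(W₂) * 𝐨(W₁)) 1)
    have h7 : 2 ≤ 𝐨(W₂) * 𝐨(W₁) := by nlinarith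
    nlinarith
  · rw [h1, h2] at hu hv x2
    norm_num at hu hv x2
    have x3 : (31 : ℝ) ≤ x := by exact_mod_cast x2
    have hr : (24 : ℝ) < ((𝐨(MF L) : ℝ) - 1) / (MF L).relIndex L := by
      rw [eL, hx, hu, h1, h2]
      push_cast
      linarith
    obtain ⟨-, c, -, χ, hχ, eβ⟩ := support_coherence hp hS hT hL hL1 hτL hφ dφ
      (lt_trans (by rw [hu, h1]; norm_num) hr) (lt_of_le_of_lt (by rw [hv, h2]; norm_num) hr)
      (by rw [eL, mul_comm])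
    obtain ⟨-, f2, -⟩ := typeI_bridge_facts hp.maxS hS hM hM1 hτM hψ dψ
    have o := coherent_type1_ortho hM hM1 hL hL1 hn hτM hτL ψ hψ
    refine h0 ?_
    rw [eβ, ip_sub_left, ip_sum_left, Finset.sum_eq_zero fun ω hω => by
      rw [ip_smul_left, ip_eq_zero_symm (f2 ψ hψ ω hω), mul_zero], zero_sub, neg_eq_zero]
    rcases hχ with rfl | rfl
    · exact ip_eq_zero_symm (o φ hφ)
    · rw [ip_neg_left, ip_eq_zero_symm (o _ (star_mem_seqIndD hφ)), neg_zero]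

end Cfsg.Agent.FT
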