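/-
BG section 1, first part.
-/
import Cfsg.Agent.FT.B.helper1_Core
import Cfsg.Agent.H2.SigBasic
import Cfsg.Agent.S3766

set_option autoImplicit false
set_option linter.unusedVariables false
set_option linter.unusedSectionVars false

namespace Cfsg.Agent.FT

open Subgroup Cfsg Cfsg.Agent
open scoped commutatorElement

universe u

variable {G : Type u} [Group G] [Finite G]

namespace BG01

theorem isMinNormal_bar {H V U : Subgroup G} [(V.subgroupOf H).Normal] (h : ChiefFactor H V U) :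
    L.IsMinNormal (H1.bar H V U) := by
  refine ⟨H1.bar_normal h.normU, fun e => h.lt.not_ge ((H1.bar_eq_bot_iff h.le).mp e),
    fun K hK hle => ?_⟩
  rcases h.min (H1.unbar H V K) (H1.le_unbar (h.lt.le.trans h.le) K)
    (unbar_le_of_le_bar h.lt.le h.le hle) (H1.le_normalizer_unbar_of_normal K) with e | e
  · left; rw [← H1.bar_unbar K, e, H1.bar_self]
  · right; rw [← H1.bar_unbar K, e]

theorem chief_map_subtype {H : Subgroup G} {U V : Subgroup H} (hU : U.Normal) (hV : V.Normal)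
    (h : V < U) (hm : ∀ W : Subgroup H, W.Normal → V ≤ W → W ≤ U → W = V ∨ W = U) :
    ChiefFactor H (V.map H.subtype) (U.map H.subtype) := by
  refine ⟨(map_lt_map_iff_of_injective H.subtype_injective).mpr h, map_subtype_le U,
    H2.le_normalizer_map_subtype V, H2.le_normalizer_map_subtype U, fun W h1 h2 h3 => ?_⟩
  have hW : W ≤ H := h2.trans (map_subtype_le U)
  rw [← map_subgroupOf_eq_of_le hW] at h1 h2 ⊢
  rw [map_subtype_le_map_subtype] at h1 h2
  exact (hm _ (H1.normal_subgroupOf_of_le h3) h1 h2).imp (congrArg _) (congrArg _)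

end BG01

/-- BG 1.1(a): chief factors of solvable groups are elementary abelian. -/
theorem chief_elem {H V U : Subgroup G} (hs : Group.IsSolvable H) (h : ChiefFactor H V U) :
    ∃ p : ℕ, p.Prime ∧ ⁅U, U⁆ ≤ V ∧ (∀ x ∈ U, x ^ p ∈ V) ∧ ∃ n : ℕ, 0 < n ∧ V.relIndex U = p ^ n := by
  have := H1.normal_subgroupOf_of_le h.normV
  have hm := BG01.isMinNormal_bar h
  have := H1.isSolvable_bar (Y := H) (N := V) (H1.isSolvable_of_le h.le hs)
  obtain ⟨p, hp, he⟩ := hm.exists_isElementaryAbelian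
  obtain ⟨h1, h2⟩ := (elemAb_bar_iff h.le).mp he
  obtain ⟨n, hn⟩ := exists_card_eq_pow hp (elemAb_isPGroup he)
  refine ⟨p, hp, h1, h2, n, Nat.pos_of_ne_zero ?_, by rw [← hn, H1.card_bar h.le]⟩
  rintro rfl
  exact hm.2.1 (card_eq_one.mp hn)

/-- BG 1.2, first half: `F(K)` centralizes the chief factors of `H` when `K ⊲ H`. (see S3766) -/
theorem fitting_le_centMod_chief {H K V U : Subgroup G} (hK : K ⊲ H) (h : ChiefFactor H V U) :
    ⁅U, fittingOf K⁆ ≤ V := by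
  have := H1.normal_subgroupOf_of_le h.normV
  have hF := fittingOf_le_of_normal hK
  rw [← H1.bar_le_centralizer_iff h.le (hF.trans (fittingOf_normal H).1)]
  refine (BG01.isMinNormal_bar h).le_centralizer_fittingSubgroup.trans (cent_anti ?_)
  rw [← H2.fittingOf_top, ← H1.bar_top (Y := H) (N := V)]
  exact (H1.bar_mono hF).trans (bar_fittingOf_le le_rfl)

/-- BG 1.2, second half. (see S3766) -/
theorem le_fitting_of_cent_chief {H K X : Subgroup G} (hs : Group.IsSolvable H) (hK : K ⊲ H)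
    (hX : X ≤ K) (h : ∀ V U, ChiefFactor H V U → U ≤ fittingOf K → ⁅U, X⁆ ≤ V) :
    X ≤ fittingOf K := by
  have := H1.normal_subgroupOf_of_le hK.2
  have e : (fittingOf (K.subgroupOf H)).map H.subtype = fittingOf K := by
    rw [← fittingOf_map H.subtype_injective, map_subgroupOf_eq_of_le hK.1]
  intro x hx
  rw [← e]
  refine ⟨⟨x, hK.1 (hX hx)⟩, (S3766.result hs (K.subgroupOf H) _).2.mpr ⟨hX hx, ?_⟩, rfl⟩
  rintro U V ⟨hU, hV, hVU, hm⟩ hUF u hu
  have h1 := h _ _ (BG01.chief_map_subtype hU hV hVU hm) (e ▸ map_mono hUF)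
    (commutator_mem_commutator ⟨u, hu, rfl⟩ hx)
  exact (mem_map_iff_mem H.subtype_injective).mp h1

/-- BG 1.4. -/
theorem coprime_cent_fitting {A K : Subgroup G} (hA : A ≤ 𝐍(K)) (hc : 𝐨(A).Coprime 𝐨(K))
    (hs : Group.IsSolvable K) (h : A ≤ 𝐂(fittingOf K)) : A ≤ 𝐂(K) := by
  refine H1.le_centralizer_of_commutator_le hA hc
    (le_trans (le_inf (comm_le_left_iff.mpr hA) ?_) (cent_fittingOf_le hs)) h
  exact (commutator_mono le_rfl h).trans (comm_le_right_iff.mpr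
    (H1.le_normalizer_centralizer (fittingOf_normal K).2))

/-- BG 1.5(e). -/
theorem coprime_comm_le_piCore {π : Set ℕ} {A K H : Subgroup G} (hA : A ≤ 𝐍(K))
    (hc : 𝐨(A).Coprime 𝐨(K)) (hs : Group.IsSolvable K) (hH : IsPiHallOf πᶜ H K)
    (hHA : H ≤ 𝐂(A)) : ⁅K, A⁆ ≤ piCoreOf π K := by
  have hN := piCoreOf_normal π K
  have := H1.normal_subgroupOf_of_le (Y := K ⊔ A) (N := piCoreOf π K)
    (sup_le hN.2 (hA.trans (norm_le_norm_piCoreOf π K)))
  rw [← H1.bar_le_centralizer_iff (Y := K ⊔ A) le_sup_left le_sup_right, cent_comm]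
  refine coprime_cent_fitting (H1.bar_le_normalizer hA) (H1.coprime_bar hc)
    (H1.isSolvable_bar hs) ?_
  have h1 : piCoreOf π (fittingOf (H1.bar (K ⊔ A) (piCoreOf π K) K)) = ⊥ := by
    rw [eq_bot_iff]
    refine (piCoreOf_le_of_normal π (fittingOf_normal _)).trans ?_
    rw [piCoreOf_bar hN.1 le_sup_left (isPi_piCoreOf π K), H1.bar_self]
  have h2 := (hall_eq_bot_iff (hall_piCoreOf_of_isNilpotent (H2.isNilpotent_fittingOf _) π)).mp h1
  have h3 := le_hall_of_normal (hall_bar (N := piCoreOf π K) le_sup_left hH)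
    (fittingOf_normal _).1 h2 ((H1.bar_mono hH.1).trans (fittingOf_normal _).2)
  refine cent_comm.mp (h3.trans ?_)
  rw [H1.bar_le_centralizer_iff (hH.1.trans le_sup_left) le_sup_right, comm_eq_bot_iff.mpr hHA]
  exact bot_le

/-- BG 1.9-type statement: a group stabilizing a chief series of a subgroup (S1441 form):
if `A ≤ H` centralizes every chief factor of `H` inside `K ⊲ H`, then `A / C_A(K)` is a
`π(K)`-group. -/
theorem stable_chief_pi {H K A : Subgroup G} (hK : K ⊲ H) (hA : A ≤ H)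
    (h : ∀ V U, ChiefFactor H V U → U ≤ K → ⁅U, A⁆ ≤ V) {p : ℕ} (hp : p.Prime)
    (hd : p ∣ 𝐂(K).relIndex A) : p ∣ 𝐨(K) := by
  by_contra hpK
  obtain ⟨P, hP⟩ := exists_isSyl hp A
  have h1 : P ≤ 𝐂(K) := by
    refine le_cent_of_chief hK (hP.le.trans hA) ?_ fun V U hVU hU =>
      (commutator_mono le_rfl hP.le).trans (h V U hVU hU)
    have := Fact.mk hp
    exact (H1.coprime_card_of_isPGroup hP.pgrp
      ((Nat.Prime.coprime_iff_not_dvd hp).mpr hpK).symm).symm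
  exact hP.ndvd (hd.trans (relIndex_dvd_of_le_left _ h1))

/-- BG 1.12. -/
theorem coprime_odd_faithful_cent_abelem {p : ℕ} (hp : p.Prime) (hp2 : p ≠ 2) {K E A : Subgroup G}
    (hK : IsPGroup p K) (hE : E ≤ K) (hEe : IsElementaryAbelian p E) (hA : A ≤ 𝐍(K))
    (hc : 𝐨(A).Coprime p) (h : ∀ x ∈ K ⊓ 𝐂(E), x ^ p = 1 → x ∈ 𝐂(A)) : A ≤ 𝐂(K) := by
  have := Fact.mk hp
  have h1 : E ≤ 𝐂(A) := fun x hx =>
    h x ⟨hE hx, isMulComm_iff_le_cent.mp hEe.1 hx⟩ (hEe.2 x hx)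
  have h2 := H1.le_centralizer_of_centralizes_omega hp2 (hK.to_le (inf_le_left : K ⊓ 𝐂(E) ≤ K))
    (H1.le_normalizer_inf hA (H1.le_normalizer_centralizer
      ((cent_comm.mp h1).trans (cent_le_norm E)))) hc h
  exact H1.le_centralizer_of_centralizer_le (isNilpotent_of_isPGroup hp hK) hA
    (H1.coprime_card_of_isPGroup hK hc) hE h1 (cent_comm.mp h2)

namespace BG01

theorem exists_mem_centMod {K A Q : Subgroup G} (hK : Group.IsNilpotent K) (hA : K ≤ 𝐍(A))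
    (hQ : Q ⊲ K) (h : ¬ Q ≤ A) : ∃ x ∈ Q, x ∉ A ∧ x ∈ centMod K A := by
  have := H1.normal_subgroupOf_of_le hA
  have h1 := inf_center_ne_bot (H1.isNilpotent_bar (Y := K) (N := A) le_rfl hK) (bar_normal hQ)
    (fun e => h ((H1.bar_eq_bot_iff hQ.1).mp e))
  obtain ⟨z, hz, hz1⟩ := (ne_bot_iff_exists_ne_one.mp h1).imp fun z h => And.intro z.2 h
  obtain ⟨y, hy, e⟩ := H1.mem_bar.mp (mem_inf.mp hz).1
  refine ⟨y, hy, fun hyA => hz1 (Subtype.ext (e ▸ H1.qmk_eq_one_iff.mpr hyA)),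
    mem_centMod.mpr ⟨hA y.2, fun u hu => ?_⟩⟩
  have h2 := (H1.qmk_mem_centralizer_bar_iff le_rfl).mp (e ▸ (mem_inf.mp hz).2) u hu
  rw [← commutatorElement_inv]
  exact inv_mem h2

/-- Thompson's critical subgroup. -/
theorem exists_critical {K : Subgroup G} (hK : Group.IsNilpotent K) :
    ∃ C : Subgroup G, C ≤ K ∧ 𝐍(K) ≤ 𝐍(C) ∧ ⁅K, C⁆ ≤ 𝐙(C) ∧ K ⊓ 𝐂(C) ≤ C := by
  obtain ⟨A, -, ⟨hAK, hAn, hAc⟩, hmax⟩ := exists_maximal_ge_of_wellFoundedGT
    (fun A : Subgroup G => A ≤ K ∧ 𝐍(K) ≤ 𝐍(A) ∧ IsMulCommutative A) ⊥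
    ⟨bot_le, norm_bot.ge.trans' le_top, inferInstance⟩
  have hKA : K ≤ 𝐍(A) := le_normalizer.trans hAn
  set C := K ⊓ 𝐂(A) ⊓ centMod K A
  have hCK : C ≤ K := inf_le_left.trans inf_le_left
  have hCn : 𝐍(K) ≤ 𝐍(C) := H1.le_normalizer_inf (H1.le_normalizer_inf le_rfl
    (H1.le_normalizer_centralizer hAn)) (norm_le_norm_centMod le_rfl hAn)
  have hAC : A ≤ C := le_inf (le_inf hAK (isMulComm_iff_le_cent.mp hAc))
    (le_centMod_iff.mpr ⟨le_normalizer, comm_le_right_iff.mpr hKA⟩)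
  have hAZ : A ≤ 𝐙(C) := le_inf hAC (cent_comm.mp (inf_le_left.trans inf_le_right))
  have hZA : 𝐙(C) ≤ A := hmax ⟨inf_le_left.trans hCK, hCn.trans (norm_le_norm_center C),
    isMulComm_center C⟩ hAZ
  refine ⟨C, hCK, hCn, (le_centMod_iff.mp inf_le_right).2.trans hAZ, le_trans ?_ hAC⟩
  by_contra h
  obtain ⟨x, hx, hxA, hxC⟩ := exists_mem_centMod hK hKA (Q := K ⊓ 𝐂(C))
    ⟨inf_le_left, H1.le_normalizer_inf le_normalizer
      (H1.le_normalizer_centralizer (le_normalizer.trans hCn))⟩ h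
  exact hxA (hZA ⟨⟨⟨hx.1, cent_anti hAC hx.2⟩, hxC⟩, hx.2⟩)

theorem omegaOne_exp_of_class_two {p : ℕ} (hp : Odd p) {C : Subgroup G} (h : ⁅C, C⁆ ≤ 𝐂(C)) :
    ∀ x ∈ omegaOne p C, x ^ p = 1 := by
  let S : Subgroup G :=
    { carrier := {x | x ∈ C ∧ x ^ p = 1}
      one_mem' := ⟨one_mem _, one_pow _⟩
      inv_mem' := fun hx => ⟨inv_mem hx.1, by rw [inv_pow, hx.2, inv_one]⟩
      mul_mem' := fun {x y} hx hy => ⟨mul_mem hx.1 hy.1, by
        have h1 := mem_cent.mp (h (commutator_mem_commutator hy.1 hx.1))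
        rw [H1.mul_pow_of_central (h1 x hx.1) (h1 y hy.1), hx.2, hy.2, one_mul, one_mul]
        obtain ⟨k, rfl⟩ := hp
        have : (2 * k + 1).choose 2 = (2 * k + 1) * k := by
          rw [Nat.choose_two_right, Nat.add_sub_cancel, mul_comm 2 k, ← mul_assoc,
            Nat.mul_div_cancel _ two_pos]
        rw [this, pow_mul, ← H1.commutatorElement_pow_left_of_central (h1 y hy.1), hy.2]
        simp⟩ }
  exact fun x hx => ((omegaOne_le_iff (K := S)).mpr (fun y hy h => ⟨hy, h⟩) hx).2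

end BG01

/-- BG 1.13 (Thompson's critical subgroup, odd case). -/
theorem critical_odd {p : ℕ} (hp : p.Prime) (hp2 : p ≠ 2) {K : Subgroup G} (hK : IsPGroup p K)
    (hK1 : K ≠ ⊥) :
    ∃ H : Subgroup G, H ≤ K ∧ 𝐍(K) ≤ 𝐍(H) ∧ H ≠ ⊥ ∧ ⁅H, K⁆ ≤ 𝐙(H) ∧ (∀ x ∈ H, x ^ p = 1) ∧
      ∀ A : Subgroup G, A ≤ 𝐍(K) → 𝐨(A).Coprime p → A ≤ 𝐂(H) → A ≤ 𝐂(K) := by
  have := Fact.mk hp
  have hnil := isNilpotent_of_isPGroup hp hK
  obtain ⟨C, hCK, hCn, hKC, hC⟩ := BG01.exists_critical hnil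
  have hn := hCn.trans (norm_le_norm_omegaOne C p)
  have hle := omegaOne_le p C
  have hC1 : C ≠ ⊥ := by
    rintro rfl
    rw [cent_bot, inf_top_eq, le_bot_iff] at hC
    exact hK1 hC
  refine ⟨omegaOne p C, hle.trans hCK, hn,
    omegaOne_ne_bot hp (prime_dvd_card_of_isPGroup hp (hK.to_le hCK) hC1),
    le_inf (comm_le_left_iff.mpr (le_normalizer.trans hn)) ?_,
    BG01.omegaOne_exp_of_class_two (hp.odd_of_ne_two hp2)
      (((commutator_mono hCK le_rfl).trans hKC).trans inf_le_right), fun A hA hc h => ?_⟩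
  · rw [Subgroup.commutator_comm]
    exact ((commutator_mono le_rfl hle).trans hKC).trans (inf_le_right.trans (cent_anti hle))
  · have h1 := cent_comm.mp (H1.le_centralizer_of_centralizes_omega hp2 (hK.to_le hCK)
      (hA.trans hCn) hc fun x hx hx' => cent_comm.mp h (mem_omegaOne hx hx'))
    exact H1.le_centralizer_of_centralizer_le hnil hA (H1.coprime_card_of_isPGroup hK hc) hCK h1
      (hC.trans h1)

namespace BG01

theorem unbar_pCoreOf_le {p : ℕ} (hp : p.Prime) {H Y : Subgroup G} (hH : H ≤ Y)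
    [((H2.pPrimeCoreOf p H).subgroupOf Y).Normal] :
    H1.unbar Y _ (pCoreOf p (H1.bar Y (H2.pPrimeCoreOf p H) H)) ≤ pPrimePCoreOf p H := by
  have hN := pPrimeCoreOf_normal p H
  have hU := unbar_normal hN.1 hH (pCoreOf_normal p _)
  refine le_pPrimePCoreOf hp hU (hasNPC_of_normal hp (K := H2.pPrimeCoreOf p H)
    ⟨H1.le_unbar (hN.1.trans hH) _,
      (isPi_compl_singleton_iff hp).mpr (H2.coprime_card_pPrimeCoreOf p H), fun q hq hqp hd => ?_⟩
    (hU.1.trans hN.2))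
  rw [relIndex_unbar] at hd
  exact hqp (eq_of_prime_dvd_card_of_isPGroup hp hq (H2.isPGroup_pCoreOf p _) hd)

end BG01

/-- BG 1.15(a). -/
theorem solvable_p_constrained {p : ℕ} (hp : p.Prime) {H T : Subgroup G}
    (hs : Group.IsSolvable H) (hT : IsSyl p T (pPrimePCoreOf p H)) :
    H ⊓ 𝐂(T) ≤ pPrimePCoreOf p H := by
  have hN := pPrimeCoreOf_normal p H
  have := H1.normal_subgroupOf_of_le hN.2
  have hTH : T ≤ H := hT.le.trans (pPrimePCoreOf_normal p H).1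
  have h1 := BG01.unbar_pCoreOf_le hp (H := H) le_rfl
  refine le_trans ?_ h1
  rw [← H1.bar_le_iff inf_le_left]
  refine le_trans (le_inf (H1.bar_mono inf_le_left) ?_) (cent_pCoreOf_le hp (H1.isSolvable_bar hs)
    (by rw [pPrimeCoreOf_bar hp hN.1 le_rfl (H2.coprime_card_pPrimeCoreOf p H), H1.bar_self]))
  have h2 := H1.bar_mono (Y := H) (N := H2.pPrimeCoreOf p H) h1
  rw [H1.bar_unbar, ← pPrimePCoreOf_eq_sup hp hT, sup_comm, H1.bar_sup_self hN.1 hTH] at h2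
  refine le_trans ?_ (cent_anti h2)
  rw [H1.bar_le_centralizer_iff inf_le_left hTH, comm_eq_bot_iff.mpr inf_le_right]
  exact bot_le

/-- BG 1.15(b). -/
theorem pPrimeCore_cent_pgroup {p : ℕ} (hp : p.Prime) {H R : Subgroup G}
    (hs : Group.IsSolvable H) (hR : R ≤ H) (hRp : IsPGroup p R) :
    H2.pPrimeCoreOf p (H ⊓ 𝐂(R)) ≤ H2.pPrimeCoreOf p H :=
  have := Fact.mk hp
  have h := pPrimeCoreOf_normal p (H ⊓ 𝐂(R))
  H2.le_pPrimeCoreOf_of_centralizer hs hR hRp (h.1.trans inf_le_left)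
    (H2.coprime_card_pPrimeCoreOf p _) (h.1.trans inf_le_right) h.2

end Cfsg.Agent.FT
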