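/-
BG section 1, second part.
-/
import Cfsg.Agent.FT.B.helper1_Core
import Cfsg.Agent.H6.ZAction
import Cfsg.Agent.H6.TwoPrimes
import Cfsg.Agent.H7.AutPGroup

set_option autoImplicit false
set_option linter.unusedVariables false
set_option linter.unusedSectionVars false

namespace Cfsg.Agent.FT

open Subgroup Cfsg Cfsg.Agent
open scoped commutatorElement

universe u

variable {G : Type u} [Group G] [Finite G]

/-- BG 1.17 (focal subgroup theorem; Mathlib: `commutator_inf_eq_focalSubgroup`). -/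
theorem focal_le {p : ℕ} (hp : p.Prime) {S H K : Subgroup G} (hS : IsSyl p S H)
    (h : ∀ x ∈ S, ∀ g ∈ H, g * x * g⁻¹ ∈ S → x⁻¹ * (g * x * g⁻¹) ∈ K) : S ⊓ ⁅H, H⁆ ≤ K := by
  have := Fact.mk hp
  obtain ⟨P, hP⟩ := hS.exists_sylow hp
  have h1 := commutator_inf_eq_focalSubgroup P
  rw [← map_subtype_der H, ← map_subgroupOf_eq_of_le hS.le, ← hP,
    ← map_inf_eq _ _ _ H.subtype_injective, inf_comm, h1, map_le_iff_le_comap,
    focalSubgroup_def, closure_le]
  rintro _ ⟨hg, x, hx, u, rfl⟩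
  rw [hP] at hg hx
  have hx' : (x : G)⁻¹ ∈ S := inv_mem hx
  have h2 := h _ hx' u u.2 (by
    have := mul_mem hx' hg
    simpa [commutatorElement_def, mul_assoc] using this)
  change ((⁅x, u⁆ : H) : G) ∈ K
  simpa [commutatorElement_def, mul_assoc] using h2

/-- BG 1.18 (Burnside). -/
theorem burnside_npc {p : ℕ} (hp : p.Prime) {S H : Subgroup G} (hS : IsSyl p S H)
    (h : H ⊓ 𝐍(S) ≤ 𝐂(S)) : HasNPC p H := by
  have := Fact.mk hp
  obtain ⟨P, hP⟩ := hS.exists_sylow hp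
  refine (hasNPC_iff hp).mpr (H8.hasNPC_of_normalizer_le_centralizer P ?_)
  rw [← map_subtype_le_map_subtype, ← top_inf_eq 𝐍((P : Subgroup H)),
    map_inf_norm H.subtype_injective, ← top_inf_eq 𝐂((P : Subgroup H)),
    map_inf_cent H.subtype_injective, hP, map_subgroupOf_eq_of_le hS.le, ← MonoidHom.range_eq_map,
    range_subtype]
  exact le_inf inf_le_left h

/-- BG 1.19(a). -/
theorem cyclic_sylow_ti_or_le_der {p : ℕ} (hp : p.Prime) {S H : Subgroup G} (hS : IsSyl p S H)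
    (hc : IsCyclic S) : S ⊓ ⁅H, H⁆ = ⊥ ∨ S ≤ ⁅H, H⁆ := by
  have := Fact.mk hp
  obtain ⟨P, hP⟩ := hS.exists_sylow hp
  have : IsCyclic P := by
    rwa [← isCyclic_map_iff H.subtype_injective, hP, map_subgroupOf_eq_of_le hS.le]
  have h1 := hS.inf_normal hp (der_normal H)
  rcases P.not_dvd_card_commutator_or_not_dvd_index_commutator with h | h
  · left
    rw [h1.eq_bot_iff hp, ← map_subtype_der, card_map_inj H.subtype_injective]
    exact h
  · right
    have h2 : IsSyl p (S ⊓ ⁅H, H⁆) H := h1.trans hp (der_le H) (by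
      rwa [relIndex, ← map_subtype_der, subgroupOf, comap_map_eq_self_of_injective
        H.subtype_injective])
    exact (h2.eq_of_le hp inf_le_left hS.le hS.pgrp).le.trans inf_le_right

/-- BG 1.19(b). -/
theorem zgroup_der_hall {H : Subgroup G} (h : IsZGroup H) : IsHallIn ⁅H, H⁆ H := by
  refine ⟨der_le H, ?_⟩
  have h1 := IsZGroup.coprime_commutator_index H
  rwa [relIndex, ← map_subtype_der, card_map_inj H.subtype_injective, subgroupOf,
    comap_map_eq_self_of_injective H.subtype_injective]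

/-- A cyclic Sylow subgroup for the smallest prime has a normal complement. -/
theorem cyclic_minFac_npc {p : ℕ} (hp : p.Prime) {S H : Subgroup G} (hS : IsSyl p S H)
    (hc : IsCyclic S) (hmin : ∀ q : ℕ, q.Prime → q ∣ 𝐨(H) → p ≤ q) : HasNPC p H := by
  by_cases hd : p ∣ 𝐨(H)
  · obtain ⟨P, hP⟩ := hS.exists_sylow hp
    refine (hasNPC_iff hp).mpr (H8.hasNPC_of_isCyclic_minFac ?_ P ?_)
    · refine le_antisymm (Nat.minFac_le_of_dvd hp.two_le hd)
        (hmin _ (Nat.minFac_prime fun e => hp.one_lt.ne' ?_) (Nat.minFac_dvd _))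
      rwa [e, Nat.dvd_one] at hd
    · rwa [← isCyclic_map_iff H.subtype_injective, hP, map_subgroupOf_eq_of_le hS.le]
  · exact hasNPC_of_not_dvd hp hd

/-- Ambient description of `p`-length one. -/
theorem pl1_iff_le {p : ℕ} (hp : p.Prime) {P H : Subgroup G} (hP : IsSyl p P H) :
    PLengthLE p 1 H ↔ P ≤ pPrimePCoreOf p H := by
  have e : (pPrimePCore p H).index = (pPrimePCoreOf p H).relIndex H := by
    rw [relIndex, pPrimePCoreOf, subgroupOf, comap_map_eq_self_of_injective H.subtype_injective]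
  rw [L.pLengthLE_one_iff_index hp, e, Nat.coprime_comm, Nat.Prime.coprime_iff_not_dvd hp]
  refine ⟨fun h => ?_, fun h hd => hP.ndvd (hd.trans (relIndex_dvd_of_le_left _ h))⟩
  have h1 := (hP.inf_normal hp (pPrimePCoreOf_normal p H)).trans hp
    (pPrimePCoreOf_normal p H).1 h
  exact (h1.eq_of_le hp inf_le_left hP.le hP.pgrp).le.trans inf_le_right

/-- Ambient description of `p`-length one. -/
theorem pl1_iff_sylow {p : ℕ} (hp : p.Prime) {P H : Subgroup G} (hP : IsSyl p P H) :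
    PLengthLE p 1 H ↔ H ≤ 𝐍(H2.pPrimeCoreOf p H ⊔ P) := by
  rw [pl1_iff_le hp hP]
  have hN := pPrimeCoreOf_normal p H
  refine ⟨fun h => ?_, fun h => le_sup_right.trans (le_pPrimePCoreOf hp ⟨sup_le hN.1 hP.le, h⟩
    (hasNPC_of_normal hp (hall_of_sup (π := {p}) (hP.le.trans hN.2)
      ((isPi_singleton_iff hp).mpr hP.pgrp) ((isPi_compl_singleton_iff hp).mpr
        (H2.coprime_card_pPrimeCoreOf p H))).2 ((sup_le hN.1 hP.le).trans hN.2)))⟩
  rw [pPrimePCoreOf_eq_sup hp (hP.of_le h (pPrimePCoreOf_normal p H).1)]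
  exact (pPrimePCoreOf_normal p H).2

/-- BG 1.21(a). -/
theorem pl1_of_le {p : ℕ} (hp : p.Prime) {K H : Subgroup G} (hK : K ≤ H) (h : PLengthLE p 1 H) :
    PLengthLE p 1 K := L.PLengthLE.of_injective hp (inclusion_injective hK) h

namespace BG01

/-- The map from `H` onto its image in a section. -/
def barHom {Y : Subgroup G} (N : Subgroup G) [(N.subgroupOf Y).Normal] {H : Subgroup G}
    (hH : H ≤ Y) : H →* H1.bar Y N H :=
  ((H1.qmk Y N).comp (inclusion hH)).codRestrict _ fun x => H1.qmk_mem_bar x.2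

theorem barHom_surjective {Y : Subgroup G} (N : Subgroup G) [(N.subgroupOf Y).Normal]
    {H : Subgroup G} (hH : H ≤ Y) : Function.Surjective (barHom N hH) := by
  rintro ⟨z, hz⟩
  obtain ⟨y, hy, rfl⟩ := H1.mem_bar.mp hz
  exact ⟨⟨y, hy⟩, rfl⟩

theorem ker_barHom {Y : Subgroup G} (N : Subgroup G) [(N.subgroupOf Y).Normal]
    {H : Subgroup G} (hH : H ≤ Y) : (barHom N hH).ker = N.subgroupOf H := by
  ext x
  rw [MonoidHom.mem_ker, Subtype.ext_iff]
  exact H1.qmk_eq_one_iff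

end BG01

/-- BG 1.21(a'), quotients. -/
theorem pl1_bar {p : ℕ} (hp : p.Prime) {Y N H : Subgroup G} [(N.subgroupOf Y).Normal]
    (hH : H ≤ Y) (h : PLengthLE p 1 H) : PLengthLE p 1 (H1.bar Y N H) :=
  L.PLengthLE.of_surjective hp (BG01.barHom_surjective N hH) h

/-- BG 1.21(b). -/
theorem pl1_of_bar_coprime {p : ℕ} (hp : p.Prime) {Y N H : Subgroup G} [(N.subgroupOf Y).Normal]
    (hH : H ≤ Y) (hN : 𝐨(N).Coprime p) (h : PLengthLE p 1 (H1.bar Y N H)) : PLengthLE p 1 H :=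
  L.PLengthLE.of_ker_coprime hp (BG01.barHom N hH)
    (by rw [BG01.ker_barHom]; exact H1.coprime_card_subgroupOf hN) h

/-- BG 1.21(c). -/
theorem pl1_of_bar_pgroup {p : ℕ} (hp : p.Prime) {Y N H : Subgroup G} [(N.subgroupOf Y).Normal]
    (hH : H ≤ Y) (hNH : N ≤ H) (hN : IsPGroup p N)
    (h1 : H2.pPrimeCoreOf p (H1.bar Y N H) = ⊥) (h : PLengthLE p 1 (H1.bar Y N H)) :
    PLengthLE p 1 H := by
  obtain ⟨P, hP⟩ := exists_isSyl hp H
  have h2 := (pl1_iff_le hp (hP.bar (N := N) hp hH)).mp h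
  rw [pPrimePCoreOf_eq_pCoreOf hp h1, pCoreOf_bar hp hNH hH hN,
    H1.bar_le_bar_iff (hNH.trans hH) (hP.le.trans hH) ((pCoreOf_normal p H).1.trans hH)] at h2
  refine (pl1_iff_le hp hP).mpr (h2.trans (le_trans (sup_le le_rfl ?_)
    (pCoreOf_le_pPrimePCoreOf p H)))
  exact le_pCoreOf ⟨hNH, hH.trans (le_normalizer_of_normal_subgroupOf (hNH.trans hH))⟩ hN

/-- BG 1.21(d). -/
theorem pl1_iff_gen_npc {p : ℕ} (hp : p.Prime) {H : Subgroup G} :
    PLengthLE p 1 H ↔ HasNPC p (closure {x | x ∈ H ∧ IsPiElt {p} x}) := by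
  constructor
  · intro h
    refine (hasNPC_pPrimePCoreOf hp H).of_le hp ((closure_le _).mpr fun x hx => ?_)
    obtain ⟨P, hP, hx'⟩ := exists_isSyl_ge hp ((isPiElt_singleton_iff hp).mp hx.2)
      (zpowers_le.mpr hx.1)
    exact (pl1_iff_le hp hP).mp h (hx' (mem_zpowers x))
  · intro h
    obtain ⟨P, hP⟩ := exists_isSyl hp H
    have h1 : P ≤ closure {x | x ∈ H ∧ IsPiElt {p} x} := fun x hx => Subgroup.subset_closure
      ⟨hP.le hx, isPiElt_of_mem ((isPi_singleton_iff hp).mpr hP.pgrp) hx⟩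
    refine (pl1_iff_le hp hP).mpr (h1.trans (le_pPrimePCoreOf hp
        ⟨(closure_le _).mpr fun x hx => hx.1, fun g hg => mem_norm_of_conj_le ?_⟩ h))
    rw [map_le_iff_le_comap, closure_le]
    intro x hx
    exact Subgroup.subset_closure ⟨mul_mem (mul_mem hg hx.1) (inv_mem hg), isPiElt_conj.mpr hx.2⟩

/-- BG 1.21(e). -/
theorem pl1_of_two_bars {p : ℕ} (hp : p.Prime) {H N₁ N₂ : Subgroup G}
    [(N₁.subgroupOf H).Normal] [(N₂.subgroupOf H).Normal] (hd : N₁ ⊓ N₂ = ⊥)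
    (h1 : PLengthLE p 1 (H ⧸ N₁.subgroupOf H)) (h2 : PLengthLE p 1 (H ⧸ N₂.subgroupOf H)) :
    PLengthLE p 1 H :=
  L.PLengthLE.of_inf_eq_bot hp _ _ (by
    rw [subgroupOf, subgroupOf, ← comap_inf, hd]; exact bot_subgroupOf H) h1 h2

/-- BG 1.22. -/
theorem exists_normal_le_card_pow {p : ℕ} (hp : p.Prime) {P N : Subgroup G} (hP : IsPGroup p P)
    (hN : N ⊲ P) {r : ℕ} (hr : p ^ r ≤ 𝐨(N)) : ∃ K : Subgroup G, K ≤ N ∧ K ⊲ P ∧ 𝐨(K) = p ^ r := by
  have := Fact.mk hp
  have := H1.normal_subgroupOf_of_le hN.2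
  obtain ⟨K, hK, hKN, hc⟩ := H3.exists_normal_le_card_eq_pow hP (N.subgroupOf P) (k := r)
    (by rwa [← card_map_inj P.subtype_injective, map_subgroupOf_eq_of_le hN.1])
  exact ⟨K.map P.subtype, (map_mono hKN).trans (map_subgroupOf_eq_of_le hN.1).le,
    ⟨map_subtype_le K, H2.le_normalizer_map_subtype K⟩,
    by rw [card_map_inj P.subtype_injective, hc]⟩

/-- A `p`-group acting on an elementary abelian group of order at most `p²`: `GL₂(p)` has Sylow
`p`-subgroups of order `p`. -/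
theorem not_sq_dvd_relIndex_cent_elem2 {p : ℕ} (hp : p.Prime) {A E : Subgroup G}
    (hE : IsElementaryAbelian p E) (hE2 : 𝐨(E) ≤ p ^ 2) (hA : A ≤ 𝐍(E)) :
    ¬ p ^ 2 ∣ 𝐂(E).relIndex A := by
  have := Fact.mk hp
  obtain ⟨r, hr⟩ := exists_card_eq_pow hp (elemAb_isPGroup hE)
  intro hd
  have h1 := hd.trans (H6.relIndex_centralizer_dvd_card_mulAut hA)
  rw [H7.card_mulAut_of_elementary hE.1 (H1.pow_eq_one_of_isElementaryAbelian hE) hr] at h1
  have h2 : r ≤ 2 := (Nat.pow_le_pow_iff_right hp.one_lt).mp (hr ▸ hE2)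
  have h3 := hp.one_lt
  have h4 : p < p ^ 2 := by nlinarith
  interval_cases r
  · have := Nat.le_of_dvd one_pos h1
    omega
  · simp only [Finset.range_one, Finset.prod_singleton, pow_one, pow_zero] at h1
    have := Nat.le_of_dvd (by omega) h1
    omega
  · simp only [Finset.prod_range_succ, Finset.range_zero, Finset.prod_empty, one_mul, pow_zero,
      pow_one] at h1
    have h5 : (p ^ 2).Coprime (p ^ 2 - 1) := by
      rw [Nat.coprime_self_sub_right (by omega)]; simp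
    have := Nat.le_of_dvd (by omega) (h5.dvd_of_dvd_mul_left h1)
    omega

/-- `A / C_A(C)` has order dividing `|Aut C|`; for cyclic `C` it is abelian, and for `C` of prime
order `q` it is cyclic of order dividing `q - 1`. -/
theorem der_le_cent_of_cyclic {A C : Subgroup G} (hC : IsCyclic C) (hA : A ≤ 𝐍(C)) :
    ⁅A, A⁆ ≤ 𝐂(C) := H6.commutator_le_centralizer_of_isCyclic hA hA

theorem relIndex_cent_dvd_of_prime {A C : Subgroup G} (hC : 𝐨(C).Prime) (hA : A ≤ 𝐍(C)) :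
    𝐂(C).relIndex A ∣ 𝐨(C) - 1 := by
  have := isCyclic_of_card_prime hC
  have h := H6.relIndex_centralizer_dvd_card_mulAut hA
  rwa [IsCyclic.card_mulAut, Nat.totient_prime hC] at h

/-- An odd cyclic `p`-group has a cyclic automorphism group of order `p^(n-1) (p-1)`. -/
theorem cycMod_cent_of_cyclic_pgroup {p : ℕ} (hp : p.Prime) (hp2 : p ≠ 2) {A C : Subgroup G}
    (hC : IsCyclic C) (hCp : IsPGroup p C) (hA : A ≤ 𝐍(C)) :
    CycMod A (A ⊓ 𝐂(C)) ∧ ∃ n : ℕ, 𝐂(C).relIndex A ∣ p ^ n * (p - 1) := by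
  obtain ⟨k, hk⟩ := exists_card_eq_pow hp hCp
  constructor
  · have h1 : IsCyclic (ZMod 𝐨(C))ˣ := by
      rw [hk]; exact ZMod.isCyclic_units_of_prime_pow p hp hp2 k
    have h2 : IsCyclic (MulAut C) :=
      isCyclic_of_surjective _ (IsCyclic.mulAutMulEquiv C).symm.surjective
    obtain ⟨φ, hφ⟩ := isCyclic_iff_zpowers.mp (inferInstance : IsCyclic (H1.conjAut hA).range)
    obtain ⟨x, rfl⟩ : φ ∈ (H1.conjAut hA).range := hφ ▸ mem_zpowers φ
    refine ⟨x, x.2, fun a ha => ?_⟩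
    obtain ⟨n, hn⟩ : H1.conjAut hA ⟨a, ha⟩ ∈ zpowers (H1.conjAut hA x) := hφ ▸ ⟨_, rfl⟩
    have h3 : (x ^ n)⁻¹ * ⟨a, ha⟩ ∈ (H1.conjAut hA).ker := by
      rw [MonoidHom.mem_ker, map_mul, map_inv, map_zpow, ← hn, inv_mul_cancel]
    have h4 : a = (x : G) ^ n * (((x ^ n)⁻¹ * ⟨a, ha⟩ : A) : G) := by simp
    rw [h4]
    exact mul_mem (mem_sup_left (zpow_mem_zpowers _ n))
      (mem_sup_right ⟨Subtype.property _, (H1.mem_ker_conjAut hA).mp h3⟩)
  · have h := H6.relIndex_centralizer_dvd_card_mulAut hA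
    rw [IsCyclic.card_mulAut, hk] at h
    rcases k with _ | k
    · exact ⟨0, h.trans (by simp)⟩
    · exact ⟨k, by rwa [Nat.totient_prime_pow_succ hp] at h⟩

end Cfsg.Agent.FT
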