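/-
BG sections 2 and 3: the representation theoretic part.
-/
import Cfsg.Agent.FT.BG01
import Cfsg.Agent.H1.GL2
import Cfsg.Agent.H5.Kegel
import Cfsg.Agent.S3767

set_option autoImplicit false
set_option linter.unusedVariables false
set_option linter.unusedSectionVars false

namespace Cfsg.Agent.FT

open Subgroup Cfsg Cfsg.Agent
open scoped commutatorElement

universe u

variable {G : Type u} [Group G] [Finite G]

/-- BG 2.5 (see S3767), numerical part. -/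
theorem extraspecial_cyclic_dvd {p : ℕ} (hp : p.Prime) {P H : Subgroup G}
    (hP : IsExtraspecial p P) {n : ℕ} (hn : 𝐨(P) = p ^ (2 * n + 1)) (hH : IsCyclic H)
    (hc : 𝐨(H).Coprime p) (hHP : H ≤ 𝐍(P)) (h : ∀ x ∈ H, x ≠ 1 → P ⊓ 𝐂[x] = 𝐙(P)) :
    𝐨(H) ∣ p ^ n + 1 ∨ 𝐨(H) ∣ p ^ n - 1 := by
  have := Fact.mk hp
  exact S3767.result P H hP n hn hH hc hHP fun x hx h1 => by rw [map_subtype_center, h x hx h1]

/-- BG 2.6(a): an odd `p'`-group acting on an elementary abelian `p`-group of rank at most 2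
induces an abelian group. -/
theorem gl2_coprime_abelian {p : ℕ} (hp : p.Prime) {A E : Subgroup G}
    (hE : IsElementaryAbelian p E) (hE2 : 𝐨(E) ≤ p ^ 2) (hA : A ≤ 𝐍(E))
    (hs : Group.IsSolvable A) (ho : Odd (𝐂(E).relIndex A)) (hc : ¬ p ∣ 𝐂(E).relIndex A) : ⁅A, A⁆ ≤ 𝐂(E) :=
  H1.commutator_le_centralizer_of_card_le_sq hp hE hE2 hA hs ho hc

/-- BG 2.6(b): for an odd order group acting on an elementary abelian `p`-group of rank at most 2,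
the derived group induces a `p`-group. -/
theorem gl2_der_pgroup {p : ℕ} (hp : p.Prime) {A E : Subgroup G}
    (hE : IsElementaryAbelian p E) (hE2 : 𝐨(E) ≤ p ^ 2) (hA : A ≤ 𝐍(E))
    (hs : Group.IsSolvable A) (ho : Odd (𝐂(E).relIndex A)) : ∃ n : ℕ, 𝐂(E).relIndex ⁅A, A⁆ = p ^ n := by
  have := Fact.mk hp
  have := H1.normal_subgroupOf_of_le (Y := ⁅A, A⁆) (N := 𝐂(E))
    (((der_le A).trans hA).trans (H1.normalizer_le_normalizer_centralizer E))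
  have h : IsPGroup p (H1.bar ⁅A, A⁆ 𝐂(E) ⁅A, A⁆) := fun x => ⟨1, Subtype.ext <| by
    rw [pow_one]
    exact bar_pow_eq_one (Y := ⁅A, A⁆)
      (fun y hy => H1.pow_mem_centralizer_of_card_le_sq hp hE hE2 hA hs ho hy) x.1 x.2⟩
  rw [← H1.card_bar (Y := ⁅A, A⁆) le_rfl]
  exact IsPGroup.iff_card.mp h

namespace BG03a

/-- The natural representation of a matrix group. -/
noncomputable def natRep {F : Type*} [Field F] {H : Type*} [Group H]
    (ρ : H →* Matrix.GeneralLinearGroup (Fin 2) F) : H →* Module.End F (Fin 2 → F) :=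
  (Matrix.toLinAlgEquiv' (R := F) (n := Fin 2)).toMulEquiv.toMonoidHom.comp
    ((Units.coeHom _).comp ρ)

theorem natRep_injective {F : Type*} [Field F] {H : Type*} [Group H]
    {ρ : H →* Matrix.GeneralLinearGroup (Fin 2) F} (hρ : Function.Injective ρ) :
    Function.Injective (natRep ρ) :=
  (Matrix.toLinAlgEquiv' (R := F) (n := Fin 2)).injective.comp (Units.val_injective.comp hρ)

end BG03a

/-- BG 2.6(a) for matrix groups over any field. -/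
theorem gl2_field_coprime_abelian {F : Type*} [Field F] {H : Type*} [Group H] [Finite H]
    (ρ : H →* Matrix.GeneralLinearGroup (Fin 2) F) (hρ : Function.Injective ρ)
    (hs : Group.IsSolvable H) (ho : Odd (Nat.card H)) (hc : (Nat.card H : F) ≠ 0) : IsMulCommutative H := by
  refine ⟨⟨fun a b => commutatorElement_eq_one_iff_mul_comm.mp (BG03a.natRep_injective hρ ?_)⟩⟩
  rw [map_one]
  exact H1.eq_one_of_finrank_le_two ho _ (by simp) hc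
    (commutator_mem_commutator (mem_top a) (mem_top b))

/-- BG 2.6(b) for matrix groups over any field of characteristic `p`. -/
theorem gl2_field_der_pgroup {F : Type*} [Field F] {p : ℕ} [Fact p.Prime] [CharP F p]
    {H : Type*} [Group H] [Finite H]
    (ρ : H →* Matrix.GeneralLinearGroup (Fin 2) F) (hρ : Function.Injective ρ)
    (hs : Group.IsSolvable H) (ho : Odd (Nat.card H)) : IsPGroup p (_root_.commutator H) := by
  refine fun x => ⟨1, Subtype.ext (BG03a.natRep_injective hρ ?_)⟩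
  rw [pow_one, OneMemClass.coe_one, map_one]
  exact H1.pow_eq_one_of_finrank_le_two ho _ (by simp) p x.2

namespace BG03a

/-- A subgroup of the kernel acting as a nontrivial abelian group. -/
theorem exists_ab_act {K R V : Subgroup G} (h : Frob K R) (hKV : K ≤ 𝐍(V)) (hRV : R ≤ 𝐍(V))
    (hnt : ¬ K ≤ 𝐂(V)) : ∃ Z : Subgroup G, Z ≤ K ∧ K ≤ 𝐍(Z) ∧ R ≤ 𝐍(Z) ∧ ⁅Z, Z⁆ ≤ 𝐂(V) ∧
      ¬ Z ≤ 𝐂(V) ∧ ∀ r ∈ R, r ≠ 1 → Z ≤ ⁅Z, zpowers r⁆ := by
  have hn := H5.isNilpotent_of_frobenius_action K R h.ne_botR h.norm (semiReg_iff.mp h.reg)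
  have hC := H1.normalizer_le_normalizer_centralizer V
  obtain ⟨x, hx, h1, h2⟩ := BG01.exists_mem_centMod hn (hKV.trans hC) ⟨le_rfl, le_norm_self K⟩ hnt
  have hR : R ≤ 𝐍(K ⊓ centMod K 𝐂(V)) :=
    H1.le_normalizer_inf h.norm (norm_le_norm_centMod h.norm (hRV.trans hC))
  refine ⟨K ⊓ centMod K 𝐂(V), inf_le_left, H1.le_normalizer_inf (le_norm_self K)
    (norm_le_norm_centMod (le_norm_self K) (hKV.trans hC)), hR,
    (commutator_mono inf_le_left le_rfl).trans (le_centMod_iff.mp inf_le_right).2,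
    fun e => h1 (e ⟨hx, h2⟩), fun r hr h3 => ?_⟩
  have h4 : zpowers r ≤ R := zpowers_le.mpr hr
  exact ((h.reg.mono inf_le_left le_rfl).comm_eq h4 (by simpa using h3) (h4.trans hR)).ge

theorem wielandt_min {K R V : Subgroup G} (h : Frob K R) {l : ℕ} (hl : l.Prime)
    (hV : IsElementaryAbelian l V) (hKV : K ≤ 𝐍(V)) (hRV : R ≤ 𝐍(V))
    (hc : 𝐨(V).Coprime 𝐨(K ⊔ R)) (hV1 : V ≠ ⊥)
    (hm : ∀ W : Subgroup G, W ≤ V → K ≤ 𝐍(W) → R ≤ 𝐍(W) → W = ⊥ ∨ W = V) :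
    𝐨(V ⊓ 𝐂(K ⊔ R)) ^ 𝐨(R) * 𝐨(V) = 𝐨(V ⊓ 𝐂(R)) ^ 𝐨(R) * 𝐨(V ⊓ 𝐂(K)) := by
  by_cases hnt : K ≤ 𝐂(V)
  · have h1 : V ⊓ 𝐂(K) = V := inf_eq_left.mpr (cent_comm.mp hnt)
    rw [cent_sup, ← inf_assoc, h1]
  obtain ⟨Z, hZ, hKZ, hRZ, h1, h2, h3⟩ := exists_ab_act h hKV hRV hnt
  have hC := H1.normalizer_le_normalizer_centralizer Z
  have h4 : V ⊓ 𝐂(Z) = ⊥ := (hm _ inf_le_left (H1.le_normalizer_inf hKV (hKZ.trans hC))
    (H1.le_normalizer_inf hRV (hRZ.trans hC))).resolve_right fun e =>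
      h2 (cent_comm.mp (inf_eq_left.mp e))
  have h5 : ∀ A ≤ K ⊔ R, ¬ l ∣ 𝐨(A) := fun A hA e => hl.one_lt.ne' (Nat.eq_one_of_dvd_coprimes hc
    (prime_dvd_card_of_isPGroup hl (elemAb_isPGroup hV) hV1) (e.trans (card_dvd_of_le hA)))
  obtain ⟨D, -, h6, h7⟩ := H1.exists_card_eq_pow_of_regular hl hV (hZ.trans hKV) hRV hRZ h1
    (h5 _ (hZ.trans le_sup_left)) h3 h4
  have h8 : V ⊓ 𝐂(K) = ⊥ := eq_bot_iff.mpr (h4 ▸ inf_le_inf_left V (cent_anti hZ))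
  rw [cent_sup, ← inf_assoc, h8, ← h7 (h5 _ le_sup_right), ← h6]
  simp

theorem frob_bar_of_disj {Y N K R : Subgroup G} [(N.subgroupOf Y).Normal] (h : Frob K R)
    (hY : K ⊔ R ≤ Y) (hd : N ⊓ (K ⊔ R) = ⊥) : Frob (H1.bar Y N K) (H1.bar Y N R) := by
  have h0 : ∀ x ∈ K ⊔ R, x ∈ N → x = 1 := fun x h1 h2 => mem_bot.mp (hd ▸ mem_inf.mpr ⟨h2, h1⟩)
  have h1 : ∀ A ≤ K ⊔ R, A ≠ ⊥ → H1.bar Y N A ≠ ⊥ := fun A hA h1 e =>
    h1 (eq_bot_iff.mpr (hd ▸ le_inf ((H1.bar_eq_bot_iff (hA.trans hY)).mp e) hA))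
  refine ⟨h1 _ le_sup_left h.ne_botK, h1 _ le_sup_right h.ne_botR, H1.bar_le_normalizer h.norm,
    semiReg_iff.mpr fun x hx hx1 k hk e => ?_⟩
  obtain ⟨x, hx', rfl⟩ := H1.mem_bar.mp hx
  obtain ⟨k, hk', rfl⟩ := H1.mem_bar.mp hk
  have h2 : H1.qmk Y N ⁅x, k⁆ = 1 := by
    rw [map_commutatorElement]
    exact commutatorElement_eq_one_iff_mul_comm.mpr e
  have h3 : ⁅(x : G), (k : G)⁆ = 1 := h0 _ (by
    have := mem_sup_left (T := R) hk'
    have := mem_sup_right (S := K) hx'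
    rw [commutatorElement_def]
    exact mul_mem (mul_mem (mul_mem ‹_› ‹_›) (inv_mem ‹_›)) (inv_mem ‹_›))
    (H1.qmk_eq_one_iff.mp h2)
  have h4 : (k : G) = 1 := semiReg_iff.mp h.reg x hx' (fun e' => hx1 (by
    rw [H1.qmk_eq_one_iff, e']; exact one_mem _)) k hk'
    (commutatorElement_eq_one_iff_mul_comm.mp h3)
  rw [H1.qmk_eq_one_iff, h4]
  exact one_mem _

end BG03a

/-- BG 3.3. -/
theorem Frob.cent_compl_ne_bot {K R V : Subgroup G} (h : Frob K R) {l : ℕ} (hl : l.Prime)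
    (hV : IsElementaryAbelian l V) (hKV : K ≤ 𝐍(V)) (hRV : R ≤ 𝐍(V)) (hc : ¬ l ∣ 𝐨(K))
    (hnt : ¬ K ≤ 𝐂(V)) : V ⊓ 𝐂(R) ≠ ⊥ := by
  obtain ⟨Z, hZ, hKZ, hRZ, h1, h2, h3⟩ := BG03a.exists_ab_act h hKV hRV hnt
  have hZV := hZ.trans hKV
  have h4 : ⁅V, Z⁆ ≤ V := comm_le_left_iff.mpr hZV
  have h5 : ¬ l ∣ 𝐨(Z) := fun e => hc (e.trans (card_dvd_of_le hZ))
  have h6 : 𝐨(Z).Coprime 𝐨(V) := by
    obtain ⟨n, hn⟩ := exists_card_eq_pow hl (elemAb_isPGroup hV)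
    rw [hn]
    exact ((Nat.Prime.coprime_iff_not_dvd hl).mpr h5).symm.pow_right n
  obtain ⟨D, h7, h8, -⟩ := H1.exists_card_eq_pow_of_regular (V := ⁅V, Z⁆) hl
    (elemAb_of_le h4 hV) H1.le_normalizer_commutator_self
    (H1.le_normalizer_commutator hRV hRZ) hRZ (h1.trans (cent_anti h4)) h5 h3
    (by rw [inf_comm]; exact H1.centralizer_inf_commutator_eq_bot hV.1 hZV h6)
  intro e
  have h9 : D = ⊥ := eq_bot_iff.mpr (e ▸ h7.trans (inf_le_inf_right _ h4))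
  rw [h9, card_bot, one_pow, card_eq_one] at h8
  exact h2 (cent_comm.mp (comm_eq_bot_iff.mp h8))

/-- PF (9.1), Wielandt's fixed point formula for a Frobenius group `K R` acting coprimely. -/
theorem Frob.wielandt_fix {K R M : Subgroup G} (h : Frob K R) (hKM : K ≤ 𝐍(M)) (hRM : R ≤ 𝐍(M))
    (hc : 𝐨(M).Coprime 𝐨(K ⊔ R)) (hs : Group.IsSolvable M) :
    𝐨(M ⊓ 𝐂(K ⊔ R)) ^ 𝐨(R) * 𝐨(M) = 𝐨(M ⊓ 𝐂(R)) ^ 𝐨(R) * 𝐨(M ⊓ 𝐂(K)) := by
  induction M using WellFoundedLT.induction with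
  | ind M ih =>
  by_cases h0 : M = ⊥
  · simp [h0]
  have hn : K ⊔ R ≤ 𝐍(M) := sup_le hKM hRM
  obtain ⟨V, -, hV⟩ := exists_chief_below (H := K ⊔ R ⊔ M) (U := M)
    ⟨le_sup_right, sup_le hn (le_norm_self M)⟩ (norm_bot.ge.trans' le_top) (bot_lt_iff_ne_bot.mpr h0)
  set H := K ⊔ R ⊔ M with hH
  have hKR : K ⊔ R ≤ H := le_sup_left
  have hK : K ≤ H := le_sup_left.trans hKR
  have hR : R ≤ H := le_sup_right.trans hKR
  have := H1.normal_subgroupOf_of_le hV.normV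
  have hm := BG01.isMinNormal_bar hV
  have := H1.isSolvable_bar (Y := H) (N := V) hs
  obtain ⟨l, hl, he⟩ := hm.exists_isElementaryAbelian
  have hcV : 𝐨(V).Coprime 𝐨(K ⊔ R) := hc.coprime_dvd_left (card_dvd_of_le hV.lt.le)
  have hd : V ⊓ (K ⊔ R) = ⊥ := (disjoint_of_coprime_natCard hcV).eq_bot
  have h1 := ih V hV.lt (hK.trans hV.normV) (hR.trans hV.normV) hcV
    (H1.isSolvable_of_le hV.lt.le hs)
  have h2 := BG03a.wielandt_min (BG03a.frob_bar_of_disj h hKR hd) hl he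
    (H1.bar_le_normalizer hKM) (H1.bar_le_normalizer hRM)
    (by rw [← H1.bar_sup hK hR]; exact H1.coprime_bar hc) hm.2.1 fun W hW h3 h4 => hm.2.2 W (by
      rw [normal_iff_top_le, ← H1.bar_top (Y := H) (N := V)]
      refine (H1.bar_sup hKR hV.le).le.trans ?_
      rw [H1.bar_sup hK hR]
      exact sup_le (sup_le h3 h4) (((isMulComm_iff_le_cent.mp he.1).trans (cent_anti hW)).trans
        (cent_le_norm W))) hW
  have h5 : ∀ A ≤ K ⊔ R, 𝐨(M ⊓ 𝐂(A)) =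
      𝐨(V ⊓ 𝐂(A)) * 𝐨(H1.bar H V M ⊓ 𝐂(H1.bar H V A)) := fun A hA => by
    rw [H1.bar_inf_centralizer_bar (hA.trans hKR) hV.le (hA.trans hn)
      (hc.symm.coprime_dvd_left (card_dvd_of_le hA)) (Or.inr hs),
      ← card_bar_mul (Y := H) (N := V) (inf_le_left.trans hV.le), ← inf_assoc,
      inf_eq_left.mpr hV.lt.le]
  have h6 : 𝐨(M) = 𝐨(V) * 𝐨(H1.bar H V M) := by
    rw [← card_bar_mul (Y := H) (N := V) hV.le, inf_eq_left.mpr hV.lt.le]
  have h7 : 𝐨(H1.bar H V R) = 𝐨(R) :=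
    card_bar_of_disj hR (eq_bot_iff.mpr (hd.le.trans' (inf_le_inf_left V le_sup_right)))
  rw [← H1.bar_sup hK hR, h7] at h2
  rw [h5 _ le_rfl, h5 _ le_sup_left, h5 _ le_sup_right, h6, mul_pow, mul_pow, mul_mul_mul_comm, h1,
    h2, mul_mul_mul_comm]

end Cfsg.Agent.FT
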