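/-
BG section 3, first part: Frobenius groups and regular actions.
-/
import Cfsg.Agent.FT.BG01
import Cfsg.Agent.H5.Kegel
import Cfsg.Agent.H9.FrobCompl2
import Cfsg.Agent.H6.ZAction

set_option autoImplicit false

namespace Cfsg.Agent.FT

open Subgroup Cfsg Cfsg.Agent
open scoped commutatorElement

universe u

variable {G : Type u} [Group G] [Finite G]

namespace BG03a

/-- Semiregular actions pass to arbitrary homomorphic images. -/
theorem semiReg_map {G' : Type*} [Group G'] (f : G →* G') {K R : Subgroup G} (h : SemiReg K R)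
    (hn : R ≤ 𝐍(K)) : SemiReg (K.map f) (R.map f) := by
  rintro _ ⟨r, hr, rfl⟩ h1
  have hr1 : r ≠ 1 := fun e => h1 (by rw [e, map_one])
  have hz : zpowers r ≤ R := zpowers_le.2 hr
  have := H1.map_inf_centralizer_map f (A := zpowers r) (G := K) (hz.trans hn)
    (H1.coprime_of_le (h.coprime hn).symm hz le_rfl)
    (Or.inl (H1.isSolvable_of_isMulCommutative inferInstance))
  rw [MonoidHom.map_zpowers, cent_zpowers, cent_zpowers, h r hr hr1, Subgroup.map_bot] at this
  exact this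

theorem frob_map {G' : Type*} [Group G'] (f : G →* G') {K R : Subgroup G} (h : Frob K R)
    (hK : ¬ K ≤ f.ker) : Frob (K.map f) (R.map f) := by
  refine ⟨fun e => hK ((Subgroup.map_eq_bot_iff _).1 e), fun e => hK ?_, ?_, semiReg_map f h.reg h.norm⟩
  · rw [← Subgroup.map_eq_bot_iff, ← h.comm_eq, Subgroup.map_commutator, e, commutator_bot_right]
  · exact (map_mono h.norm).trans (le_normalizer_map f)

omit [Finite G] in
theorem semiReg_subgroupOf {K R : Subgroup G} (h : SemiReg K R) (Y : Subgroup G) :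
    SemiReg (K.subgroupOf Y) (R.subgroupOf Y) := by
  rw [semiReg_iff] at h ⊢
  intro x hx h1 k hk e
  exact Subtype.ext (h x hx (fun e' => h1 (Subtype.ext e')) k hk (congrArg Subtype.val e))

omit [Finite G] in
theorem norm_subgroupOf {K R : Subgroup G} (h : R ≤ 𝐍(K)) (Y : Subgroup G) :
    R.subgroupOf Y ≤ 𝐍(K.subgroupOf Y) :=
  (comap_mono h).trans (le_normalizer_comap Y.subtype)

omit [Finite G] in
theorem subgroupOf_ne_bot {K Y : Subgroup G} (h : K ≠ ⊥) (hY : K ≤ Y) : K.subgroupOf Y ≠ ⊥ := by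
  intro e
  rw [subgroupOf_eq_bot] at e
  exact h (e.eq_bot_of_le hY)

omit [Finite G] in
theorem frob_subgroupOf {K R Y : Subgroup G} (h : Frob K R) (hY : K ⊔ R ≤ Y) :
    Frob (K.subgroupOf Y) (R.subgroupOf Y) :=
  ⟨subgroupOf_ne_bot h.ne_botK (le_sup_left.trans hY),
    subgroupOf_ne_bot h.ne_botR (le_sup_right.trans hY), norm_subgroupOf h.norm Y,
    semiReg_subgroupOf h.reg Y⟩

theorem frob_bar {Y N K R : Subgroup G} [(N.subgroupOf Y).Normal] (h : Frob K R)
    (hY : K ⊔ R ≤ Y) (hN : ¬ K ≤ N) : Frob (H1.bar Y N K) (H1.bar Y N R) :=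
  frob_map (H1.qmk Y N) (frob_subgroupOf h hY) fun e => hN fun x hx =>
    H1.qmk_eq_one_iff.1 (e (show (⟨x, hY (mem_sup_left hx)⟩ : Y) ∈ K.subgroupOf Y from hx))

omit [Finite G] in
theorem isFrobAction {H R : Subgroup G} (hRH : R ≤ 𝐍(H)) (h : SemiReg H R) :
    H9.IsFrobAction (H9.conjAction hRH) :=
  H9.isFrobAction_conjAction hRH (semiReg_iff.1 h)

end BG03a

open BG03a

/-- BG 3.2(b): quotients of Frobenius groups by proper normal subgroups of the kernel.
(see S3768, H9.FrobQuot) -/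
theorem Frob.bar {Y N K R : Subgroup G} [(N.subgroupOf Y).Normal] (h : Frob K R)
    (hY : K ⊔ R ≤ Y) (hN : N < K) : Frob (H1.bar Y N K) (H1.bar Y N R) :=
  frob_bar h hY hN.not_ge

/-- BG 3.2(a). -/
theorem Frob.normal_le_or {K R N : Subgroup G} (h : Frob K R) (hN : N ⊲ K ⊔ R) :
    N ≤ K ∨ K ≤ N := by
  by_cases hNK : N ≤ K
  · exact Or.inl hNK
  right
  obtain ⟨x, hx, hxK⟩ := SetLike.not_le_iff_exists.1 hNK
  obtain ⟨k, hk, hkx⟩ := h.exists_conj_mem (hN.1 hx) hxK
  have hy : k * x * k⁻¹ ∈ N := H1.conj_mem_of_le_normalizer hN.2 (mem_sup_left hk) hx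
  have h1 : zpowers (k * x * k⁻¹) ≠ ⊥ := by
    rw [Ne, zpowers_eq_bot]
    intro e
    apply hxK
    have : x = 1 := by simpa using e
    rw [this]; exact one_mem K
  have hz : zpowers (k * x * k⁻¹) ≤ R := zpowers_le.2 hkx
  rw [← h.reg.comm_eq hz h1 (hz.trans h.norm)]
  exact (commutator_mono le_rfl (zpowers_le.2 hy)).trans
    (comm_le_right_iff.2 (le_sup_left.trans hN.2))

/-- BG 3.7 (Thompson; see H5.Kegel). -/
theorem nilpotent_of_prime_reg {K R : Subgroup G} (hRK : R ≤ 𝐍(K)) (hR : 𝐨(R).Prime)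
    (h : K ⊓ 𝐂(R) = ⊥) : Group.IsNilpotent K :=
  H5.isNilpotent_of_frobenius_action K R (ne_bot_of_card_prime hR) hRK
    (semiReg_iff.1 (semiReg_of_card_prime hR h))

theorem Frob.nilpotent {K R : Subgroup G} (h : Frob K R) : Group.IsNilpotent K :=
  H5.isNilpotent_of_frobenius_action K R h.ne_botR h.norm (semiReg_iff.1 h.reg)

/-- A group of odd order acting regularly on a nontrivial group is a Z-group. -/
theorem odd_regular_zgroup {H R : Subgroup G} (ho : Odd 𝐨(R)) (hH : H ≠ ⊥) (hRH : R ≤ 𝐍(H))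
    (h : SemiReg H R) : IsZGroup R := by
  haveI := (nontrivial_iff_ne_bot H).2 hH
  exact (isFrobAction hRH h).isZGroup_of_odd ho

/-- BG 3.9. -/
theorem odd_regular_pgroup_cyclic {p : ℕ} (hp : p.Prime) (hp2 : p ≠ 2) {H R : Subgroup G}
    (hR : IsPGroup p R) (hH : H ≠ ⊥) (hRH : R ≤ 𝐍(H)) (h : SemiReg H R) : IsCyclic R := by
  haveI := (nontrivial_iff_ne_bot H).2 hH
  haveI := Fact.mk hp
  rcases (isFrobAction hRH h).pgroup_cases hR with h1 | h1
  · exact h1
  · exact absurd h1.1 hp2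

/-- A group of order `p q` acting regularly on a nontrivial group is cyclic. -/
theorem regular_pq_cyclic {p q : ℕ} (hp : p.Prime) (hq : q.Prime) {H R : Subgroup G}
    (hR : 𝐨(R) = p * q) (hH : H ≠ ⊥) (hRH : R ≤ 𝐍(H)) (h : SemiReg H R) : IsCyclic R := by
  haveI := (nontrivial_iff_ne_bot H).2 hH
  exact (isFrobAction hRH h).isCyclic_of_card_eq_mul hp hq hR

/-- In an odd order Frobenius complement, subgroups of prime order are normal and commute;
the group is metacyclic with cyclic derived Hall subgroup (Gorenstein 5.3.14, 7.6.2). -/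
theorem odd_regular_prime_normal {H R X : Subgroup G} (ho : Odd 𝐨(R)) (hH : H ≠ ⊥)
    (hRH : R ≤ 𝐍(H)) (h : SemiReg H R) (hX : X ≤ R) (hXp : 𝐨(X).Prime) : R ≤ 𝐍(X) := by
  haveI := (nontrivial_iff_ne_bot H).2 hH
  have hφ := isFrobAction hRH h
  haveI hZ := odd_regular_zgroup ho hH hRH h
  have hD : IsCyclic (⁅R, R⁆ : Subgroup G) := H6.isCyclic_commutator_of_isZGroup le_normalizer
  have hn : R ≤ 𝐍(⁅R, R⁆) := (der_normal R).2
  by_cases hp : 𝐨(X) ∣ 𝐨(⁅R, R⁆)
  · have hle : X ≤ ⁅R, R⁆ := le_of_hall_normal (zgroup_der_hall hZ).hall hn hX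
      (isPi_of_card_prime hXp rfl ⟨hXp, hp⟩)
    exact hn.trans (norm_le_norm_of_le_cyclic hD hle)
  have hc : X ≤ 𝐂(⁅R, R⁆) := by
    refine H1.le_centralizer_of_abelian_of_prime_order (isMulComm_of_isCyclic hD) (hX.trans hn)
      ((Nat.Prime.coprime_iff_not_dvd hXp).2 hp) fun v hv hvp => mem_cent.2 fun x hx => ?_
    have hvR : v ∈ R := der_le R hv
    have hxn : x ∈ 𝐍(zpowers v) :=
      norm_le_norm_of_le_cyclic hD (zpowers_le.2 hv) (hn (hX hx))
    have := hφ.commute_of_normalizes hXp hvp (a := ⟨v, hvR⟩) (b := ⟨x, hX hx⟩)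
      (orderOf_mk v hvR) (Subtype.ext (by
        simpa using orderOf_dvd_iff_pow_eq_one.1 (orderOf_dvd_card_of_mem hx))) (by
        have e : zpowers (⟨v, hvR⟩ : R) = (zpowers v).subgroupOf R := by
          ext y; simp only [mem_subgroupOf, mem_zpowers_iff, Subtype.ext_iff, coe_zpow]
        rw [e]
        exact norm_subgroupOf (zpowers_le.2 hxn) R (mem_zpowers x))
    exact (congrArg Subtype.val this.eq).symm
  have hab : IsMulCommutative ↥(⁅R, R⁆ ⊔ X) :=
    isMulComm_sup (isMulComm_of_isCyclic hD) (isMulComm_of_isCyclic (isCyclic_of_card_prime hXp)) hc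
  have hle : ⁅R, R⁆ ⊔ X ≤ R := sup_le (der_le R) hX
  have hcyc : IsCyclic ↥(⁅R, R⁆ ⊔ X) :=
    (hφ.comp (inclusion hle) (inclusion_injective hle)).isCyclic_of_comm
  exact (le_norm_of_der_le le_sup_left hle).trans (norm_le_norm_of_le_cyclic hcyc le_sup_right)

end Cfsg.Agent.FT
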