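/-
BG 2.7.
-/
import Cfsg.Agent.FT.BG01

set_option autoImplicit false

namespace Cfsg.Agent.FT

open Subgroup Cfsg Cfsg.Agent
open scoped commutatorElement

universe u

variable {G : Type u} [Group G] [Finite G]

namespace BG03a

/-- The action on a subgroup of prime order is given by a character. -/
theorem exists_char_of_card_prime {p : ℕ} (hp : p.Prime) {X A : Subgroup G} (hX : 𝐨(X) = p)
    (hA : A ≤ 𝐍(X)) : ∃ χ : A →* ZMod p, ∀ a : A, ∀ x ∈ X, a * x * (a : G)⁻¹ = x ^ (χ a).val := by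
  haveI := Fact.mk hp
  obtain ⟨x₀, rfl⟩ := isCyclic_iff_zpowers.1 (isCyclic_of_card_prime (hX ▸ hp))
  rw [Nat.card_zpowers] at hX
  have h1 : ∀ a : A, ∃ n : ℕ, x₀ ^ n = a * x₀ * (a : G)⁻¹ := fun a =>
    mem_powers_iff_mem_zpowers.2 (H1.conj_mem_of_le_normalizer hA a.2 (mem_zpowers x₀))
  choose n hn using h1
  have h2 : ∀ a : A, ∀ x ∈ zpowers x₀, a * x * (a : G)⁻¹ = x ^ n a := by
    intro a x hx
    obtain ⟨k, rfl⟩ := mem_powers_iff_mem_zpowers.2 hx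
    simp only
    rw [← conj_pow, ← hn, ← pow_mul, ← pow_mul, mul_comm]
  refine ⟨⟨⟨fun a => n a, ?_⟩, fun a b => ?_⟩, fun a x hx => ?_⟩
  · have := hn 1
    simp only [OneMemClass.coe_one, one_mul, inv_one, mul_one] at this
    rw [← Nat.cast_one, ZMod.natCast_eq_natCast_iff, ← hX, ← pow_eq_pow_iff_modEq, this, pow_one]
  · simp only
    rw [← Nat.cast_mul, ZMod.natCast_eq_natCast_iff, ← hX, ← pow_eq_pow_iff_modEq, hn, mul_comm (n a),
      pow_mul, ← h2 a _ (pow_mem (mem_zpowers x₀) _), hn, coe_mul]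
    group
  · have hx1 : x ^ p = 1 := by
      rw [← hX, ← Nat.card_zpowers]
      exact orderOf_dvd_iff_pow_eq_one.1 (orderOf_dvd_card_of_mem hx)
    change _ = x ^ (n a : ZMod p).val
    rw [ZMod.val_natCast, ← pow_eq_pow_mod _ hx1, h2 a x hx]

end BG03a

open BG03a

/-- BG 2.7. -/
theorem regular_elem2_on_elem2 {p q : ℕ} (hp : p.Prime) (hq : q.Prime) (hpq : p ≠ q)
    {P Q : Subgroup G} (hP : IsElem p 2 P) (hQ : IsElem q 2 Q) (hQP : Q ≤ 𝐍(P))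
    (hf : Q ⊓ 𝐂(P) = ⊥) :
    q ∣ p - 1 ∧ ∃ a ∈ Q, a ≠ 1 ∧ ∃ r : ℕ, (∀ x ∈ P, a * x * a⁻¹ = x ^ r) ∧
      r ^ q ≡ 1 [MOD p] ∧ ¬ r ≡ 1 [MOD p] := by
  haveI := Fact.mk hp
  have hc : 𝐨(Q).Coprime 𝐨(P) := coprime_card_of_isPGroup hq hp hpq.symm hQ.pgrp hP.pgrp
  have hnc := hQ.not_isCyclic hq le_rfl
  have hfa : ∀ a ∈ Q, a ∈ 𝐂(P) → a = 1 := fun a ha hb => by
    have : a ∈ Q ⊓ 𝐂(P) := ⟨ha, hb⟩
    rwa [hf, mem_bot] at this
  obtain ⟨a₀, ha₀, ha1, hP1⟩ :=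
    H1.exists_centralizer_ne_bot hQ.comm hnc hQP hc (hP.ne_bot hp two_ne_zero)
  have hn1 : Q ≤ 𝐍(P ⊓ 𝐂[a₀]) := H1.le_normalizer_inf_centralizer_singleton_of_comm hQ.comm ha₀ hQP
  have hP1' : P ⊓ 𝐂[a₀] ≠ P := fun e => ha1 (hfa a₀ ha₀ (mem_cent_iff_cent1.2 (inf_eq_left.1 e)))
  obtain ⟨P₂, hP2, hn2, hd, hs⟩ := H1.exists_invariant_complement_of_isElementaryAbelian hp
    hP.elemAb hQP inf_le_left hn1 (H1.coprime_of_le hc le_rfl inf_le_left)
  have hle1 : P ⊓ 𝐂[a₀] ≤ P := inf_le_left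
  generalize P ⊓ 𝐂[a₀] = P₁ at hP1 hn1 hP1' hd hs hle1
  have c1 := hP.card_eq_of_two hp hle1 hP1 hP1'
  have c2 := hP.card_eq_of_two hp hP2 (fun e => hP1' (by rw [← hs, e, sup_bot_eq]))
    (fun e => hP1 (by rw [← hd, e, inf_eq_left.2 hle1]))
  obtain ⟨χ₁, h1⟩ := exists_char_of_card_prime hp c1 hn1
  obtain ⟨χ₂, h2⟩ := exists_char_of_card_prime hp c2 hn2
  have hni : ¬ Function.Injective (χ₁.toHomUnits / χ₂.toHomUnits) := fun h =>
    hnc (isCyclic_of_injective _ h)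
  rw [injective_iff_map_eq_one] at hni
  push Not at hni
  obtain ⟨a, ha, ha1⟩ := hni
  have he : χ₁ a = χ₂ a := by
    rw [MonoidHom.div_apply, div_eq_one] at ha
    exact congrArg Units.val ha
  have hall : ∀ x ∈ P, a * x * (a : G)⁻¹ = x ^ (χ₁ a).val := by
    intro x hx
    rw [← hs] at hx
    obtain ⟨y, hy, z, hz, rfl⟩ := (H1.mem_sup_iff_of_le_normalizer
      (hle1.trans (hP.le_cent.trans ((cent_anti hP2).trans (cent_le_norm _))))).1 hx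
    have hyz : Commute y z := (mem_cent.1 (hP.le_cent (hP2 hz)) y (hle1 hy))
    rw [hyz.mul_pow, ← h1 a y hy, he, ← h2 a z hz]
    group
  have haq : a ^ q = 1 := Subtype.ext (hQ.elemAb.2 a a.2)
  have hq1 : χ₁ a ^ q = 1 := by rw [← map_pow, haq, map_one]
  have hne : χ₁ a ≠ 1 := fun e => ha1 (Subtype.ext (hfa a a.2 (mem_cent.2 fun x hx => by
    have := hall x hx
    rw [e, ZMod.val_one, pow_one] at this
    exact (mul_inv_eq_iff_eq_mul.1 this).symm)))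
  refine ⟨?_, a, a.2, fun e => ha1 (Subtype.ext e), (χ₁ a).val, hall, ?_, fun e => hne ?_⟩
  · haveI := Fact.mk hq
    rw [← orderOf_eq_prime hq1 hne]
    exact ZMod.orderOf_dvd_card_sub_one fun e => by
      rw [e, zero_pow hq.ne_zero] at hq1
      exact zero_ne_one hq1
  · rw [← ZMod.natCast_eq_natCast_iff, Nat.cast_pow, ZMod.natCast_zmod_val, hq1, Nat.cast_one]
  · rwa [← ZMod.natCast_eq_natCast_iff, ZMod.natCast_zmod_val, Nat.cast_one] at e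

end Cfsg.Agent.FT
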