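/-
BG 3.4, 3.5, 3.8, 3.10.
-/
import Cfsg.Agent.FT.BG03a
import Cfsg.Agent.FT.B.helper1_Sec
import Cfsg.Agent.H1.RepFix
import Cfsg.Agent.S3769

set_option autoImplicit false
set_option linter.unusedVariables false
set_option linter.unusedSectionVars false

namespace Cfsg.Agent.FT

open Subgroup Cfsg Cfsg.Agent
open scoped commutatorElement

universe u

variable {G : Type u} [Group G] [Finite G]

/-- BG 3.4 (see S3769). -/
theorem odd_prime_sdprod_fix0 {K R V : Subgroup G} (hs : Group.IsSolvable K)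
    (hoK : Odd 𝐨(K)) (hR : 𝐨(R).Prime) (hoR : Odd 𝐨(R)) (hRK : R ≤ 𝐍(K))
    (hc : 𝐨(K).Coprime 𝐨(R)) {l : ℕ} (hl : l.Prime) (hV : IsElementaryAbelian l V)
    (hKV : K ≤ 𝐍(V)) (hRV : R ≤ 𝐍(V)) (hlK : ¬ l ∣ 𝐨(K)) (hlR : ¬ l ∣ 𝐨(R))
    (h0 : V ⊓ 𝐂(R) = ⊥) : ⁅R, K⁆ ≤ 𝐂(V) := by
  by_contra hnt
  obtain ⟨g, rfl⟩ := isCyclic_iff_zpowers.mp (isCyclic_of_card_prime hR)
  set r := 𝐨(zpowers g) with hr
  have hg1 : g ^ r ^ (0 + 1) = 1 := by simp [hr]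
  obtain ⟨q, hq, -, ⟨S, hSK, hS, hnc⟩, n, e, h1, h2, h3, h4⟩ :=
    H1.hall_higman_coprime_ambient hR hl (fun h => hlR (h ▸ dvd_rfl)) hV hKV hc
      ((Nat.Prime.coprime_iff_not_dvd hl).mpr hlK).symm (hRV (mem_zpowers g))
      (hRK (mem_zpowers g)) (m := 0) (hg1 ▸ one_mem _)
      (by rw [pow_zero, pow_one, Subgroup.commutator_comm]; exact hnt)
      (by rw [← cent_zpowers, h0])
  have hn : n = 1 := by omega
  rw [hn, pow_one] at h4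
  have hS1 : S ≠ ⊥ := by
    rintro rfl
    exact hnc inferInstance
  have h6 : Odd q := hoK.of_dvd_nat
    ((prime_dvd_card_of_isPGroup hq hS hS1).trans (card_dvd_of_le hSK))
  rw [h4] at hoR
  exact Nat.not_odd_iff_even.mpr (h6.pow.add_one) hoR

namespace BG03b

theorem fix_le {K R V : Subgroup G} (hRK : R ≤ 𝐍(K)) (hR : 𝐨(R).Prime) (h : K ⊓ 𝐂(R) = ⊥) {l : ℕ}
    (hl : l.Prime) (hV : IsElementaryAbelian l V) (hKV : K ≤ 𝐍(V)) (hRV : R ≤ 𝐍(V))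
    (hlK : ¬ l ∣ 𝐨(K)) (h1 : 𝐨(V ⊓ 𝐂(R)) ≤ l) : ⁅K, K⁆ ≤ 𝐂(V) := by
  have hnil := nilpotent_of_prime_reg hRK hR h
  obtain ⟨g, rfl⟩ := isCyclic_iff_zpowers.mp (isCyclic_of_card_prime hR)
  rw [cent_zpowers] at h h1
  exact H1.commutator_le_centralizer_of_fix_le hnil hl hV hKV hlK (hRK (mem_zpowers g))
    (hRV (mem_zpowers g)) hR (by simp) h h1

/-- BG 3.4 for a section `U / V`. -/
theorem fix0_sec {K R U V : Subgroup G} (hs : Group.IsSolvable K)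
    (hoK : Odd 𝐨(K)) (hR : 𝐨(R).Prime) (hoR : Odd 𝐨(R)) (hRK : R ≤ 𝐍(K))
    (hc : 𝐨(K).Coprime 𝐨(R)) {l : ℕ} (hl : l.Prime) (hVU : V ≤ U) (hU : ⁅U, U⁆ ≤ V)
    (hU' : ∀ x ∈ U, x ^ l ∈ V) (hKU : K ≤ 𝐍(U)) (hRU : R ≤ 𝐍(U)) (hKV : K ≤ 𝐍(V))
    (hRV : R ≤ 𝐍(V)) (hlK : ¬ l ∣ 𝐨(K)) (hlR : ¬ l ∣ 𝐨(R)) (hcU : 𝐨(R).Coprime 𝐨(U))
    (h0 : U ⊓ 𝐂(R) ≤ V) : ⁅⁅R, K⁆, U⁆ ≤ V := by
  set Y := K ⊔ R ⊔ U
  have hKY : K ≤ Y := le_sup_left.trans le_sup_left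
  have hRY : R ≤ Y := le_sup_right.trans le_sup_left
  have hUY : U ≤ Y := le_sup_right
  have := H1.normal_subgroupOf_of_le (Y := Y) (N := V)
    (sup_le (sup_le hKV hRV) (le_norm_of_der_le hU hVU))
  have hcR : 𝐨(H1.bar Y V R) = 𝐨(R) := card_bar_of_disj hRY
    (H1.inf_eq_bot_of_coprime' (H1.coprime_of_le hcU le_rfl hVU).symm)
  have key := odd_prime_sdprod_fix0 (K := H1.bar Y V K) (R := H1.bar Y V R) (V := H1.bar Y V U)
    (H1.isSolvable_bar hs) (odd_card_bar hoK) (hcR ▸ hR) (odd_card_bar hoR)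
    (H1.bar_le_normalizer hRK) (H1.coprime_bar hc) hl ((elemAb_bar_iff hUY).mpr ⟨hU, hU'⟩)
    (H1.bar_le_normalizer hKU) (H1.bar_le_normalizer hRU) (not_dvd_card_bar hlK)
    (not_dvd_card_bar hlR) (by
      rw [H1.bar_inf_centralizer_bar hRY hUY hRU hcU (Or.inl (isSolvable_of_isNilpotent
        (isNilpotent_of_isMulComm (isMulComm_of_isCyclic (isCyclic_of_card_prime hR))))),
        H1.bar_eq_bot_iff (inf_le_left.trans hUY)]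
      exact h0)
  rwa [← H1.bar_commutator hRY hKY, H1.bar_le_centralizer_iff
    ((comm_le_right_iff.mpr hRK).trans hKY) hUY] at key

/-- BG 3.5 for a section `U / V`. -/
theorem fix_le_sec {K R U V : Subgroup G} (hRK : R ≤ 𝐍(K)) (hR : 𝐨(R).Prime)
    (h : K ⊓ 𝐂(R) = ⊥) {l : ℕ} (hl : l.Prime) (hVU : V ≤ U) (hU : ⁅U, U⁆ ≤ V)
    (hU' : ∀ x ∈ U, x ^ l ∈ V) (hKU : K ≤ 𝐍(U)) (hRU : R ≤ 𝐍(U)) (hKV : K ≤ 𝐍(V))
    (hRV : R ≤ 𝐍(V)) (hlK : ¬ l ∣ 𝐨(K)) (hcU : 𝐨(R).Coprime 𝐨(U))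
    (h1 : IsCyclic ↥(U ⊓ 𝐂(R))) : ⁅⁅K, K⁆, U⁆ ≤ V := by
  set Y := K ⊔ R ⊔ U
  have hKY : K ≤ Y := le_sup_left.trans le_sup_left
  have hRY : R ≤ Y := le_sup_right.trans le_sup_left
  have hUY : U ≤ Y := le_sup_right
  have := H1.normal_subgroupOf_of_le (Y := Y) (N := V)
    (sup_le (sup_le hKV hRV) (le_norm_of_der_le hU hVU))
  have hcR : 𝐨(H1.bar Y V R) = 𝐨(R) := card_bar_of_disj hRY
    (H1.inf_eq_bot_of_coprime' (H1.coprime_of_le hcU le_rfl hVU).symm)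
  have hsR : Group.IsSolvable R := isSolvable_of_isNilpotent
    (isNilpotent_of_isMulComm (isMulComm_of_isCyclic (isCyclic_of_card_prime hR)))
  have hcK : 𝐨(R).Coprime 𝐨(K) := ((semiReg_of_card_prime hR h).coprime hRK).symm
  have he := (elemAb_bar_iff (N := V) hUY).mpr ⟨hU, hU'⟩
  have key := fix_le (K := H1.bar Y V K) (R := H1.bar Y V R) (V := H1.bar Y V U)
    (H1.bar_le_normalizer hRK) (hcR ▸ hR) (by
      rw [H1.bar_inf_centralizer_bar hRY hKY hRK hcK (Or.inl hsR), h,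
        H1.bar_eq_bot_iff bot_le]
      exact bot_le) hl he (H1.bar_le_normalizer hKU) (H1.bar_le_normalizer hRU)
    (not_dvd_card_bar hlK) (by
      have h2 : IsCyclic ↥(H1.bar Y V U ⊓ 𝐂(H1.bar Y V R)) := by
        rw [H1.bar_inf_centralizer_bar hRY hUY hRU hcU (Or.inl hsR)]
        exact isCyclic_bar (inf_le_left.trans hUY) h1
      have h3 := (pRank_le_iff hl).mp (pRank_le_one_of_isCyclic hl h2) _ le_rfl
        (elemAb_of_le inf_le_left he)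
      rwa [pow_one] at h3)
  rwa [← H1.bar_commutator hKY hKY, H1.bar_le_centralizer_iff
    ((der_le K).trans hKY) hUY] at key

theorem prime_dvd_of_chief {H V U : Subgroup G} {l n : ℕ} (h : ChiefFactor H V U) (hn : 0 < n)
    (hc : V.relIndex U = l ^ n) : l ∣ 𝐨(U) :=
  (hc ▸ dvd_pow_self l hn.ne' : l ∣ V.relIndex U).trans (relIndex_dvd_card_of_le h.lt.le)

/-- BG 3.4 for a solvable group `M` in place of the module. -/
theorem fix0_solv {K R M : Subgroup G} (hs : Group.IsSolvable ↥(K ⊔ R ⊔ M))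
    (hoK : Odd 𝐨(K)) (hR : 𝐨(R).Prime) (hoR : Odd 𝐨(R)) (hRK : R ≤ 𝐍(K))
    (hc : 𝐨(K).Coprime 𝐨(R)) (hKM : K ≤ 𝐍(M)) (hRM : R ≤ 𝐍(M)) (hcK : 𝐨(K).Coprime 𝐨(M))
    (hcR : 𝐨(R).Coprime 𝐨(M)) (h0 : M ⊓ 𝐂(R) = ⊥) : ⁅K, R⁆ ≤ 𝐂(M) := by
  have hKR : ⁅K, R⁆ ≤ K := comm_le_left_iff.mpr hRK
  have hKY : K ≤ K ⊔ R ⊔ M := le_sup_left.trans le_sup_left
  have hRY : R ≤ K ⊔ R ⊔ M := le_sup_right.trans le_sup_left
  refine le_cent_of_chief (H := K ⊔ R ⊔ M) ⟨le_sup_right, sup_le (sup_le hKM hRM) le_normalizer⟩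
    (hKR.trans hKY) (H1.coprime_of_le hcK hKR le_rfl) fun V U hVU hUM => ?_
  obtain ⟨l, hl, h1, h2, n, hn, h3⟩ := chief_elem hs hVU
  have hlM := (prime_dvd_of_chief hVU hn h3).trans (card_dvd_of_le hUM)
  rw [Subgroup.commutator_comm U, Subgroup.commutator_comm K]
  exact fix0_sec (H1.isSolvable_of_le hKY hs) hoK hR hoR hRK hc hl hVU.lt.le h1 h2
    (hKY.trans hVU.normU) (hRY.trans hVU.normU) (hKY.trans hVU.normV) (hRY.trans hVU.normV)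
    (fun h => hl.one_lt.ne' (Nat.eq_one_of_dvd_coprimes hcK h hlM))
    (fun h => hl.one_lt.ne' (Nat.eq_one_of_dvd_coprimes hcR h hlM))
    (H1.coprime_of_le hcR le_rfl hUM) ((inf_le_inf_right _ hUM).trans (h0.le.trans bot_le))

end BG03b

/-- BG 3.5 (see S3770). -/
theorem Frob.prime_fix1 {K R V : Subgroup G} (h : Frob K R) (hR : 𝐨(R).Prime) {l : ℕ}
    (hl : l.Prime) (hV : IsElementaryAbelian l V) (hKV : K ≤ 𝐍(V)) (hRV : R ≤ 𝐍(V))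
    (hlK : ¬ l ∣ 𝐨(K)) (hlR : ¬ l ∣ 𝐨(R)) (h1 : 𝐨(V ⊓ 𝐂(R)) = l) : ⁅K, K⁆ ≤ 𝐂(V) :=
  BG03b.fix_le h.norm hR h.cent_eq_bot hl hV hKV hRV hlK h1.le

/-- BG 3.8. -/
theorem odd_primact_comm_le_fitting {K R : Subgroup G} (hs : Group.IsSolvable ↥(K ⊔ R))
    (ho : Odd 𝐨(K ⊔ R)) (hRK : R ≤ 𝐍(K)) (hc : 𝐨(K).Coprime 𝐨(R)) (hp : SemiPrime K R)
    (hF : fittingOf K ⊓ 𝐂(R) = ⊥) : ⁅K, R⁆ ≤ fittingOf K := by
  rcases eq_or_ne R ⊥ with rfl | hR1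
  · simp
  obtain ⟨X, hXR, hX⟩ := exists_le_card_prime hR1
  have hsK := H1.isSolvable_of_le le_sup_left hs
  have hXK := hXR.trans hRK
  have hcX : 𝐨(X).Coprime 𝐨(K) := H1.coprime_of_le hc.symm hXR le_rfl
  have hCX := hp.cent_eq hXR (ne_bot_of_card_prime hX)
  have key : ⁅K, X⁆ ≤ fittingOf K := by
    refine comm_le_fittingOf hsK hXK le_rfl hcX fun s t hs' ht hst Q hQK hQ hXQ => ?_
    have hP := (pCoreOf_normal t K).1
    refine BG03b.fix0_solv (H1.isSolvable_of_le (sup_le (sup_le (hQK.trans le_sup_left)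
      (hXR.trans le_sup_right)) (hP.trans le_sup_left)) hs)
      (ho.of_dvd_nat (card_dvd_of_le (hQK.trans le_sup_left))) hX
      (ho.of_dvd_nat (card_dvd_of_le (hXR.trans le_sup_right))) hXQ
      (H1.coprime_of_le hcX le_rfl hQK).symm (hQK.trans (pCoreOf_normal t K).2)
      (hXK.trans ?_) (coprime_card_of_isPGroup hs' ht hst hQ (H2.isPGroup_pCoreOf t K))
      (H1.coprime_of_le hcX le_rfl hP) ?_
    · rw [pCoreOf_eq ht]; exact norm_le_norm_piCoreOf _ _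
    · rw [eq_bot_iff, ← hF]
      refine le_inf (inf_le_left.trans ?_) (((inf_le_inf_right _ hP).trans hCX.le).trans
        inf_le_right)
      rw [← pCoreOf_fittingOf ht]
      exact (pCoreOf_normal t _).1
  have hKF := (fittingOf_normal K).2
  have hRF : R ≤ 𝐍(fittingOf K) := hRK.trans (H2.normalizer_le_normalizer_fittingOf K)
  have hdec := H1.commutator_sup_centralizer hXK hcX (Or.inr hsK)
  rw [hCX] at hdec
  rw [Subgroup.commutator_comm]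
  refine (commutator_mono le_rfl hdec.ge).trans ?_
  refine comm_sup_le ((comm_le_left_iff.mpr hXK).trans hKF) (inf_le_left.trans hKF) ?_ ?_
  · exact (commutator_mono le_rfl key).trans (comm_le_right_iff.mpr hRF)
  · exact (comm_eq_bot_iff.mpr (cent_comm.mp inf_le_right)).le.trans bot_le

/-- BG 3.10. -/
theorem Frob.primact {K R M : Subgroup G} (h : Frob K R) (hs : Group.IsSolvable ↥(K ⊔ R))
    (ho : Odd 𝐨(K ⊔ R)) (hM1 : M ≠ ⊥) (hMn : Group.IsNilpotent M) (hKM : K ≤ 𝐍(M))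
    (hRM : R ≤ 𝐍(M)) (hc : 𝐨(M).Coprime 𝐨(K ⊔ R)) (hCK : M ⊓ 𝐂(K) = ⊥) (hp : SemiPrime M R) :
    𝐨(R).Prime ∧ 𝐨(M) = 𝐨(M ⊓ 𝐂(R)) ^ 𝐨(R) ∧ (IsCyclic ↥(M ⊓ 𝐂(R)) → ⁅K, K⁆ ≤ 𝐂(M)) := by
  have hsM := isSolvable_of_isNilpotent hMn
  have key : ∀ X : Subgroup G, X ≤ R → X ≠ ⊥ → 𝐨(M) = 𝐨(M ⊓ 𝐂(R)) ^ 𝐨(X) := by
    intro X hX hX1
    have h1 := (h.mono le_rfl hX h.ne_botK hX1 (hX.trans h.norm)).wielandt_fix hKM
      (hX.trans hRM) (H1.coprime_of_le hc le_rfl (sup_le_sup_left hX K)) hsM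
    rwa [cent_sup, ← inf_assoc, hCK, bot_inf_eq, card_bot, one_pow, one_mul, mul_one,
      hp.cent_eq hX hX1] at h1
  obtain ⟨X, hXR, hX⟩ := exists_le_card_prime h.ne_botR
  have h1 := key R le_rfl h.ne_botR
  have h2 := key X hXR (ne_bot_of_card_prime hX)
  have h3 : 1 < 𝐨(M ⊓ 𝐂(R)) := by
    refine lt_of_le_of_ne Nat.card_pos fun e => hM1 ?_
    rwa [← e, one_pow, card_eq_one] at h1
  have hR : 𝐨(R).Prime := by
    rwa [Nat.pow_right_injective h3 (h1.symm.trans h2)]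
  refine ⟨hR, h1, fun hcyc => ?_⟩
  have hKY : K ≤ K ⊔ R ⊔ M := le_sup_left.trans le_sup_left
  have hRY : R ≤ K ⊔ R ⊔ M := le_sup_right.trans le_sup_left
  have hcK : 𝐨(K).Coprime 𝐨(M) := H1.coprime_of_le hc.symm le_sup_left le_rfl
  have hcR : 𝐨(R).Coprime 𝐨(M) := H1.coprime_of_le hc.symm le_sup_right le_rfl
  refine le_cent_of_chief (H := K ⊔ R ⊔ M) ⟨le_sup_right, sup_le (sup_le hKM hRM) le_normalizer⟩
    ((der_le K).trans hKY) (H1.coprime_of_le hcK (der_le K) le_rfl) fun V U hVU hUM => ?_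
  obtain ⟨l, hl, h1, h2, n, hn, h3⟩ := chief_elem
    (H2.isSolvable_sup_of_le_normalizer (sup_le hKM hRM) hs hsM) hVU
  have hlM := (BG03b.prime_dvd_of_chief hVU hn h3).trans (card_dvd_of_le hUM)
  rw [Subgroup.commutator_comm U]
  exact BG03b.fix_le_sec h.norm hR h.cent_eq_bot hl hVU.lt.le h1 h2
    (hKY.trans hVU.normU) (hRY.trans hVU.normU) (hKY.trans hVU.normV) (hRY.trans hVU.normV)
    (fun h => hl.one_lt.ne' (Nat.eq_one_of_dvd_coprimes hcK h hlM))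
    (H1.coprime_of_le hcR le_rfl hUM) (isCyclic_of_le (inf_le_inf_right _ hUM) hcyc)

end Cfsg.Agent.FT
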