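/-
BG 3.6: the minimal configuration.
-/
import Cfsg.Agent.FT.P.BG03b_1
import Cfsg.Agent.H1.RepWt

set_option autoImplicit false
set_option linter.unusedVariables false
set_option linter.unusedSectionVars false

namespace Cfsg.Agent.FT.BG03b

open Subgroup Cfsg Cfsg.Agent
open scoped commutatorElement

universe u

variable {G : Type u} [Group G] [Finite G]

theorem isSolvable_of_prime {R : Subgroup G} (hR : 𝐨(R).Prime) : Group.IsSolvable R :=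
  isSolvable_of_isNilpotent
    (isNilpotent_of_isMulComm (isMulComm_of_isCyclic (isCyclic_of_card_prime hR)))

theorem not_dvd_of_isPGroup {p q : ℕ} (hp : p.Prime) (hq : q.Prime) (h : q ≠ p) {P : Subgroup G}
    (hP : IsPGroup p P) : ¬ q ∣ 𝐨(P) := fun e => h (eq_of_prime_dvd_card_of_isPGroup hp hq hP e)

/-- The configuration `K P R`. -/
structure Cfg (p q : ℕ) (K P R : Subgroup G) : Prop where
  hp : p.Prime
  hq : q.Prime
  hr : 𝐨(R).Prime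
  op : Odd p
  oq : Odd q
  or : Odd 𝐨(R)
  pq : p ≠ q
  pr : p ≠ 𝐨(R)
  qr : q ≠ 𝐨(R)
  gK : IsPGroup q K
  gP : IsPGroup p P
  PK : P ≤ 𝐍(K)
  RK : R ≤ 𝐍(K)
  RP : R ≤ 𝐍(P)
  reg : P ⊓ 𝐂(R) = ⊥
  nt : ⁅K, P⁆ ≠ ⊥
  min : ∀ U : Subgroup G, U < K → P ⊔ R ≤ 𝐍(U) → ⁅U, P⁆ = ⊥

namespace Cfg

variable {p q : ℕ} {K P R : Subgroup G} (h : Cfg p q K P R)
include h

theorem BK : P ⊔ R ≤ 𝐍(K) := sup_le h.PK h.RK

theorem BP : P ⊔ R ≤ 𝐍(P) := sup_le le_normalizer h.RP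

theorem copPq : 𝐨(P).Coprime q :=
  ((Nat.Prime.coprime_iff_not_dvd h.hq).mpr (not_dvd_of_isPGroup h.hp h.hq h.pq.symm h.gP)).symm

theorem copPK : 𝐨(P).Coprime 𝐨(K) := coprime_card_of_isPGroup h.hp h.hq h.pq h.gP h.gK

theorem copRK : 𝐨(R).Coprime 𝐨(K) :=
  coprime_card_of_isPGroup h.hr h.hq h.qr.symm (isPGroup_of_card_prime rfl) h.gK

theorem copRP : 𝐨(R).Coprime 𝐨(P) :=
  coprime_card_of_isPGroup h.hr h.hp h.pr.symm (isPGroup_of_card_prime rfl) h.gP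

theorem comm_eq : ⁅K, P⁆ = K :=
  have := Fact.mk h.hq
  H1.minimal_commutator_eq h.gK h.BK le_sup_left h.BP h.copPq h.nt h.min

theorem exp : ∀ x ∈ K, x ^ q = 1 :=
  have := Fact.mk h.hq
  H1.minimal_exponent h.gK h.BK le_sup_left h.BP h.copPq h.nt h.min
    (fun e => by have := h.oq; rw [e] at this; exact absurd this (by decide))

theorem le_der {U : Subgroup G} (hU : U < K) (hn : P ⊔ R ≤ 𝐍(U)) : U ≤ ⁅K, K⁆ :=
  have := Fact.mk h.hq
  H1.minimal_le_commutator h.gK h.BK le_sup_left h.BP h.copPq h.nt h.min hU hn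

theorem ne_botK : K ≠ ⊥ := fun e => h.nt (by simp [e])

theorem ne_botP : P ≠ ⊥ := fun e => h.nt (by simp [e])

theorem nilK : Group.IsNilpotent K := isNilpotent_of_isPGroup h.hq h.gK

theorem der_lt : ⁅K, K⁆ < K :=
  H1.commutator_lt_of_isSolvable (isSolvable_of_isNilpotent h.nilK) h.ne_botK

theorem not_comm_le : ¬ ⁅K, P⁆ ≤ ⁅K, K⁆ := by
  rw [h.comm_eq]; exact h.der_lt.not_ge

theorem commPR : ⁅P, R⁆ = P :=
  (semiReg_of_card_prime h.hr h.reg).comm_eq le_rfl (ne_bot_of_card_prime h.hr) h.RP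

theorem normal_der : ((⁅K, K⁆ : Subgroup G).subgroupOf (K ⊔ (P ⊔ R))).Normal :=
  H1.normal_subgroupOf_of_le ((sup_le le_normalizer h.BK).trans (norm_le_norm_der K))

theorem not_cent_le_der : ¬ K ⊓ 𝐂(R) ≤ ⁅K, K⁆ := by
  intro hc
  have := h.normal_der
  set Y := K ⊔ (P ⊔ R)
  have hKY : K ≤ Y := le_sup_left
  have hPY : P ≤ Y := le_sup_left.trans le_sup_right
  have hRY : R ≤ Y := le_sup_right.trans le_sup_right
  have hcR : 𝐨(H1.bar Y ⁅K, K⁆ R) = 𝐨(R) := card_bar_of_disj hRY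
    (H1.inf_eq_bot_of_coprime' (H1.coprime_of_le h.copRK le_rfl (der_le K)).symm)
  have hnt : ¬ H1.bar Y ⁅K, K⁆ P ≤ 𝐂(H1.bar Y ⁅K, K⁆ K) := by
    rw [H1.bar_le_centralizer_iff hPY hKY, Subgroup.commutator_comm]
    exact h.not_comm_le
  have hF : Frob (H1.bar Y ⁅K, K⁆ P) (H1.bar Y ⁅K, K⁆ R) :=
    ⟨fun e => hnt (e ▸ bot_le), ne_bot_of_card_prime (hcR ▸ h.hr), H1.bar_le_normalizer h.RP,
      semiReg_of_card_prime (hcR ▸ h.hr) (by
        rw [H1.bar_inf_centralizer_bar hRY hPY h.RP h.copRP (Or.inl (isSolvable_of_prime h.hr)),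
          h.reg, H1.bar_eq_bot_iff bot_le]
        exact bot_le)⟩
  refine hF.cent_compl_ne_bot h.hq ((elemAb_bar_iff hKY).mpr ⟨le_rfl, fun x hx => ?_⟩)
    (H1.bar_le_normalizer h.PK) (H1.bar_le_normalizer h.RK)
    (not_dvd_card_bar (not_dvd_of_isPGroup h.hp h.hq h.pq.symm h.gP)) hnt ?_
  · rw [h.exp x hx]; exact one_mem _
  · rw [H1.bar_inf_centralizer_bar hRY hKY h.RK h.copRK (Or.inl (isSolvable_of_prime h.hr)),
      H1.bar_eq_bot_iff (inf_le_left.trans hKY)]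
    exact hc

theorem not_relIndex_le : ¬ (⁅K, K⁆ : Subgroup G).relIndex K ≤ q ^ 2 := by
  intro hc
  have := h.normal_der
  set Y := K ⊔ (P ⊔ R)
  have hKY : K ≤ Y := le_sup_left
  have hBY : P ⊔ R ≤ Y := le_sup_right
  have hPY : P ≤ Y := le_sup_left.trans hBY
  have hcB : 𝐨(P ⊔ R) = 𝐨(P) * 𝐨(R) := (sdProd_of_coprime h.RP h.copRP.symm).card
  have hd := (relIndex_dvd_card' 𝐂(H1.bar Y ⁅K, K⁆ K) (H1.bar Y ⁅K, K⁆ (P ⊔ R))).trans
    (H1.card_bar_dvd _)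
  rw [hcB] at hd
  have key := gl2_coprime_abelian (A := H1.bar Y ⁅K, K⁆ (P ⊔ R)) (E := H1.bar Y ⁅K, K⁆ K) h.hq
    ((elemAb_bar_iff hKY).mpr ⟨le_rfl, fun x hx => by rw [h.exp x hx]; exact one_mem _⟩)
    (by rwa [H1.card_bar hKY]) (H1.bar_le_normalizer h.BK)
    (H1.isSolvable_bar (by
      rw [sup_comm]
      exact H2.isSolvable_sup_of_le_normalizer h.RP (isSolvable_of_prime h.hr)
        (isSolvable_of_isNilpotent (isNilpotent_of_isPGroup h.hp h.gP))))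
    (Odd.of_dvd_nat (by
      obtain ⟨n, hn⟩ := exists_card_eq_pow h.hp h.gP
      rw [hn]
      exact h.op.pow.mul h.or) hd)
    (fun e => by
      rcases (Nat.Prime.dvd_mul h.hq).mp (e.trans hd) with e | e
      · exact not_dvd_of_isPGroup h.hp h.hq h.pq.symm h.gP e
      · exact h.qr ((Nat.prime_dvd_prime_iff_eq h.hq h.hr).mp e))
  rw [← H1.bar_commutator hBY hBY, H1.bar_le_centralizer_iff ((der_le _).trans hBY) hKY] at key
  refine h.not_comm_le ?_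
  rw [Subgroup.commutator_comm]
  refine (commutator_mono ?_ le_rfl).trans key
  exact h.commPR.ge.trans (commutator_mono le_sup_left le_sup_right)

theorem card_cent (hc : IsCyclic ↥(K ⊓ 𝐂(R))) : 𝐨(K ⊓ 𝐂(R)) = q := by
  have h1 : K ⊓ 𝐂(R) ≠ ⊥ := fun e => h.not_cent_le_der (e ▸ bot_le)
  have h2 := card_omegaOne_of_isCyclic h.hq hc
    (prime_dvd_card_of_isPGroup h.hq (h.gK.to_le inf_le_left) h1)
  rwa [omegaOne_eq_self fun a ha => h.exp a (mem_inf.mp ha).1] at h2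

theorem disj (hc : IsCyclic ↥(K ⊓ 𝐂(R))) : ⁅K, R⁆ ⊓ (K ⊓ 𝐂(R)) = ⊥ := by
  rw [inf_comm]
  refine (inf_eq_bot_or_le_of_card_prime (h.card_cent hc ▸ h.hq) _).resolve_right fun e => ?_
  refine h.not_cent_le_der fun x hx => ?_
  refine H1.mem_of_commutator_mem_of_abelian_section (der_le K) le_rfl h.RK
    (h.RK.trans (norm_le_norm_der K)) h.copRK (mem_sup_left (e hx)) fun a ha => ?_
  rw [commutatorElement_eq_one_iff_mul_comm.mpr (mem_cent.mp hx.2 a ha).symm]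
  exact one_mem _

theorem sd (hc : IsCyclic ↥(K ⊓ 𝐂(R))) : SdProd ⁅K, R⁆ (K ⊓ 𝐂(R)) K :=
  ⟨H1.commutator_sup_centralizer h.RK h.copRK (Or.inl (isSolvable_of_prime h.hr)),
    inf_le_left.trans (by
      rw [Subgroup.commutator_comm]; exact H1.le_normalizer_commutator_self), h.disj hc⟩

theorem isMulComm (hc : IsCyclic ↥(K ⊓ 𝐂(R))) (hab : IsMulCommutative (⁅K, R⁆ : Subgroup G)) :
    IsMulCommutative K := by
  have hsd := h.sd hc
  have hq := h.card_cent hc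
  set K₀ : Subgroup G := ⁅K, R⁆
  set C := K ⊓ 𝐂(R)
  by_cases hn : P ≤ 𝐍(K₀)
  · have h1 : K₀ < K := lt_of_le_of_ne hsd.le_left fun e => by
      have h2 := hsd.disj
      rw [e, inf_of_le_right hsd.le_right] at h2
      exact ne_bot_of_card_prime (hq ▸ h.hq) h2
    have h2 := h.le_der h1 (sup_le hn H1.le_normalizer_commutator_self)
    have h3 : C = K := H1.eq_of_sup_frattini hsd.le_right
      (hsd.sup.ge.trans (sup_le (h2.trans ((H1.commutator_le_frattiniOf h.nilK).trans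
        le_sup_right)) le_sup_left))
    exact isMulComm_of_isCyclic (h3 ▸ hc)
  obtain ⟨x, hxP, hx⟩ := SetLike.not_le_iff_exists.mp hn
  have hxK : K ^ᵍ x = K := conj_eq_of_mem_norm (h.PK hxP)
  have h1 : K₀ ^ᵍ x ≤ K := conj_le_of_mem_norm hsd.le_left (h.PK hxP)
  have h2 : K₀ ⊔ K₀ ^ᵍ x = K := by
    have h3 := sup_inf_of_le_left (K := K₀ ⊔ K₀ ^ᵍ x) hsd.norm le_sup_left
    rw [hsd.sup, inf_of_le_right (sup_le hsd.le_left h1)] at h3
    rcases inf_eq_bot_or_le_of_card_prime (hq ▸ h.hq) (K₀ ⊔ K₀ ^ᵍ x) with e | e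
    · rw [e, sup_bot_eq] at h3
      exact absurd (mem_norm_of_conj_le (le_sup_right.trans h3.le)) hx
    · exact le_antisymm (sup_le hsd.le_left h1) (hsd.sup.ge.trans (sup_le le_sup_left e))
  have hab' : IsMulCommutative (K₀ ^ᵍ x) := (isMulComm_map_iff (conj_injective x)).mpr hab
  have h3 : K₀ ⊓ K₀ ^ᵍ x ≤ 𝐙(K) := by
    refine le_inf (inf_le_left.trans hsd.le_left) ?_
    conv_rhs => rw [← h2, cent_sup]
    exact inf_le_inf (isMulComm_iff_le_cent.mp hab) (isMulComm_iff_le_cent.mp hab')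
  by_contra hK
  have h4 : 𝐙(K) < K := lt_of_le_of_ne inf_le_left fun e =>
    hK (isMulComm_iff_le_cent.mpr (e.ge.trans inf_le_right))
  have h5 := h.le_der h4 (h.BK.trans (norm_le_norm_center K))
  refine h.not_relIndex_le ((relIndex_le_of_le_left (h3.trans h5) ?_).trans
    (relIndex_inf_le.trans ?_))
  · exact ne_zero_of_dvd_ne_zero (card_ne_zero K) (relIndex_dvd_card' _ _)
  · have h6 : (K₀ ^ᵍ x).relIndex K = q := by
      conv_lhs => rw [← hxK, relIndex_conj, hsd.relIndex_left, hq]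
    rw [h6, hsd.relIndex_left, hq, pow_two]

theorem false {V : Subgroup G} (hV : IsElementaryAbelian p V) (hKV : K ≤ 𝐍(V)) (hPV : P ≤ 𝐍(V))
    (hRV : R ≤ 𝐍(V)) (hf : K ⊓ 𝐂(V) = ⊥) (hcK : IsCyclic ↥(K ⊓ 𝐂(R)))
    (hcV : 𝐨(V ⊓ 𝐂(R)) ≤ p) : False := by
  have hK₀ : ⁅K, R⁆ ≤ K := comm_le_left_iff.mpr h.RK
  have hpK : ¬ p ∣ 𝐨(K) := not_dvd_of_isPGroup h.hq h.hp h.pq h.gK
  have h1 := fix_le (K := ⁅K, R⁆) H1.le_normalizer_commutator_self h.hr (by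
    rw [← h.disj hcK, ← inf_assoc, inf_of_le_left hK₀]) h.hp hV (hK₀.trans hKV) hRV
    (fun e => hpK (e.trans (card_dvd_of_le hK₀))) hcV
  have hK := h.isMulComm hcK (isMulComm_iff_comm_eq_bot.mpr
    (eq_bot_iff.mpr (hf ▸ le_inf ((der_le _).trans hK₀) h1)))
  have hV₁ : ⁅V, K⁆ ≤ V := comm_le_left_iff.mpr hKV
  have hcop : 𝐨(K).Coprime 𝐨(V) :=
    coprime_card_of_isPGroup h.hq h.hp h.pq.symm h.gK (elemAb_isPGroup hV)
  have hr := h.hr
  have hreg := h.reg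
  have hpr := h.pr
  have hor := h.or
  have hRK := h.RK
  have hRP := h.RP
  obtain ⟨g, rfl⟩ := isCyclic_iff_zpowers.mp (isCyclic_of_card_prime h.hr)
  rw [cent_zpowers] at hreg hcV
  refine H1.inf_centralizer_commutator_ne_bot (V := ⁅V, K⁆) hK h.hp (elemAb_of_le hV₁ hV)
    (fun e => h.ne_botK ?_) H1.le_normalizer_commutator_self
    (H1.le_normalizer_commutator hPV h.PK) h.PK hpK h.hp h.op h.gP (hRK (mem_zpowers g))
    (H1.le_normalizer_commutator hRV hRK (mem_zpowers g)) (hRP (mem_zpowers g)) hr hor hpr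
    (by simp) hreg ((card_le_of_le (inf_le_inf_right _ hV₁)).trans hcV) ?_
  · rw [← hf, left_eq_inf, ← cent_comm]
    exact comm_eq_bot_iff.mp e
  · rw [h.comm_eq, inf_comm]
    exact H1.centralizer_inf_commutator_eq_bot hV.1 hKV hcop

end Cfg

/-- The configuration without the minimality assumption. -/
theorem false_of_config {p : ℕ} (hp : p.Prime) {V K P R : Subgroup G} (hR : 𝐨(R).Prime)
    (hoK : Odd 𝐨(K)) (hoP : Odd 𝐨(P)) (hoR : Odd 𝐨(R)) (hpK : ¬ p ∣ 𝐨(K))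
    (hRK : 𝐨(R).Coprime 𝐨(K)) (hpr : p ≠ 𝐨(R)) (hP : IsPGroup p P) (hPK : P ≤ 𝐍(K))
    (hRK' : R ≤ 𝐍(K)) (hRP : R ≤ 𝐍(P)) (hreg : P ⊓ 𝐂(R) = ⊥) (hnt : ⁅K, P⁆ ≠ ⊥)
    (hV : IsElementaryAbelian p V) (hKV : K ≤ 𝐍(V)) (hPV : P ≤ 𝐍(V))
    (hRV : R ≤ 𝐍(V)) (hf : K ⊓ 𝐂(V) = ⊥) (hcK : IsZGroup ↥(K ⊓ 𝐂(R)))
    (hcV : 𝐨(V ⊓ 𝐂(R)) ≤ p) : False := by
  have hcRP : 𝐨(P).Coprime 𝐨(R) :=
    coprime_card_of_isPGroup hp hR hpr hP (isPGroup_of_card_prime rfl)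
  have hP1 : P ≠ ⊥ := fun e => hnt (by simp [e])
  obtain ⟨q, hq, hqK, S, hSK, hS, hBS, hSP, hmin⟩ := H1.exists_minimal_nontrivial_isPGroup
    (B := P ⊔ R) (A := P) (Q := K) (sup_le hPK hRK') (by
      rw [(sdProd_of_coprime hRP hcRP).card]
      refine Nat.Coprime.mul_left ?_ hRK
      obtain ⟨n, hn⟩ := exists_card_eq_pow hp hP
      rw [hn]
      exact Nat.Coprime.pow_left _ ((Nat.Prime.coprime_iff_not_dvd hp).mpr hpK))
    (Or.inl (by
      rw [sup_comm]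
      exact H2.isSolvable_sup_of_le_normalizer hRP (isSolvable_of_prime hR)
        (isSolvable_of_isNilpotent (isNilpotent_of_isPGroup hp hP)))) hnt
  have h : Cfg p q S P R :=
    ⟨hp, hq, hR, hoP.of_dvd_nat (prime_dvd_card_of_isPGroup hp hP hP1), hoK.of_dvd_nat hqK, hoR,
      fun e => hpK (e ▸ hqK), hpr,
      fun e => hq.one_lt.ne' (Nat.eq_one_of_dvd_coprimes hRK (e ▸ dvd_rfl) hqK), hS, hP,
      le_sup_left.trans hBS, le_sup_right.trans hBS, hRP, hreg, hSP, hmin⟩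
  refine h.false hV (hSK.trans hKV) hPV hRV (eq_bot_iff.mpr (hf ▸ inf_le_inf_right _ hSK)) ?_ hcV
  obtain ⟨T, hT, hle⟩ := exists_isSyl_ge hq (hS.to_le (inf_le_left : S ⊓ 𝐂(R) ≤ S))
    (inf_le_inf_right 𝐂(R) hSK)
  exact isCyclic_of_le hle (isZGroup_iff_isSyl.mp hcK q hq T hT)

end Cfsg.Agent.FT.BG03b
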