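/-
BG 3.6.
-/
import Cfsg.Agent.FT.P.BG03b_2
import Cfsg.Agent.FT.B.helper1_Core

set_option autoImplicit false
set_option linter.unusedVariables false
set_option linter.unusedSectionVars false

namespace Cfsg.Agent.FT

open Subgroup Cfsg Cfsg.Agent
open scoped commutatorElement

universe u

variable {G : Type u} [Group G] [Finite G]

namespace BG03b

/-- The hypotheses of BG 3.6. -/
structure Hyp (H R R₀ : Subgroup G) : Prop where
  sol : Group.IsSolvable ↥(H ⊔ R)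
  odd : Odd 𝐨(H ⊔ R)
  norm : R ≤ 𝐍(H)
  cop : 𝐨(H).Coprime 𝐨(R)
  le0 : R₀ ≤ R
  prime0 : 𝐨(R₀).Prime
  zgrp : IsZGroup ↥(H ⊓ 𝐂(R₀))
  comm : ⁅H, R⁆ = H

namespace Hyp

variable {H R R₀ : Subgroup G} (h : Hyp H R R₀)
include h

theorem solH : Group.IsSolvable H := H1.isSolvable_of_le le_sup_left h.sol

theorem cop0 : 𝐨(R₀).Coprime 𝐨(H) := H1.coprime_of_le h.cop.symm h.le0 le_rfl

theorem bar_cent {N : Subgroup G} [(N.subgroupOf (H ⊔ R)).Normal] :
    H1.bar (H ⊔ R) N H ⊓ 𝐂(H1.bar (H ⊔ R) N R₀) = H1.bar (H ⊔ R) N (H ⊓ 𝐂(R₀)) :=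
  H1.bar_inf_centralizer_bar (h.le0.trans le_sup_right) le_sup_left (h.le0.trans h.norm) h.cop0
    (Or.inr h.solH)

theorem bar {N : Subgroup G} [(N.subgroupOf (H ⊔ R)).Normal] (hN : N ≤ H) :
    Hyp (H1.bar (H ⊔ R) N H) (H1.bar (H ⊔ R) N R) (H1.bar (H ⊔ R) N R₀) where
  sol := by rw [← H1.bar_sup le_sup_left le_sup_right]; exact H1.isSolvable_bar h.sol
  odd := by rw [← H1.bar_sup le_sup_left le_sup_right]; exact odd_card_bar h.odd
  norm := H1.bar_le_normalizer h.norm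
  cop := H1.coprime_bar h.cop
  le0 := H1.bar_mono h.le0
  prime0 := by
    rw [card_bar_of_disj (h.le0.trans le_sup_right)
      (H1.inf_eq_bot_of_coprime' (H1.coprime_of_le h.cop0 le_rfl hN).symm)]
    exact h.prime0
  zgrp := by
    rw [h.bar_cent]
    exact isZGroup_bar (inf_le_left.trans le_sup_left) h.zgrp
  comm := by rw [← H1.bar_commutator le_sup_left le_sup_right, h.comm]

/-- If `R₀` centralizes `F(H)` then `H = F(H)`. -/
theorem le_fitting (hc : R₀ ≤ 𝐂(fittingOf H)) : H ≤ fittingOf H := by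
  have h1 := coprime_cent_fitting (h.le0.trans h.norm) h.cop0 h.solH hc
  have h2 : IsZGroup H := by
    have := h.zgrp
    rwa [inf_of_le_left (cent_comm.mp h1)] at this
  have h3 : IsCyclic (fittingOf H) := isCyclic_of_isNilpotent_of_isZGroup inferInstance
    (isZGroup_of_le (fittingOf_normal H).1 h2)
  have h4 := der_le_cent_of_cyclic h3 (A := H ⊔ R)
    ((sup_le le_normalizer h.norm).trans (H2.normalizer_le_normalizer_fittingOf H))
  refine le_trans (le_inf le_rfl ?_) (cent_fittingOf_le h.solH)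
  exact h.comm.ge.trans ((commutator_mono le_sup_left le_sup_right).trans h4)

/-- The main case: `R₀` does not centralize `K`. -/
theorem comm_eq_bot {p : ℕ} (hp : p.Prime) {V K P : Subgroup G} (hV : IsElementaryAbelian p V)
    (hVH : V ⊲ H) (hRV : R₀ ≤ 𝐍(V)) (hC : H ⊓ 𝐂(V) ≤ V) (hKH : K ≤ H) (hpK : ¬ p ∣ 𝐨(K))
    (hRK : R₀ ≤ 𝐍(K)) (hnt : ¬ R₀ ≤ 𝐂(K)) (hP : IsPGroup p P) (hPH : P ≤ H) (hPK : P ≤ 𝐍(K))
    (hRP : R₀ ≤ 𝐍(P)) : ⁅K, P⁆ = ⊥ := by
  by_contra hKP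
  have hoH : Odd 𝐨(H) := h.odd.of_dvd_nat (card_dvd_of_le le_sup_left)
  have hoK : Odd 𝐨(K) := hoH.of_dvd_nat (card_dvd_of_le hKH)
  have hoR : Odd 𝐨(R₀) := h.odd.of_dvd_nat (card_dvd_of_le (h.le0.trans le_sup_right))
  have hP1 : P ≠ ⊥ := fun e => hKP (by simp [e])
  have hpH : p ∣ 𝐨(H) := (prime_dvd_card_of_isPGroup hp hP hP1).trans (card_dvd_of_le hPH)
  have hpR : ¬ p ∣ 𝐨(R₀) := fun e => hp.one_lt.ne' (Nat.eq_one_of_dvd_coprimes h.cop0 e hpH)
  have hKV : K ≤ 𝐍(V) := hKH.trans hVH.2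
  have hcop : 𝐨(K).Coprime 𝐨(V) :=
    have := Fact.mk hp
    H1.coprime_card_of_isPGroup (elemAb_isPGroup hV)
      ((Nat.Prime.coprime_iff_not_dvd hp).mpr hpK).symm
  have hf : K ⊓ 𝐂(V) = ⊥ := by
    rw [eq_bot_iff, ← H1.inf_eq_bot_of_coprime' hcop]
    exact le_inf inf_le_left ((inf_le_inf_right _ hKH).trans hC)
  have hV₁ : ⁅V, K⁆ ≤ V := comm_le_left_iff.mpr hKV
  have hRK' : 𝐨(R₀).Coprime 𝐨(K) := H1.coprime_of_le h.cop0 le_rfl hKH
  have h1 : ⁅V, K⁆ ⊓ 𝐂(R₀) ≠ ⊥ := by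
    intro e
    have h2 := odd_prime_sdprod_fix0 (H1.isSolvable_of_le hKH h.solH) hoK h.prime0 hoR hRK
      hRK'.symm hp (elemAb_of_le hV₁ hV) H1.le_normalizer_commutator_self
      (H1.le_normalizer_commutator hRV hRK) hpK hpR e
    have h3 : ⁅R₀, K⁆ ≤ K := comm_le_right_iff.mpr hRK
    refine hnt (comm_eq_bot_iff.mp (eq_bot_iff.mpr (hf ▸ le_inf h3 ?_)))
    rw [← H1.commutator_sup_centralizer hKV hcop (Or.inl (H1.isSolvable_of_le hKH h.solH)),
      cent_sup]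
    exact le_inf h2 (h3.trans (cent_comm.mp inf_le_right))
  have h2 : P ⊓ ⁅V, K⁆ = ⊥ := by
    rw [eq_bot_iff, ← H1.centralizer_inf_commutator_eq_bot hV.1 hKV hcop]
    refine le_inf ?_ inf_le_right
    have h3 := H1.inf_normalizer_eq_inf_centralizer hKV (H1.inf_eq_bot_of_coprime' hcop)
    exact ((le_inf (inf_le_right.trans hV₁) (inf_le_left.trans hPK)).trans h3.le).trans
      inf_le_right
  have hS : IsPGroup p ↥((P ⊔ V) ⊓ 𝐂(R₀)) :=
    (isPGroup_sup hP (elemAb_isPGroup hV) (hPH.trans hVH.2)).to_le inf_le_left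
  have hSc := isCyclic_of_le_isZGroup hp h.zgrp hS (inf_le_inf_right _ (sup_le hPH hVH.1))
  have h3 : P ⊓ 𝐂(R₀) = ⊥ := by
    by_contra e
    refine inf_ne_bot_of_isCyclic hp hSc hS (inf_le_inf_right _ le_sup_left)
      (inf_le_inf_right _ (hV₁.trans le_sup_right)) e h1 ?_
    exact eq_bot_iff.mpr (h2 ▸ inf_le_inf inf_le_left inf_le_left)
  refine false_of_config hp h.prime0 hoK (hoH.of_dvd_nat (card_dvd_of_le hPH)) hoR hpK hRK'
    (fun e => hpR (e ▸ dvd_rfl)) hP hPK hRK hRP h3 hKP hV hKV (hPH.trans hVH.2) hRV hf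
    (isZGroup_of_le (inf_le_inf_right _ hKH) h.zgrp) ?_
  have h4 := (pRank_le_iff hp).mp (pRank_le_one_of_isCyclic hp hSc) (V ⊓ 𝐂(R₀))
    (inf_le_inf_right _ le_sup_right) (elemAb_of_le inf_le_left hV)
  rwa [pow_one] at h4

theorem pl1_of_elem {p : ℕ} (hp : p.Prime) (h0 : H2.pPrimeCoreOf p H = ⊥)
    (hV : IsElementaryAbelian p (pCoreOf p H)) : PLengthLE p 1 H := by
  set V := pCoreOf p H with hVdef
  have hVH := pCoreOf_normal p H
  have hRV : R ≤ 𝐍(V) := h.norm.trans (H2.normalizer_le_normalizer_pCoreOf p H)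
  have := H1.normal_subgroupOf_of_le (Y := H ⊔ R) (N := V) (sup_le hVH.2 hRV)
  have hHY : H ≤ H ⊔ R := le_sup_left
  have hb := h.bar hVH.1
  set F := fittingOf (H1.bar (H ⊔ R) V H) with hF
  have hpF : ¬ p ∣ 𝐨(F) := not_dvd_card_fittingOf hp (by
    rw [pCoreOf_bar hp hVH.1 hHY (H2.isPGroup_pCoreOf p H), H1.bar_self])
  have hU := unbar_normal hVH.1 hHY (fittingOf_normal _)
  rw [← hF] at hU
  set U := H1.unbar (H ⊔ R) V F with hUdef
  have hRU : R ≤ 𝐍(U) := H1.le_normalizer_unbar le_sup_right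
    (hb.norm.trans (H2.normalizer_le_normalizer_fittingOf _))
  have hsU := H1.isSolvable_of_le hU.1 h.solH
  obtain ⟨K, hK, hRK⟩ := H1.exists_invariant_isPiHallOf hRU
    (H1.coprime_of_le h.cop.symm le_rfl hU.1) hsU {p}ᶜ
  have hKH : K ≤ H := hK.1.trans hU.1
  have hKF : H1.bar (H ⊔ R) V K = F :=
    bar_eq_of_hall_unbar ((isPi_compl_singleton_iff' hp).mpr hpF) hK
  have hUK : U = K ⊔ V := by
    rw [hUdef, ← hKF, H1.unbar_bar (hVH.1.trans hHY) (hKH.trans hHY)]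
  have hfr : V ⊔ (H ⊓ 𝐍(K)) = H := by
    refine le_antisymm (sup_le hVH.1 inf_le_left) ((hall_frattini hsU hK hU).ge.trans ?_)
    rw [hUK]
    exact sup_le (sup_le ((le_inf hKH le_normalizer).trans le_sup_right) le_sup_left) le_sup_right
  obtain ⟨P, hP, -, hRP⟩ := exists_invariant_isSyl hp (K := H ⊓ 𝐍(K)) (A := R)
    (H1.le_normalizer_inf h.norm (H1.le_normalizer_normalizer hRK))
    (H1.coprime_of_le h.cop.symm le_rfl inf_le_left)
    (Or.inr (H1.isSolvable_of_le inf_le_left h.solH)) IsPGroup.of_bot bot_le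
    (norm_bot.ge.trans' le_top)
  have hPH : P ≤ H := hP.le.trans inf_le_left
  have hPF : H1.bar (H ⊔ R) V P ≤ F := by
    by_cases hc : R₀ ≤ 𝐂(K)
    · refine (H1.bar_mono hPH).trans (hb.le_fitting ?_)
      rw [← hF, ← hKF, H1.bar_le_centralizer_iff (h.le0.trans le_sup_right) (hKH.trans hHY),
        comm_eq_bot_iff.mpr hc]
      exact bot_le
    · have h1 := h.comm_eq_bot hp hV hVH (h.le0.trans hRV) (cent_pCoreOf_le hp h.solH h0) hKH
        ((isPi_compl_singleton_iff' hp).mp (hall_isPi hK)) (h.le0.trans hRK) hc hP.pgrp hPH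
        (hP.le.trans inf_le_right) (h.le0.trans hRP)
      refine le_trans (le_inf (H1.bar_mono hPH) ?_) (cent_fittingOf_le hb.solH)
      rw [← hF, ← hKF, H1.bar_le_centralizer_iff (hPH.trans hHY) (hKH.trans hHY),
        Subgroup.commutator_comm, h1]
      exact bot_le
  have hPV : P ≤ V := by
    rw [← H1.bar_eq_bot_iff (N := V) (hPH.trans hHY)]
    by_contra e
    exact hpF ((prime_dvd_card_of_isPGroup hp (H1.isPGroup_bar hP.pgrp) e).trans
      (card_dvd_of_le hPF))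
  have hVs : IsSyl p V H := ⟨hVH.1, H2.isPGroup_pCoreOf p H, fun e => hP.ndvd (by
    rw [← hfr, relIndex_sup_of_norm (inf_le_left.trans hVH.2)] at e
    exact e.trans (relIndex_dvd_of_le_left _ hPV))⟩
  exact (pl1_iff_le hp hVs).mpr (pCoreOf_le_pPrimePCoreOf p H)

theorem pl1_of_core {p : ℕ} (hp : p.Prime) (h0 : H2.pPrimeCoreOf p H = ⊥) : PLengthLE p 1 H := by
  have hVH := pCoreOf_normal p H
  have hRV : R ≤ 𝐍(pCoreOf p H) := h.norm.trans (H2.normalizer_le_normalizer_pCoreOf p H)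
  have := H1.normal_subgroupOf_of_le (Y := H ⊔ R) (N := 𝚽(pCoreOf p H))
    ((sup_le hVH.2 hRV).trans (norm_le_norm_frattini _))
  have hΦ : 𝚽(pCoreOf p H) ≤ H := (frattini_le _).trans hVH.1
  have hΦp : IsPGroup p 𝚽(pCoreOf p H) := (H2.isPGroup_pCoreOf p H).to_le (frattini_le _)
  have h1 := pPrimeCoreOf_bar_frattini hp (Y := H ⊔ R) le_sup_left h.solH h0
  refine pl1_of_bar_pgroup hp le_sup_left hΦ hΦp h1 ((h.bar hΦ).pl1_of_elem hp h1 ?_)
  rw [pCoreOf_bar hp hΦ le_sup_left hΦp, elemAb_bar_iff (hVH.1.trans le_sup_left)]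
  have := Fact.mk hp
  exact ⟨H1.commutator_le_frattiniOf (isNilpotent_of_isPGroup hp (H2.isPGroup_pCoreOf p H)),
    fun x hx => H1.pow_mem_frattiniOf (H2.isPGroup_pCoreOf p H) hx⟩

theorem pl1 {p : ℕ} (hp : p.Prime) : PLengthLE p 1 H := by
  have hN := pPrimeCoreOf_normal p H
  have := H1.normal_subgroupOf_of_le (Y := H ⊔ R) (N := H2.pPrimeCoreOf p H)
    (sup_le hN.2 (h.norm.trans (H2.normalizer_le_normalizer_pPrimeCoreOf p H)))
  have hc := H2.coprime_card_pPrimeCoreOf p H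
  refine pl1_of_bar_coprime hp (Y := H ⊔ R) le_sup_left hc ((h.bar hN.1).pl1_of_core hp ?_)
  rw [pPrimeCoreOf_bar hp hN.1 le_sup_left hc, H1.bar_self]

end Hyp

end BG03b

/-- BG 3.6. -/
theorem odd_sdprod_zgroup_plength1 {H R R₀ : Subgroup G} (hs : Group.IsSolvable ↥(H ⊔ R))
    (ho : Odd 𝐨(H ⊔ R)) (hRH : R ≤ 𝐍(H)) (hc : 𝐨(H).Coprime 𝐨(R)) (hR₀ : R₀ ≤ R)
    (hR₀p : 𝐨(R₀).Prime) (hZ : IsZGroup ↥(H ⊓ 𝐂(R₀))) {p : ℕ} (hp : p.Prime) :
    PLengthLE p 1 ↥⁅H, R⁆ := by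
  have h1 : ⁅H, R⁆ ≤ H := comm_le_left_iff.mpr hRH
  have h : BG03b.Hyp ⁅H, R⁆ R R₀ :=
    ⟨H1.isSolvable_of_le (sup_le_sup_right h1 R) hs,
      ho.of_dvd_nat (card_dvd_of_le (sup_le_sup_right h1 R)), H1.le_normalizer_commutator_self,
      H1.coprime_of_le hc h1 le_rfl, hR₀, hR₀p, isZGroup_of_le (inf_le_inf_right _ h1) hZ,
      H1.commutator_commutator_eq hRH hc.symm⟩
  exact h.pl1 hp

end Cfsg.Agent.FT
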